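import Mathlib
import Cfsg.Agent.MaxSub.Tv
import Cfsg.Statements.S2272

set_option autoImplicit false
open Cfsg

namespace Cfsg.Agent.S2272

section
open Matrix CF.MaxSub Cfsg.Geo
variable {ι : Type} [Fintype ι] [DecidableEq ι] {F : Type*} [Field F]

/-- conjugacy under the special linear group -/
def Cj (B Y : Matrix ι ι F) : Prop := ∃ g ∈ specialLinear ι F, g.1 * B * (g⁻¹).1 = Y

theorem Cj.tv {B Y : Matrix ι ι F} (h : Cj B Y) {u χ : ι → F} (c : χ ⬝ᵥ u = 0) :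
    Cj B ((1 + vecMulVec u χ) * Y * (1 - vecMulVec u χ)) := by
  obtain ⟨g, hg, rfl⟩ := h
  refine ⟨_, mul_mem (tv_mem_SL u χ c) hg, ?_⟩
  rw [_root_.mul_inv_rev, Units.val_mul, Units.val_mul, coe_tv, coe_tv_inv]
  simp only [mul_assoc]

theorem tr_vec (X : Matrix ι ι F) (a b : ι → F) : trace (X * vecMulVec a b) = b ⬝ᵥ (X *ᵥ a) := by
  rw [mul_vecMulVec, trace_vecMulVec, dotProduct_comm]

theorem tr_tv (A Y : Matrix ι ι F) {u ψ : ι → F} (pv : ψ ⬝ᵥ (A *ᵥ u) = 0) (t : F) :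
    trace (A * ((1 + vecMulVec (t • u) ψ) * Y * (1 - vecMulVec (t • u) ψ))) =
      trace (A * Y) + t * (ψ ⬝ᵥ (Y *ᵥ (A *ᵥ u)) - ψ ⬝ᵥ (A *ᵥ (Y *ᵥ u))) := by
  rw [← mul_assoc, mul_sub, mul_one, trace_sub, tr_vec, add_mul, one_mul, mul_add, trace_add,
    ← mul_assoc, trace_mul_comm (A * _) Y, ← mul_assoc, tr_vec]
  simp only [← mulVec_mulVec, add_mulVec, vecMulVec_mulVec, mulVec_add, dotProduct_add,
    op_smul_eq_smul, mulVec_smul, dotProduct_smul, pv, smul_zero, add_zero, smul_eq_mul, mul_zero]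
  ring

theorem tr_surj (hι : 3 ≤ Fintype.card ι) {A B : Matrix ι ι F} (hA : ∀ c : F, A ≠ c • 1)
    (hB : ∀ c : F, B ≠ c • 1) (c : F) : ∃ Y, Cj B Y ∧ trace (A * Y) = c := by
  obtain ⟨u, hu⟩ := exists_not_eigen hA
  obtain ⟨w, hw⟩ := exists_not_eigen hB
  have u0 : u ≠ 0 := by rintro rfl; simp at hu
  have w0 : w ≠ 0 := by rintro rfl; simp at hw
  obtain ⟨x, hx⟩ := exists_notMem_span (κ := Fin 2) ![u, A *ᵥ u] (by rw [Fintype.card_fin]; omega)
  obtain ⟨ψ, p1, p2⟩ := exists_dot hx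
  have pu : ψ ⬝ᵥ u = 0 := p2 _ (Submodule.subset_span ⟨0, rfl⟩)
  have pv : ψ ⬝ᵥ (A *ᵥ u) = 0 := p2 _ (Submodule.subset_span ⟨1, rfl⟩)
  obtain ⟨χ, c1, c2⟩ := exists_dot hu
  have cu : χ ⬝ᵥ u = 0 := c2 _ (Submodule.mem_span_singleton_self u)
  have hx' : x ∉ Submodule.span F {u} := fun h => hx (Submodule.span_mono (by simp) h)
  have i1 := linearIndependent_pair_of_notMem w0 hw
  have i2 := linearIndependent_pair_of_notMem u0 hx'
  obtain ⟨g, hg, g1, g2⟩ := exists_SL_pair (u := w) (v := B *ᵥ w) (u' := u) (v' := x) hι i1 i2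
  obtain ⟨Y, hY, e0⟩ : ∃ Y, Cj B Y ∧ Y *ᵥ u = x := ⟨_, ⟨g, hg, rfl⟩, by
    rw [← g1, mulVec_mulVec, mul_assoc, Units.inv_mul, mul_one, ← mulVec_mulVec, g2]⟩
  obtain ⟨Z, hZ, hL⟩ : ∃ Z, Cj B Z ∧ ψ ⬝ᵥ (Z *ᵥ (A *ᵥ u)) - ψ ⬝ᵥ (A *ᵥ (Z *ᵥ u)) ≠ 0 := by
    by_contra hh
    push Not at hh
    have h1 := hh Y hY
    have h2 := hh ((1 + vecMulVec u χ) * Y * (1 - vecMulVec u χ)) (hY.tv cu)
    clear hh
    simp only [← mulVec_mulVec, add_mulVec, sub_mulVec, one_mulVec, vecMulVec_mulVec, c1, cu,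
      mulVec_sub, mulVec_add, dotProduct_sub, dotProduct_add, op_smul_eq_smul, one_smul, zero_smul,
      sub_zero, e0, mulVec_smul, dotProduct_smul, pu, pv, p1, smul_zero, add_zero] at h1 h2
    rw [sub_right_comm, h1] at h2
    simp at h2
  refine ⟨_, hZ.tv (u := ((c - trace (A * Z)) / (ψ ⬝ᵥ (Z *ᵥ (A *ᵥ u)) - ψ ⬝ᵥ (A *ᵥ (Z *ᵥ u)))) • u)
    (χ := ψ) (by rw [dotProduct_smul, pu, smul_zero]), ?_⟩
  rw [tr_tv A Z pv, div_mul_cancel₀ _ hL, add_sub_cancel]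

end

open Matrix CF.MaxSub in

/-- Let F be a finite field and d ≥ 3, and let a, b be non-identity elements of PSL_d(F). Then the product of the conjugacy classes of a and b is not a single conjugacy class: there are conjugates a′ of a and b′ of b such that a′b′ is not conjugate to ab. -/
theorem result {F : Type*} [Field F] [Fintype F] (d : ℕ) (hd : 3 ≤ d)
    (a b : Matrix.ProjectiveSpecialLinearGroup (Fin d) F) (ha : a ≠ 1) (hb : b ≠ 1) :
    ∃ g h : Matrix.ProjectiveSpecialLinearGroup (Fin d) F, ¬ IsConj (a * b) (g * a * g⁻¹ * (h * b * h⁻¹)) := by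
  classical
  obtain ⟨A, rfl⟩ := QuotientGroup.mk_surjective a
  obtain ⟨B, rfl⟩ := QuotientGroup.mk_surjective b
  have ns : ∀ X : Matrix.SpecialLinearGroup (Fin d) F, (QuotientGroup.mk X : ProjectiveSpecialLinearGroup (Fin d) F) ≠ 1 →
      ∀ c : F, X.1 ≠ c • 1 := fun X hX c e => hX ((QuotientGroup.eq_one_iff X).2
        (Subgroup.mem_center_iff.2 fun Y => Subtype.ext (by
          change Y.1 * X.1 = X.1 * Y.1
          rw [e]; simp)))
  obtain ⟨_, ⟨g, hg, rfl⟩, e⟩ := tr_surj (by simpa using hd) (ns A ha) (ns B hb)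
    (if trace (A.1 * B.1) = 0 then 1 else 0)
  let h : Matrix.SpecialLinearGroup (Fin d) F := ⟨g, mem_specialLinear.1 hg⟩
  refine ⟨1, QuotientGroup.mk h, fun hc => ?_⟩
  rw [one_mul, inv_one, mul_one, isConj_iff] at hc
  obtain ⟨k, hk⟩ := hc
  obtain ⟨k, rfl⟩ := QuotientGroup.mk_surjective k
  have hk' : (QuotientGroup.mk (k * (A * B) * k⁻¹) : ProjectiveSpecialLinearGroup (Fin d) F) =
      QuotientGroup.mk (A * (h * B * h⁻¹)) := hk
  rw [QuotientGroup.eq, Matrix.SpecialLinearGroup.mem_center_iff] at hk'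
  obtain ⟨r, hr, er⟩ := hk'
  have r0 : r ≠ 0 := by
    rintro rfl
    rw [zero_pow (by simp; omega)] at hr
    exact zero_ne_one hr
  have e1 : (A * (h * B * h⁻¹)).1 = r • (k * (A * B) * k⁻¹).1 := by
    rw [← mul_inv_cancel_left (k * (A * B) * k⁻¹) (A * (h * B * h⁻¹)), Matrix.SpecialLinearGroup.coe_mul,
      ← er, scalar_apply, ← smul_eq_mul_diagonal]
  have e2 : trace (k * (A * B) * k⁻¹).1 = trace (A.1 * B.1) := by
    rw [Matrix.SpecialLinearGroup.coe_mul, trace_mul_comm, ← Matrix.SpecialLinearGroup.coe_mul, ← mul_assoc,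
      inv_mul_cancel, one_mul, Matrix.SpecialLinearGroup.coe_mul]
  have e3 : (h⁻¹).1 = ((g⁻¹ : GL (Fin d) F) : Matrix (Fin d) (Fin d) F) := by
    refine (inv_eq_right_inv ?_).symm.trans (coe_units_inv g).symm
    exact congrArg Subtype.val (mul_inv_cancel h)
  have e4 := congrArg trace e1
  rw [trace_smul, e2, Matrix.SpecialLinearGroup.coe_mul, Matrix.SpecialLinearGroup.coe_mul,
    Matrix.SpecialLinearGroup.coe_mul, e3] at e4
  have e5 := e.symm.trans e4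
  split_ifs at e5 with h0
  · rw [h0, smul_zero] at e5; exact one_ne_zero e5
  · exact mul_ne_zero r0 h0 e5.symm

end Cfsg.Agent.S2272
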