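import Cfsg.Statements.S2227
import Cfsg.Agent.BN.Ss3
import Cfsg.Agent.Chev.ClsA
import Cfsg.Agent.Classical.LowDim4

set_option autoImplicit false
open Cfsg

namespace Cfsg.Agent.S2227

section
open CF.BN CF.Chev CF.ExA

/-- The twisting word. -/
def l5 : List (Fin 6) := [1, 2, 3, 1, 2, 0, 3, 4, 3, 1, 2, 0, 3, 2, 4, 3, 5, 4, 3, 2, 0]

/-- The class representative. -/
def x5 : Fin 6 → ℤ := ![3, 4, 5, 7, 5, 3]

theorem exists_A8 : Nonempty (alternatingGroup (Fin 8) ≃* Matrix.SpecialLinearGroup (Fin 4) (ZMod 2)) := by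
  obtain ⟨e⟩ := CF.Classical.PSL_four_two_equiv (F := ZMod 2) (by simp)
  refine ⟨e.symm.trans ((QuotientGroup.quotientMulEquivOfEq (eq_bot_iff.2 fun g hg => ?_)).trans
    QuotientGroup.quotientBot)⟩
  obtain ⟨r, h1, h2⟩ := Matrix.SpecialLinearGroup.mem_center_iff.1 hg
  obtain rfl : r = 1 := by clear h2; revert r; decide
  exact Subtype.ext (by simpa using h2.symm)

set_option synthInstance.maxSize 1024 in
theorem main {X : Type*} [Group X] (E : EF cE6 (cE6.wp l5) X) : ∃ t : X,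
    (∀ g : X, orderOf g = 5 → IsConj g t) ∧ Nonempty (Subgroup.centralizer {t} ≃*
      Multiplicative (ZMod 5) × alternatingGroup (Fin 8)) := by
  obtain ⟨ψ, hψ, H⟩ := exists_ψ (B := Fin 6) (K := E.K) (p := 2) (m := 5) (by decide)
  set c : Fin 6 → E.Kˣ := fun i => ψ (x5 i) with hc
  have h1 : E.F (E.tor c) = E.tor c := E.fix_tor.2 (by
    rw [hc, mp_ψ, Mw_wp]; congr; funext i; congr 1; revert i; decide +kernel)
  have h2 : c ^ 5 = 1 := by rw [ψ_pow]; funext i; simp [show (5 : ZMod 5) = 0 from rfl]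
  let t : Fx E.F := ⟨_, h1⟩
  have h3 : t ^ 5 = 1 := Subtype.ext (by simp [t, ← map_pow, h2])
  refine ⟨E.θ t, fun g hg => ?_, ?_⟩
  · obtain ⟨x, hx, h⟩ := E.exists_rep (m := 5) (k := 3) (L := [[3, 4, 5, 7, 5, 3]]) (by decide) rfl
      (by decide +kernel) hψ H (g := g) (by rintro rfl; simp at hg) (hg ▸ pow_orderOf_eq_one g)
    obtain rfl : x = x5 := List.ofFn_injective (by simpa [x5] using hx)
    exact h t ⟨1, one_mem _, by simp [t, hc]⟩
  have h4 : ∀ r, rv cE6 c r = 1 ↔ cE6.InSub (Set.range ![2, 3, 4]) r := fun r => by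
    rw [rv_ψ hψ, pr_vec]
    simp only [tabE6'.A, RootSys.InSub]
    revert r
    decide +kernel
  have h5 : ∀ r, rv cE6 c r = 1 → cE6.wp l5 (cE6.neg r) = r := fun r => by
    rw [rv_ψ hψ, pr_vec, Fin.ext_iff, tabE6'.wp]
    simp only [tabE6'.A]
    revert r
    decide +kernel
  obtain ⟨M, hM⟩ := Emb.exists_of_diagram (C := cbA 3) (C' := cE6) ![2, 3, 4] (by
    simp only [cbA_car, carE6']; decide)
  obtain ⟨e⟩ := exists_A8
  have hU : Univ (slRep 3 (ZMod 2)) :=
    ⟨faithful_slRep _ _ (by decide), slRep_Gp _ _, r3_slRep _ _, tor_injective_slRep _ _⟩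
  let φ := hU.fa (E.h.r3.pull M) (ZMod.castHom dvd_rfl E.K)
  have h6 : ∀ r, φ ((slRep 3 (ZMod 2)).x r 1) = E.ρ.x (M.f r) 1 := fun r => by
    rw [hU.fa_x, StRep.pull_x, map_one, mul_one, M.val_eU]
    rcases Int.units_eq_one_or (M.ε r) with h | h <;> simp [h, CharTwo.neg_eq]
  set Y := Subgroup.closure {y | ∃ r, rv cE6 c r = 1 ∧ y = E.ρ.x r 1}
  have h7 : φ.range = Y := by
    refine le_antisymm ?_ ((Subgroup.closure_le _).2 ?_)
    · rw [MonoidHom.range_eq_map, ← slRep_Gp, Subgroup.map_le_iff_le_comap, PreSt.U_le_iff]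
      intro r _ a
      obtain rfl | rfl : a = 0 ∨ a = 1 := by revert a; decide
      · simp
      · rw [Subgroup.mem_comap, h6]
        exact Subgroup.subset_closure ⟨_, (h4 _).2 ((M.mem_range_iff hM).1 ⟨r, rfl⟩), rfl⟩
    · rintro _ ⟨r, hr, rfl⟩
      obtain ⟨r, rfl⟩ := (M.mem_range_iff hM).2 ((h4 r).1 hr)
      exact ⟨_, h6 r⟩
  have h8 : Y ≤ Fx E.F ⊓ Subgroup.centralizer {E.tor c} := (Subgroup.closure_le _).2 (by
    rintro _ ⟨r, h, rfl⟩
    exact ⟨(E.F_x r 1).trans (by rw [h5 r h, one_pow]; rfl), Subgroup.mem_centralizer_singleton_iff.2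
      (commute_tor_U E.h.r3 (E.ρ.x_mem_U h 1))⟩)
  let f := E.θ.comp ((φ.comp e.toMonoidHom).codRestrict _ fun a => (h8 (h7.le ⟨_, rfl⟩)).1)
  have h9 : ∀ a, Commute (E.θ t) (f a) := fun a => Commute.map (f := E.θ) (Subtype.ext
    (Subgroup.mem_centralizer_singleton_iff.1 (h8 (h7.le ⟨e a, rfl⟩)).2).symm)
  have := alternatingGroup.isSimpleGroup (α := Fin 8) (by simp)
  have h10 : Function.Injective f := (MonoidHom.ker_eq_bot_iff f).1
    ((f.normal_ker.eq_bot_or_eq_top).resolve_right fun h => by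
      have h1 := (E.ker _).1 (h.ge (Subgroup.mem_top
        (e.symm ((slRep 3 (ZMod 2)).x ((cbA 3).simple 0) 1))))
      simp only [MonoidHom.codRestrict_apply, MonoidHom.comp_apply, MulEquiv.coe_toMonoidHom,
        MulEquiv.apply_symm_apply, h6, hM] at h1
      exact one_ne_zero (E.h.faith.x_injective _ ((StRep.Up_inf_H E.h.faith).le
        ⟨E.ρ.x_mem_U (cE6.pos_simple _) 1, StRep.center_le_H E.h.faith E.h.top h1⟩ |>.trans
          (E.ρ.x_zero _).symm)))
  have h11 : orderOf (E.θ t) = 5 := orderOf_eq_prime (by rw [← map_pow, h3, map_one]) fun h =>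
    absurd ((h4 _).1 ((tor_mem_center E.h).1 ((E.ker t).1 h) 0)) (by
      unfold RootSys.InSub; decide +kernel)
  let j : Multiplicative (ZMod 5) →* X := (ZMod.lift 5 ⟨zmultiplesHom (Additive X) (.ofMul (E.θ t)),
    (zpow_natCast (E.θ t) 5).trans (h11 ▸ pow_orderOf_eq_one (E.θ t))⟩).toMultiplicativeLeft
  have h12 : ∀ k : ℤ, j (.ofAdd (k : ZMod 5)) = E.θ t ^ k := fun k => by simp [j]
  have h13 : ∀ a, ∃ k : ℤ, a = Multiplicative.ofAdd (k : ZMod 5) := fun a =>
    ⟨a.toAdd.cast, by simp⟩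
  have h14 : ∀ a b, Commute (j a) (f b) := fun a b => by
    obtain ⟨k, rfl⟩ := h13 a
    exact h12 k ▸ (h9 b).zpow_left k
  refine ⟨(MulEquiv.ofBijective ((j.noncommCoprod f h14).codRestrict _ fun a => ?_) ⟨?_, ?_⟩).symm⟩
  · obtain ⟨k, hk⟩ := h13 a.1
    rw [Subgroup.mem_centralizer_singleton_iff, MonoidHom.noncommCoprod_apply, hk, h12]
    exact (((Commute.refl _).zpow_left k).mul_left (h9 _).symm).eq
  · refine (injective_iff_map_eq_one _).2 fun ⟨a, b⟩ h => ?_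
    replace h : j a * f b = 1 := congrArg Subtype.val h
    obtain rfl : b = 1 := by
      rw [← Subgroup.mem_bot, ← alternatingGroup.center_eq_bot (by simp), Subgroup.mem_center_iff]
      intro g
      apply h10
      rw [map_mul, map_mul, eq_inv_of_mul_eq_one_right h]
      exact ((h14 a g).inv_left).symm.eq
    obtain ⟨k, rfl⟩ := h13 a
    rw [map_one, mul_one, h12, ← orderOf_dvd_iff_zpow_eq_one, h11] at h
    rw [(ZMod.intCast_zmod_eq_zero_iff_dvd k 5).2 h]; rfl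
  rintro ⟨g, hg⟩
  obtain ⟨g, rfl⟩ := E.surj g
  have h15 : g * t * g⁻¹ = t := E.commute_of_θ E.cube (m := 5) (by decide)
    (by rw [conj_pow, h3]; simp) h3 (by
      simp [Subgroup.mem_centralizer_singleton_iff.1 hg])
  obtain ⟨l, hl, d, h16, h17, -⟩ := E.cent_fix (isOfFinOrder_iff_pow_eq_one.2 ⟨5, by decide, h2⟩) h5
    (congrArg Subtype.val (eq_mul_of_mul_inv_eq h15).symm).symm g.2
  obtain ⟨a, rfl⟩ := h7.ge hl
  have h18 := E.fix_tor.1 h16
  rw [Mw_wp] at h18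
  have h19 : d ^ 15 = 1 := by
    rw [← zpow_natCast, ← mp_one d, ← mp_smul]
    exact mp_cert (pow_zero d) h18 !![-7,6,0,0,0,-2; -6,3,0,0,0,-6; -20,0,15,0,0,-10;
      -18,-6,0,15,0,-18; -10,0,0,0,15,-20; -2,6,0,0,0,-7] (by decide +kernel)
  have h20 : E.tor (d ^ 10) ∈ Subgroup.center E.G := (tor_mem_center E.h).2 fun i => by
    rw [rv_E6, map_pow, ← zpow_natCast, ← mp_smul, mp_cert h19 h18 !![7,14,5,0,0,7; 7,14,0,5,0,7;
      5,0,5,5,0,0; 0,5,5,5,5,0; 0,0,0,5,5,5; 7,14,0,0,5,7] (by decide +kernel)]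
    rfl
  obtain ⟨k, hk⟩ := mem_zpowers_cert H (d := d ^ 6) (by rw [← pow_mul, show 6 * 5 = 15 * 2 from rfl,
    pow_mul, h19, one_pow]) (by rw [map_pow, h18]) !![0,0,0,0,0,0; 3,3,0,0,0,2; 3,2,1,0,0,2;
    2,4,0,1,0,4; 3,4,0,0,1,4; 1,3,0,0,0,2] x5 ![2, 0, 0, 0, 0, 0] (by decide +kernel)
  refine ⟨(.ofAdd ((k : ℤ) : ZMod 5), e.symm a), Subtype.ext ?_⟩
  simp only [MonoidHom.codRestrict_apply, MonoidHom.noncommCoprod_apply, h12]
  rw [((h9 _).zpow_left _).eq, ← inv_mul_eq_one, zpow_natCast, ← map_pow,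
    MonoidHom.comp_apply, ← map_mul, ← map_inv, ← map_mul, E.ker]
  convert h20
  have : d = c ^ k * d ^ 10 := by rw [← hk, ← pow_add, pow_succ, h19, one_mul]
  simp [h17, t, mul_assoc, ← map_pow, inv_mul_eq_iff_eq_mul, ← map_mul, ← this]

end

/-- In the twisted group ²E₆(2) all elements of order 5 are conjugate, and the centralizer of an element of order 5 is isomorphic to the direct product of a cyclic group of order 5 with the alternating group of degree 8. -/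
theorem result {K : Type*} [Field K] [Fintype K] (hK : Fintype.card K = 4) :
    (∀ x y : ↥(Cfsg.Lie.twistedE6 K 2), orderOf x = 5 → orderOf y = 5 → IsConj x y) ∧
      ∀ x : ↥(Cfsg.Lie.twistedE6 K 2), orderOf x = 5 →
        Nonempty (↥(Subgroup.centralizer ({x} : Set ↥(Cfsg.Lie.twistedE6 K 2))) ≃* (Multiplicative (ZMod 5) × ↥(alternatingGroup (Fin 8)))) := by
    obtain ⟨E⟩ := CF.BN.exists_EF hK l5
    obtain ⟨t, h1, ⟨e⟩⟩ := main E
    refine ⟨fun x y hx hy => (h1 x hx).trans (h1 y hy).symm, fun x hx => ?_⟩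
    obtain ⟨g, rfl⟩ := isConj_iff.1 (h1 x hx).symm
    refine ⟨(MulEquiv.subgroupCongr ?_).trans (((MulAut.conj g).subgroupMap _).symm.trans e)⟩
    ext y
    refine .trans ?_ Subgroup.mem_map_equiv.symm
    simp only [Subgroup.mem_centralizer_singleton_iff, MulAut.conj_symm_apply]
    constructor <;> intro h
    · simpa [mul_assoc] using congrArg (g⁻¹ * · * g) h
    · simpa [mul_assoc] using congrArg (g * · * g⁻¹) h

end Cfsg.Agent.S2227
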