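import Cfsg.Statements.S0992
import Cfsg.Agent.Small.Auto
import Cfsg.Agent.Invol.Four

set_option autoImplicit false
open Cfsg

namespace Cfsg.Agent.S0992

open CF.Small Subgroup CF

/-- Let G be a non-abelian finite simple group of even order not divisible by 8, and T a Sylow 2-subgroup. Then T is a Klein four-group and the centralizer of T has index 3 in the normalizer of T. -/
theorem result {G : Type*} [Group G] [Finite G] [IsSimpleGroup G] (hG : ¬ IsMulCommutative G) (h2 : Even (Nat.card G)) (h8 : ¬ 8 ∣ Nat.card G) (T : Sylow 2 G) : IsKleinFour ↥(T : Subgroup G) ∧ (Subgroup.centralizer ((T : Subgroup G) : Set G)).relIndex (Subgroup.normalizer ((T : Subgroup G) : Set G)) = 3 := by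
  have h1 : ¬ IsCyclic (T : Subgroup G) := fun h =>
    not_normalizer_le_centralizer hG h2.two_dvd T (h.normalizer_le_centralizer
      ((Nat.minFac_eq_two_iff _).2 h2.two_dvd))
  obtain ⟨k, hk⟩ := T.isPGroup'.exists_card_eq
  have h3 : k < 3 := lt_of_not_ge fun h =>
    h8 ((pow_dvd_pow 2 h).trans (hk ▸ card_subgroup_dvd_card _))
  have h4 : Nat.card (T : Subgroup G) = 4 := by
    interval_cases k
    · exact absurd (@isCyclic_of_subsingleton _ _ (Nat.card_eq_one_iff_unique.1 hk).1) h1
    · exact absurd (isCyclic_of_prime_card (p := 2) hk) h1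
    · exact hk
  have h5 : IsKleinFour (T : Subgroup G) := ⟨h4, (not_isCyclic_iff_exponent_eq_prime Nat.prime_two
    h4).1 h1⟩
  have := h5.isMulCommutative
  have h6 := Nat.le_of_dvd (by norm_num) (Invol.klein_relIndex_dvd_six h5)
  have h7 := Invol.klein_relIndex_dvd_six h5
  have h9 := autIdx_ne_one hG h2.two_dvd T
  have h10 := not_dvd_autIdx T
  refine ⟨h5, ?_⟩
  unfold autIdx at h9 h10
  generalize relIndex (G := G) _ _ = n at *
  interval_cases n <;> simp_all

end Cfsg.Agent.S0992
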