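import Cfsg.Statements.S2475
import Cfsg.Agent.Classical.PSL2

set_option autoImplicit false
open Cfsg

namespace Cfsg.Agent.S2475

/-- The set of element orders of PSL(2,q): let F be a finite field of characteristic p with q ≥ 4 elements and d = gcd(2, q − 1). The orders of elements of PSL(2,F) are exactly the divisors of p, of (q − 1)/d and of (q + 1)/d. -/
theorem result {F : Type*} [Field F] [Fintype F] (p : ℕ) [Fact p.Prime] [CharP F p] (h4 : 4 ≤ Fintype.card F) :
    Set.range (orderOf : Matrix.ProjectiveSpecialLinearGroup (Fin 2) F → ℕ) =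
      {m : ℕ | m ∣ p ∨ m ∣ (Fintype.card F - 1) / Nat.gcd 2 (Fintype.card F - 1) ∨ m ∣ (Fintype.card F + 1) / Nat.gcd 2 (Fintype.card F - 1)} := by
  open CF.Classical MatrixGroups in
  rw [← Nat.card_eq_fintype_card] at *
  have hp : p.Prime := Fact.out
  have L := isL2_PSL F (AlgebraicClosure F)
  have h1 := Nat.gcd_dvd_right 2 (Nat.card F - 1)
  have h2 : Nat.gcd 2 (Nat.card F - 1) ∣ Nat.card F + 1 := by
    rw [show Nat.card F + 1 = Nat.card F - 1 + 2 by omega]
    exact h1.add (Nat.gcd_dvd_left _ _)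
  ext m
  rw [Set.mem_setOf, Nat.dvd_div_iff_mul_dvd h1, Nat.dvd_div_iff_mul_dvd h2, mul_comm _ m,
    ← index_range_pslToPGL]
  refine ⟨by rintro ⟨g, rfl⟩; exact (L.orderOf_cases p g).imp_left orderOf_dvd_of_pow_eq_one, fun h => ?_⟩
  by_cases h3 : m = 1
  · exact ⟨1, by simp [h3]⟩
  rcases h with h | ⟨n, h⟩ | ⟨n, h⟩
  · obtain ⟨g, hg⟩ := L.exists_isUnip OnePoint.infty
    exact ⟨g, (orderOf_eq_prime (L.pow_eq_one_of_mem_unip p (mem_unip.2 (Or.inr hg))) hg.ne_one).trans
      (((Nat.dvd_prime hp).1 h).resolve_left h3).symm⟩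
  · exact (L.exists_card_centralizer (n := m * n) (Or.inl (by rw [h]; ring)) (dvd_mul_right _ _) h3).imp
      fun _ e => e.1
  · exact (L.exists_card_centralizer (n := m * n) (Or.inr (by rw [h]; ring)) (dvd_mul_right _ _) h3).imp
      fun _ e => e.1

end Cfsg.Agent.S2475
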