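import Cfsg.Statements.S0226
import Cfsg.Agent.Invol.Count

set_option autoImplicit false
open Cfsg

namespace Cfsg.Agent.S0226

/-- A finite group of even order has an odd number of involutions. -/
theorem result {G : Type*} [Group G] [Finite G] (heven : Even (Nat.card G)) : Odd (Nat.card {t : G // orderOf t = 2}) := by
  classical
  have := Fintype.ofFinite G
  have : Fact (Nat.Prime 2) := ⟨Nat.prime_two⟩
  have h1 := Equiv.Perm.card_fixedPoints_modEq (α := G) (p := 2) (n := 1)
    (f := (fun x => x⁻¹ : Function.End G)) (by funext x; exact inv_inv x)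
  have h2 := CF.Invol.card_subtype_ne_add_one (p := fun t : G => t * t = 1) (a := 1) (one_mul 1)
  have h3 : Nat.card {t : G // orderOf t = 2} = Nat.card {t : G // t * t = 1 ∧ t ≠ 1} :=
    Nat.card_congr (Equiv.subtypeEquivRight fun t => CF.Invol.orderOf_eq_two_iff)
  have h4 : Nat.card {t : G // t * t = 1} =
      Nat.card (Function.fixedPoints (fun x => x⁻¹ : Function.End G)) :=
    Nat.card_congr (Equiv.subtypeEquivRight fun t => by
      change _ ↔ t⁻¹ = t
      exact ⟨inv_eq_of_mul_eq_one_right, fun h => by nth_rewrite 1 [← h]; rw [inv_mul_cancel]⟩)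
  rw [← Nat.card_eq_fintype_card, ← Nat.card_eq_fintype_card, ← h4, ← h2, ← h3] at h1
  rw [Nat.even_iff] at heven
  rw [Nat.odd_iff]
  unfold Nat.ModEq at h1
  omega

end Cfsg.Agent.S0226
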