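import Mathlib
import Cfsg.Agent.Fgs2.Count
import Cfsg.Statements.S4200

set_option autoImplicit false
open Cfsg

namespace Cfsg.Agent.S4200

open CF.Fgs2

/-- Let Y be a subgroup of the finite group X, of index m. Then the numbers of conjugacy classes satisfy k(Y) ≤ m·k(X) and k(X) ≤ m·k(Y), and the second inequality is strict unless Y is normal in X. -/
theorem result {X : Type*} [Group X] [Finite X] (Y : Subgroup X) : Nat.card (ConjClasses Y) ≤ Y.index * Nat.card (ConjClasses X) ∧ Nat.card (ConjClasses X) ≤ Y.index * Nat.card (ConjClasses Y) ∧ (¬ Y.Normal → Nat.card (ConjClasses X) < Y.index * Nat.card (ConjClasses Y)) := by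
  classical
  have := Fintype.ofFinite X
  have hm : 0 < Y.index := Nat.pos_of_ne_zero Subgroup.index_ne_zero_of_finite
  have hX := card_conjClasses_mul (G := X)
  have hY := card_conjClasses_mul (G := Y)
  rw [cp_subgroup_univ] at hY
  have key : ∀ x : X, Nat.card (Subgroup.centralizer ({x} : Set X)) ≤
      Y.index * Nat.card (Subgroup.centralizer ({x} : Set X) ⊓ Y : Subgroup X) := by
    intro x
    rw [← card_inf_mul_relIndex Y, mul_comm, inf_comm]
    exact Nat.mul_le_mul_right _ (relIndex_le_index _ _)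
  have h1 : cp (Set.univ : Set X) Set.univ ≤ Y.index * cp (Set.univ : Set X) Y := by
    rw [← Finset.coe_univ, cp_eq_sum_subgroup, Finset.mul_sum]
    conv_lhs => rw [Finset.coe_univ, ← Finset.coe_univ (α := X)]; arg 2; rw [Finset.coe_univ]
    rw [cp_eq_sum_univ]
    exact Finset.sum_le_sum fun x _ => key x
  have hYs : (Y : Set X) = ((Y : Set X).toFinset : Set X) := by simp
  have h2 : cp (Set.univ : Set X) Y = ∑ x ∈ (Y : Set X).toFinset,
      Nat.card (Subgroup.centralizer ({x} : Set X)) := by
    rw [cp_comm, ← cp_eq_sum_univ, ← hYs]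
  have h3 : Y.index * cp (Y : Set X) Y = ∑ x ∈ (Y : Set X).toFinset,
      Y.index * Nat.card (Subgroup.centralizer ({x} : Set X) ⊓ Y : Subgroup X) := by
    rw [← Finset.mul_sum, ← cp_eq_sum_subgroup, ← hYs]
  have h4 : cp (Set.univ : Set X) Y ≤ Y.index * cp (Y : Set X) Y := by
    rw [h2, h3]; exact Finset.sum_le_sum fun x _ => key x
  have hXY := Y.index_mul_card
  have hpos : 0 < Nat.card X := Nat.card_pos
  have hposY : 0 < Nat.card Y := Nat.card_pos
  refine ⟨?_, ?_, ?_⟩
  · have h5 : cp (Y : Set X) Y ≤ cp (Set.univ : Set X) Set.univ :=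
      cp_mono (Set.subset_univ _) (Set.subset_univ _)
    rw [← hX, ← hY, ← hXY] at h5
    refine Nat.le_of_mul_le_mul_right ?_ hposY
    linarith
  · refine Nat.le_of_mul_le_mul_right ?_ hpos
    calc _ ≤ Y.index * (Y.index * cp (Y : Set X) Y) := by
          rw [hX]; exact h1.trans (Nat.mul_le_mul_left _ h4)
      _ = _ := by rw [← hY, ← hXY]; ring
  · intro hN
    have h5 : cp (Set.univ : Set X) Y < Y.index * cp (Y : Set X) Y := by
      rw [h2, h3]
      refine Finset.sum_lt_sum (fun x _ => key x) ?_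
      by_contra hc
      push Not at hc
      apply hN
      refine ⟨fun y hy g => ?_⟩
      have h6 := le_antisymm (key y) (hc y (by simpa using hy))
      rw [← card_inf_mul_relIndex Y, mul_comm, inf_comm] at h6
      have h7 := Nat.eq_of_mul_eq_mul_right Nat.card_pos h6
      obtain ⟨c, hc, a, ha, h8⟩ := (forall_exists_mul_iff_relIndex_eq _ _).2 h7 g⁻¹
      rw [Subgroup.mem_centralizer_singleton_iff] at hc
      have : g * y * g⁻¹ = a⁻¹ * y * a := by
        rw [← inv_inv g, h8]
        calc (c * a)⁻¹ * y * (c * a)⁻¹⁻¹ = a⁻¹ * c⁻¹ * (y * c) * a := by group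
          _ = _ := by rw [← hc]; group
      rw [this]
      exact Y.mul_mem (Y.mul_mem (Y.inv_mem ha) hy) ha
    refine Nat.lt_of_mul_lt_mul_right (a := Nat.card X) ?_
    calc _ < Y.index * (Y.index * cp (Y : Set X) Y) := by
          rw [hX]; exact h1.trans_lt (Nat.mul_lt_mul_of_pos_left h5 hm)
      _ = _ := by rw [← hY, ← hXY]; ring

end Cfsg.Agent.S4200
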