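import Mathlib
import Cfsg.Agent.Fgs2.Count
import Cfsg.Statements.S4201

set_option autoImplicit false
open Cfsg

namespace Cfsg.Agent.S4201

/-- If N is a normal subgroup of the finite group X then k(X) ≤ k(N)·k(X ⧸ N), where k denotes the number of conjugacy classes. -/
theorem result {X : Type*} [Group X] [Finite X] (N : Subgroup X) [N.Normal] : Nat.card (ConjClasses X) ≤ Nat.card (ConjClasses N) * Nat.card (ConjClasses (X ⧸ N)) := by
  have h := CF.Fgs2.cp_piElts_le Set.univ N
  have h1 : ∀ (G : Type _) [Group G], CF.Fgs2.piElts Set.univ G = Set.univ := by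
    intro G _; ext x; simp [CF.Fgs2.piElts, CF.Solv.PiNum]
  rw [h1, h1, h1, ← CF.Fgs2.card_conjClasses_mul, ← CF.Fgs2.card_conjClasses_mul,
    ← CF.Fgs2.card_conjClasses_mul,
    mul_mul_mul_comm, ← Subgroup.index_eq_card, N.card_mul_index] at h
  exact Nat.le_of_mul_le_mul_right h Nat.card_pos

end Cfsg.Agent.S4201
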