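import Mathlib
import Cfsg.Agent.Fgs2.Isa9
import Cfsg.Statements.S4468

set_option autoImplicit false
open Cfsg

namespace Cfsg.Agent.S4468

open CF.Char CF.BG CF.Clifford CF.Fgs2.Isa Subgroup in

/-- Let the finite p-solvable group G have a faithful character χ of degree n ≤ p − 1 and suppose that a Sylow p-subgroup of G is not normal. Then n = p − 1, n is a power of 2, and χ is irreducible. -/
theorem result {G : Type*} [Group G] [Finite G] (χ : G → ℂ) (hχ : Cfsg.IsCharacter G χ) (hfaith : ∀ g : G, χ g = χ 1 → g = 1) (n : ℕ) (hn : Cfsg.charDegree χ = n) (p : ℕ) (hp : p.Prime) (hsolv : Cfsg.IsPSolvable p G) (hnp : n + 1 ≤ p) (P : Sylow p G) (hP : ¬ (P : Subgroup G).Normal) : n + 1 = p ∧ (∃ k : ℕ, n = 2 ^ k) ∧ Cfsg.IsIrrCharacter G χ := by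
  have := Fact.mk hp
  have e : χ 1 = n := by rw [← hn, CF.BlockB.charDegree_eq hχ]
  have f : charKer χ = ⊥ := eq_bot_iff.2 fun g h => hfaith g ((mem_charKer_iff hχ).1 h)
  by_contra h
  refine hP (normal_of_cent hsolv P fun r hr rp R k x hx nx => ?_)
  have := Fintype.ofFinite R
  have px := (syl_sylow_top P).pi.elt hx
  refine mem_cent_of_ker hχ f nx fun θ hθ i => ?_
  obtain ⟨d, hd, e'⟩ := exists_cd hθ
  refine (mem_ker_or_win' hp hr rp k px nx hθ (inv_of_lt hp hχ e hnp px nx hθ i) e').resolve_right ?_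
  rintro ⟨q, a, b, c⟩
  have c1 := char_restrict hχ R
  have l1 := Nat.le_of_dvd (cd_pos hd) b
  have l2 := one_le_of_inner_ne_zero c1 hθ i e e'
  have q1 := a.one_lt
  have : p ≤ q + 1 := by
    rcases c with c | c
    · exact Nat.le_of_dvd q.succ_pos (by exact_mod_cast (show (p : ℤ) ∣ q + 1 by simpa using c.symm.dvd))
    · have := Int.le_of_dvd (by omega) c.symm.dvd
      omega
  obtain rfl : q = n := by omega
  obtain rfl : q = d := by omega
  obtain rfl : q + 1 = p := by omega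
  refine h ⟨rfl, ?_, irr_of_irr_restrict hχ R
    (CF.Clifford.eq_of_inner_ne_zero_of_one_eq c1 hθ i (e.trans e'.symm) ▸ hθ)⟩
  obtain ⟨s, j, hs, -, rfl⟩ := (isPrimePow_nat_iff _).1 a
  have := (Nat.prime_dvd_prime_iff_eq Nat.prime_two hs).1 (Nat.prime_two.dvd_of_dvd_pow
    (even_iff_two_dvd.1 (Nat.odd_add_one.1 (hp.odd_of_ne_two (by omega)) |> Nat.not_odd_iff_even.1)))
  exact ⟨j, this ▸ rfl⟩

end Cfsg.Agent.S4468
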