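import Cfsg.Statements.S0899
import Cfsg.Agent.PLocal.FTB
import Cfsg.Agent.S4468
import Cfsg.Agent.Solv.PiSep

set_option autoImplicit false
open Cfsg

namespace Cfsg.Agent.S0899

universe u

open Subgroup CF.Char CF.BG in
theorem aux {n p : ℕ} [hp : Fact p.Prime] (l : n + 1 < p) (k : ℕ) :
    ∀ {G : Type u} [Group G] [Finite G] {χ : G → ℂ}, Nat.card G < k → IsCharacter G χ →
      charKer χ = ⊥ → χ 1 = n → ((n + 1) ^ 2 ≤ p ∨ ∀ (L : Type u) [Group L] (f : L →* G),
        Function.Injective f → ¬ p ^ 2 ∣ Nat.card L → ∀ Q : Sylow p L, (Q : Subgroup L).Normal) →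
      ∀ P : Sylow p G, (P : Subgroup G).Normal := by
  induction k with
  | zero => intro G _ _ χ h; omega
  | succ k ih =>
  intro G _ _ χ hk hχ hf e h P
  have := Fintype.ofFinite G
  have := Fintype.ofFinite P
  have ih' : ∀ K : Subgroup G, K ≠ ⊤ → ∀ Q : Sylow p K, (Q : Subgroup K).Normal := fun K hK =>
    ih (χ := fun x : K => χ x) (by
      have := K.card_le_card_group
      have := mt (card_eq_iff_eq_top K).1 hK
      omega) (char_restrict hχ K) (eq_bot_iff.2 fun x hx => Subtype.ext (mem_bot.1 (hf.le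
        ((mem_charKer_iff hχ).2 ((mem_charKer_iff (char_restrict hχ K)).1 hx))))) e
      (h.imp id fun h L _ f hf => h L (K.subtype.comp f) (K.subtype_injective.comp hf))
  have T : ∀ K : Subgroup G, K ≠ ⊤ → ∃ R : Sylow p G, ∀ A ≤ K, IsPGroup p A → A ≤ R := fun K hK => by
    obtain ⟨Q⟩ : Nonempty (Sylow p K) := inferInstance
    obtain ⟨R, hR⟩ := (Q.isPGroup'.map K.subtype).exists_le_sylow
    refine ⟨R, fun A hA pA => ?_⟩
    obtain ⟨Q', h'⟩ := (pA.comap_subtype (K := K)).exists_le_sylow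
    have := Sylow.unique_of_normal Q (ih' K hK Q)
    rw [Subsingleton.elim Q' Q] at h'
    exact fun x hx => hR ⟨⟨x, hA hx⟩, h' hx, rfl⟩
  have eq : ∀ {R S : Sylow p G}, (R : Subgroup G) ≤ S → R = S := fun {R S} h =>
    Sylow.ext (R.is_maximal' S.isPGroup' h).symm
  have ab : ∀ R : Sylow p G, Abel (R : Subgroup G) := fun R => abel_of_lt hχ hf e fun q hq d => by
    obtain ⟨m, hm⟩ := R.isPGroup'.exists_card_eq
    rw [(Nat.prime_dvd_prime_iff_eq hq hp.out).1 (hq.dvd_of_dvd_pow (hm ▸ d))]; omega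
  have TI : ∀ {R S : Sylow p G} {x : G}, R ≠ S → x ∈ R → x ∈ S → x ∈ center G := by
    intro R S x ne hR hS
    have t : (R : Subgroup G) ⊔ S = ⊤ := by
      by_contra t
      obtain ⟨U, hU⟩ := T _ t
      exact ne ((eq (hU _ le_sup_left R.isPGroup')).trans (eq (hU _ le_sup_right S.isPGroup')).symm)
    have : ⊤ ≤ centralizer {x} := t.ge.trans (sup_le
      (fun y hy => mem_centralizer_singleton_iff.2 ((ab R hR y hy)))
      fun y hy => mem_centralizer_singleton_iff.2 (ab S hS y hy))
    exact mem_center_iff.2 fun y => mem_centralizer_singleton_iff.1 (this trivial)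
  by_contra hP
  have hM : ∀ M : Subgroup G, M.Normal → (P : Subgroup G) ≤ M → M = ⊤ := fun M hM le => by
    by_contra t
    obtain ⟨U, hU⟩ := T _ t
    obtain rfl := eq (hU _ le P.isPGroup')
    refine hP ⟨fun x hx g => hU (g • P : Sylow p G) ?_ (g • P).isPGroup' ⟨x, hx, rfl⟩⟩
    rintro _ ⟨y, hy, rfl⟩
    exact hM.conj_mem _ (le hy) g
  by_cases hz : (P : Subgroup G) ⊓ center G = ⊥
  swap
  · obtain ⟨⟨z, hz, c⟩, z1⟩ := ne_bot_iff_exists_ne_one.1 hz
    obtain ⟨N, hN, zN, iN⟩ := exists_normal_of_central (syl_sylow_top P) (ab P) hz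
      (fun k => z1 (Subtype.ext k)) c
    obtain ⟨Q⟩ : Nonempty (Sylow p N) := inferInstance
    have := ih' N (by rintro rfl; exact zN trivial) Q
    have s : IsPSolvable p G := CF.Solv.isPSolvable_iff_isPiSep.2
      (CF.Solv.isPiSep_of_normal_of_quotient N (CF.Solv.isPiSep_of_normal_of_quotient (Q : Subgroup N)
        (CF.Solv.isPiSep_of_piNum (Or.inl fun q hq d => by
          obtain ⟨m, hm⟩ := Q.isPGroup'.exists_card_eq
          exact (Nat.prime_dvd_prime_iff_eq hq hp.out).1 (hq.dvd_of_dvd_pow (hm ▸ d))))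
        (CF.Solv.isPiSep_of_piNum (Or.inr fun q hq d k => Q.not_dvd_index (k ▸ d))))
        (CF.Solv.isPiSep_of_piNum (Or.inl iN)))
    exact l.ne (Cfsg.Agent.S4468.result χ hχ (fun g k => mem_bot.1 (hf.le ((mem_charKer_iff hχ).2 k)))
      n (by exact_mod_cast (CF.BlockB.charDegree_eq hχ).trans e) p hp.out s l.le P hP).1
  have nc : ∀ x ∈ (P : Subgroup G), x ≠ 1 → x ∉ center G := fun x hx h1 c =>
    h1 (mem_bot.1 (hz.le ⟨hx, c⟩))
  have hy : CF.FTB.Hyp (P : Subgroup G) := ⟨hz, fun g x hg a ha b hb a1 b1 e1 e2 => by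
    obtain ⟨R, hR⟩ := T (centralizer {g}) fun t => hg (mem_center_iff.2 fun y =>
      mem_centralizer_singleton_iff.1 (t.ge trivial))
    have m : x * b * x⁻¹ ∈ (x • P : Sylow p G) := ⟨b, hb, rfl⟩
    have r1 : a ∈ R := hR (centralizer {g} ⊓ P) inf_le_left (P.isPGroup'.to_le inf_le_right)
      ⟨mem_centralizer_singleton_iff.2 e1.symm, ha⟩
    have r2 : x * b * x⁻¹ ∈ R := hR (centralizer {g} ⊓ (x • P : Sylow p G)) inf_le_left
      ((x • P).isPGroup'.to_le inf_le_right) ⟨mem_centralizer_singleton_iff.2 e2.symm, m⟩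
    obtain rfl : P = R := by_contra fun t => nc a ha a1 (TI t ha r1)
    refine Sylow.smul_eq_iff_mem_normalizer.1 (by_contra fun t => nc b hb b1 ?_)
    simpa [mul_assoc] using (normal_of_characteristic (center G)).conj_mem _ (TI t m r2) x⁻¹⟩
  obtain ⟨ψ, hψ, i, d1⟩ : ∃ ψ, IsIrrCharacter G ψ ∧ classInner χ ψ ≠ 0 ∧ ψ 1 ≠ 1 := by
    by_contra! z
    have c := comm_of_commutator_eq_bot (le_bot_iff.1
      ((commutator_le_charKer_of_constituents (char_isClassFunction hχ) z).trans hf.le))
    exact hP ⟨fun x hx g => by rwa [c g, mul_inv_cancel_right]⟩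
  obtain ⟨d, -, hd⟩ := irr_one_eq_nat hψ
  have l1 := hy.card_lt (fun a ha b hb => ab P hb a ha) hM hψ hd
    (by rintro rfl; exact d1 (by simpa using hd))
  have l2 := Nat.pow_le_pow_left (Nat.add_le_add_left (irr_one_le_of_inner_ne_zero hχ hψ i hd e) 1) 2
  rcases h with h | h
  · have : p ≤ Nat.card P := Nat.le_of_dvd Nat.card_pos (P.isPGroup'.card_eq_or_dvd.resolve_left
      fun k => hP (by rw [card_eq_one.1 k]; infer_instance))
    rw [add_comm] at h
    omega
  · have := Nat.le_of_dvd Nat.card_pos (P.pow_dvd_card_of_pow_dvd_card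
      (by_contra fun k => hP (h G (MonoidHom.id G) Function.injective_id k P)))
    have := Nat.pow_le_pow_left l.le 2
    rw [add_comm] at this
    omega

/-- Let G be a finite group with a faithful complex representation of degree n (on Fin n → ℂ) and p a prime. Suppose either that (n + 1) ^ 2 ≤ p, or that n + 1 < p and every subgroup of G whose order is not divisible by p ^ 2 has a normal Sylow p-subgroup. Then every Sylow p-subgroup of G is normal. -/
theorem result {G : Type*} [Group G] [Finite G] (n : ℕ) (ρ : Representation ℂ G (Fin n → ℂ)) (hρ : Function.Injective ρ) (p : ℕ) [Fact p.Prime] (h : (n + 1) ^ 2 ≤ p ∨ (n + 1 < p ∧ ∀ K : Subgroup G, ¬ p ^ 2 ∣ Nat.card K → ∀ Q : Sylow p K, (Q : Subgroup K).Normal)) (P : Sylow p G) : (P : Subgroup G).Normal := by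
  have hp : p.Prime := Fact.out
  refine aux (n := n) ?_ _ (Nat.lt_succ_self _) (CF.Char.isCharacter_character ρ)
    (by rw [CF.Char.charKer_character, MonoidHom.ker_eq_bot_iff]; exact hρ) (by simp)
    (h.imp id fun h L _ f hf k Q => ?_) P
  · rcases h with h | h
    · have := hp.two_le
      rcases n with _ | n
      · omega
      · nlinarith
    · exact h.1
  · have := Finite.of_injective f hf
    let e := MonoidHom.ofInjective hf
    have := (h.2 f.range (Nat.card_congr e.toEquiv ▸ k)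
      (Q.mapSurjective (f := e.toMonoidHom) e.surjective)).comap e.toMonoidHom
    exact Subgroup.comap_map_eq_self_of_injective (f := e.toMonoidHom) e.injective (Q : Subgroup L) ▸ this

end Cfsg.Agent.S0899
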