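import Cfsg.Statements.S0983
import Cfsg.Agent.Small.Sv4

set_option autoImplicit false
open Cfsg

namespace Cfsg.Agent.S0983

set_option maxRecDepth 100000 in
theorem key : CF.Small.surv 3641 2592 = [4080, 5400, 5616, 6048] := by decide +kernel


/-- A non-abelian finite simple group of order greater than 3640 and at most 6232 has order 4080, 5616, 6048 or 6072. -/
theorem result {G : Type*} [Group G] [Finite G] [IsSimpleGroup G] (hG : ¬ IsMulCommutative G) (h1 : 3640 < Nat.card G) (h2 : Nat.card G ≤ 6232) : Nat.card G = 4080 ∨ Nat.card G = 5616 ∨ Nat.card G = 6048 ∨ Nat.card G = 6072 := by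
  have := CF.Small.mem_surv hG (a := 3641) (n := 2592) (by omega) (by omega) (by omega)
  have := CF.Small.card_ne_5400 (G := G)
  simp only [key, List.mem_cons, List.not_mem_nil, or_false] at *
  omega

end Cfsg.Agent.S0983
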