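import Cfsg.Statements.S4540
import Cfsg.Agent.BlockB.Avg
-- import your own Cfsg.Agent.* helpers here

set_option autoImplicit false
open Cfsg

namespace Cfsg.Agent.S4540

/-- Let B be a 2-block of the finite group G (relative to a maximal ideal M of the algebraic integers containing 2) of defect d with defect group D. Let z be an element of D commuting with every element of D, and let b be a block of the centralizer C of z with defect group D that induces B (a major subsection (z, b)). If b has 2-regular rank at most three, then 3·k(B) ≤ 3·k₀(B) + 2·Σ 2 ^ h(χ), where k(B) is the number of members of B, k₀(B) the number of members of height zero, and the sum runs over the members χ of B of positive height h(χ); this bound is at most 3·2 ^ d, so in particular B contains at most 2 ^ d irreducible characters. -/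
theorem result {G : Type*} [Group G] [Finite G] (M : Ideal Cfsg.AlgInt) (hM : Cfsg.IsPModular 2 M) (B : Set (Cfsg.IrrCharacter G)) (hB : Cfsg.IsPBlock M B) (D : Subgroup G) (hD : Cfsg.IsDefectGroup 2 M B D) (z : G) (hzD : z ∈ D) (hzc : ∀ d ∈ D, d * z = z * d) (b : Set (Cfsg.IrrCharacter ↥(Subgroup.centralizer ({z} : Set G)))) (hb : Cfsg.IsInducedBlock M (Subgroup.centralizer ({z} : Set G)) b B) (hbD : Cfsg.IsDefectGroup 2 M b (D.subgroupOf (Subgroup.centralizer ({z} : Set G)))) (hl : Cfsg.blockRank 2 b ≤ 3) : 3 * Nat.card B ≤ 3 * Nat.card {χ : Cfsg.IrrCharacter G // χ ∈ B ∧ Cfsg.blockHeight 2 B (χ : G → ℂ) = 0} + 2 * (∑ᶠ χ ∈ {χ : Cfsg.IrrCharacter G | χ ∈ B ∧ 1 ≤ Cfsg.blockHeight 2 B (χ : G → ℂ)}, 2 ^ Cfsg.blockHeight 2 B (χ : G → ℂ)) ∧ 3 * Nat.card {χ : Cfsg.IrrCharacter G // χ ∈ B ∧ Cfsg.blockHeight 2 B (χ : G → ℂ) = 0} + 2 * (∑ᶠ χ ∈ {χ : Cfsg.IrrCharacter G | χ ∈ B ∧ 1 ≤ Cfsg.blockHeight 2 B (χ : G → ℂ)}, 2 ^ Cfsg.blockHeight 2 B (χ : G → ℂ))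 ≤ 3 * 2 ^ Cfsg.blockDefect 2 B := by
  classical
  open CF.BlockB in
  have hx := exists_orderOf_of_mem hM.1 (IsDefectGroup.isPGroup hD) hzD
  have hd := blockDefect_eq_of_defectGroup hM hb.1 hB hD (fun d hd => mem_Cen.2 (hzc d hd)) hbD
  have key : 3 * Nat.card {χ : Cfsg.IrrCharacter G // χ ∈ B ∧ Cfsg.blockHeight 2 B (χ : G → ℂ) = 0} + 2 * (∑ᶠ χ ∈ {χ : Cfsg.IrrCharacter G | χ ∈ B ∧ 1 ≤ Cfsg.blockHeight 2 B (χ : G → ℂ)}, 2 ^ Cfsg.blockHeight 2 B (χ : G → ℂ)) = ∑ χ ∈ Finset.univ.filter (· ∈ B), if Cfsg.blockHeight 2 B (χ : G → ℂ) = 0 then 3 else 2 ^ (Cfsg.blockHeight 2 B (χ : G → ℂ) + 1) := by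
    rw [Finset.sum_ite, Finset.filter_filter, Finset.filter_filter, Nat.card_eq_fintype_card,
      Fintype.card_subtype, finsum_mem_eq_finite_toFinset_sum _ (Set.toFinite _), Finset.mul_sum]
    congr 1
    · simp [mul_comm]
    · exact Finset.sum_congr (by ext; simp [Nat.one_le_iff_ne_zero]) fun _ _ => by ring
  rw [key]
  refine ⟨?_, ?_⟩
  · rw [card_eq_card_filter, mul_comm, ← smul_eq_mul]
    refine Finset.card_nsmul_le_sum _ _ _ fun χ _ => ?_
    split_ifs with h
    · rfl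
    · exact le_trans (by norm_num) (Nat.pow_le_pow_right two_pos (by omega : 2 ≤ _))
  by_cases h : ∃ χ ∈ B, Cfsg.blockHeight 2 B (χ : G → ℂ) = 0 ∧ cavg 2 b z χ = 1
  · obtain ⟨χ, h1, h2, h3⟩ := h
    have h4 := sum_pow_height_le_cavg hM hx rfl hb hd h1 h2
    rw [h3, mul_one, hd] at h4
    norm_cast at h4
    refine le_trans ?_ (Nat.mul_le_mul_left 3 h4)
    rw [Finset.mul_sum]
    refine Finset.sum_le_sum fun χ _ => ?_
    split_ifs with h
    · simp [h]
    · exact (Nat.pow_le_pow_right two_pos (by omega)).trans (Nat.le_mul_of_pos_left _ (by norm_num))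
  · have h1 := sum_cavg hM hx rfl hb
    rw [← Nat.cast_le (α := ℝ)]
    push_cast
    refine (Finset.sum_le_sum fun χ hχ => ?_).trans (h1.trans_le ?_)
    · have hχ := (Finset.mem_filter.1 hχ).2
      split_ifs with h0
      · obtain ⟨a, ⟨c, rfl⟩, h2⟩ := exists_odd_cavg hM hx rfl hb hχ h0
        have : c ≠ 0 := fun h3 => h ⟨χ, hχ, h0, by simp [h2, h3]⟩
        rw [h2]
        exact_mod_cast (by omega : 3 ≤ 2 * c + 1)
      · obtain ⟨a, h2, h3⟩ := exists_cavg_of_height hM hx rfl hb hd hχ h0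
        rw [h3]
        exact le_mul_of_one_le_right (by positivity) (Nat.one_le_cast.2 (Nat.pos_of_ne_zero h2))
    · rw [hd]
      exact mul_le_mul_of_nonneg_right (by exact_mod_cast hl) (by positivity)

end Cfsg.Agent.S4540
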