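import Cfsg.Statements.S2174
import Cfsg.Agent.Chev.InvCls
import Cfsg.Agent.Chev.Mult

set_option autoImplicit false
open Cfsg

namespace Cfsg.Agent.S2174

open CF.Chev

/-- Reduction steps for the cascades. -/
def tbl : List (List ℕ × List ℕ) :=
  [([44], []),
  ([29, 44], [0, 1, 29, 2, 1, 0]),
  ([28, 29, 44], [0, 1, 28, 3, 2, 29, 28, 2]),
  ([27, 28, 29, 44], [28, 3, 2, 28, 29, 46, 39, 42, 0, 1, 2, 1, 3, 2, 1, 2]),
  ([29, 30, 44], [45, 40, 41, 0, 1, 2, 1, 3, 2, 1]),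
  ([25, 29, 30, 44], [45, 40, 41, 3, 31, 28, 34, 0, 1, 0, 2, 1, 3, 2, 1, 2]),
  ([32, 44], [0, 1]),
  ([24, 32, 44], [0, 1, 2, 41, 29, 49, 1, 0, 2, 1, 0, 2, 1, 2]),
  ([24, 27, 32, 44], [32, 30, 34, 47, 41, 40, 0, 2, 1, 0, 2, 1, 3, 2, 1, 2]),
  ([27, 32, 44], [47, 38, 43, 0, 1, 2, 1, 2, 3, 2, 1, 2]),
  ([47], []),
  ([37, 47], [3, 2]),
  ([25, 37, 47], [42, 30, 49, 1, 0, 3, 2, 1, 0, 2, 1, 2]),
  ([25, 33, 37, 47], [34, 38, 32, 42, 36, 46, 1, 0, 2, 3, 2, 1, 0, 2, 1, 2]),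
  ([33, 37, 47], [3, 2, 1, 36, 31, 43, 1, 2, 1, 2, 3, 2, 1, 2]),
  ([41, 47], [3, 2, 31, 1, 2, 3]),
  ([28, 41, 47], [33, 46, 36, 3, 2, 1, 0, 2, 1, 2]),
  ([27, 28, 41, 47], [33, 46, 36, 0, 29, 37, 32, 0, 2, 3, 2, 1, 0, 2, 1, 2]),
  ([30, 41, 47], [3, 2, 31, 1, 0, 31, 37, 1]),
  ([25, 30, 41, 47], [31, 1, 0, 37, 31, 40, 35, 47, 0, 3, 2, 1, 0, 2, 1, 2])]

/-- The representatives. -/
def reps : List (List (Fin Lie.chevF4.nroots)) :=
  [[⟨47, by decide⟩], [⟨44, by decide⟩], [⟨47, by decide⟩, ⟨44, by decide⟩], [⟨39, by decide⟩, ⟨45, by decide⟩]]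

theorem invReps (F : Type*) [Field F] [Fintype F] [CharP F 2] : certF4.InvReps F reps :=
  certF4.invReps n3F4 (certF4.sound_D _) tbl
    [[⟨47, by decide⟩], [⟨44, by decide⟩], [⟨44, by decide⟩, ⟨47, by decide⟩], [⟨39, by decide⟩, ⟨45, by decide⟩]] 6
    (by decide +kernel) (by decide +kernel) fun _ hL _ hL' _ hg =>
      certF4.eq_of_conj' StRep.faithful_adSt
        (fun L => if L = [39, 45] then [39, 40, 44, 45, 46, 47] else L)
        (by decide +kernel) (by decide +kernel) hL hL' hg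

/-- Conjugacy classes of involutions in the Chevalley group of type F₄ over a finite field F of characteristic two (the matrix group generated by the root elements x_r(t)). In this problem's root numbering for type F₄ (the Chevalley data module; fundamental roots p₁, p₂ short and p₃, p₄ long; roots indexed by their coefficient vectors in increasing order) let r = 47 be the highest root (2,4,3,2), s = 44 the highest short root (2,3,2,1), and α = 39 = (1,2,2,1), β = 45 = (2,4,2,1), an orthogonal short/long pair; consider the four elements x_r(1), x_s(1), x_r(1)x_s(1), x_α(1)x_β(1). Then: each invertible matrix equal to one of these four products lies in the group and has order 2; every element of order 2 of the group is conjugate in the group to one of them; and no two of them are conjugate in the group (so, the four matrices being distinct, the group has exactly four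 conjugacy classes of involutions). -/
theorem result {F : Type*} [Field F] [Fintype F] [CharP F 2] :
    (∀ y : GL Cfsg.Lie.chevF4.Idx F, ((y : GL Cfsg.Lie.chevF4.Idx F) : Matrix Cfsg.Lie.chevF4.Idx Cfsg.Lie.chevF4.Idx F) ∈ [Cfsg.Lie.chevF4.x F 47 1, Cfsg.Lie.chevF4.x F 44 1, Cfsg.Lie.chevF4.x F 47 1 * Cfsg.Lie.chevF4.x F 44 1, Cfsg.Lie.chevF4.x F 39 1 * Cfsg.Lie.chevF4.x F 45 1] → y ∈ Cfsg.Lie.chevF4.group F ∧ orderOf y = 2) ∧
    (∀ g ∈ Cfsg.Lie.chevF4.group F, orderOf g = 2 → ∃ y ∈ Cfsg.Lie.chevF4.group F, ((y : GL Cfsg.Lie.chevF4.Idx F) : Matrix Cfsg.Lie.chevF4.Idx Cfsg.Lie.chevF4.Idx F) ∈ [Cfsg.Lie.chevF4.x F 47 1, Cfsg.Lie.chevF4.x F 44 1, Cfsg.Lie.chevF4.x F 47 1 * Cfsg.Lie.chevF4.x F 44 1, Cfsg.Lie.chevF4.x F 39 1 * Cfsg.Lie.chevF4.x F 45 1] ∧ ∃ h ∈ Cfsg.Lie.chevF4.group F, h * g * h⁻¹ = y) ∧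
    (∀ y₁ ∈ Cfsg.Lie.chevF4.group F, ∀ y₂ ∈ Cfsg.Lie.chevF4.group F, ((y₁ : GL Cfsg.Lie.chevF4.Idx F) : Matrix Cfsg.Lie.chevF4.Idx Cfsg.Lie.chevF4.Idx F) ∈ [Cfsg.Lie.chevF4.x F 47 1, Cfsg.Lie.chevF4.x F 44 1, Cfsg.Lie.chevF4.x F 47 1 * Cfsg.Lie.chevF4.x F 44 1, Cfsg.Lie.chevF4.x F 39 1 * Cfsg.Lie.chevF4.x F 45 1] → ((y₂ : GL Cfsg.Lie.chevF4.Idx F) : Matrix Cfsg.Lie.chevF4.Idx Cfsg.Lie.chevF4.Idx F) ∈ [Cfsg.Lie.chevF4.x F 47 1, Cfsg.Lie.chevF4.x F 44 1, Cfsg.Lie.chevF4.x F 47 1 * Cfsg.Lie.chevF4.x F 44 1, Cfsg.Lie.chevF4.x F 39 1 * Cfsg.Lie.chevF4.x F 45 1] →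
      (∃ h ∈ Cfsg.Lie.chevF4.group F, h * y₁ * h⁻¹ = y₂) → ((y₁ : GL Cfsg.Lie.chevF4.Idx F) : Matrix Cfsg.Lie.chevF4.Idx Cfsg.Lie.chevF4.Idx F) = ((y₂ : GL Cfsg.Lie.chevF4.Idx F) : Matrix Cfsg.Lie.chevF4.Idx Cfsg.Lie.chevF4.Idx F)) := by
  exact (invReps F).classes (by simp [reps])

end Cfsg.Agent.S2174
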