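import Cfsg.Statements.S2176
import Cfsg.Agent.Chev.InvCls
import Cfsg.Agent.Chev.Mult

set_option autoImplicit false
open Cfsg

namespace Cfsg.Agent.S2176

open CF.Chev

/-- Reduction steps for the cascades. -/
def tbl : List (List ℕ × List ℕ) :=
  [([239], []),
  ([226, 239], [7, 6, 5, 4, 3, 1]),
  ([159, 226, 239], [0, 2, 3, 1, 7, 6, 5, 4, 3, 2, 1, 3, 0, 2]),
  ([121, 159, 226, 239], [7, 129, 167, 234, 245, 6, 5, 4, 3, 1, 2, 3, 4, 5, 6, 7, 0, 2, 3, 1, 4, 3, 2, 0, 5, 4, 3, 1, 2, 3, 4, 5, 0, 2, 3, 1, 7, 6, 5, 4, 3, 2, 1, 3, 0, 2]),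
  ([121, 152, 159, 226, 239], [0, 2, 5, 4, 3, 1, 7, 153, 194, 208, 240, 1, 3, 2, 0, 6, 5, 4, 3, 1, 2, 3, 4, 5, 6, 7, 0, 2, 4, 3, 1, 5, 4, 3, 2, 0, 5, 4, 3, 1, 2, 3, 0, 2, 3, 4, 1, 3, 7, 6, 5, 4, 3, 2, 1, 3, 4, 0, 2, 3]),
  ([121, 126, 152, 159, 226, 239], [0, 2, 3, 1, 4, 3, 2, 0, 5, 4, 3, 2, 0, 7, 6, 5, 4, 3, 1, 2, 0, 3, 2, 4, 3, 5, 4, 6, 5, 7, 167, 179, 202, 235, 5, 4, 3, 1, 2, 0, 3, 2, 4, 3, 1, 5, 4, 3, 2, 6, 7, 6, 5, 4, 3, 1, 2, 3, 4, 5, 6, 167, 180, 203, 236, 0, 2, 3, 1, 4, 3, 2, 0, 6, 5, 4, 3, 1, 2, 3, 4, 5, 6, 7, 0, 2, 4, 3, 1, 5, 4, 3, 2, 0, 5, 4, 3, 1, 2, 3, 0, 2, 3, 4, 1, 3, 7, 6, 5, 4, 3, 2, 1, 3, 4, 0, 2, 3]),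
  ([121, 126, 135, 152, 159, 226, 239], [3, 1, 5, 4, 3, 2, 0, 7, 6, 5, 4, 3, 1, 2, 0, 3, 2, 4, 3, 1, 5, 4, 3, 6, 7, 165, 186, 192, 235, 2, 0, 3, 1, 4, 3, 1, 2, 0, 3, 2, 4, 3, 1, 5, 4, 6, 5, 4, 3, 1, 2, 0, 3, 4, 7, 6, 5, 183, 196, 167, 231, 3, 1, 5, 4, 3, 1, 2, 0, 3, 2, 4, 3, 1, 5, 4, 3, 2, 6, 5, 4, 3, 1, 2, 3, 4, 5, 7, 6, 167, 194, 187, 236, 0, 2, 3, 1, 4, 3, 2, 0, 6, 5, 4, 3, 1, 2, 3, 4, 5, 6, 7, 0, 1, 3, 2, 4, 3, 1, 5, 4, 3, 2, 0, 5, 4, 3, 1, 2, 3, 0, 2, 3, 4, 1, 3, 7, 6, 5, 4, 3, 2, 1, 3, 4, 0, 2, 3]),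
  ([121, 126, 135, 141, 152, 159, 226, 239], [3, 1, 5, 4, 3, 2, 0, 7, 6, 5, 4, 3, 1, 2, 0, 3, 2, 4, 3, 1, 5, 6, 7, 162, 183, 192, 235, 3, 1, 2, 0, 3, 2, 4, 3, 1, 5, 4, 3, 6, 5, 4, 7, 6, 5, 4, 3, 1, 2, 0, 3, 2, 4, 3, 5, 6, 7, 160, 183, 194, 237, 2, 0, 3, 1, 2, 0, 3, 2, 4, 3, 1, 2, 0, 5, 4, 6, 5, 4, 3, 1, 2, 0, 3, 4, 7, 6, 5, 186, 193, 167, 230, 3, 1, 5, 4, 3, 1, 2, 0, 3, 2, 4, 3, 1, 5, 4, 3, 2, 6, 7, 6, 5, 4, 3, 1, 2, 3, 4, 5, 6, 167, 194, 187, 236, 0, 2, 3, 1, 4, 3, 2, 0, 6, 5, 4, 3, 1, 2, 3, 4, 5, 6, 7, 0, 1, 3, 2, 4, 3, 1, 5, 4, 3, 2, 0, 5, 4, 3, 1, 2, 3, 0, 2, 3, 4, 1, 3, 7, 6, 5, 4, 3, 2, 1, 3, 4, 0, 2, 3]),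
  ([121, 126, 141, 152, 159, 226, 239], [0, 2, 3, 2, 0, 5, 4, 3, 1, 2, 3, 4, 5, 6, 7, 167, 187, 194, 236, 2, 0, 3, 1, 5, 4, 3, 6, 5, 4, 3, 1, 2, 0, 3, 2, 4, 3, 1, 5, 4, 3, 2, 0, 6, 5, 4, 7, 6, 5, 183, 196, 167, 231, 3, 1, 5, 4, 3, 1, 2, 0, 3, 2, 4, 3, 1, 5, 4, 3, 2, 6, 5, 4, 3, 1, 2, 3, 4, 5, 7, 6, 167, 194, 187, 236, 0, 2, 3, 1, 4, 3, 2, 0, 6, 5, 4, 3, 1, 2, 3, 4, 5, 6, 7, 0, 1, 3, 2, 4, 3, 1, 5, 4, 3, 2, 0, 5, 4, 3, 1, 2, 3, 0, 2, 3, 4, 1, 3, 7, 6, 5, 4, 3, 2, 1, 3, 4, 0, 2, 3]),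
  ([121, 135, 152, 159, 226, 239], [0, 5, 4, 3, 1, 2, 3, 4, 5, 6, 7, 167, 180, 203, 236, 6, 5, 4, 3, 1, 2, 0, 3, 2, 4, 3, 1, 5, 4, 3, 2, 6, 7, 6, 5, 4, 3, 1, 2, 3, 4, 5, 6, 167, 180, 203, 236, 0, 2, 3, 1, 4, 3, 2, 0, 6, 5, 4, 3, 1, 2, 3, 4, 5, 6, 7, 0, 2, 4, 3, 1, 5, 4, 3, 2, 0, 5, 4, 3, 1, 2, 3, 0, 2, 3, 4, 1, 3, 7, 6, 5, 4, 3, 2, 1, 3, 4, 0, 2, 3]),
  ([121, 135, 141, 152, 159, 226, 239], [0, 2, 3, 1, 2, 4, 3, 1, 2, 5, 4, 3, 2, 0, 7, 6, 5, 4, 3, 1, 2, 0, 3, 2, 4, 3, 1, 5, 4, 3, 6, 7, 162, 192, 183, 235, 2, 0, 3, 1, 2, 0, 3, 2, 4, 3, 1, 2, 0, 5, 4, 6, 5, 4, 3, 1, 2, 0, 3, 4, 7, 6, 5, 183, 196, 167, 231, 3, 1, 5, 4, 3, 1, 2, 0, 3, 2, 4, 3, 1, 5, 4, 3, 2, 6, 5, 4, 3, 1, 2, 3, 4, 5, 7, 6, 167, 194, 187, 236, 0, 2, 3, 1, 4, 3, 2,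 0, 6, 5, 4, 3, 1, 2, 3, 4, 5, 6, 7, 0, 1, 3, 2, 4, 3, 1, 5, 4, 3, 2, 0, 5, 4, 3, 1, 2, 3, 0, 2, 3, 4, 1, 3, 7, 6, 5, 4, 3, 2, 1, 3, 4, 0, 2, 3]),
  ([121, 141, 152, 159, 226, 239], [5, 4, 3, 2, 0, 7, 6, 5, 4, 3, 1, 2, 0, 3, 2, 4, 3, 5, 4, 6, 5, 7, 167, 179, 202, 235, 5, 4, 3, 1, 2, 0, 3, 2, 4, 3, 1, 5, 4, 3, 2, 6, 7, 6, 5, 4, 3, 1, 2, 3, 4, 5, 6, 167, 180, 203, 236, 0, 2, 3, 1, 4, 3, 2, 0, 6, 5, 4, 3, 1, 2, 3, 4, 5, 6, 7, 0, 2, 4, 3, 1, 5, 4, 3, 2, 0, 5, 4, 3, 1, 2, 3, 0, 2, 3, 4, 1, 3, 7, 6, 5, 4, 3, 2, 1, 3, 4, 0, 2, 3]),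
  ([152, 159, 226, 239], [5, 4, 0, 2, 3, 4, 1, 3, 7, 6, 5, 4, 3, 2, 1, 3, 4, 0, 2, 3]),
  ([126, 152, 159, 226, 239], [0, 2, 3, 1, 5, 6, 7, 153, 194, 208, 240, 1, 3, 2, 0, 6, 5, 4, 3, 1, 2, 3, 4, 5, 6, 7, 0, 2, 4, 3, 1, 5, 4, 3, 2, 0, 5, 4, 3, 1, 2, 3, 0, 2, 3, 4, 1, 3, 7, 6, 5, 4, 3, 2, 1, 3, 4, 0, 2, 3]),
  ([126, 135, 152, 159, 226, 239], [0, 3, 1, 2, 3, 4, 5, 4, 6, 5, 7, 167, 180, 203, 236, 6, 5, 4, 3, 1, 2, 0, 3, 2, 4, 3, 1, 5, 4, 3, 2, 6, 7, 6, 5, 4, 3, 1, 2, 3, 4, 5, 6, 167, 180, 203, 236, 0, 2, 3, 1, 4, 3, 2, 0, 6, 5, 4, 3, 1, 2, 3, 4, 5, 6, 7, 0, 2, 4, 3, 1, 5, 4, 3, 2, 0, 5, 4, 3, 1, 2, 3, 0, 2, 3, 4, 1, 3, 7, 6, 5, 4, 3, 2, 1, 3, 4, 0, 2, 3]),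
  ([126, 135, 141, 152, 159, 226, 239], [0, 2, 3, 2, 5, 4, 3, 1, 2, 3, 6, 5, 4, 3, 1, 2, 0, 3, 7, 6, 5, 4, 3, 1, 2, 0, 3, 2, 4, 3, 1, 5, 4, 3, 6, 7, 162, 192, 183, 235, 2, 0, 3, 1, 2, 0, 3, 2, 4, 3, 1, 2, 0, 5, 4, 6, 5, 4, 3, 1, 2, 0, 3, 4, 7, 6, 5, 183, 196, 167, 231, 3, 1, 5, 4, 3, 1, 2, 0, 3, 2, 4, 3, 1, 5, 4, 3, 2, 6, 5, 4, 3, 1, 2, 3, 4, 5, 7, 6, 167, 194, 187, 236, 0, 2, 3, 1, 4, 3, 2, 0, 6, 5, 4, 3, 1, 2, 3, 4, 5, 6, 7, 0, 1, 3, 2, 4, 3, 1, 5, 4, 3, 2, 0, 5, 4, 3, 1, 2, 3, 0, 2, 3, 4, 1, 3, 7, 6, 5, 4, 3, 2, 1, 3, 4, 0, 2, 3]),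
  ([126, 141, 152, 159, 226, 239], [3, 2, 0, 5, 6, 7, 6, 5, 4, 3, 1, 2, 0, 3, 2, 4, 3, 5, 4, 6, 5, 7, 167, 179, 202, 235, 5, 4, 3, 1, 2, 0, 3, 2, 4, 3, 1, 5, 4, 3, 2, 6, 7, 6, 5, 4, 3, 1, 2, 3, 4, 5, 6, 167, 180, 203, 236, 0, 2, 3, 1, 4, 3, 2, 0, 6, 5, 4, 3, 1, 2, 3, 4, 5, 6, 7, 0, 2, 4, 3, 1, 5, 4, 3, 2, 0, 5, 4, 3, 1, 2, 3, 0, 2, 3, 4, 1, 3, 7, 6, 5, 4, 3, 2, 1, 3, 4, 0, 2, 3]),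
  ([135, 152, 159, 226, 239], [0, 7, 6, 5, 4, 3, 1, 2, 0, 3, 2, 4, 3, 5, 4, 6, 5, 7, 6, 153, 194, 208, 240, 1, 3, 2, 0, 6, 5, 4, 3, 1, 2, 3, 4, 5, 6, 7, 0, 2, 4, 3, 1, 5, 4, 3, 2, 0, 5, 4, 3, 1, 2, 3, 0, 2, 3, 4, 1, 3, 7, 6, 5, 4, 3, 2, 1, 3, 4, 0, 2, 3]),
  ([135, 141, 152, 159, 226, 239], [0, 3, 2, 4, 3, 5, 4, 6, 5, 7, 175, 167, 213, 233, 5, 4, 3, 2, 6, 5, 4, 3, 1, 2, 0, 3, 2, 4, 3, 1, 5, 4, 3, 2, 6, 5, 4, 3, 1, 7, 6, 167, 180, 203, 236, 0, 2, 3, 1, 4, 3, 2, 0, 6, 5, 4, 3, 1, 2, 3, 4, 5, 6, 7, 0, 2, 4, 3, 1, 5, 4, 3, 2, 0, 5, 4, 3, 1, 2, 3, 0, 2, 3, 4, 1, 3, 7, 6, 5, 4, 3, 2, 1, 3, 4, 0, 2, 3]),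
  ([141, 152, 159, 226, 239], [0, 2, 3, 4, 5, 6, 7, 153, 194, 208, 240, 1, 3, 2, 0, 6, 5, 4, 3, 1, 2, 3, 4, 5, 6, 7, 0, 2, 4, 3, 1, 5, 4, 3, 2, 0, 5, 4, 3, 1, 2, 3, 0, 2, 3, 4, 1, 3, 7, 6, 5, 4, 3, 2, 1, 3, 4, 0, 2, 3])]

/-- The representatives. -/
def reps : List (List (Fin Lie.chevE8.nroots)) :=
  [[⟨239, by decide⟩], [⟨232, by decide⟩, ⟨233, by decide⟩], [⟨228, by decide⟩, ⟨222, by decide⟩, ⟨218, by decide⟩], [⟨226, by decide⟩, ⟨220, by decide⟩, ⟨213, by decide⟩, ⟨216, by decide⟩]]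

theorem invReps (F : Type*) [Field F] [Fintype F] [CharP F 2] : certE8.InvReps F reps :=
  certE8.invReps sameLenE8.n3 (certE8.sound_S _ sameLenE8) tbl
    [[⟨239, by decide⟩], [⟨232, by decide⟩, ⟨233, by decide⟩], [⟨218, by decide⟩, ⟨222, by decide⟩, ⟨228, by decide⟩], [⟨213, by decide⟩, ⟨216, by decide⟩, ⟨220, by decide⟩, ⟨226, by decide⟩]] 10
    (by decide +kernel) (by decide +kernel) fun _ hL _ hL' _ hg =>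
      certE8.eq_of_conj StRep.faithful_adSt (by decide +kernel) (by decide +kernel) hL hL' hg

/-- Conjugacy classes of involutions in the Chevalley group of type E₈ over a finite field F of characteristic two (the matrix group generated by the root elements x_r(t)). In this problem's root numbering for type E₈ (the Chevalley data module; fundamental roots numbered so that p₁–p₃–p₄–p₅–p₆–p₇–p₈ is the long chain of the diagram and p₂ is joined to p₄; roots indexed by their coefficient vectors in increasing order) let r = 239 be the highest root (2,3,4,6,5,4,3,2), α = 232 = (2,2,4,5,4,3,2,1), β = 233 = (2,3,3,5,4,3,2,1), γ = 228 = (2,2,3,4,3,2,2,1), δ = 222 = (1,2,3,4,3,3,2,1), ε = 218 = (1,2,2,4,4,3,2,1), φ = 226 = (2,2,3,4,3,2,1,0),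 ψ = 220 = (1,2,3,4,3,2,1,1), θ = 213 = (1,2,2,3,3,3,2,1), ω = 216 = (1,2,2,4,3,2,2,1) (the roots within each of {α, β}, {γ, δ, ε}, {φ, ψ, θ, ω} pairwise orthogonal); consider x_r(1), x_α(1)x_β(1), x_γ(1)x_δ(1)x_ε(1) and x_φ(1)x_ψ(1)x_θ(1)x_ω(1). Then: each invertible matrix equal to one of these four products lies in the group and has order 2; every element of order 2 of the group is conjugate in the group to one of them; and no two of them are conjugate in the group (so, the four matrices being distinct, the group has exactly four conjugacy classes of involutions). -/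
theorem result {F : Type*} [Field F] [Fintype F] [CharP F 2] :
    (∀ y : GL Cfsg.Lie.chevE8.Idx F, ((y : GL Cfsg.Lie.chevE8.Idx F) : Matrix Cfsg.Lie.chevE8.Idx Cfsg.Lie.chevE8.Idx F) ∈ [Cfsg.Lie.chevE8.x F 239 1, Cfsg.Lie.chevE8.x F 232 1 * Cfsg.Lie.chevE8.x F 233 1, Cfsg.Lie.chevE8.x F 228 1 * Cfsg.Lie.chevE8.x F 222 1 * Cfsg.Lie.chevE8.x F 218 1, Cfsg.Lie.chevE8.x F 226 1 * Cfsg.Lie.chevE8.x F 220 1 * Cfsg.Lie.chevE8.x F 213 1 * Cfsg.Lie.chevE8.x F 216 1] → y ∈ Cfsg.Lie.chevE8.group F ∧ orderOf y = 2) ∧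
    (∀ g ∈ Cfsg.Lie.chevE8.group F, orderOf g = 2 → ∃ y ∈ Cfsg.Lie.chevE8.group F, ((y : GL Cfsg.Lie.chevE8.Idx F) : Matrix Cfsg.Lie.chevE8.Idx Cfsg.Lie.chevE8.Idx F) ∈ [Cfsg.Lie.chevE8.x F 239 1, Cfsg.Lie.chevE8.x F 232 1 * Cfsg.Lie.chevE8.x F 233 1, Cfsg.Lie.chevE8.x F 228 1 * Cfsg.Lie.chevE8.x F 222 1 * Cfsg.Lie.chevE8.x F 218 1, Cfsg.Lie.chevE8.x F 226 1 * Cfsg.Lie.chevE8.x F 220 1 * Cfsg.Lie.chevE8.x F 213 1 * Cfsg.Lie.chevE8.x F 216 1] ∧ ∃ h ∈ Cfsg.Lie.chevE8.group F, h * g * h⁻¹ = y) ∧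
    (∀ y₁ ∈ Cfsg.Lie.chevE8.group F, ∀ y₂ ∈ Cfsg.Lie.chevE8.group F, ((y₁ : GL Cfsg.Lie.chevE8.Idx F) : Matrix Cfsg.Lie.chevE8.Idx Cfsg.Lie.chevE8.Idx F) ∈ [Cfsg.Lie.chevE8.x F 239 1, Cfsg.Lie.chevE8.x F 232 1 * Cfsg.Lie.chevE8.x F 233 1, Cfsg.Lie.chevE8.x F 228 1 * Cfsg.Lie.chevE8.x F 222 1 * Cfsg.Lie.chevE8.x F 218 1, Cfsg.Lie.chevE8.x F 226 1 * Cfsg.Lie.chevE8.x F 220 1 * Cfsg.Lie.chevE8.x F 213 1 * Cfsg.Lie.chevE8.x F 216 1] → ((y₂ : GL Cfsg.Lie.chevE8.Idx F) : Matrix Cfsg.Lie.chevE8.Idx Cfsg.Lie.chevE8.Idx F) ∈ [Cfsg.Lie.chevE8.x F 239 1, Cfsg.Lie.chevE8.x F 232 1 * Cfsg.Lie.chevE8.x F 233 1, Cfsg.Lie.chevE8.x F 228 1 * Cfsg.Lie.chevE8.x F 222 1 * Cfsg.Lie.chevE8.x F 218 1, Cfsg.Lie.chevE8.x F 226 1 * Cfsg.Lie.chevE8.x F 220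 1 * Cfsg.Lie.chevE8.x F 213 1 * Cfsg.Lie.chevE8.x F 216 1] →
      (∃ h ∈ Cfsg.Lie.chevE8.group F, h * y₁ * h⁻¹ = y₂) → ((y₁ : GL Cfsg.Lie.chevE8.Idx F) : Matrix Cfsg.Lie.chevE8.Idx Cfsg.Lie.chevE8.Idx F) = ((y₂ : GL Cfsg.Lie.chevE8.Idx F) : Matrix Cfsg.Lie.chevE8.Idx Cfsg.Lie.chevE8.Idx F)) := by
  exact (invReps F).classes (by simp [reps, mul_assoc])

end Cfsg.Agent.S2176
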