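import Cfsg.Statements.S2181
import Cfsg.Agent.Chev.InvCls
import Cfsg.Agent.Chev.Mult

set_option autoImplicit false
open Cfsg

namespace Cfsg.Agent.S2181

open CF.Chev

/-- Reduction steps for the cascades. -/
def tbl : List (List ℕ × List ℕ) :=
  [([125], []),
  ([92, 125], [0, 2, 3, 1]),
  ([63, 92, 125], [5, 4, 3, 2, 0, 2, 3, 4, 1, 3, 2, 0]),
  ([63, 87, 92, 125], [5, 4, 3, 2, 0, 2, 3, 4, 1, 3, 2, 0]),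
  ([63, 66, 87, 92, 125], [0, 2, 3, 1, 4, 3, 2, 0, 5, 4, 3, 2, 0, 84, 90, 97, 126, 2, 0, 3, 2, 4, 3, 1, 5, 4, 3, 2, 0, 4, 3, 1, 2, 3, 4, 5, 3, 2, 5, 6, 0, 2, 3, 4, 1, 3, 2, 0]),
  ([63, 66, 73, 87, 92, 125], [3, 1, 5, 4, 3, 2, 0, 84, 92, 94, 126, 2, 3, 1, 2, 4, 3, 1, 2, 0, 5, 6, 5, 4, 3, 1, 2, 92, 84, 94, 123, 2, 0, 3, 2, 4, 3, 1, 5, 4, 3, 2, 0, 4, 3, 1, 2, 3, 4, 5, 1, 2, 5, 6, 0, 2, 3, 4, 1, 3, 2, 0]),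
  ([63, 66, 73, 78, 87, 92, 125], [3, 1, 5, 4, 3, 2, 0, 84, 92, 94, 126, 2, 3, 1, 4, 3, 5, 4, 3, 2, 0, 6, 5, 4, 3, 1, 2, 0, 3, 94, 78, 89, 115, 3, 1, 2, 4, 3, 1, 2, 0, 5, 4, 3, 1, 2, 6, 92, 84, 94, 123, 2, 0, 3, 2, 4, 3, 1, 5, 4, 3, 2, 0, 4, 3, 1, 2, 3, 4, 5, 1, 2, 5, 6, 0, 2, 3, 4, 1, 3, 2, 0]),
  ([63, 66, 78, 87, 92, 125], [0, 2, 3, 1, 2, 0, 4, 3, 2, 5, 4, 3, 2, 0, 79, 94, 88, 126, 3, 1, 2, 4, 3, 1, 2, 0, 5, 6, 5, 4, 3, 1, 2, 92, 84, 94, 123, 2, 0, 3, 2, 4, 3, 1, 5, 4, 3, 2, 0, 4, 3, 1, 2, 3, 4, 5, 1, 2, 5, 6, 0, 2, 3, 4, 1, 3, 2, 0]),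
  ([63, 73, 87, 92, 125], [0, 5, 4, 3, 1, 90, 97, 84, 125, 2, 0, 3, 2, 4, 3, 1, 5, 4, 3, 2, 0, 4, 3, 1, 2, 3, 4, 5, 3, 2, 5, 6, 0, 2, 3, 4, 1, 3, 2, 0]),
  ([63, 73, 78, 87, 92, 125], [0, 2, 3, 1, 2, 4, 3, 1, 2, 5, 4, 3, 2, 0, 79, 94, 88, 126, 3, 1, 2, 4, 3, 1, 2, 0, 5, 6, 5, 4, 3, 1, 2, 92, 84, 94, 123, 2, 0, 3, 2, 4, 3, 1, 5, 4, 3, 2, 0, 4, 3, 1, 2, 3, 4, 5, 1, 2, 5, 6, 0, 2, 3, 4, 1, 3, 2, 0]),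
  ([63, 78, 87, 92, 125], [5, 4, 3, 2, 0, 84, 90, 97, 126, 2, 0, 3, 2, 4, 3, 1, 5, 4, 3, 2, 0, 4, 3, 1, 2, 3, 4, 5, 3, 2, 5, 6, 0, 2, 3, 4, 1, 3, 2, 0]),
  ([87, 92, 125], [5, 4, 0, 2, 3, 4, 1, 3]),
  ([66, 87, 92, 125], [3, 2, 5, 6, 0, 2, 3, 4, 1, 3, 2, 0]),
  ([66, 73, 87, 92, 125], [0, 3, 1, 5, 6, 90, 84, 97, 125, 2, 0, 3, 2, 4, 3, 1, 5, 4, 3, 2, 0, 4, 3, 1, 2, 3, 4, 5, 3, 2, 5, 6, 0, 2, 3, 4, 1, 3, 2, 0]),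
  ([66, 73, 78, 87, 92, 125], [0, 2, 3, 2, 5, 4, 3, 1, 2, 3, 6, 5, 4, 3, 1, 2, 0, 3, 79, 94, 88, 126, 3, 1, 2, 4, 3, 1, 2, 0, 5, 6, 5, 4, 3, 1, 2, 92, 84, 94, 123, 2, 0, 3, 2, 4, 3, 1, 5, 4, 3, 2, 0, 4, 3, 1, 2, 3, 4, 5, 1, 2, 5, 6, 0, 2, 3, 4, 1, 3, 2, 0]),
  ([66, 78, 87, 92, 125], [3, 2, 0, 5, 6, 84, 90, 97, 126, 2, 0, 3, 2, 4, 3, 1, 5, 4, 3, 2, 0, 4, 3, 1, 2, 3, 4, 5, 3, 2, 5, 6, 0, 2, 3, 4, 1, 3, 2, 0]),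
  ([73, 87, 92, 125], [0, 80, 94, 99, 130, 2, 3, 1, 4, 3, 2, 0, 5, 4, 6, 5, 3, 1, 4, 3, 5, 4, 0, 2, 3, 4, 1, 3]),
  ([73, 78, 87, 92, 125], [0, 3, 4, 5, 6, 84, 90, 97, 126, 2, 0, 3, 2, 4, 3, 1, 5, 4, 3, 2, 0, 4, 3, 1, 2, 3, 4, 5, 3, 2, 5, 6, 0, 2, 3, 4, 1, 3, 2, 0]),
  ([78, 87, 92, 125], [3, 2, 5, 4, 3, 2, 0, 2, 3, 4, 5, 6])]

/-- The representatives. -/
def reps : List (List (Fin Lie.chevE7.nroots)) :=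
  [[⟨125, by decide⟩], [⟨118, by decide⟩, ⟨121, by decide⟩], [⟨92, by decide⟩, ⟨107, by decide⟩, ⟨111, by decide⟩], [⟨114, by decide⟩, ⟨116, by decide⟩, ⟨119, by decide⟩], [⟨92, by decide⟩, ⟨107, by decide⟩, ⟨111, by decide⟩, ⟨119, by decide⟩]]

theorem invReps (F : Type*) [Field F] [Fintype F] [CharP F 2] : certE7.InvReps F reps :=
  certE7.invReps sameLenE7.n3 (certE7.sound_S _ sameLenE7) tbl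
    [[⟨125, by decide⟩], [⟨118, by decide⟩, ⟨121, by decide⟩], [⟨92, by decide⟩, ⟨107, by decide⟩, ⟨111, by decide⟩], [⟨114, by decide⟩, ⟨116, by decide⟩, ⟨119, by decide⟩], [⟨92, by decide⟩, ⟨107, by decide⟩, ⟨111, by decide⟩, ⟨119, by decide⟩]] 9
    (by decide +kernel) (by decide +kernel) fun _ hL _ hL' _ hg =>
      certE7.eq_of_conj StRep.faithful_adSt (by decide +kernel) (by decide +kernel) hL hL' hg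

/-- The Chevalley group of type E₇ over a finite field of characteristic two (the matrix group generated by the root elements) has exactly five conjugacy classes of elements of order 2. -/
theorem result {F : Type*} [Field F] [Fintype F] [CharP F 2] :
    (ConjClasses.mk '' {g : ↥(Cfsg.Lie.chevE7.group F) | orderOf g = 2}).ncard = 5 := by
  exact (invReps F).ncard (by decide)

end Cfsg.Agent.S2181
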