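import Cfsg.Statements.S3861
import Cfsg.Agent.SolvStr.Homog
import Cfsg.Agent.Invol.Isolated

set_option autoImplicit false
open Cfsg

namespace Cfsg.Agent.S3861

/-- A finite group G has no non-identity element of odd order that is conjugate to its inverse if and only if the Sylow 2-subgroups of G are normal. -/
theorem result {G : Type*} [Group G] [Finite G] (P : Sylow 2 G) : (∀ x : G, x ≠ 1 → Odd (orderOf x) → ¬ IsConj x x⁻¹) ↔ (P : Subgroup G).Normal := by
  open CF.Transfer CF.SolvStr CF.Solv in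
  constructor
  · intro h
    by_contra hP
    obtain ⟨x, n, h1, h2, h3⟩ := exists_odd_inverted P hP
    exact h x h1 h2 (isConj_iff.2 ⟨n, h3⟩)
  · intro hP x hx1 hx hc
    obtain ⟨g, hg⟩ := isConj_iff.1 hc
    have h1 : Odd (Nat.card (G ⧸ (P : Subgroup G))) :=
      Nat.odd_iff.2 (Nat.two_dvd_ne_zero.1 P.not_dvd_index)
    have h2 := CF.Invol.mul_self_eq_one_of_odd_inverts (g := (g : G ⧸ (P : Subgroup G)))
      (c := (x : G ⧸ (P : Subgroup G))) (h1.of_dvd_nat (orderOf_dvd_natCard _))
      (by rw [← QuotientGroup.mk_inv, ← QuotientGroup.mk_inv, ← hg]; rfl)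
    have h3 : x * x ∈ (P : Subgroup G) := (QuotientGroup.eq_one_iff _).1 h2
    have h4 := eq_one_of_mem_pGroup_of_coprime P.isPGroup' h3 (by
      rw [← sq]; exact Nat.coprime_two_right.2 (hx.of_dvd_nat (orderOf_pow_dvd 2)))
    apply hx1
    rw [← orderOf_eq_one_iff]
    exact Nat.eq_one_of_dvd_coprimes (Nat.coprime_two_right.2 hx) dvd_rfl
      (orderOf_dvd_of_pow_eq_one (n := 2) (by rw [sq, h4]))

end Cfsg.Agent.S3861
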