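import Cfsg.Statements.S4464
import Cfsg.Agent.Char.Deg3

set_option autoImplicit false
open Cfsg

namespace Cfsg.Agent.S4464

open CF.Char CF.BG CF.Clifford Subgroup in
/-- Let p be a prime and G a finite group all of whose irreducible character degrees are less than p. Then G has a normal abelian Sylow p-subgroup. -/
theorem result {G : Type*} [Group G] [Finite G] (p : ℕ) (hp : p.Prime) (hb : ∀ χ : Cfsg.IrrCharacter G, Cfsg.charDegree (χ : G → ℂ) < p) : ∃ P : Subgroup G, P.Normal ∧ (∀ x ∈ P, ∀ y ∈ P, x * y = y * x) ∧ IsPGroup p P ∧ ¬ p ∣ P.index := by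
  classical
  have := Fact.mk hp
  have := Fintype.ofFinite G
  obtain ⟨P⟩ : Nonempty (Sylow p G) := inferInstance
  have := Fintype.ofFinite P
  have := Fintype.ofFinite (Sylow p G)
  refine ⟨P, ?_, fun _ x _ y => (abel_iff_cd.2 fun d hd => ?_).mul_comm x y, P.2, P.not_dvd_index⟩
  swap
  · obtain ⟨_, ⟨χ, rfl⟩, l⟩ := exists_cd_le hd
    obtain ⟨_ | k, rfl⟩ := cd_pow_of_isPGroup hp P.2 hd
    · exact pow_zero p
    · exact absurd (l.trans_lt (hb χ)) (not_lt.2 (Nat.le_self_pow k.succ_ne_zero p))
  have c := char_fixedBy_sub_one (G := G) (Sylow p G)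
  obtain ⟨a, a1, a2, -⟩ := exists_nat_inner_self c
  obtain ⟨s, hs⟩ := inner_char_eq_nat (char_restrict c P) char_const_one
  have b : Nat.card (Sylow p G) - 1 ≤ (p - 1) * s := by
    have u : ∀ θ : IrrCharacter G, ∃ t : ℕ, classInner (fun x : (P : Subgroup G) => θ.1 x) (fun _ => 1) = t ∧
        a θ * charDegree θ.1 ≤ (p - 1) * (a θ * t) := fun θ => by
      obtain ⟨t, ht⟩ := inner_char_eq_nat (char_restrict (irr_isCharacter θ.2) P) char_const_one
      refine ⟨t, ht, (eq_or_ne (a θ) 0).elim (fun w => by simp [w]) fun w => ?_⟩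
      have := Fintype.ofFinite (MulAction.stabilizer G P)
      have v : classInner (fun x : MulAction.stabilizer G P => θ.1 x) (fun _ => 1) ≠ 0 := by
        rw [← inner_indFun_right _ _ (irr_isClassFunction θ.2), ← fixedBy_eq_indFun,
          inner_irr_ne_zero_comm, ← sub_add_cancel (fun g : G => (Nat.card (MulAction.fixedBy
            (Sylow p G) g) : ℂ)) fun _ => 1]
        exact inner_add_ne_zero c char_const_one (irr_isCharacter θ.2)
          (a1 θ ▸ Nat.cast_ne_zero.2 w)
      have : t ≠ 0 := fun z => inner_comp_ne_zero_of_constituent (inclusion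
        (show (P : Subgroup G) ≤ _ from P.stabilizer_eq_normalizer ▸ le_normalizer))
          (char_restrict (irr_isCharacter θ.2) _) irr_one char_const_one v (by
            rw [inner_one_one]; exact one_ne_zero) (ht.trans (by rw [z, Nat.cast_zero]))
      rw [mul_comm, ← mul_assoc]
      exact (Nat.mul_le_mul_right _ (Nat.le_sub_one_of_lt (hb θ))).trans
        (Nat.le_mul_of_pos_right _ (Nat.pos_of_ne_zero this))
    choose t t1 t2 using u
    have v := congrFun a2 1
    simp only [Finset.sum_apply, Pi.smul_apply, smul_eq_mul, ← CF.BlockB.irr_charDegree_eq,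
      MulAction.fixedBy_one_eq_univ, Nat.card_univ] at v
    rw [show (fun x : (P : Subgroup G) => (Nat.card (MulAction.fixedBy (Sylow p G) x.1) : ℂ) - 1) =
      ∑ θ : IrrCharacter G, (a θ : ℂ) • fun x : (P : Subgroup G) => θ.1 x from funext fun x =>
        (congrFun a2 x).trans (by simp), inner_sum_left] at hs
    simp only [CF.Char.inner_smul_left, t1] at hs
    rw [sub_eq_iff_eq_add] at v
    norm_cast at v hs
    rw [← hs, Finset.mul_sum]
    exact (show _ = ∑ θ, a θ * charDegree θ.1 by omega).trans_le (Finset.sum_le_sum fun θ _ => t2 θ)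
  have e : p * s ≤ Nat.card (Sylow p G) - 1 := by
    have u : ∀ x : P, (Nat.card (MulAction.fixedBy (Sylow p G) x.1) : ℂ) - 1 =
        ∑ Q ∈ Finset.univ.erase P, if x ∈ MulAction.stabilizer P Q then 1 else 0 := fun x => by
      rw [Finset.sum_erase_eq_sub (Finset.mem_univ _), if_pos (show x ∈ MulAction.stabilizer P P from
        Sylow.smul_eq_iff_mem_normalizer.2 (le_normalizer x.2)), Finset.sum_boole,
        Nat.card_eq_fintype_card, Fintype.card_subtype]
      rfl
    have v := (card_mul_inner _ _).symm.trans (congrArg _ hs)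
    simp only [u, map_one, mul_one] at v
    rw [Finset.sum_comm] at v
    simp only [Finset.sum_boole, ← Fintype.card_subtype, ← Nat.card_eq_fintype_card] at v
    norm_cast at v
    refine Nat.le_of_mul_le_mul_left ?_ (Nat.card_pos (α := P))
    rw [mul_left_comm, ← v, Finset.mul_sum, Nat.card_eq_fintype_card (α := Sylow p G),
      ← Finset.card_univ, ← Finset.card_erase_of_mem (Finset.mem_univ P), mul_comm, ← smul_eq_mul]
    refine Finset.sum_le_card_nsmul _ _ _ fun Q hQ => ?_
    obtain ⟨k, hk⟩ := P.2.index (MulAction.stabilizer P Q)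
    rw [← (MulAction.stabilizer P Q).index_mul_card, hk]
    refine Nat.mul_le_mul_right _ (Nat.le_self_pow (fun z => Finset.ne_of_mem_erase hQ ?_) p)
    rw [z, pow_zero, index_eq_one] at hk
    exact Sylow.ext (P.is_maximal' Q.2 (P.2.sylow_mem_fixedPoints_iff.1 fun x => hk.ge (mem_top x)))
  have : s = 0 := by
    by_contra w
    have := Nat.mul_le_mul_right s (Nat.le_of_lt_succ (show p - 1 < p - 1 + 1 by omega))
    have := Nat.le_of_mul_le_mul_right (e.trans b) (Nat.pos_of_ne_zero w)
    have := hp.pos
    omega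
  have := (Nat.card_eq_one_iff_unique.1 (show Nat.card (Sylow p G) = 1 by
    have := Nat.card_pos (α := Sylow p G); simp_all; omega)).1
  exact P.normal_of_subsingleton

end Cfsg.Agent.S4464
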