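import Cfsg.Statements.S4140
import Cfsg.Agent.SolvStr.Cam

set_option autoImplicit false
open Cfsg

namespace Cfsg.Agent.S4140

/-- Let G be a finite group and N a proper non-trivial normal subgroup such that for every g outside N the conjugacy class of g is a union of cosets of N (equivalently gn is conjugate to g for every n ∈ N). Then either every element of G outside N acts fixed-point-freely on N (C_G(x) ≤ N for all x ∈ N, x ≠ 1, so G is a Frobenius group with kernel N), or N has prime-power order, or G/N has prime-power order. -/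
theorem result {G : Type*} [Group G] [Finite G] (N : Subgroup G) [N.Normal] (hN1 : N ≠ ⊥) (hN2 : N ≠ ⊤)
    (hcam : ∀ g : G, g ∉ N → ∀ n ∈ N, ∃ x : G, x * g * x⁻¹ = g * n) :
    (∀ x ∈ N, x ≠ 1 → Subgroup.centralizer ({x} : Set G) ≤ N) ∨ IsPrimePow (Nat.card N) ∨ IsPrimePow N.index := by
  open CF.BG CF.SolvStr in
  refine (Cam.cases hcam (normalIn_top.2 ‹_›).norm).imp_right fun ⟨p, hp, h⟩ => h.imp (fun h => ?_)
    fun h => ?_
  · obtain ⟨k, e⟩ := h.card_pow
    refine ⟨p, k, hp.prime, Nat.pos_of_ne_zero ?_, e.symm⟩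
    rintro rfl
    exact hN1 (Subgroup.card_eq_one.1 e)
  · obtain ⟨k, e⟩ := h.exists_pow Subgroup.index_ne_zero_of_finite
    refine ⟨p, k, hp.prime, Nat.pos_of_ne_zero ?_, e.symm⟩
    rintro rfl
    exact hN2 (Subgroup.index_eq_one.1 e)

end Cfsg.Agent.S4140
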