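import Mathlib
import Cfsg.Statements.S4022
import Cfsg.Agent.Solv.Hall
import Cfsg.Agent.Fgs1.Basic

set_option autoImplicit false
open Cfsg

namespace Cfsg.Agent.S4022

open Subgroup CF.Solv
open scoped Pointwise

theorem cyc_eq {G : Type*} [Group G] [Finite G] {C H K : Subgroup G} [IsCyclic C] (hH : H ≤ C)
    (hK : K ≤ C) (h : Nat.card H = Nat.card K) : H = K := by
  letI : CommGroup C := IsCyclic.commGroup
  have key : ∀ H : Subgroup G, H ≤ C →
      H = ((powMonoidHom (Nat.card H) : C →* C).ker).map C.subtype := fun H hH => by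
    refine eq_of_le_of_card_ge (fun x hx => ⟨⟨x, hH hx⟩, Subtype.ext ?_, rfl⟩) ?_
    · change x ^ Nat.card H = 1
      exact congrArg Subtype.val (pow_card_eq_one' (x := (⟨x, hx⟩ : H)))
    · rw [card_map_of_injective C.subtype_injective, IsCyclic.card_powMonoidHom_ker]
      exact Nat.gcd_le_right _ Nat.card_pos
  rw [key H hH, key K hK, h]

theorem exists_le_card {G : Type*} [Group G] [Finite G] {p n : ℕ} [Fact p.Prime] {H : Subgroup G}
    (h : p ^ n ∣ Nat.card H) : ∃ W ≤ H, Nat.card W = p ^ n := by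
  obtain ⟨W, hW⟩ := Sylow.exists_subgroup_card_pow_prime (G := H) p h
  exact ⟨W.map H.subtype, map_subtype_le W, by rw [card_map_of_injective H.subtype_injective, hW]⟩

theorem lift {G : Type*} [Group G] [Finite G] {p : ℕ} [Fact p.Prime] (V : Subgroup G) [V.Normal]
    {H : Subgroup (G ⧸ V)} (hH : IsPGroup p H) : ∃ R : Subgroup G, IsPGroup p R ∧
      R.map (QuotientGroup.mk' V) = H ∧
      Nat.card R = p ^ (Nat.card H * Nat.card V).factorization p := by
  obtain ⟨P⟩ : Nonempty (Sylow p (H.comap (QuotientGroup.mk' V))) := inferInstance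
  refine ⟨(P : Subgroup _).map (H.comap (QuotientGroup.mk' V)).subtype, P.isPGroup'.map _, ?_, ?_⟩
  · have hs : Function.Surjective ((QuotientGroup.mk' V).subgroupComap H) :=
      (QuotientGroup.mk' V).subgroupComap_surjective_of_surjective H
        (QuotientGroup.mk'_surjective V)
    have h1 : (P : Subgroup _).map ((QuotientGroup.mk' V).subgroupComap H) = ⊤ :=
      ((P.mapSurjective hs).is_maximal' (hH.to_subgroup ⊤) le_top).symm
    refine le_antisymm ?_ fun y hy => ?_
    · rintro _ ⟨_, ⟨x, -, rfl⟩, rfl⟩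
      exact x.2
    · obtain ⟨x, hx, e⟩ : (⟨y, hy⟩ : H) ∈ (P : Subgroup _).map
        ((QuotientGroup.mk' V).subgroupComap H) := h1 ▸ mem_top _
      exact ⟨x, ⟨x, hx, rfl⟩, congrArg Subtype.val e⟩
  · rw [card_map_of_injective (Subgroup.subtype_injective _), P.card_eq_multiplicity,
      card_comap_mk']

universe u in
theorem aux (G : Type u) [Group G] [Finite G] : Group.IsSolvable G →
    (∀ p : ℕ, p.Prime → ∀ H K : Subgroup G, IsPGroup p H → IsPGroup p K →
      Nat.card H = Nat.card K → ∃ g : G, K = MulAut.conj g • H) →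
    ∀ r : ℕ, (∀ p : ℕ, p.Prime → p ≠ r → ∀ P : Subgroup G, IsPGroup p P → IsCyclic P) →
    ∀ H K : Subgroup G, Nat.card H = Nat.card K → ∃ g : G, K = MulAut.conj g • H := by
  refine group_induction (P := fun G _ _ => Group.IsSolvable G →
    (∀ p : ℕ, p.Prime → ∀ H K : Subgroup G, IsPGroup p H → IsPGroup p K →
      Nat.card H = Nat.card K → ∃ g : G, K = MulAut.conj g • H) →
    ∀ r : ℕ, (∀ p : ℕ, p.Prime → p ≠ r → ∀ P : Subgroup G, IsPGroup p P → IsCyclic P) →
    ∀ H K : Subgroup G, Nat.card H = Nat.card K → ∃ g : G, K = MulAut.conj g • H) ?_ G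
  intro G _ _ ih hs hD r hcyc H K hHK
  rcases subsingleton_or_nontrivial G with h | h
  · exact ⟨1, Subsingleton.elim _ _⟩
  obtain ⟨V, hV⟩ := exists_isMinNormal (G := G)
  haveI := hV.1
  obtain ⟨p, hp, -, hVp⟩ := hV.exists_isElementaryAbelian
  haveI : Fact p.Prime := ⟨hp⟩
  obtain ⟨b, hb⟩ := hVp.exists_card_eq
  have hVc : ∀ g : G, MulAut.conj g • V = V := fun g =>
    conj_smul_eq_iff.mpr (by rw [normalizer_eq_top]; trivial)
  have hq : ∀ H K : Subgroup G, Nat.card H = Nat.card K →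
      Nat.card (V ⊓ H : Subgroup G) = Nat.card (V ⊓ K : Subgroup G) →
      ∃ g : G, K ⊔ V = MulAut.conj g • H ⊔ V := by
    intro H K h1 h2
    obtain ⟨g, hg⟩ := ih (G ⧸ V) (card_quotient_lt hV.2.1) inferInstance (fun q hq A B hA hB hAB => by
        haveI : Fact q.Prime := ⟨hq⟩
        obtain ⟨A, hA1, rfl, hA2⟩ := lift V hA
        obtain ⟨B, hB1, rfl, hB2⟩ := lift V hB
        obtain ⟨g, rfl⟩ := hD q hq A B hA1 hB1 (by rw [hA2, hB2, hAB])
        exact ⟨_, map_conj_smul _ _ _⟩) r (fun q hq hr A hA => by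
        haveI : Fact q.Prime := ⟨hq⟩
        obtain ⟨A, hA1, rfl, -⟩ := lift V hA
        haveI := hcyc q hq hr A hA1
        exact isCyclic_of_surjective _ ((QuotientGroup.mk' V).subgroupMap_surjective A))
      (H.map (QuotientGroup.mk' V)) (K.map (QuotientGroup.mk' V)) (by
        apply Nat.eq_of_mul_eq_mul_right (Nat.card_pos (α := (V ⊓ H : Subgroup G)))
        rw [card_map_mk'_mul, h2, card_map_mk'_mul, h1])
    obtain ⟨g, rfl⟩ := QuotientGroup.mk'_surjective V g
    exact ⟨g, by rw [← comap_map_mk', hg, ← map_conj_smul, comap_map_mk']⟩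
  by_cases hdvd : p ^ b ∣ Nat.card H
  · have key : ∀ H : Subgroup G, p ^ b ∣ Nat.card H → V ≤ H := fun H h => by
      obtain ⟨W, hW, hc⟩ := exists_le_card h
      obtain ⟨g, hg⟩ := hD p hp V W hVp (IsPGroup.of_card hc) (hb.trans hc.symm)
      rwa [hg, hVc] at hW
    have h1 := key H hdvd
    have h2 := key K (hHK ▸ hdvd)
    obtain ⟨g, hg⟩ := hq H K hHK (by rw [inf_eq_left.mpr h1, inf_eq_left.mpr h2])
    refine ⟨g, ?_⟩
    rwa [sup_eq_left.mpr h2, sup_eq_left.mpr
      (hVc g ▸ pointwise_smul_le_pointwise_smul_iff.mpr h1)] at hg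
  have key : ∀ H : Subgroup G, ¬ p ^ b ∣ Nat.card H →
      Nat.card (V ⊓ H : Subgroup G) = p ^ (Nat.card H).factorization p := fun H h => by
    obtain ⟨S, hS, hc⟩ := exists_le_card (Nat.ordProj_dvd (Nat.card H) p)
    obtain ⟨W, hW, hc'⟩ := exists_le_card (p := p) (n := (Nat.card H).factorization p) (H := V) (by
      rw [hb]
      refine pow_dvd_pow _ (le_of_not_ge fun h' => h ?_)
      exact (hp.pow_dvd_iff_le_factorization Nat.card_pos.ne').mpr h')
    obtain ⟨g, hg⟩ := hD p hp W S (IsPGroup.of_card hc') (IsPGroup.of_card hc) (hc'.trans hc.symm)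
    have h1 : S ≤ V := hg ▸ hVc g ▸ pointwise_smul_le_pointwise_smul_iff.mpr hW
    refine Nat.dvd_antisymm ?_ (hc ▸ card_dvd_of_le (le_inf h1 hS))
    obtain ⟨k, hk⟩ := (hVp.to_le (inf_le_left (b := H))).exists_card_eq
    rw [hk]
    refine pow_dvd_pow _ ((hp.pow_dvd_iff_le_factorization Nat.card_pos.ne').mp ?_)
    exact hk ▸ card_dvd_of_le inf_le_right
  -- complements
  have hall : ∀ H : Subgroup G, ¬ p ^ b ∣ Nat.card H → ∃ L, L ⊔ V ⊓ H = H ∧
      IsPiHallOf {p}ᶜ L (H ⊔ V) := fun H h => by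
    have a1 : IsPiHallOf {p} (V ⊓ H) H := by
      refine isPiHallOf_iff.mpr ⟨inf_le_right,
        isPGroup_iff_piNum_singleton.mp (hVp.to_le inf_le_left), fun q hq hd e => ?_⟩
      rw [Set.mem_singleton_iff.mp e] at hd
      have a2 := card_mul_relIndex (inf_le_right : V ⊓ H ≤ H)
      rw [key H h] at a2
      refine Nat.pow_succ_factorization_not_dvd (Nat.card_pos (α := H)).ne' hp ?_
      conv_rhs => rw [← a2]
      exact Nat.mul_dvd_mul_left _ hd
    obtain ⟨L, h1, -, h3⟩ := exists_complement_of_isPiHallOf a1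
      ((le_inf (le_top.trans (normalizer_eq_top _).ge) le_normalizer).trans
        inf_normalizer_le_normalizer_inf)
    refine ⟨L, (sup_comm _ _).trans h3, isPiHallOf_trans h1 le_sup_left ?_⟩
    rw [compl_compl, relIndex_sup_eq_relIndex_of_le_normalizer le_normalizer_of_normal]
    exact (isPGroup_iff_piNum_singleton.mp hVp).of_dvd (relIndex_dvd_card _ _)
  obtain ⟨g, hg⟩ := hq H K hHK (by rw [key H hdvd, key K (hHK ▸ hdvd), hHK])
  obtain ⟨L, hL1, hL2⟩ := hall (MulAut.conj g • H) (by rwa [card_smul])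
  obtain ⟨M, hM1, hM2⟩ := hall K (hHK ▸ hdvd)
  rw [← hg] at hL2
  obtain ⟨x, -, hx⟩ := isPiHallOf_conj hL2 hM2
  have hH' : MulAut.conj (x * g) • H = M ⊔ V ⊓ MulAut.conj (x * g) • H := by
    rw [← conj_smul_conj_smul]
    conv_lhs => rw [← hL1, smul_sup, smul_inf, hx, hVc]
  suffices h : ∀ H' : Subgroup G, Nat.card H' = Nat.card H → H' = M ⊔ V ⊓ H' →
      ∃ g : G, K = MulAut.conj g • H' by
    obtain ⟨y, hy⟩ := h _ (card_smul _ _) hH'
    exact ⟨_, by rw [hy, conj_smul_conj_smul]⟩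
  clear hH' hx hL1 hL2 hg
  intro H' hc hH'
  have hAB : Nat.card (V ⊓ H' : Subgroup G) = Nat.card (V ⊓ K : Subgroup G) := by
    rw [key H' (hc ▸ hdvd), key K (hHK ▸ hdvd), hc, hHK]
  by_cases hpr : p = r
  swap
  · haveI := hcyc p hp hpr V hVp
    exact ⟨1, by rw [map_one, one_smul, hH', cyc_eq inf_le_left inf_le_left hAB, hM1]⟩
  subst hpr
  obtain ⟨y, hy⟩ := hD p hp _ _ (hVp.to_le inf_le_left) (hVp.to_le inf_le_left) hAB
  have hn : ∀ H : Subgroup G, M ≤ H → M ≤ normalizer ((V ⊓ H : Subgroup G) : Set G) := fun H h =>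
    (le_inf (le_top.trans (normalizer_eq_top _).ge) (h.trans le_normalizer)).trans
      inf_normalizer_le_normalizer_inf
  have hMp : PiNum {p}ᶜ (Nat.card M) := (isPiHallOf_iff.mp hM2).2.1
  obtain ⟨D, hD1, hMD⟩ := exists_isPiHallOf_ge (hn K (hM1 ▸ le_sup_left)) hMp
  obtain ⟨n, hn1, hn2⟩ := exists_conj_le_isPiHallOf hD1 (K := MulAut.conj y • M) (by
    rw [hy, normalizer_conj_smul]
    exact pointwise_smul_le_pointwise_smul_iff.mpr (hn H' (hH' ▸ le_sup_left)))
    (by rwa [card_smul])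
  have hDp : ¬ p ∣ Nat.card D := fun h => (isPiHallOf_iff.mp hD1).2.1 p hp h rfl
  have hDc : ∀ q : ℕ, q.Prime → ∀ P : Subgroup D, IsPGroup q P → IsCyclic P := by
    intro q hq P hP
    by_cases hqp : q = p
    · subst hqp
      obtain ⟨k, hk⟩ := hP.exists_card_eq
      rcases k with _ | k
      · haveI := (Nat.card_eq_one_iff_unique.mp hk).1
        infer_instance
      · exact absurd ((Dvd.intro_left _ (pow_succ _ _).symm).trans
          (hk ▸ card_subgroup_dvd_card P)) hDp
    · haveI := hcyc q hq hqp _ (hP.map D.subtype)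
      exact isCyclic_of_surjective _ (P.equivMapOfInjective _ D.subtype_injective).symm.surjective
  obtain ⟨d, hd⟩ := ih D (card_lt_of_ne_top (by
      rintro rfl
      apply hDp
      rw [card_top]
      refine dvd_trans ?_ (card_subgroup_dvd_card V)
      rw [hb]
      exact dvd_pow_self _ (by rintro rfl; simp at hdvd))) inferInstance
    (fun q hq A B hA hB hAB => by
      haveI : Fact q.Prime := ⟨hq⟩
      obtain ⟨P, hP⟩ := hA.exists_le_sylow
      obtain ⟨Q, hQ⟩ := hB.exists_le_sylow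
      obtain ⟨g, rfl⟩ := MulAction.exists_smul_eq D P Q
      haveI := hDc q hq _ (g • P).isPGroup'
      exact ⟨g, cyc_eq hQ (pointwise_smul_le_pointwise_smul_iff.mpr hP) (by rw [card_smul, hAB])⟩)
    p (fun q hq _ => hDc q hq) ((MulAut.conj n • MulAut.conj y • M).subgroupOf D) (M.subgroupOf D)
    (by rw [card_subgroupOf_of_le hn2, card_subgroupOf_of_le hMD, card_smul, card_smul])
  have hd' := congrArg (Subgroup.map D.subtype) hd
  rw [map_conj_smul, map_subgroupOf_eq_of_le hn2, map_subgroupOf_eq_of_le hMD] at hd'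
  refine ⟨d * (n * y), ?_⟩
  rw [hH', ← conj_smul_conj_smul, ← conj_smul_conj_smul, smul_sup, smul_sup, smul_sup, ← hy,
    conj_smul_eq_iff.mpr hn1, conj_smul_eq_iff.mpr (hD1.1 d.2)]
  exact hM1.symm.trans (congrArg (· ⊔ V ⊓ K) hd')

/-- Let G be a finite solvable group in which, for every prime p, any two p-subgroups of the same order are conjugate, and suppose the Sylow p-subgroups of G are cyclic for all primes p with at most one exception. Then any two subgroups of G of the same order are conjugate. -/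
theorem result {G : Type*} [Group G] [Finite G]
    [Group.IsSolvable G] (hD : ∀ p : ℕ, p.Prime → ∀ H K : Subgroup G, IsPGroup p H → IsPGroup p K → Nat.card H = Nat.card K →
      ∃ g : G, K = H.map (MulAut.conj g).toMonoidHom)
    (r : ℕ) (hcyc : ∀ p : ℕ, p.Prime → p ≠ r → ∀ P : Sylow p G, IsCyclic P) :
    ∀ H K : Subgroup G, Nat.card H = Nat.card K → ∃ g : G, K = H.map (MulAut.conj g).toMonoidHom := by
  simp only [← conj_smul_eq_map] at hD ⊢
  refine aux G inferInstance hD r fun p hp hr P hP => ?_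
  haveI : Fact p.Prime := ⟨hp⟩
  obtain ⟨Q, hQ⟩ := hP.exists_le_sylow
  haveI := hcyc p hp hr Q
  exact isCyclic_of_le hQ

end Cfsg.Agent.S4022
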