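import Mathlib
import Cfsg.Statements.S4172
import Cfsg.Agent.S4022
import Cfsg.Agent.Transfer.Tate
import Cfsg.Agent.Sig.FStar
import Cfsg.Agent.Coprime.Basic
import Cfsg.Agent.Solv.FrattiniP

set_option autoImplicit false
open Cfsg

namespace Cfsg.Agent.S4172

open Subgroup CF.Solv CF.Transfer
open scoped Pointwise commutatorElement

section
variable {G : Type*} [Group G] [Finite G] {p : ℕ} [hp : Fact p.Prime]

theorem tate_rel (P : Sylow p G) {X : Subgroup G} (hn : (P : Subgroup G) ≤ normalizer (X : Set G))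
    (h : (P : Subgroup G) ⊓ X ≤ (frattini P).map (P : Subgroup G).subtype) :
    HasNormalPComplement p X := by
  let H := (P : Subgroup G) ⊔ X
  have hPH : (P : Subgroup G) ≤ H := le_sup_left
  refine HasNPC.of_le (K := H) (hasNPC_of_inf_pResidual_le_frattini (P.subtype hPH) ?_) le_sup_right
  rw [← map_le_map_iff_of_injective H.subtype_injective]
  have e1 : ((frattini (P.subtype hPH : Subgroup H)).map (P.subtype hPH : Subgroup H).subtype).map
      H.subtype = (frattini P).map (P : Subgroup G).subtype := by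
    rw [← frattini_map_equiv (subgroupOfEquivOfLe hPH), map_map, map_map]
    rfl
  rw [e1]
  refine le_trans ?_ h
  have h2 : pRes p H ≤ X := by
    obtain ⟨k, hk⟩ := P.isPGroup'.exists_card_eq
    have h3 := card_sup_mul_card_inf_of_le_normalizer hn
    rw [← CF.Solv.card_mul_relIndex (le_sup_right : X ≤ H), mul_assoc, mul_comm _ (Nat.card X),
      hk] at h3
    obtain ⟨j, -, hj⟩ := (Nat.dvd_prime_pow hp.out).mp
      (Dvd.intro _ (Nat.eq_of_mul_eq_mul_left Nat.card_pos h3))
    exact pRes_le_of_relIndex (sup_le hn le_normalizer) hj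
  rintro _ ⟨y, hy, rfl⟩
  exact ⟨hy.1, h2 (map_pResidual_subtype (p := p) H ▸ ⟨y, hy.2, rfl⟩)⟩

theorem exists_gen (P : Sylow p G) (hgen : (frattini ↥(P : Subgroup G)).index = p ^ 2)
    {X : Subgroup G} (h : ¬ (P : Subgroup G) ⊓ X ≤ (frattini P).map (P : Subgroup G).subtype) :
    ∃ x ∈ (P : Subgroup G), (P : Subgroup G) ⊓ X ⊔ zpowers x = P := by
  let Q := X.subgroupOf P ⊔ frattini P
  have hlt : frattini P < Q := lt_of_le_of_ne le_sup_right fun e => h fun y hy =>
    ⟨⟨y, hy.1⟩, e.ge (mem_sup_left hy.2), rfl⟩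
  haveI : Q.Normal := Normal.of_commutator_le _
    ((commutator_le_frattini_of_isPGroup P.isPGroup').trans le_sup_right)
  have hc : IsCyclic ((P : Subgroup G) ⧸ Q) := by
    have h1 : Q.index ∣ p ^ 2 := hgen ▸ index_dvd_of_le hlt.le
    have h2 : Q.index < p ^ 2 := hgen ▸ index_strictAnti hlt
    obtain ⟨j, hj, e⟩ := (Nat.dvd_prime_pow hp.out).mp h1
    rw [e, Nat.pow_lt_pow_iff_right hp.out.one_lt] at h2
    refine isCyclic_of_card_dvd_prime (p := p) ?_
    change Q.index ∣ p
    rw [e]
    interval_cases j <;> simp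
  obtain ⟨y, hy⟩ := hc.exists_generator
  obtain ⟨x, rfl⟩ := QuotientGroup.mk'_surjective Q y
  refine ⟨x, x.2, eq_of_sup_map_frattini_eq le_rfl (le_antisymm
    (sup_le (sup_le inf_le_left (zpowers_le.mpr x.2)) (map_subtype_le _)) fun g hg => ?_)⟩
  obtain ⟨k, hk⟩ := hy (QuotientGroup.mk' Q ⟨g, hg⟩)
  have h1 : (x ^ k)⁻¹ * ⟨g, hg⟩ ∈ Q := by
    rw [← QuotientGroup.eq, QuotientGroup.mk_zpow]; exact hk
  have h2 : Q.map (P : Subgroup G).subtype ≤
      (P : Subgroup G) ⊓ X ⊔ zpowers (x : G) ⊔ (frattini P).map (P : Subgroup G).subtype := by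
    rw [Subgroup.map_sup, subgroupOf_map_subtype, inf_comm]
    exact sup_le_sup_right le_sup_left _
  have h3 := mul_mem (mem_sup_left (mem_sup_right (zpow_mem (mem_zpowers (x : G)) k)))
    (h2 ⟨_, h1, rfl⟩)
  simpa using h3

theorem comm_le (P : Sylow p G) (hgen : (frattini ↥(P : Subgroup G)).index = p ^ 2)
    {X : Subgroup G} (hn : (P : Subgroup G) ≤ normalizer (X : Set G))
    (h : ¬ (P : Subgroup G) ⊓ X ≤ (frattini P).map (P : Subgroup G).subtype) :
    ⁅(P : Subgroup G), (P : Subgroup G)⁆ ≤ X := by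
  obtain ⟨x, hx, e⟩ := exists_gen P hgen h
  have hn' : (P : Subgroup G) ≤ normalizer (((P : Subgroup G) ⊓ X : Subgroup G) : Set G) :=
    (le_inf le_normalizer hn).trans inf_normalizer_le_normalizer_inf
  have key : ∀ g ∈ (P : Subgroup G), ∃ k : ℤ, ∃ a ∈ X, x ^ k * a = g := fun g hg => by
    rw [← e, sup_comm, mem_sup_of_le_normalizer ((zpowers_le.mpr hx).trans hn')] at hg
    obtain ⟨_, ⟨k, rfl⟩, a, ha, h⟩ := hg
    exact ⟨k, a, ha.2, h⟩
  rw [commutator_le]
  intro g hg g' hg'
  obtain ⟨k, a, ha, rfl⟩ := key g hg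
  obtain ⟨l, b, hb, rfl⟩ := key g' hg'
  have c : ∀ j : ℤ, ∀ a ∈ X, x ^ j * a * (x ^ j)⁻¹ ∈ X := fun j a ha =>
    conj_mem_of_mem_normalizer (hn (zpow_mem hx j)) ha
  have : ⁅x ^ k * a, x ^ l * b⁆ = (x ^ k * a * (x ^ k)⁻¹) * (x ^ (k + l) * b * (x ^ (k + l))⁻¹) *
      (x ^ (k + l) * a⁻¹ * (x ^ (k + l))⁻¹) * (x ^ l * b⁻¹ * (x ^ l)⁻¹) := by
    rw [commutatorElement_def]; group
  rw [this]
  exact mul_mem (mul_mem (mul_mem (c _ _ ha) (c _ _ hb)) (c _ _ (inv_mem ha))) (c _ _ (inv_mem hb))

theorem not_le_frattini (P : Sylow p G) (hcore : pPrimeCore p G = ⊥)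
    (hfrat : ((frattini ↥(P : Subgroup G)).map (P : Subgroup G).subtype).normalCore = ⊥)
    (K : Subgroup G) [K.Normal] (hK : K ≠ ⊥) :
    ¬ (P : Subgroup G) ⊓ K ≤ (frattini P).map (P : Subgroup G).subtype := fun h => by
  have h1 := hasNPC_subgroup_iff_coprime.mp (tate_rel P le_normalizer_of_normal h)
  have h2 := pRes_eq_bot_iff.mp (eq_bot_iff.mpr (hcore ▸ le_pPrimeCore h1))
  rw [inf_eq_right.mpr (h2.le_sylow_of_normal P)] at h
  exact hK (eq_bot_iff.mpr (hfrat ▸ normal_le_normalCore.mpr h))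

theorem comm_ne_bot {P : Subgroup G} (hna : ¬ IsMulCommutative P) : ⁅P, P⁆ ≠ ⊥ := fun h =>
  hna (le_centralizer_iff_isMulCommutative.mp (commutator_eq_bot_iff_le_centralizer.mp h))

theorem abelian_case (P : Sylow p G) (hna : ¬ IsMulCommutative (P : Subgroup G))
    (hgen : (frattini ↥(P : Subgroup G)).index = p ^ 2) (hcore : pPrimeCore p G = ⊥)
    (hfrat : ((frattini ↥(P : Subgroup G)).map (P : Subgroup G).subtype).normalCore = ⊥)
    (hQ : pCore p G ≠ ⊥) : layer G = ⊥ ∧ pCore p G ≤ centralizer (pCore p G : Set G) ∧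
      ∀ K : Subgroup G, K.Normal → K ≠ ⊥ → pCore p G ≤ K := by
  have hc : ∀ K : Subgroup G, K.Normal → K ≠ ⊥ → ⁅(P : Subgroup G), (P : Subgroup G)⁆ ≤ K :=
    fun K _ hK => comm_le P hgen le_normalizer_of_normal (not_le_frattini P hcore hfrat K hK)
  have hQP : pCore p G ≤ P := pCore_le_sylow P
  have hE : layer G = ⊥ := by
    by_contra hE
    have h1 : layer G ⊓ pCore p G ≠ ⊥ := fun e =>
      comm_ne_bot hna (eq_bot_iff.mpr (e ▸ le_inf (hc _ inferInstance hE) (hc _ inferInstance hQ)))
    refine not_le_frattini P hcore hfrat _ h1 fun y hy => commutator_le_map_frattini P.isPGroup' ?_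
    obtain ⟨S, hS⟩ := ((CF.Coprime.isSylowOf_top P).inf_of_normal le_top
      (le_normalizer_of_normal (H := layer G))).exists_sylow
    have h2 := sylow_inf_center_inf_commutator_le S (x := ⟨y, hy.2.1⟩) ⟨⟨?_, ?_⟩, ?_⟩
    · have h3 := mem_map_of_mem (layer G).subtype h2
      rw [map_commutator, hS] at h3
      exact commutator_mono inf_le_left inf_le_left h3
    · obtain ⟨z, hz, e⟩ : y ∈ (S : Subgroup (layer G)).map (layer G).subtype :=
        hS ▸ ⟨hy.1, hy.2.1⟩
      exact (Subtype.ext e : z = ⟨y, hy.2.1⟩) ▸ hz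
    · have h3 : y ∈ (_root_.commutator (layer G)).map (layer G).subtype := by
        rw [map_subtype_commutator, CF.Sig.layer_perfect]; exact hy.2.1
      obtain ⟨z, hz, e⟩ := h3
      exact (Subtype.ext e : z = ⟨y, hy.2.1⟩) ▸ hz
    · exact mem_center_iff.mpr fun z => Subtype.ext
        (CF.Sig.layer_le_centralizer_pCore (p := p) z.2 y hy.2.2).symm
  have hab : pCore p G ≤ centralizer (pCore p G : Set G) := by
    rw [← commutator_eq_bot_iff_le_centralizer, eq_bot_iff, ← hfrat, normal_le_normalCore]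
    exact (commutator_mono hQP hQP).trans (commutator_le_map_frattini P.isPGroup')
  have hcent : centralizer (pCore p G : Set G) ≤ pCore p G :=
    CF.Sig.fstar_eq_pCore_iff.mp (CF.Sig.fstar_eq_pCore_iff'.mpr ⟨hE, hcore⟩)
  refine ⟨hE, hab, fun K hKn hK => ?_⟩
  obtain ⟨D, hD, hDK⟩ := exists_isMinNormal_le K hK
  haveI := hD.1
  have hmin : ∀ L : Subgroup G, L.Normal → L ≠ ⊥ → D ≤ L := fun L _ hL =>
    (hD.le_or_inf_eq_bot L).resolve_right fun e => comm_ne_bot hna
      (eq_bot_iff.mpr (e ▸ le_inf (hc _ inferInstance hD.2.1) (hc _ inferInstance hL)))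
  refine le_trans ?_ hDK
  by_contra hQD
  have hDQ := hmin _ inferInstance hQ
  let f := QuotientGroup.mk' D
  have hf : Function.Surjective f := QuotientGroup.mk'_surjective D
  haveI : ((pCore p G).map f).Normal := Normal.map inferInstance f hf
  let N := centralizer ((pCore p G).map f : Set (G ⧸ D))
  haveI hcyc : IsCyclic (P.mapSurjective hf : Subgroup (G ⧸ D)) := by
    obtain ⟨x, hx, e⟩ := exists_gen P hgen (not_le_frattini P hcore hfrat D hD.2.1)
    rw [Sylow.coe_mapSurjective, ← e, Subgroup.map_sup, (map_mk'_eq_bot_iff D _).mpr inf_le_right,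
      bot_sup_eq, MonoidHom.map_zpowers]
    infer_instance
  have hQP' : (pCore p G).map f ≤ P.mapSurjective hf := map_mono hQP
  have hPN : (P.mapSurjective hf : Subgroup (G ⧸ D)) ≤ N :=
    (le_centralizer_iff_isMulCommutative.mpr inferInstance).trans (centralizer_le hQP')
  have hnpc : HasNormalPComplement p N := by
    refine hasNPC_of_inf_commutator_le ((P.mapSurjective hf).subtype hPN) fun y hy => ?_
    by_contra hy1
    have a1 : p ^ 1 ∣ Nat.card (zpowers (y : G ⧸ D)) := by
      rw [pow_one]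
      refine (((P.mapSurjective hf).isPGroup'.to_le (zpowers_le.mpr hy.1)).card_eq_or_dvd).resolve_left
        fun e => hy1 ?_
      rw [Nat.card_zpowers, orderOf_eq_one_iff] at e
      rw [show y = 1 from Subtype.ext e]; exact one_mem _
    have a2 : p ^ 1 ∣ Nat.card ((pCore p G).map f) := by
      rw [pow_one]
      refine ((pCore_isPGroup.map f).card_eq_or_dvd).resolve_left fun e => hQD ?_
      exact (map_mk'_eq_bot_iff D _).mp (card_eq_one.mp e)
    obtain ⟨A, hA, hA'⟩ := Cfsg.Agent.S4022.exists_le_card a1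
    obtain ⟨B, hB, hB'⟩ := Cfsg.Agent.S4022.exists_le_card a2
    have e := Cfsg.Agent.S4022.cyc_eq (hA.trans (zpowers_le.mpr hy.1)) (hB.trans hQP')
      (hA'.trans hB'.symm)
    subst e
    have a3 : A = ⊥ := by
      rw [eq_bot_iff]
      intro z hz
      obtain ⟨k, rfl⟩ := hA hz
      have b1 := sylow_inf_center_inf_commutator_le ((P.mapSurjective hf).subtype hPN) (x := y ^ k)
        ⟨zpow_mem hy k, mem_center_iff.mpr fun w => Subtype.ext (w.2 _ (hB hz)).symm⟩
      have b2 := mem_map_of_mem N.subtype b1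
      rw [map_commutator, Sylow.coe_subtype, map_subgroupOf_eq_of_le hPN,
        commutator_eq_bot_iff_le_centralizer.mpr
          (le_centralizer_iff_isMulCommutative.mpr inferInstance)] at b2
      exact b2
    rw [a3, card_bot, pow_one] at hA'
    exact hp.out.ne_one hA'.symm
  have hR := hasNPC_subgroup_iff_coprime.mp hnpc
  let R := (pRes p N).comap f
  haveI : R.Normal := Normal.comap inferInstance f
  have hDp : IsPGroup p D := pCore_isPGroup.to_le hDQ
  obtain ⟨k, hk⟩ := hDp.exists_card_eq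
  have hidx : D.relIndex R = Nat.card (pRes p N) := by
    rw [← card_map_mk', map_comap_mk']
  obtain ⟨T, hTR, -, hDT, hT⟩ := exists_complement_of_coprime (le_comap_mk' D (pRes p N))
    le_normalizer_of_normal (by rw [hidx, hk]; exact Nat.Coprime.pow_left _ hR.symm)
  rw [hidx] at hT
  have hcop : ∀ X : Subgroup G, IsPGroup p X → (Nat.card T).Coprime (Nat.card X) := fun X hX => by
    obtain ⟨j, hj⟩ := hX.exists_card_eq
    rw [hT, hj]; exact Nat.Coprime.pow_right _ hR
  have hQT : ⁅pCore p G, T⁆ ≤ D := by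
    rw [← map_mk'_eq_bot_iff, map_commutator, commutator_comm, commutator_eq_bot_iff_le_centralizer]
    exact (map_le_iff_le_comap.mpr hTR).trans (pRes_le N)
  have h1 := CF.Coprime.sup_centralizer_eq_of_commutator_le T (pCore p G) D hDQ
    le_normalizer_of_normal (hcop D hDp) (Or.inr (by haveI := hDp.isNilpotent; infer_instance)) hQT
  have h2 : pCore p G ⊓ centralizer (T : Set G) = pCore p G ⊓ centralizer (R : Set G) := by
    refine le_antisymm (le_inf inf_le_left ?_) (inf_le_inf_left _ (centralizer_le hTR))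
    change _ ≤ centralizer (((pRes p N).comap f : Subgroup G) : Set G)
    rw [← hDT, CF.Sig.centralizer_sup]
    exact le_inf (inf_le_left.trans (hab.trans (centralizer_le hDQ))) inf_le_right
  have h3 : D ≤ centralizer (T : Set G) := (hmin _ (by rw [h2]; infer_instance) fun e => hQD (by
    rw [e, sup_bot_eq] at h1; exact h1.ge)).trans inf_le_right
  have h4 := (CF.Coprime.le_centralizer_of_stable T (pCore p G) D (hcop D hDp) hQT h3).trans hcent
  have h5 : Nat.card T = 1 :=
    Nat.Coprime.eq_one_of_dvd (hcop _ pCore_isPGroup) (card_dvd_of_le h4)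
  rw [h5] at hT
  have h6 : IsPGroup p (N.comap f) :=
    (pRes_eq_bot_iff.mp (card_eq_one.mp hT.symm)).comap_of_ker_isPGroup f
      (by rwa [QuotientGroup.ker_mk'])
  have h7 : (P : Subgroup G) ≤ pCore p G :=
    (map_le_iff_le_comap.mp hPN).trans (le_pCore h6)
  exact hna (le_centralizer_iff_isMulCommutative.mp (h7.trans (hab.trans (centralizer_le h7))))

theorem trans_comp (P : Sylow p G) (hna : ¬ IsMulCommutative (P : Subgroup G))
    (hgen : (frattini ↥(P : Subgroup G)).index = p ^ 2) (hcore : pPrimeCore p G = ⊥)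
    (hF : fittingSubgroup G = ⊥) (K L : Subgroup G) (hK : IsComponent K) (hL : IsComponent L) :
    ∃ x ∈ (P : Subgroup G), L = K.map (MulAut.conj x).toMonoidHom := by
  by_contra hcon
  let q : Subgroup G → Prop := fun L => ∃ x ∈ (P : Subgroup G), L = MulAut.conj x • K
  have hq : ∀ x ∈ (P : Subgroup G), ∀ L, q (MulAut.conj x • L) ↔ q L := by
    have : ∀ x ∈ (P : Subgroup G), ∀ L, q L → q (MulAut.conj x • L) := by
      rintro x hx _ ⟨y, hy, rfl⟩
      exact ⟨x * y, mul_mem hx hy, conj_smul_conj_smul _ _ _⟩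
    exact fun x hx L => ⟨fun h => by simpa using this x⁻¹ (inv_mem hx) _ h, this x hx L⟩
  have key : ∀ r : Subgroup G → Prop, (∀ x ∈ (P : Subgroup G), ∀ L, r L → r (MulAut.conj x • L)) →
      ∀ M, IsComponent M → r M →
      ⁅(P : Subgroup G), (P : Subgroup G)⁆ ≤ sSup {K | IsComponent K ∧ r K} := by
    intro r hr M hM hM'
    have hn : (P : Subgroup G) ≤
        normalizer ((sSup {K | IsComponent K ∧ r K} : Subgroup G) : Set G) := fun x hx => by
      apply mem_normalizer_of_conj_smul_le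
      rw [pointwise_smul_subset_iff]
      refine sSup_le fun D hD => ?_
      rw [← pointwise_smul_subset_iff]
      exact le_sSup ⟨conj_smul_eq_map D x ▸ CF.Sig.comp_map_conj hD.1 x, hr x hx D hD.2⟩
    refine comm_le P hgen hn fun h => ?_
    have h1 := hasNPC_subgroup_iff_coprime.mp (HasNPC.of_le (H := M) (tate_rel P hn h) (le_sSup ⟨hM, hM'⟩))
    have h2 : pRes p M = M := by
      rcases CF.Sig.qs_eq_or_le_centralizer hM.2 (pRes_le (p := p) M) (le_normalizer_pRes M) with h | h
      · exact h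
      · exfalso
        haveI : Group.IsNilpotent (M ⧸ center M) := (isPGroup_quotient_of_pResidual_le (p := p)
          (by rw [← pRes_subgroupOf]; exact (CF.Sig.subgroupOf_le_center_iff (pRes_le M)).mpr h)).isNilpotent
        haveI := Subgroup.isNilpotent_of_ker_le_center (QuotientGroup.mk' (center M))
          (by rw [QuotientGroup.ker_mk'])
        exact CF.Sig.qs_not_isSolvable hM.2 inferInstance
    rw [h2] at h1
    exact CF.Sig.comp_ne_bot hM (eq_bot_iff.mpr (hcore ▸ le_pPrimeCore_of_isSubnormal hM.1 h1))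
  have h1 := key q (fun x hx L => (hq x hx L).mpr) K hK ⟨1, one_mem _, by simp⟩
  have h2 := key (fun L => ¬ q L) (fun x hx L h => mt (hq x hx L).mp h) L hL (by
    simpa only [q, conj_smul_eq_map] using hcon)
  have h3 := commutator_eq_bot_iff_le_centralizer.mp (CF.Sig.commutator_sSup_comp_eq_bot
    (S := {K | IsComponent K ∧ q K}) (T := {K | IsComponent K ∧ ¬ q K}) (fun _ h => h.1)
    (fun _ h => h.1) fun _ h h' => h'.2 h.2)
  refine comm_ne_bot hna (eq_bot_iff.mpr ?_)
  have h4 := CF.Sig.center_layer_eq (G := G)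
  rw [hF, bot_inf_eq] at h4
  rw [← h4, CF.Sig.layer_eq_sSup_sup_sSup q, CF.Sig.centralizer_sup]
  exact le_inf (h1.trans le_sup_left) (le_inf (h2.trans (le_centralizer_iff.mp h3)) (h1.trans h3))

end

/-- Let p be a prime and G a finite group with a non-commutative Sylow p-subgroup P whose Frattini subgroup has index p² in P (P is generated by two elements). Suppose G has no nontrivial normal subgroup of order prime to p and the Frattini subgroup of P contains no nontrivial normal subgroup of G. Then the generalized Fitting subgroup F*(G) is the unique minimal normal subgroup of G, the image of P in G/F*(G) is cyclic, and if F*(G) is not commutative then P permutes the components of G transitively by conjugation. -/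
theorem result {G : Type*} [Group G] [Finite G] (p : ℕ) [Fact p.Prime] (P : Sylow p G) (hna : ¬ IsMulCommutative (P : Subgroup G)) (hgen : (frattini ↥(P : Subgroup G)).index = p ^ 2) (hcore : Cfsg.pPrimeCore p G = ⊥) (hfrat : ((frattini ↥(P : Subgroup G)).map (P : Subgroup G).subtype).normalCore = ⊥) [hFn : (Cfsg.generalizedFittingSubgroup G).Normal] :
    (Cfsg.generalizedFittingSubgroup G ≠ ⊥ ∧ ∀ K : Subgroup G, K.Normal → K ≠ ⊥ → Cfsg.generalizedFittingSubgroup G ≤ K) ∧
      IsCyclic ↥((P : Subgroup G).map (QuotientGroup.mk' (Cfsg.generalizedFittingSubgroup G))) ∧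
      (¬ IsMulCommutative (Cfsg.generalizedFittingSubgroup G) → ∀ K L : Subgroup G, Cfsg.IsComponent K → Cfsg.IsComponent L → ∃ x ∈ (P : Subgroup G), L = K.map (MulAut.conj x).toMonoidHom) := by
  haveI : Nontrivial G := by
    by_contra h
    haveI := not_nontrivial_iff_subsingleton.mp h
    exact hna ⟨⟨fun a b => Subsingleton.elim _ _⟩⟩
  have hne : generalizedFittingSubgroup G ≠ ⊥ := CF.Sig.fstar_ne_bot
  have hcyc : IsCyclic ↥((P : Subgroup G).map (QuotientGroup.mk' (generalizedFittingSubgroup G))) := by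
    obtain ⟨x, hx, e⟩ := exists_gen P hgen (not_le_frattini P hcore hfrat _ hne)
    rw [← e, Subgroup.map_sup, (map_mk'_eq_bot_iff _ _).mpr inf_le_right,
      bot_sup_eq, MonoidHom.map_zpowers]
    infer_instance
  by_cases hQ : pCore p G = ⊥
  · have hF : fittingSubgroup G = ⊥ := (fitting_eq_pCore hcore).trans hQ
    refine ⟨⟨hne, fun K hKn hK => CF.Sig.fstar_le_iff.mpr ⟨CF.Sig.layer_le fun L hL => ?_,
      hF ▸ bot_le⟩⟩, hcyc, fun _ => trans_comp P hna hgen hcore hF⟩
    refine (CF.Sig.comp_le_or_commutator_eq_bot hL hKn.isSubnormal).resolve_right fun h => ?_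
    have h1 : centralizer (K : Set G) ≠ ⊥ := fun e => CF.Sig.comp_ne_bot hL
      (eq_bot_iff.mpr (e ▸ commutator_eq_bot_iff_le_centralizer.mp h))
    refine comm_ne_bot hna (eq_bot_iff.mpr (hF ▸ le_trans (le_inf ?_ ?_)
      (CF.Sig.center_le_fitting_of_subnormal hKn.isSubnormal)))
    · exact comm_le P hgen le_normalizer_of_normal (not_le_frattini P hcore hfrat K hK)
    · exact comm_le P hgen le_normalizer_of_normal (not_le_frattini P hcore hfrat _ h1)
  · obtain ⟨h1, h2, h3⟩ := abelian_case P hna hgen hcore hfrat hQ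
    have e := CF.Sig.fstar_eq_pCore_iff'.mpr ⟨h1, hcore⟩
    exact ⟨⟨hne, fun K hKn hK => e ▸ h3 K hKn hK⟩, hcyc,
      fun h => absurd (e ▸ le_centralizer_iff_isMulCommutative.mp h2) h⟩

end Cfsg.Agent.S4172
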