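import Cfsg.Statements.S2133
import Cfsg.Agent.Leech.M24c
import Cfsg.Agent.Bt.Xc.K0

set_option autoImplicit false
open Cfsg

set_option maxRecDepth 1000000

namespace Cfsg.Agent.S2133

open CF.Comp CF.Comp.Mat CF.Bt CF.Leech CF.Leech.M MulAction

noncomputable def M : MD := ⟨[[2, 4], [4, 1, 1, 3, 3, 2, 3, 3]], [(nat_lit 1), (nat_lit 2), (nat_lit 4), (nat_lit 8), (nat_lit 128), (nat_lit 256), (nat_lit 512), (nat_lit 2048), (nat_lit 4096), (nat_lit 8192), (nat_lit 32768), (nat_lit 65536), (nat_lit 131072), (nat_lit 262144), (nat_lit 524288), (nat_lit 8388608)], [(Net.cons (nat_lit 1) (nat_lit 272) (Net.cons (nat_lit 2) (nat_lit 12576) (Net.cons (nat_lit 4) (nat_lit 256) (Net.cons (nat_lit 8) (nat_lit 197) (Net.cons (nat_lit 4) (nat_lit 3085) (Net.cons (nat_lit 2) (nat_lit 4641) (Net.cons (nat_lit 1) (nat_lit 17493) Net.nil))))))), (Net.cons (nat_lit 1) (nat_lit 4112)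 (Net.cons (nat_lit 2) (nat_lit 4096) (Net.cons (nat_lit 4) (nat_lit 512) (Net.cons (nat_lit 8) (nat_lit 134) (Net.cons (nat_lit 4) (nat_lit 2314) (Net.cons (nat_lit 2) (nat_lit 8224) (Net.cons (nat_lit 1) (nat_lit 16709) Net.nil)))))))], [⟨0, [[1], [3]], 4⟩, ⟨1, [[1, 4, 1], [2, 4, 2, 2]], 3⟩, ⟨2, [[2, 4, 2, 2, 4, 2], [1, 1, 3, 1, 1, 3], [1, 3, 3, 1, 3, 1, 1]], 3⟩, ⟨3, [[1, 1, 3, 1, 1, 3], [1, 4, 1, 4, 1, 3, 3, 3], [2, 3, 1, 1, 4, 1, 1, 4, 4, 1]], 1⟩]⟩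
noncomputable def MV : List (List Nat) := [[(nat_lit 11974), (nat_lit 53561)],
  [(nat_lit 0), (nat_lit 65535)],
  [(nat_lit 27413), (nat_lit 38122)],
  [(nat_lit 49998), (nat_lit 15537)],
  [(nat_lit 24152), (nat_lit 41383)]]
noncomputable def MS : Net := (Net.cons (nat_lit 1) (nat_lit 20496) (Net.cons (nat_lit 2) (nat_lit 256) (Net.cons (nat_lit 4) (nat_lit 512) (Net.cons (nat_lit 8) (nat_lit 198) (Net.cons (nat_lit 4) (nat_lit 3077) (Net.cons (nat_lit 2) (nat_lit 8704) (Net.cons (nat_lit 1) (nat_lit 1280) Net.nil)))))))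
noncomputable def MA : List (List (List Nat)) := [[[1, 0, 0, 1, 1], [0, 1, 0, 0, 0], [0, 1, 1, 1, 0], [0, 1, 0, 1, 0], [0, 1, 1, 1, 1]],
  [[1, 1, 1, 1, 1], [0, 1, 0, 0, 0], [0, 0, 1, 0, 1], [0, 0, 1, 1, 1], [0, 0, 1, 1, 0]]]
noncomputable def MDs : List (List (List (List Nat))) := [[[[1, 0, 0, 0, 0], [0, 1, 0, 0, 0], [0, 1, 1, 0, 0], [0, 1, 0, 1, 0], [0, 1, 1, 0, 1]],
  [[1, 0, 0, 1, 1], [0, 1, 0, 0, 0], [0, 0, 1, 1, 0], [0, 0, 0, 1, 0], [0, 0, 0, 0, 1]]],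
 [[[1, 0, 0, 0, 0], [0, 1, 0, 0, 0], [0, 0, 1, 0, 0], [0, 0, 1, 1, 0], [0, 0, 1, 1, 1]],
  [[1, 1, 1, 1, 1], [0, 1, 0, 0, 0], [0, 0, 1, 0, 1], [0, 0, 0, 1, 0], [0, 0, 0, 0, 1]]]]

/-- The Mathieu group M₂₄ (the automorphism group of the length-24 binary code) has an involution whose centraliser is isomorphic to the centraliser of a transvection in SL(5, 2) (a group of shape 2^{1+6}:GL(3, 2)). -/
theorem result (s : Matrix.SpecialLinearGroup (Fin 5) (ZMod 2)) (hs : (s : Matrix (Fin 5) (Fin 5) (ZMod 2)) = Matrix.transvection 0 1 1) : ∃ z : ↥Cfsg.M24, orderOf z = 2 ∧ Nonempty (↥(Subgroup.centralizer ({z} : Set ↥Cfsg.M24)) ≃* ↥(Subgroup.centralizer ({s} : Set (Matrix.SpecialLinearGroup (Fin 5) (ZMod 2))))) := by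
  exact ⟨_, ord_m Nat.prime_two oe2a, md_equiv r0 (M := M) (k := 16) (m := 2) (s := 21504) (by decide +kernel) (Exact.mem0 (cen_m ke2a).1)
    (cen_m ke2a).2.le (K0.hasReps hs (V := MV) (σ := MS) (As := MA) (Ds := MDs) (by decide +kernel) (by decide +kernel) (by decide +kernel)) (K0.card hs)⟩

end Cfsg.Agent.S2133
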