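import Cfsg.Statements.S2131
import Cfsg.Agent.Comp.J1.Main
import Cfsg.Agent.Bt.Cent
import Cfsg.Agent.Loc.Two
import Cfsg.Agent.Classical.Triangle

set_option autoImplicit false
open Cfsg

namespace Cfsg.Agent.S2131

open CF.Bt in
noncomputable def Tz : Tr := (.sym [[1], [3], [5]] (.cons [] 7 2 (.base (nat_lit 4094) (.focus 0 (.base (nat_lit 0x3fffffffffffffffffffffffffff000000) (.op 4 0 (.focus 0 (.sym [[3]] (.cons [] 1 1 (.focus 3 (.focus 1 (.base (nat_lit 0x7198bdc68c343b675dcde8e5dd6000000) (.op 4 0 (.focus 0 (.op 2 0 (.xor 0 3 (.focus 0 (.cons [] 0 1 (.focus 8 (.focus 6 (.xor 2 3 (.focus 0 (.base (nat_lit 152) (.focus 0 (.cons [] 0 1 (.focus 1 (.xor 5 0 (.focus 0 (.cons [] 0 1 .triv (.cons [1] 0 0 (.base (nat_lit 512) (.op 5 0 (.and 1 0 (.dead0 0)))) .nil))))) .nil))))))) .nil))))))))) (.cons [4] 0 0 (.base (nat_lit 0x6040000082c01000020200000000000) (.op 4 1 (.and 1 0 (.dead0 0)))) (.cons [6, 4] 0 0 (.base (nat_lit 0x6040000082c01000020200000000000) (.op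 4 1 (.and 1 0 (.dead0 0)))) .nil))))))))) (.cons [3, 1] 5 0 (.base (nat_lit 4094) (.op 5 0 (.and 1 0 (.dead0 0)))) (.cons [4, 1] 7 0 (.base (nat_lit 4094) (.op 5 0 (.and 1 0 (.dead0 0)))) (.cons [13, 1] 4 0 (.base (nat_lit 4094) (.op 4 1 (.and 1 0 (.dead0 0)))) (.cons [11, 4, 1] 4 0 (.base (nat_lit 0x3fffffffffffffffffffffffffff000000) (.op 5 0 (.and 1 0 (.dead 0)))) (.cons [10, 3, 1] 3 0 (.op 5 0 (.and 1 0 (.dead0 0))) (.cons [13, 1, 6, 6, 1] 1 0 (.base (nat_lit 4094) (.op 4 1 (.and 1 0 (.dead0 0)))) .nil))))))))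

noncomputable def TzK : List (List ℕ) := [[1], [11, 5, 12, 3], [5, 10, 10, 1, 5]]
noncomputable def TzF : List (List ℕ) := [[], [1]]

open CF.Comp CF.Comp.J1 CF.Bt CF.Classical Subgroup in

/-- The Janko group J₁ (the group generated by two explicit 7 × 7 matrices over the integers modulo 11) has an involution whose centraliser is isomorphic to the direct product of a group of order 2 with the alternating group of degree 5. -/
theorem result : ∃ t : ↥Cfsg.Spor.J1, orderOf t = 2 ∧ Nonempty (↥(Subgroup.centralizer ({t} : Set ↥Cfsg.Spor.J1)) ≃* Multiplicative (ZMod 2) × ↥(alternatingGroup (Fin 5))) := by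
  have := Nat.finite_of_card_ne_zero (card ▸ by decide : Nat.card Spor.J1 ≠ 0)
  have o : ∀ {w p}, p.Prime → _ → orderOf (ev f w) = p := fun hp h =>
    orderOf_ev exact.reps (k := 9) (by decide) (by decide) exact.faithful trivial hp h
  have h1 := o (w := [1]) Nat.prime_two (by decide +kernel)
  obtain ⟨e⟩ := IsTri.equiv_A5 (x := ev f [11, 5, 12, 3, 1]) (y := ev f [5, 10, 10, 1, 5])
    ⟨o Nat.prime_two (by decide +kernel), o Nat.prime_three (by decide +kernel),
      ev_lapp f _ _ ▸ o Nat.prime_five (by decide +kernel)⟩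
  have h2 := mem_cent exact.reps (k := 9) (by decide) exact.faithful (a := [1])
    (ws := [[11, 5, 12, 3, 1], [5, 10, 10, 1, 5]]) (by decide +kernel)
  have h3 : Subgroup.closure {ev f [11, 5, 12, 3, 1], ev f [5, 10, 10, 1, 5]} ≤ centralizer {ev f [1]} :=
    (closure_le _).2 (Set.pair_subset (h2 _ (by simp)) (h2 _ (by simp)))
  obtain ⟨e'⟩ := CF.Loc.nonempty_equiv_prod_of_central h1 (fun x hx => mem_centralizer_singleton_iff.1 (h3 hx))
    (fun h => absurd h1 (by
      have : e ⟨_, h⟩ ∈ center _ := mem_center_iff.2 (e.surjective.forall.2 fun x => by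
        rw [← map_mul, ← map_mul]; exact congrArg e (Subtype.ext (mem_centralizer_singleton_iff.1 (h3 x.2))))
      rw [center_A5, mem_bot, map_eq_one_iff _ e.injective, mk_eq_one] at this
      rw [this, orderOf_one]; decide)) rfl
  have e'' := e'.trans (MulEquiv.prodCongr (.refl _) e)
  exact ⟨_, h1, ⟨(MulEquiv.subgroupCongr (eq_of_le_of_card_ge (sup_le h3 (zpowers_le.2
    (mem_centralizer_singleton_iff.2 rfl))) ((card_cent_top_le exact (k := 9) (by decide) (by decide) (fw := TzF)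
      (kg := TzK) (T := Tz) (m := 120) (by decide +kernel)).trans_eq (by
        rw [Nat.card_congr e''.toEquiv, Nat.card_prod, card_A5]; simp)))).symm.trans e''⟩⟩

end Cfsg.Agent.S2131
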