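import Cfsg.Statements.S0223
import Cfsg.Agent.Invol.StrEmb

set_option autoImplicit false
open Cfsg

namespace Cfsg.Agent.S0223

/-- Let H be a proper subgroup of even order of the finite group G. Then H is strongly embedded if and only if (i) C_G(t) ≤ H for every involution t of H and (ii) H controls fusion of its involutions: involutions of H conjugate in G are conjugate in H. -/
theorem result {G : Type*} [Group G] [Finite G] (H : Subgroup G) (hH : H ≠ ⊤) (heven : Even (Nat.card H)) : Cfsg.IsStronglyEmbedded H ↔ ((∀ t ∈ H, orderOf t = 2 → Subgroup.centralizer ({t} : Set G) ≤ H) ∧ (∀ t ∈ H, ∀ s ∈ H, orderOf t = 2 → orderOf s = 2 → IsConj t s → ∃ h ∈ H, h * t * h⁻¹ = s)) := by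
  rw [CF.Invol.se_iff]
  constructor
  · rintro ⟨-, -, h⟩
    exact ⟨fun t htH ht => h.centralizer_le htH ht,
      fun t htH s hsH ht _ hc => h.exists_conj_mem htH ht hsH hc⟩
  · rintro ⟨h1, h2⟩
    refine ⟨hH, heven, fun t htH ht g hg => ?_⟩
    obtain ⟨a, ha, he⟩ := h2 t htH _ hg ht (by rw [CF.Invol.orderOf_conj, ht])
      (isConj_iff.2 ⟨g, rfl⟩)
    have : a⁻¹ * g ∈ H := h1 t htH ht (CF.Invol.mem_centralizer_singleton_iff_conj.2 (by
      calc a⁻¹ * g * t * (a⁻¹ * g)⁻¹ = a⁻¹ * (g * t * g⁻¹) * a := by group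
        _ = t := by rw [← he]; group))
    simpa using H.mul_mem ha this

end Cfsg.Agent.S0223
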