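import Cfsg.Statements.S4588
import Cfsg.Agent.BlockB.BF
import Cfsg.Agent.BlockB.Column
-- import your own Cfsg.Agent.* helpers here

set_option autoImplicit false
open Cfsg

namespace Cfsg.Agent.S4588

/-- Let G be a finite group, p a prime and M a maximal ideal of the algebraic integers containing p. If some p-element x of G (possibly x = 1) has centralizer whose order has p-part at most p², then the principal p-block of G contains at most p² irreducible characters of degree prime to p. -/
theorem result {G : Type*} [Group G] [Finite G] (p : ℕ) [Fact p.Prime] (M : Ideal Cfsg.AlgInt) (hM : Cfsg.IsPModular p M)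
    (hx : ∃ x : G, (∃ k : ℕ, orderOf x = p ^ k) ∧ (Nat.card (Subgroup.centralizer ({x} : Set G))).factorization p ≤ 2) :
    Nat.card {χ : Cfsg.IrrCharacter G // χ ∈ Cfsg.principalBlock M G ∧ ¬ p ∣ Cfsg.charDegree (χ : G → ℂ)} ≤ p ^ 2 := by
  classical
  obtain ⟨x, hx, h2⟩ := hx
  have := Fintype.ofFinite (CF.BlockB.Cen x)
  by_cases h1 : x = 1
  · subst h1
    rw [show Subgroup.centralizer ({1} : Set G) = ⊤ from CF.BlockB.cen_one, Subgroup.card_top,
      ← CF.BlockB.blockDefect_principal hM] at h2
    exact ((Nat.card_mono (Set.toFinite _) (Set.sep_subset _ _)).trans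
      (CF.BlockB.card_le_of_defect_le_two hM
        CF.BlockB.isPBlock_principalBlock h2)).trans (Nat.pow_le_pow_right hM.1.pos h2)
  have hind := CF.BlockB.isInducedBlock_pb hM hx
  rw [← CF.BlockB.blockDefect_principal hM] at h2
  rw [Nat.card_eq_fintype_card, Fintype.card_subtype]
  refine (CF.BlockB.card_le_of_cyc_quot hM hx hind (Or.inl ⟨h1, h2⟩) fun χ hχ => ?_).trans
    (Nat.pow_le_pow_right hM.1.pos h2)
  obtain ⟨h3, h4⟩ := (Finset.mem_filter.1 hχ).2
  have h5 : blockHeight p (principalBlock M G) (χ : G → ℂ) = 0 := by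
    rw [CF.BlockB.blockHeight_eq, Nat.factorization_eq_zero_of_not_dvd h4, Nat.zero_sub]
  exact ⟨h3, fun h6 => CF.BlockB.cm_ne_zero_of_height_zero hM hx le_rfl hind h3 h3 h5 h5
    (by rw [CF.BlockB.cm_def, h6, CF.Char.inner_zero_left])⟩

end Cfsg.Agent.S4588
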