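import Cfsg.Statements.S2384
import Cfsg.Agent.Cls.SS

set_option autoImplicit false
open Cfsg

namespace Cfsg.Agent.S2384

open CF.Cls Polynomial

/-- In `SL_n(q)`, `q` a power of the prime `p`, the number of conjugacy classes of elements of order prime to `p` (the semisimple classes) is `q^(n-1)`. -/
theorem result {F : Type*} [Field F] [Fintype F] {q : ℕ} (hq : Fintype.card F = q) (p : ℕ) [Fact p.Prime] [CharP F p] (n : ℕ) (hn : 1 ≤ n) :
    Nat.card {c : ConjClasses (Matrix.SpecialLinearGroup (Fin n) F) //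
      ∃ g : Matrix.SpecialLinearGroup (Fin n) F, ConjClasses.mk g = c ∧ (orderOf g).Coprime p} = q ^ (n - 1) := by
  obtain ⟨n, rfl⟩ := Nat.exists_eq_succ_of_ne_zero (show n ≠ 0 by omega)
  rw [card_ss_classes Matrix.SpecialLinearGroup.coeMonoidHom p (fun x y hx h =>
    isConj_SL_of_ss h (ss_of_coprime Matrix.SpecialLinearGroup.coeMonoidHom p hx))]
  have h1 := card_monic_zero (F := F) n (fun a => (-1) ^ (n + 1) * a = 1)
  rw [Nat.card_eq_fintype_card (α := F), hq] at h1
  have h2 : Nat.card {a : F // (-1) ^ (n + 1) * a = 1} = 1 := by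
    rw [Nat.card_eq_one_iff_exists]
    refine ⟨⟨(-1) ^ (n + 1), by simp [← mul_pow]⟩, fun a => Subtype.ext ?_⟩
    have := congrArg (fun x => (-1) ^ (n + 1) * x) a.2
    simpa [← mul_assoc, ← mul_pow] using this
  rw [h2, one_mul] at h1
  refine (Nat.card_congr (Equiv.subtypeEquivRight (fun χ => ⟨?_, ?_⟩))).trans h1
  · rintro ⟨g, rfl⟩
    refine ⟨⟨Matrix.charpoly_monic _, by simp⟩, ?_⟩
    have := g.det_coe
    rw [Matrix.det_eq_sign_charpoly_coeff, Fintype.card_fin] at this
    exact this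
  · rintro ⟨⟨h1, h2⟩, h3⟩
    obtain ⟨A, -, hA⟩ := exists_matrix_cyc (ι := Fin (n + 1)) h1 (by simpa using h2)
    refine ⟨⟨A, ?_⟩, hA⟩
    rw [Matrix.det_eq_sign_charpoly_coeff, hA, Fintype.card_fin]; exact h3

end Cfsg.Agent.S2384
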