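import Cfsg.Statements.S2479
import Cfsg.Agent.Cls.KN5
import Cfsg.Agent.S2384

set_option autoImplicit false
open Cfsg

namespace Cfsg.Agent.S2479

open CF.Cls CF.Geom


/-- The number of conjugacy classes of SL(n,q): for F a finite field with q elements, the number k of conjugacy classes of SL(n,F) satisfies q^(n−1) < k and k ≤ (5/2)·q^(n−1) for n ≥ 2, and k ≤ q^(n−1) + 3q^(n−2) for n ≥ 3. -/
theorem result {F : Type*} [Field F] [Fintype F] (n : ℕ) (hn : 2 ≤ n) :
    Fintype.card F ^ (n - 1) < Nat.card (ConjClasses (Matrix.SpecialLinearGroup (Fin n) F)) ∧ 2 * Nat.card (ConjClasses (Matrix.SpecialLinearGroup (Fin n) F)) ≤ 5 * Fintype.card F ^ (n - 1) ∧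
      (3 ≤ n → Nat.card (ConjClasses (Matrix.SpecialLinearGroup (Fin n) F)) ≤ Fintype.card F ^ (n - 1) + 3 * Fintype.card F ^ (n - 2)) := by
  obtain ⟨p, hp, -, hp', -⟩ := FiniteField.card' F
  have := Fact.mk hp'
  have h1 := card_SL_le (F := F) p (show 0 < n by omega)
  rw [Nat.card_eq_fintype_card (α := F)] at h1
  obtain ⟨t, ht⟩ := Nat.exists_eq_add_one_of_ne_zero (Fintype.card_pos (α := F)).ne'
  have ht0 : 0 < t := by have := Fintype.one_lt_card (α := F); omega
  have h2 : 3 ≤ n → Nat.card (ConjClasses (Matrix.SpecialLinearGroup (Fin n) F)) ≤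
      Fintype.card F ^ (n - 1) + 3 * Fintype.card F ^ (n - 2) := fun h => by
    rw [ht] at h1 ⊢
    exact Nat.le_of_mul_le_mul_left (h1.trans (BB_gl ht0 h)) ht0
  refine ⟨?_, ?_, h2⟩
  · obtain ⟨u, hu⟩ := exists_SL_ev (F := F) (K := AlgebraicClosure F) p (n := n) (J := {(1, n)})
      (adm_singleton (x := (1, n)) (by simp) (show 0 < n by omega)) (by simp [dt])
    rw [← Cfsg.Agent.S2384.result rfl p n (by omega)]
    refine Finite.card_subtype_lt (x := ConjClasses.mk u) ?_
    rintro ⟨g, h3, h4⟩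
    obtain ⟨c, hc⟩ := ConjClasses.mk_eq_mk_iff_isConj.1 h3
    rw [hc.orderOf_eq] at h4
    have h5 := ((orderOf_dvd_iff_ev (K := AlgebraicClosure F) p (toE_injective
      (φ := Matrix.SpecialLinearGroup.coeMonoidHom) Subtype.val_injective) u _).1 dvd_rfl (1, n)
      (by simp [hu])).2
    exact hp'.one_lt.ne' (Nat.eq_one_of_dvd_coprimes h4 ((dvd_pow_self p
      (Nat.clog_pos hp'.one_lt hn).ne').trans h5) dvd_rfl)
  · rcases hn.eq_or_lt with rfl | h
    · rw [ht] at h1 ⊢
      rcases (show 1 ≤ t from ht0).eq_or_lt with rfl | h3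
      · have := h1.trans (BB_two 1).2
        omega
      · have := Nat.le_of_mul_le_mul_left (h1.trans (BB_two t).1) ht0
        simp only [Nat.add_one_sub_one, pow_one]
        omega
    · have h3 := h2 h
      obtain ⟨m, rfl⟩ := Nat.exists_eq_add_of_le' hn
      simp only [Nat.add_succ_sub_one, pow_succ, Nat.add_sub_cancel, ht] at h3 ⊢
      nlinarith [Nat.zero_le ((t + 1) ^ m)]

end Cfsg.Agent.S2479
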