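import Cfsg.Statements.S2480
import Cfsg.Agent.Cls.KN6
import Cfsg.Agent.S2479
import Cfsg.Agent.S4201

set_option autoImplicit false
open Cfsg

namespace Cfsg.Agent.S2480

open CF.Cls CF.Geom

theorem BB_le {t m x : ℕ} (ht : 2 ≤ t) (hm : 0 < m) (h : t * x ≤ BB (t + 1) t m) :
    2 * x ≤ 5 * (t + 1) ^ (m - 1) ∧ (m = 1 → x ≤ 1) := by
  have h1 : m = 1 → x ≤ 1 := by
    rintro rfl
    exact Nat.le_of_mul_le_mul_left (h.trans ((BB_one _ _).trans_eq (mul_one t).symm)) (by omega)
  refine ⟨?_, h1⟩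
  rcases le_or_gt 3 m with h2 | h2
  · have h3 := Nat.le_of_mul_le_mul_left (h.trans (BB_gl (by omega) h2)) (by omega)
    obtain ⟨m, rfl⟩ := Nat.exists_eq_add_of_le' (show 2 ≤ m by omega)
    simp only [Nat.add_succ_sub_one, pow_succ, Nat.add_sub_cancel] at h3 ⊢
    nlinarith [Nat.zero_le ((t + 1) ^ m)]
  interval_cases m
  · have := h1 rfl
    simp only [Nat.sub_self, pow_zero]
    omega
  · have := Nat.le_of_mul_le_mul_left (h.trans (BB_two t).1) (by omega)
    simp only [Nat.add_one_sub_one, pow_one]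
    omega


/-- The number of conjugacy classes of PSL(n,q): for F a finite field with q elements, n ≥ 2 and d = gcd(n, q − 1), the number k of conjugacy classes of PSL(n,F) satisfies q^(n−1) ≤ d·k ≤ q^(n−1) + 5q^(n−2). -/
theorem result {F : Type*} [Field F] [Fintype F] (n : ℕ) (hn : 2 ≤ n) :
    Fintype.card F ^ (n - 1) ≤ Nat.gcd n (Fintype.card F - 1) * Nat.card (ConjClasses (Matrix.ProjectiveSpecialLinearGroup (Fin n) F)) ∧
      Nat.gcd n (Fintype.card F - 1) * Nat.card (ConjClasses (Matrix.ProjectiveSpecialLinearGroup (Fin n) F)) ≤ Fintype.card F ^ (n - 1) + 5 * Fintype.card F ^ (n - 2) := by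
  classical
  obtain ⟨p, hp, -, hp', -⟩ := FiniteField.card' F
  have := Fact.mk hp'
  have : Nonempty (Fin n) := ⟨⟨0, by omega⟩⟩
  have hZ := CF.Classical.card_center_SL (ι := Fin n) F
  rw [Fintype.card_fin, Nat.card_eq_fintype_card (α := F)] at hZ
  obtain ⟨h1, -, h2⟩ := Cfsg.Agent.S2479.result (F := F) n hn
  rw [← hZ]
  refine ⟨h1.le.trans ((Cfsg.Agent.S4201.result (Subgroup.center _)).trans (Nat.mul_le_mul_right _
    (Nat.card_le_card_of_surjective _ ConjClasses.mk_surjective))), ?_⟩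
  refine (card_center_mul_le _).trans ?_
  obtain ⟨t, ht⟩ := Nat.exists_eq_add_one_of_ne_zero (Fintype.card_pos (α := F)).ne'
  have ht0 : 0 < t := by have := Fintype.one_lt_card (α := F); omega
  have h3 := card_SL_le (F := F) p (show 0 < n by omega)
  have h4 := card_fix_SL (F := F) p (show 0 < n by omega)
  rw [Nat.card_eq_fintype_card (α := F), ht, Nat.add_sub_cancel] at h3 h4
  rw [ht, Nat.add_sub_cancel] at hZ
  rw [ht] at h2 ⊢
  have h5 : ∀ M, (2 ≤ t → ∀ m x, 2 * m ≤ n → 2 * x ≤ 5 * (t + 1) ^ (m - 1) → (m = 1 → x ≤ 1) →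
      0 < m → x ≤ M) → ∑ z : Subgroup.center (Matrix.SpecialLinearGroup (Fin n) F),
      Nat.card {C : ConjClasses (Matrix.SpecialLinearGroup (Fin n) F) //
        ∃ g, ConjClasses.mk g = C ∧ IsConj (z.1 * g) g} ≤
      Nat.card (ConjClasses (Matrix.SpecialLinearGroup (Fin n) F)) + (n.gcd t - 1) * M := by
    intro M hM
    rw [← Finset.add_sum_erase _ _ (Finset.mem_univ 1)]
    refine Nat.add_le_add (Finite.card_subtype_le _) ((Finset.sum_le_card_nsmul _ _ M
      fun z hz => ?_).trans_eq ?_)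
    · obtain ⟨m, a1, a2, a3⟩ := h4 z (Finset.ne_of_mem_erase hz)
      have a4 : 2 ≤ t := by
        have := Finite.one_lt_card_iff_nontrivial.2 ⟨z, 1, Finset.ne_of_mem_erase hz⟩
        have := Nat.gcd_le_right n ht0
        omega
      exact hM a4 m _ a1 (BB_le a4 a2 a3).1 (BB_le a4 a2 a3).2 a2
    · rw [Finset.card_erase_of_mem (Finset.mem_univ _), Finset.card_univ,
        ← Nat.card_eq_fintype_card, hZ, smul_eq_mul]
  have h6 := Nat.gcd_le_right n ht0
  have h7 := Nat.gcd_le_left t (show 0 < n by omega)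
  rcases le_or_gt 5 n with h | h
  · refine (h5 (3 * (t + 1) ^ (n - 4)) fun _ m x a1 a2 _ _ => ?_).trans ?_
    · have := Nat.pow_le_pow_right t.add_one_pos (show m - 1 ≤ n - 4 by omega)
      omega
    · have h8 := h2 (by omega)
      have h9 := Nat.mul_le_mul_right (3 * (t + 1) ^ (n - 4)) (show n.gcd t - 1 ≤ t by omega)
      obtain ⟨k, rfl⟩ := Nat.exists_eq_add_of_le' (show 4 ≤ n by omega)
      simp only [Nat.add_succ_sub_one, Nat.add_sub_cancel, show k + 4 - 2 = k + 2 from rfl,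
        pow_succ] at h8 h9 ⊢
      nlinarith [Nat.zero_le ((t + 1) ^ k), Nat.zero_le ((t + 1) ^ k * t * t)]
  interval_cases n
  · refine (h5 1 fun _ m x a1 _ a3 a4 => a3 (by omega)).trans ?_
    have := Nat.le_of_mul_le_mul_left (h3.trans (BB_two t).1) ht0
    simp only [Nat.add_one_sub_one, pow_one, Nat.sub_self, pow_zero]
    omega
  · refine (h5 1 fun _ m x a1 _ a3 a4 => a3 (by omega)).trans ?_
    have h8 := h2 le_rfl
    simp only [Nat.add_one_sub_one, pow_one, show 3 - 2 = 1 from rfl] at h8 ⊢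
    omega
  · refine (h5 (3 * t + 2) fun _ m x a1 a2 _ _ => ?_).trans ?_
    · have := Nat.pow_le_pow_right t.add_one_pos (show m - 1 ≤ 1 by omega)
      simp only [pow_one] at this
      omega
    · have h8 := h2 (by omega)
      simp only [Nat.add_one_sub_one, show 4 - 2 = 2 from rfl] at h8 ⊢
      rcases le_or_gt t 3 with h9 | h9
      · interval_cases t <;> simp at h8 ⊢ <;> omega
      · have := Nat.mul_le_mul_right (3 * t + 2) (show Nat.gcd 4 t - 1 ≤ 3 by omega)
        nlinarith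

end Cfsg.Agent.S2480
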