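import Cfsg.Statements.S2497
import Cfsg.Agent.CIT.Spec

set_option autoImplicit false
open Cfsg

namespace Cfsg.Agent.S2497

/-- Let G be a finite non-abelian simple group in which every non-identity element has prime-power order. Then G is isomorphic to one of: the alternating group of degree 6, PSL(2,q) for q ∈ {4, 7, 8, 17}, PSL(3,4), or the Suzuki group over the field with 8 or with 32 elements. -/
theorem result {G : Type*} [Group G] [Finite G] [IsSimpleGroup G] (hG : ¬ IsMulCommutative G)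
    (h : ∀ g : G, g ≠ 1 → IsPrimePow (orderOf g)) :
    Nonempty (G ≃* alternatingGroup (Fin 6)) ∨
    (∃ (F : Type) (_ : Field F) (_ : Fintype F), Fintype.card F ∈ ({4, 7, 8, 17} : Finset ℕ) ∧
      Nonempty (G ≃* Matrix.ProjectiveSpecialLinearGroup (Fin 2) F)) ∨
    (∃ (F : Type) (_ : Field F) (_ : Fintype F), Fintype.card F = 4 ∧
      Nonempty (G ≃* Matrix.ProjectiveSpecialLinearGroup (Fin 3) F)) ∨
    (∃ (F : Type) (_ : Field F) (_ : Fintype F),
      (Fintype.card F = 8 ∧ Nonempty (G ≃* ↥(Cfsg.Lie.Sz F 4))) ∨ (Fintype.card F = 32 ∧ Nonempty (G ≃* ↥(Cfsg.Lie.Sz F 8)))) := by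
  open CF.CIT in
  have ns := not_sol_of_simple hG
  have f := (QuotientGroup.quotientBot (G := G)).symm
  rcases EPPO.cases h ns (O_eq_bot_of_simple ns 2) with ⟨F, _, _, h1, ⟨e⟩⟩ | ⟨F, _, _, k⟩ |
    ⟨-, k | ⟨F, _, _, h1 | h1, ⟨e⟩⟩ | ⟨N, -, i, -⟩⟩
  · exact Or.inr (Or.inl ⟨F, _, _, by simp; omega, ⟨f.trans e⟩⟩)
  · exact Or.inr (Or.inr (Or.inr ⟨F, _, _, k.imp (fun k => ⟨k.1, k.2.map f.trans⟩)
      fun k => ⟨k.1, k.2.map f.trans⟩⟩))
  · exact Or.inr (Or.inr (Or.inl k))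
  · exact Or.inl ((CF.Classical.PSL2_nine_equiv (Nat.card_eq_fintype_card.trans h1)).map e.trans)
  · exact Or.inr (Or.inl ⟨F, _, _, by simp; omega, ⟨e⟩⟩)
  · exact absurd i (CF.GW.no_index_two_of_simple (fun e => ns
      (CF.BG.piGrp_of_card_prime Nat.prime_two (CF.BG.card_top'.trans e)).sol) N)

end Cfsg.Agent.S2497
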