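import Cfsg.Statements.S5318
import Cfsg.Agent.FusB.SL3
import Cfsg.Agent.S0249
-- import your own Cfsg.Agent.* helpers here

set_option autoImplicit false
open Cfsg

namespace Cfsg.Agent.S5318

/-- For a finite field F of odd order, the 2-fusion system of PSL(3,F) on a Sylow 2-subgroup (semidihedral or wreathed according as |F| ≡ 3 or 1 mod 4) is simple. -/
theorem result {F : Type*} [Field F] [Fintype F] (hodd : Fintype.card F % 2 = 1) (S : Sylow 2 (Matrix.ProjectiveSpecialLinearGroup (Fin 3) F)) :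
    (Cfsg.groupFusionSystem (S : Subgroup (Matrix.ProjectiveSpecialLinearGroup (Fin 3) F))).IsSimple 2 := by
  haveI := Cfsg.Agent.S0249.result (F := F) 3 le_rfl
  obtain ⟨h, x, y, h1, h2, h3, h4⟩ := CF.FusB.psl3_facts (CF.FusB.two_ne_zero_of_odd hodd)
  exact CF.FusB.simple_of_rank2 h h1 h2 h3 h4 S

end Cfsg.Agent.S5318
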