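import Cfsg.Statements.S5320
import Cfsg.Agent.Geom.Fu2
import Cfsg.Agent.Geom.Simple
import Cfsg.Agent.Classical.LowDim2

set_option autoImplicit false
open Cfsg

namespace Cfsg.Agent.S5320

/-- For a finite field F of odd order, the 2-fusion system of the projective symplectic group PSp(4,F) on a Sylow 2-subgroup is simple. -/
theorem result {F : Type*} [Field F] [Fintype F] (hodd : Fintype.card F % 2 = 1) (S : Sylow 2 (Cfsg.PSp 2 F)) :
    (Cfsg.groupFusionSystem (S : Subgroup (Cfsg.PSp 2 F))).IsSimple 2 := by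
  classical
  have hF := Nat.odd_iff.2 hodd
  have h2 := CF.Geom.two_ne_zero_of_odd_card hF
  have hQ := CF.Geom.qOdd_nondegenerate h2 2
  obtain ⟨e⟩ := CF.Classical.POmega_five_equiv h2
  have h := CF.Geom.card_center_omega hQ (by simp) (.inr (by simp))
    (CF.Geom.omegaToOG_injective (CF.Geom.qOdd 2 F)) (CF.Geom.omegaToOG_range _)
  rw [if_neg fun h => by
    simpa [Nat.even_iff] using ((CF.Geom.oNeg_mem_commutator_iff h2 hQ (Pi.basisFun F _)).1 h.2).1,
    Subgroup.card_eq_one] at h
  let f : PSp 2 F ≃* Omega F (CF.Geom.qOdd 2 F) := e.symm.trans (MulEquiv.ofBijective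
    (QuotientGroup.mk' (Subgroup.center (Omega F (CF.Geom.qOdd 2 F))))
    ⟨(MonoidHom.ker_eq_bot_iff _).1 ((QuotientGroup.ker_mk' _).trans h),
      QuotientGroup.mk'_surjective _⟩).symm
  exact (CF.Geom.fs_five hF hQ (by simp) (j := (CF.Geom.omegaToOG _).comp f.toMonoidHom)
    ((CF.Geom.omegaToOG_injective _).comp f.injective) (by
      rw [MonoidHom.range_comp, MonoidHom.range_eq_top.2 f.surjective, ← MonoidHom.range_eq_map,
        CF.Geom.omegaToOG_range]) S).simple S

end Cfsg.Agent.S5320
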