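import Cfsg.Statements.S5089
import Cfsg.Agent.Fus.Alperin

set_option autoImplicit false
open Cfsg

namespace Cfsg.Agent.S5089
open CF.Fus Cfsg.FusionSystem

/-- A saturated fusion system over a finite p-group has a nontrivial subgroup that is normal in the system (O_p(F) ≠ 1) if and only if some nontrivial abelian subgroup is strongly closed in the system. -/
theorem result {Ω : Type*} [Group Ω] {S : Subgroup Ω} [Finite S] (p : ℕ) [Fact p.Prime] (hS : IsPGroup p S) (F : Cfsg.FusionSystem S) (hF : F.IsSaturated p) : F.core ≠ ⊥ ↔ ∃ Q : Subgroup Ω, Q ≠ ⊥ ∧ IsMulCommutative Q ∧ F.StronglyClosed Q := by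
  have hF' := Sat.mk' hS hF
  constructor
  · intro h
    have hn := core_normal F
    haveI := hF'.finite hn.1
    refine ⟨ucs F.core 1, fun e => ?_, ?_, sc_of_normal (normal_of_char hn (ucs_le _) (ucs_char _))⟩
    · haveI := (Subgroup.nontrivial_iff_ne_bot _).2 h
      haveI := (hF'.pgroup hn.1).center_nontrivial
      have := ucs_subgroupOf (Q := F.core) 1
      rw [e, Subgroup.bot_subgroupOf, Subgroup.upperCentralSeries_one] at this
      exact (Subgroup.nontrivial_iff_ne_bot _).1 ‹_› this.symm
    · refine ⟨⟨fun x y => Subtype.ext ?_⟩⟩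
      have := (mem_ucs_succ.1 x.2).2 y (ucs_le _ y.2)
      rw [ucs_zero, Subgroup.mem_bot, commutatorElement_eq_one_iff_mul_comm] at this
      exact this
  · rintro ⟨Q, h1, h2, h3⟩ e
    exact h1 (le_bot_iff.1 (e ▸ le_core (hF'.normal_of_abelian h3 fun x hx y hy =>
      congrArg Subtype.val (h2.1.1 ⟨y, hy⟩ ⟨x, hx⟩))))

end Cfsg.Agent.S5089
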