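import Cfsg.Statements.S2279
import Cfsg.Agent.Classical.RegGenB

set_option autoImplicit false
open Cfsg

namespace Cfsg.Agent.S2279

/-- Let F be a finite field with q elements and n ≥ 4. Then SL_n(F) is generated by two regular unipotent elements (elements u with u − 1 nilpotent and (u − 1)^(n−1) ≠ 0); if q is prime, the two can be taken conjugate in SL_n(F). -/
theorem result {F : Type*} [Field F] [Fintype F] (n : ℕ) (hn : 4 ≤ n) :
    (∃ u v : Matrix.SpecialLinearGroup (Fin n) F, (IsNilpotent ((u : Matrix (Fin n) (Fin n) F) - 1) ∧ ((u : Matrix (Fin n) (Fin n) F) - 1) ^ (n - 1) ≠ 0) ∧ (IsNilpotent ((v : Matrix (Fin n) (Fin n) F) - 1) ∧ ((v : Matrix (Fin n) (Fin n) F) - 1) ^ (n - 1) ≠ 0) ∧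
      Subgroup.closure ({u, v} : Set (Matrix.SpecialLinearGroup (Fin n) F)) = ⊤) ∧
    ((Fintype.card F).Prime → ∃ u g : Matrix.SpecialLinearGroup (Fin n) F, (IsNilpotent ((u : Matrix (Fin n) (Fin n) F) - 1) ∧ ((u : Matrix (Fin n) (Fin n) F) - 1) ^ (n - 1) ≠ 0) ∧
      Subgroup.closure ({u, g * u * g⁻¹} : Set (Matrix.SpecialLinearGroup (Fin n) F)) = ⊤) := by
  open CF.Classical CF.Geom in
  constructor
  · obtain ⟨z, hz, h⟩ := exists_rGen (F := F) hn
    refine ⟨(slEquiv n F).symm ⟨rU F n, rU_mem⟩,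
      (slEquiv n F).symm ⟨rUnip hz.nil, det_eq_one_of_nil hz.nil (rUnip_apply _)⟩,
      reg_transfer (fun x => by rw [← slEquiv_apply, MulEquiv.apply_symm_apply]; rfl) rsh_nil
        (rsh_pow_ne' hz.pos),
      reg_transfer (fun x => by rw [← slEquiv_apply, MulEquiv.apply_symm_apply]; rfl) hz.nil
        hz.pow_ne, closure_transfer (slEquiv n F) fun K _ hs => h K ?_ ?_⟩
    · exact .of_mem (hs _ (Set.mem_insert _ _)) fun x => by rw [MulEquiv.apply_symm_apply]; rfl
    · exact .of_mem (hs _ (Set.mem_insert_of_mem _ rfl)) fun x => by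
        rw [MulEquiv.apply_symm_apply]; rfl
  · intro hp
    rcases hn.eq_or_lt with rfl | h5
    · obtain ⟨z, h1, h2, h3⟩ := exists_rGen_four_prime (cast_of_prime hp)
      exact h3.conj_gen h1 h2
    · obtain ⟨z, h1, h2, h3⟩ := exists_rGen_five (F := F) h5
      exact h3.conj_gen h1 h2

end Cfsg.Agent.S2279
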