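import Cfsg.Statements.S5094
import Cfsg.Agent.Char.ZStarCor
import Cfsg.Agent.Fus.Normal

set_option autoImplicit false
open Cfsg

namespace Cfsg.Agent.S5094

/-- Glauberman's Z*-Theorem in fusion language: for a finite group G with Sylow 2-subgroup S, the centre of the fusion system of G on S is the set of elements of S whose image in G/O(G) is central, O(G) being the largest normal subgroup of odd order. -/
theorem result {G : Type*} [Group G] [Finite G] (S : Sylow 2 G) : (Cfsg.groupFusionSystem (S : Subgroup G)).center = (S : Subgroup G) ⊓ (Subgroup.center (G ⧸ Cfsg.oddCore G)).comap (QuotientGroup.mk' (Cfsg.oddCore G)) := by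
  open CF.Fus CF.Char Subgroup in
  refine le_antisymm (fun x hx => ?_) fun x hx => ?_
  · have hxS : x ∈ S := center_le _ hx
    refine ⟨hxS, inZStar_iff_mk_mem_center.1 (inZStar_of_weaklyClosed S hxS fun g hg => ?_)⟩
    refine central_fix (center_central _) (f := fun y => g * y * g⁻¹) (R := zpowers x)
      (mor_group.2 ⟨zpowers_le.2 hxS, ?_, g, fun _ _ => rfl⟩) (mem_zpowers x) hx
    rintro _ ⟨i, rfl⟩
    exact conj_zpow (i := i) (a := g) (b := x) ▸ zpow_mem hg i
  · have h := wc_of_inZStar hx.1 (inZStar_iff_mk_mem_center.2 hx.2)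
    refine le_center (central_iff.2 ⟨zpowers_le.2 hx.1, fun P f hf => ?_⟩) (mem_zpowers x)
    obtain ⟨hP, hf, g, hg⟩ := mor_group.1 hf
    obtain ⟨c, hc, e⟩ := wc_exists_conj hx.1 h (H := centralizer (P : Set G)) (IsConj.refl x)
      (CF.Invol.isConj_conj g⁻¹ x) (fun s hs => wc_commute hx.1 h (hP hs)) fun s hs => by
        have := (wc_commute hx.1 h (hg s hs ▸ hf s hs)).eq
        calc s * (g⁻¹ * x * g⁻¹⁻¹) = g⁻¹ * (g * s * g⁻¹ * x) * g := by group
          _ = _ := by rw [this]; group
    have e1 : ∀ s ∈ P, g * c * s * (g * c)⁻¹ = f s := fun s hs => by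
      rw [hg s hs, mul_assoc g c s, ← hc s hs]
      group
    have e2 : ∀ s ∈ zpowers x, g * c * s * (g * c)⁻¹ = s := by
      rintro _ ⟨i, rfl⟩
      have : g * c * x * (g * c)⁻¹ = x := by
        calc _ = g * (c * x * c⁻¹) * g⁻¹ := by group
          _ = x := by rw [e]; group
      simp only [← conj_zpow, this]
    refine ⟨fun y => g * c * y * (g * c)⁻¹, mor_group.2 ⟨sup_le hP (zpowers_le.2 hx.1), ?_,
      g * c, fun _ _ => rfl⟩, e1, e2⟩
    exact (show P ⊔ zpowers x ≤ (S : Subgroup G).comap (MulAut.conj (g * c)).toMonoidHom from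
      sup_le (fun s hs => (e1 s hs).symm ▸ hf s hs :) fun s hs =>
        (show g * c * s * (g * c)⁻¹ ∈ (S : Subgroup G) from (e2 s hs).symm ▸ zpowers_le.2 hx.1 hs))

end Cfsg.Agent.S5094
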