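import Cfsg.Statements.S0812
import Cfsg.Agent.Classical.MaxL2c

set_option autoImplicit false
open Cfsg

namespace Cfsg.Agent.S0812

/-- For q ∉ {2, 3, 5, 7, 9, 11}, PSL_2(q) has a maximal subgroup isomorphic to the dihedral group of order 2(q − 1)/d, d = gcd(2, q − 1). -/
theorem result {F : Type*} [Field F] [Fintype F] {q : ℕ} (hF : Fintype.card F = q) (hq : q ∉ ({2, 3, 5, 7, 9, 11} : Finset ℕ)) : ∃ H : Subgroup (Matrix.ProjectiveSpecialLinearGroup (Fin 2) F), IsCoatom H ∧ Nonempty (H ≃* DihedralGroup ((q - 1) / Nat.gcd 2 (q - 1))) := by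
  open CF.Classical in
  have L := isL2_PSL F (AlgebraicClosure F)
  have := L.finite
  rw [← Nat.card_eq_fintype_card] at hF
  subst hF
  have h0 : (OnePoint.infty : OnePoint F) ≠ (0 : F) := OnePoint.infty_ne_coe _
  have hxy := (ratPt_injective (F := F) (k := AlgebraicClosure F)).ne h0
  have h2 := L.card_torus_ratPt h0
  obtain ⟨t, h3, h4⟩ := L.exists_swap_ratPt _ _ h0
  refine ⟨_, L.isCoatom_pairStab range_pslToPGL hxy (Or.inl ⟨h2, hq⟩), ?_⟩
  have h5 := pairStab_equiv_dihedral hxy h3 h4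
  rw [index_range_pslToPGL] at h2
  rwa [← Nat.mul_div_cancel (Nat.card _) (Nat.gcd_pos_of_pos_left (Nat.card F - 1) two_pos), h2] at h5

end Cfsg.Agent.S0812
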