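import Cfsg.Statements.S1006
import Cfsg.Agent.Small.O168

set_option autoImplicit false
open Cfsg

namespace Cfsg.Agent.S1006

open CF.Small CF.Small.O168

/-- In a simple group of order 168 there are 56 elements of order 3, all conjugate; 42 elements of order 4, all conjugate; and 48 elements of order 7 falling into two conjugacy classes of size 24, an element of order 7 not being conjugate to its inverse. -/
theorem result {G : Type*} [Group G] [Finite G] [IsSimpleGroup G] (h : Nat.card G = 168) : Nat.card {g : G // orderOf g = 3} = 56 ∧ (∀ s t : G, orderOf s = 3 → orderOf t = 3 → IsConj s t) ∧ Nat.card {g : G // orderOf g = 4} = 42 ∧ (∀ s t : G, orderOf s = 4 → orderOf t = 4 → IsConj s t) ∧ Nat.card {g : G // orderOf g = 7} = 48 ∧ ∀ x : G, orderOf x = 7 → Nat.card {g : G // IsConj x g} = 24 ∧ ¬ IsConj x x⁻¹ := by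
  refine ⟨card_three h, fun s t hs ht => isConj_of_card hs ht ?_, card_four h,
    fun s t hs ht => isConj_of_card hs ht ?_, card_seven h, fun x hx =>
      ⟨card_isConj h (cent_of h (by omega)) (by rw [hx]), fun e => ?_⟩⟩
  · rw [card_three h, card_isConj h (cent_of h (by omega)) (m := 56) (by rw [hs])]
  · rw [card_four h, card_isConj h (cent_of h (by omega)) (m := 42) (by rw [hs])]
  · obtain ⟨c, hc⟩ := isConj_iff.1 e
    obtain ⟨S, rfl, hK⟩ := exists_pset_self hx (cent_eq h (by omega))
    have h1 := S.mem_N_of_conj (Subgroup.mem_zpowers _) S.z_ne_one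
      (hc ▸ S.P.inv_mem (Subgroup.mem_zpowers _))
    have h2 := PSet.card_eq' hK
    rw [h, S.index_N, n7 h] at h2
    have := CF.PF.eq_one_of_conj_eq_inv (CF.PF.odd_orderOf (by
      rw [PSet.card_N_eq' hK, show S.fi = 3 by omega]; decide) h1) (by rw [hx]; decide) hc
    exact S.z_ne_one this

end Cfsg.Agent.S1006
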