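import Mathlib
import Cfsg.Statements.S3888
import Cfsg.Agent.Fgs1.Blk3

set_option autoImplicit false
open Cfsg

namespace Cfsg.Agent.S3888

open Subgroup CF.BG CF.BG2 CF.Blk
open scoped commutatorElement

/-- The classification of the p-groups of rank at most two for odd p. Let p be an odd prime and G a group of order p^n with no elementary abelian subgroup of order p³. Then one of the following holds: G is metacyclic; n ≥ 3 and G is generated by elements x, y, z with x^p = y^p = z^(p^(n−2)) = 1, z commuting with x and y, and x⁻¹yx = y z^(p^(n−3)); n ≥ 4 and G is generated by elements x, y, z with x^p = y^p = z^(p^(n−2)) = 1, yz = zy, x⁻¹yx = y z^(s p^(n−3)) and x⁻¹zx = yz, where s = 1 or s is a quadratic non-residue modulo p; or p = 3 and G has maximal class (nilpotency class n − 1). -/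
theorem result {G : Type*} [Group G] [Finite G] {p : ℕ} [Fact p.Prime] (hp : p ≠ 2) (n : ℕ) (hG : Nat.card G = p ^ n)
    (hrk : Cfsg.PRankLE p 2 G) :
    Cfsg.IsMetacyclic G ∨
    (3 ≤ n ∧ ∃ x y z : G, Subgroup.closure ({x, y, z} : Set G) = ⊤ ∧ x ^ p = 1 ∧ y ^ p = 1 ∧ z ^ p ^ (n - 2) = 1 ∧
        x * z = z * x ∧ y * z = z * y ∧ x⁻¹ * y * x = y * z ^ p ^ (n - 3)) ∨
    (4 ≤ n ∧ ∃ (s : ℕ) (x y z : G), (s = 1 ∨ ¬ IsSquare (s : ZMod p)) ∧ Subgroup.closure ({x, y, z} : Set G) = ⊤ ∧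
        x ^ p = 1 ∧ y ^ p = 1 ∧ z ^ p ^ (n - 2) = 1 ∧ y * z = z * y ∧ x⁻¹ * y * x = y * z ^ (s * p ^ (n - 3)) ∧
        x⁻¹ * z * x = y * z) ∨
    (p = 3 ∧ 2 ≤ n ∧ (⊤ : Subgroup G).lowerCentralSeries (n - 2) ≠ ⊥) := by
  have hq : p.Prime := Fact.out
  have k := piGrp_top hq (IsPGroup.of_card hG)
  have rk := (pRankLE_top_iff hq).1 hrk
  have hn : logn p (♯(⊤ : Subgroup G)) = n := by rw [card_top, hG, logn_pow hq]
  have mc : p = 3 → MC p (⊤ : Subgroup G) → p = 3 ∧ 2 ≤ n ∧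
      (⊤ : Subgroup G).lowerCentralSeries (n - 2) ≠ ⊥ := fun e m =>
    ⟨e, by have := m.1; omega, hn ▸ m.2⟩
  have p3 : p = 3 ∨ 3 < p := by have := hq.two_le; omega
  by_cases o : logn p (♯(𝛀 p (⊤ : Subgroup G))) ≤ 2
  · rcases p3 with e | e
    · exact (meta_or_mc hq hp k o).imp meta_top.1 fun m => Or.inr (Or.inr (mc e m))
    · exact Or.inl (meta_top.1 (meta_of_logn_Om_le hq e k o))
  obtain ⟨R, x, S⟩ := exists_St hq hp k rk o
  refine Or.inr ?_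
  by_cases nE : R ⊔ zpowers x ⊴ ⊤
  · have h : ∀ a ∈ (⊤ : Subgroup G), a ∈ 𝐂 R → ⁅a, x⁆ ∈ R := fun a ha c =>
      S.delta ha c (nE.norm ha)
    by_cases c : ∀ a ∈ (⊤ : Subgroup G), a ∈ 𝐂 R → ⁅a, x⁆ ∈ 𝐂 (⊤ : Subgroup G)
    · obtain ⟨n3, X, y, z, h1, h2⟩ := S.fam2 (fun a ha d => ⟨h a ha d, c a ha d⟩) hn
      exact Or.inl ⟨n3, X, y, z, top_le_iff.1 h1, h2⟩
    · push Not at c
      obtain ⟨z, z1, z2, z3⟩ := c
      obtain ⟨n4, s, X, y, z, h0, h1, h2⟩ := S.fam3 h z1 z2 z3 hn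
      exact Or.inr (Or.inl ⟨n4, s, X, y, z, h0, top_le_iff.1 h1, h2⟩)
  · refine Or.inr (Or.inr (mc (p3.resolve_right fun e => nE (S.normal_of_lt e))
      (mc_of_cent hq k S.le S.logE S.na ?_)))
    by_contra c
    exact nE (S.normal c)

end Cfsg.Agent.S3888
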