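import Cfsg.Statements.S3271
import Cfsg.Agent.StdZ.BcJ
import Cfsg.Agent.S1347

set_option autoImplicit false
open Cfsg

namespace Cfsg.Agent.S3271

open Subgroup CF.Loc

/-- Let G be a finite group with no nontrivial normal subgroup of odd order, and let A be a standard subgroup of G whose centre has even order and whose central quotient A/Z(A) is isomorphic to the twisted group ²E₆(2). Then either A is normal in G, or the normal closure of A in G is isomorphic to the Baby Monster. -/
theorem result {G : Type*} [Group G] [Finite G] (hO : Cfsg.oddCore G = ⊥)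
    (A : Subgroup G) (hA : Cfsg.IsStandardSubgroup A) (hZ : Even (Nat.card ↥(Subgroup.center ↥A)))
    {K : Type*} [Field K] [Fintype K] (hK : Fintype.card K = 4)
    (e : (↥A ⧸ Subgroup.center ↥A) ≃* ↥(Cfsg.Lie.twistedE6 K 2)) :
    A.Normal ∨ Cfsg.Spor.IsoB ↥(Subgroup.normalClosure (A : Set G)) := by
  have : Fact (Nat.Prime 2) := ⟨Nat.prime_two⟩
  obtain ⟨t, ht⟩ := exists_prime_orderOf_dvd_card' (G := center A) 2 hZ.two_dvd
  have o : orderOf (t.1.1 : G) = 2 := by rw [orderOf_coe, orderOf_coe, ht]
  have t1 : t.1 ≠ 1 := fun e => by simp [e] at o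
  refine or_iff_not_imp_left.2 fun n => ?_
  obtain ⟨X, a, b, ⟨f⟩, -⟩ | ⟨l, s, -⟩ := (S1347.result A hA hO t.1.1 o fun x hx =>
    congrArg Subtype.val (mem_center_iff.1 t.2 ⟨x, hx⟩)).resolve_left n
  · have := f.symm.isSimpleGroup
    rcases (inferInstance : (center A).Normal).eq_bot_or_eq_top with k | k
    · exact absurd (mem_bot.1 (k.le t.2)) t1
    · exact absurd ⟨⟨fun x y => f.injective (by rw [map_mul, map_mul]; exact mem_center_iff.1 (k.ge (mem_top _)) _)⟩⟩ b
  have N : (layer G).Normal := CF.Sig.layer_normal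
  have per := hA.1.1
  let i := subgroupOfEquivOfLe l
  have c : ∀ {s : layer G}, s ∈ centralizer (A.subgroupOf (layer G) : Set (layer G)) → s.1 ∈ centralizer (A : Set G) :=
    fun k x hx => congrArg Subtype.val (k ⟨x, l hx⟩ hx)
  rw [le_antisymm (normalClosure_le_normal l) (subgroupOf_eq_top.1 (((normalClosure_normal (s := (A : Set G))).subgroupOf
    (layer G)).eq_bot_or_eq_top.resolve_left fun k => t1 (Subtype.ext (mem_bot.1
      ((subgroupOf_eq_bot.1 k).le_bot ⟨subset_normalClosure t.1.2, l t.1.2⟩)))))]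
  refine CF.StdZ.Bc.main (A := A.subgroupOf (layer G)) (Group.IsPerfect.ofSurjective (f := i.symm.toMonoidHom) i.symm.surjective)
    (fun {s g} a b d => ?_) (Nat.card_congr (centerCongr i).toEquiv ▸ hZ) hK ((QuotientGroup.congr _ _ i ?_).trans e)
  · have := mem_normalizer_iff.1 (hA.2.2.2.ge (CF.StdZ.te_mem hA.2.1 (g := g) (c a) ((orderOf_coe s).trans b) (c d)))
    exact mem_normalizer_iff.2 fun x => this x
  · ext x
    obtain ⟨x, rfl⟩ := i.surjective x
    exact (mem_map_iff_mem i.injective).trans (MulEquivClass.apply_mem_center_iff i).symm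

end Cfsg.Agent.S3271
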