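import Cfsg.Statements.S0782
import Cfsg.Agent.Geom.Perfect

set_option autoImplicit false
open Cfsg

namespace Cfsg.Agent.S0782

/-- Maximal parabolics of SU_n(q): if W is a k-dimensional subspace of F^n (n ≥ 1, |F| = q²) on which the Hermitian form vanishes, then (q + 1) times the order of its stabiliser in SU_n(q) equals q^(k(2n−3k)) · |GL_k(q²)| · |GU_(n−2k)(q)|, where |GU_m(q)| = q^(m(m−1)/2) Π_(i=1..m) (q^i − (−1)^i). -/
theorem result {F : Type*} [Field F] [Fintype F] {q : ℕ} (hF : Fintype.card F = q ^ 2) (n k : ℕ) (hn : 1 ≤ n) (hk : 2 * k ≤ n) (W : Submodule F (Fin n → F)) (hWk : Module.finrank F W = k) (hW : ∀ u ∈ W, ∀ v ∈ W, Cfsg.hermForm n F q u v = 0) : (q + 1) * Nat.card ↥((Cfsg.stabilizing (Cfsg.slToMat n F) (W : Set (Fin n → F))).subgroupOf (Cfsg.SU n F q)) = q ^ (k * (2 * n - 3 * k)) * (∏ i : Fin k, ((q ^ 2) ^ k - (q ^ 2) ^ (i : ℕ))) * (q ^ ((n - 2 * k) * ((n - 2 * k) - 1) / 2) * ∏ i ∈ Finset.range (n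 - 2 * k), (if Even i then q ^ (i + 1) + 1 else q ^ (i + 1) - 1)) := by
  obtain ⟨σ, h1, h2, h3⟩ := CF.Geom.exists_conj hF
  have : Nonempty (Fin n) := ⟨⟨0, hn⟩⟩
  have hH := CF.Geom.isHerm_hermSesq (ι := Fin n) h2 h3
  have hB := CF.Geom.hermSesq_nondegenerate (ι := Fin n) σ
  have hP := hH.wittPair hB
  have hW' : W ≤ CF.Geom.perp (CF.Geom.hermSesq (Fin n) σ) W := fun v hv =>
    CF.Geom.mem_perp.2 fun u hu => by rw [← CF.Geom.hermForm_eq h1]; exact hW v hv u hu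
  have hW0 : ∀ u ∈ W, CF.Geom.hermSesq (Fin n) σ u u = CF.Geom.hermSesq (Fin n) σ 0 0 :=
    fun u hu => by rw [CF.Geom.mem_perp.1 (hW' hu) u hu]; simp
  obtain ⟨X, h4, h5, h6⟩ := hP.card_parabolic (CF.Geom.slideCard_herm hF h1 hH) hW0 hW' hWk
  have h7 : Module.finrank F X = n - 2 * k := by simp at h5; omega
  have h8 := CF.Geom.card_UG hF h1 (n - 2 * k) (hH.restrict X) (hP.restrict h4).nondegenerate h7
  rw [show CF.Geom.Isom _ (fun x : X => CF.Geom.hermSesq (Fin n) σ x x) = CF.Geom.UG _ from rfl,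
    h8] at h6
  have h9 := CF.Geom.card_eq_mul_card_subgroupOf hF h1 hB (CF.Geom.stabSet _ W)
    fun l hl => CF.Geom.exists_stab_det hH hB hW' hl
  have h10 : (Cfsg.stabilizing (Cfsg.slToMat n F) (W : Set (Fin n → F))).subgroupOf
      (Cfsg.SU n F q) = (CF.Geom.stabSet _ W).comap (CF.Geom.suToUG n h1) := by
    ext g; rfl
  rw [h10, ← Subgroup.card_map_of_injective (CF.Geom.suToUG_injective n h1),
    Subgroup.map_comap_eq, CF.Geom.suToUG_range,
    ← Nat.card_congr (Subgroup.subgroupOfEquivOfLe inf_le_left).toEquiv,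
    Subgroup.inf_subgroupOf_left, ← h9, hP.card_stabSet_totally_singular hW0 hW' hWk, h6, h7,
    Nat.card_eq_fintype_card, hF, ← pow_mul, ← pow_add, mul_right_comm]
  congr 3
  obtain ⟨d, rfl⟩ := Nat.exists_eq_add_of_le hk
  have h11 : 2 * (k * (k - 1) / 2) = k * (k - 1) :=
    Nat.mul_div_cancel' (Nat.even_mul_pred_self k).two_dvd
  rw [show 2 * (2 * k + d) - 3 * k = k + 2 * d by omega, Nat.add_sub_cancel_left, mul_add, h11]
  rcases k with _ | k
  · simp
  · simp only [Nat.add_sub_cancel]; ring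

end Cfsg.Agent.S0782
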