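import Cfsg.Statements.S2202
import Cfsg.Agent.Fgs3.AbInv2

set_option autoImplicit false
open Cfsg

namespace Cfsg.Agent.S2202

open CF.BG CF.Fgs3 CF.Classical Subgroup

/-- Finite groups in which the centralizer of every involution is abelian. Let G be a finite group of even order in which the centralizer of every element of order 2 is abelian. Then the Sylow 2-subgroups of G are cyclic, or a Sylow 2-subgroup of G is normal, or G is isomorphic to the direct product of SL₂(F) for a finite field F of characteristic two and an abelian group of odd order. -/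
theorem result {G : Type*} [Group G] [Finite G] (heven : Even (Nat.card G)) (h : ∀ t : G, orderOf t = 2 → IsMulCommutative ↥(Subgroup.centralizer ({t} : Set G))) :
    (∀ P : Sylow 2 G, IsCyclic ↥P) ∨ (∀ P : Sylow 2 G, (P : Subgroup G).Normal) ∨
    (∃ (F : Type) (_ : Field F) (_ : Fintype F) (A : Type) (_ : CommGroup A) (_ : Finite A), CharP F 2 ∧ Odd (Nat.card A) ∧ Nonempty (G ≃* Matrix.SpecialLinearGroup (Fin 2) F × A)) := by
  by_contra hcon
  push Not at hcon
  obtain ⟨⟨P, hP⟩, ⟨Q, hQ⟩, h3⟩ := hcon
  have hQ' := syl_sylow_top Q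
  have hA : AI (Q : Subgroup G) := ⟨fun t ht => Abel.of_comm (h t ht), hQ', fun hc => hP (by
      obtain ⟨g, -, hg⟩ := hQ'.syl_conj (syl_sylow_top P)
      have : Cyc (P : Subgroup G) := by rw [hg]; simpa using hc
      exact this),
    fun e => hQ (normalizer_eq_top_iff.mp e)⟩
  obtain ⟨F, _, _, h2, h4, π, hπ, ho, hc⟩ := hA.main
  obtain ⟨hd, ⟨e⟩⟩ := dprod_of_central h2 h4 hπ ho hc
  obtain ⟨e1⟩ := CF.Perm.nonempty_sup_equiv_prod _ _ hd.inf
  letI : CommGroup π.ker := { (inferInstance : Group π.ker) with
    mul_comm := fun a b => Subtype.ext (mem_center_iff.mp (hc b.2) a) }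
  let f : Shrink.{0} π.ker ≃* π.ker := Shrink.mulEquiv
  haveI : Finite (Shrink.{0} π.ker) := Finite.of_equiv _ f.toEquiv.symm
  refine (h3 F inferInstance inferInstance (Shrink.{0} π.ker) inferInstance inferInstance
    (charP_two h2) (by rwa [Nat.card_congr f.toEquiv])).false ?_
  exact ((topEquiv.symm.trans (MulEquiv.subgroupCongr hd.sup.symm)).trans e1).trans
    (MulEquiv.prodCongr (e.trans (slEquivPSL h2).symm) f.symm)

end Cfsg.Agent.S2202
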