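import Mathlib
import Cfsg.Agent.Fgs2.Metacyc2
import Cfsg.Statements.S3884

set_option autoImplicit false
open Cfsg

namespace Cfsg.Agent.S3884

theorem aux {G : Type*} [Group G] [Finite G] (A B : Subgroup G)
    (hgen : ∀ g : G, ∃ a ∈ A, ∃ b ∈ B, g = a * b) (h : Nat.card A * Nat.card B ≤ Nat.card G) :
    A ⊓ B = ⊥ ∧ Nat.card A * Nat.card B = Nat.card G := by
  have hs : Function.Surjective (fun x : A × B => (x.1 : G) * x.2) := by
    intro g
    obtain ⟨a, ha, b, hb, rfl⟩ := hgen g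
    exact ⟨(⟨a, ha⟩, ⟨b, hb⟩), rfl⟩
  have hc := Nat.card_le_card_of_surjective _ hs
  rw [Nat.card_prod] at hc
  have he := le_antisymm h hc
  refine ⟨?_, he⟩
  have hb := (Nat.bijective_iff_surjective_and_card _).2 ⟨hs, by rw [Nat.card_prod, he]⟩
  rw [eq_bot_iff]
  intro x hx
  have := @hb.1 (⟨x, hx.1⟩, 1) (1, ⟨x, hx.2⟩) (by simp)
  exact congrArg Subtype.val (congrArg Prod.fst this)

theorem exists_inv {p : ℕ} (hp : p.Prime) (m : ℕ) {w : ℤ} (hw : ¬ (p : ℤ) ∣ w) (s : ℤ) :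
    ∃ u : ℕ, (p : ℤ) ^ m ∣ u * w + s := by
  haveI : NeZero (p ^ m) := ⟨pow_ne_zero _ hp.ne_zero⟩
  have hpz : Prime (p : ℤ) := Nat.prime_iff_prime_int.1 hp
  obtain ⟨x, y, hxy⟩ : IsCoprime ((p : ℤ) ^ m) w := ((hpz.coprime_iff_not_dvd).2 hw).pow_left
  refine ⟨((-(y * s) : ℤ) : ZMod (p ^ m)).val, ?_⟩
  have : ((((-(y * s) : ℤ) : ZMod (p ^ m)).val * w + s - x * p ^ m * s : ℤ) : ZMod (p ^ m)) = 0 := by
    have h := congrArg (Int.cast : ℤ → ZMod (p ^ m)) hxy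
    push_cast at h ⊢
    rw [ZMod.natCast_zmod_val]
    linear_combination (-(s : ZMod (p ^ m))) * h
  rw [ZMod.intCast_zmod_eq_zero_iff_dvd] at this
  push_cast at this
  have h2 := dvd_add this (show (p : ℤ) ^ m ∣ x * p ^ m * s from ⟨x * s, by ring⟩)
  simpa using h2

/-- Let p be an odd prime and G a finite metacyclic p-group (G has a cyclic normal subgroup with cyclic quotient). Then G is the product of two cyclic subgroups with trivial intersection: there are cyclic subgroups A and B with A ∩ B = 1 and |A| · |B| = |G|. -/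
theorem result {G : Type*} [Group G] [Finite G] {p : ℕ} [Fact p.Prime] (hp : p ≠ 2) (hG : IsPGroup p G) (hmc : Cfsg.IsMetacyclic G) : ∃ A B : Subgroup G, IsCyclic ↥A ∧ IsCyclic ↥B ∧ A ⊓ B = ⊥ ∧ Nat.card ↥A * Nat.card ↥B = Nat.card G := by
  obtain ⟨D⟩ := CF.Fgs2.nonempty_mgen hG hmc
  have hpp : p.Prime := Fact.out
  have hpz : Prime (p : ℤ) := Nat.prime_iff_prime_int.1 hpp
  obtain ⟨m, hm⟩ := (IsPGroup.iff_orderOf.1 hG) D.a
  have ha : ∀ i : ℤ, D.a ^ i = 1 ↔ (p : ℤ) ^ m ∣ i := by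
    intro i; rw [← orderOf_dvd_iff_zpow_eq_one, hm]; push_cast; rfl
  haveI hN : (Subgroup.zpowers D.a).Normal := by
    constructor
    rintro _ ⟨i, rfl⟩ g
    obtain ⟨u, v, rfl⟩ := D.gen g
    refine ⟨i * D.r ^ v, ?_⟩
    simp only
    rw [mul_assoc (D.a ^ u), D.pow_mul_zpow]; group
  obtain ⟨f, hf⟩ := (IsPGroup.iff_orderOf.1 (hG.to_quotient (Subgroup.zpowers D.a)))
    (D.b : G ⧸ Subgroup.zpowers D.a)
  have hcard : p ^ m * p ^ f ≤ Nat.card G := by
    rw [← (Subgroup.zpowers D.a).card_mul_index, Nat.card_zpowers, hm, ← hf]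
    exact Nat.mul_le_mul_left _ (orderOf_le_card)
  obtain ⟨t, ht⟩ : D.b ^ p ^ f ∈ Subgroup.zpowers D.a := by
    rw [← QuotientGroup.eq_one_iff, QuotientGroup.mk_pow, ← hf, pow_orderOf_eq_one]
  simp only at ht
  have hle : ∀ (x : G) (k : ℕ), x ^ p ^ k = 1 → Nat.card (Subgroup.zpowers x) ≤ p ^ k := by
    intro x k h
    rw [Nat.card_zpowers]
    exact orderOf_le_of_pow_eq_one (pow_pos hpp.pos k) h
  by_cases h1 : ∃ u : ℤ, (p : ℤ) ^ m ∣ u * CF.Fgs2.gs D.r (p ^ f) + t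
  · obtain ⟨u, hu⟩ := h1
    refine ⟨Subgroup.zpowers D.a, Subgroup.zpowers (D.a ^ u * D.b ^ 1), inferInstance,
      inferInstance, aux _ _ ?_ (le_trans (Nat.mul_le_mul ?_ ?_) hcard)⟩
    · intro g
      obtain ⟨i, j, rfl⟩ := D.gen g
      refine ⟨D.a ^ (i - u * CF.Fgs2.gs D.r j), Subgroup.zpow_mem_zpowers _ _, _,
        Subgroup.npow_mem_zpowers _ j, ?_⟩
      rw [D.pow_eq]; simp only [pow_one, one_mul]; group
    · rw [Nat.card_zpowers, hm]
    · apply hle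
      rw [D.pow_eq, pow_one, one_mul, ← ht, ← zpow_add, ha]
      exact hu
  · have ht0 : t ≠ 0 := by
      rintro rfl
      exact h1 ⟨0, by simp⟩
    obtain ⟨e, t', ht', rfl⟩ : ∃ (e : ℕ) (t' : ℤ), ¬ (p : ℤ) ∣ t' ∧ t = p ^ e * t' := by
      obtain ⟨e, t', h2, h3⟩ := WfDvdMonoid.max_power_factor ht0 hpz.irreducible
      exact ⟨e, t', h2, h3⟩
    have hem : e < m := by
      by_contra h
      exact h1 ⟨0, by simpa using (pow_dvd_pow _ (not_lt.1 h)).mul_right t'⟩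
    have hef : e < f := by
      by_contra h
      obtain ⟨d, rfl⟩ := Nat.exists_eq_add_of_le (not_lt.1 h)
      obtain ⟨z, hz⟩ := CF.Fgs2.dvd_gs_prime_pow hpp hp D.hr f
      have h4 : ¬ (p : ℤ) ∣ 1 + (D.r - 1) * z := by
        intro h
        have := dvd_sub h (D.hr.mul_right z)
        simp only [add_sub_cancel_right] at this
        exact hpz.not_dvd_one this
      obtain ⟨u, hu⟩ := exists_inv hpp m h4 (p ^ d * t')
      refine h1 ⟨u, ?_⟩
      rw [sub_eq_iff_eq_add] at hz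
      rw [hz]
      exact (hu.mul_left ((p : ℤ) ^ f)).trans (dvd_of_eq (by ring))
    obtain ⟨w', hw'⟩ := exists_inv hpp m ht' 1
    have hc : (p : ℤ) ^ m ∣ p ^ e * (D.r - 1) := by
      have h2 := D.b_mul_zpow (p ^ e * t')
      rw [ht, ← pow_succ', pow_succ, mul_left_inj, ← ht, eq_comm, ← mul_inv_eq_one, ← zpow_sub,
        ha] at h2
      have h3 : IsCoprime ((p : ℤ) ^ m) t' := ((hpz.coprime_iff_not_dvd).2 ht').pow_left
      exact h3.dvd_of_dvd_mul_right (h2.trans (dvd_of_eq (by ring)))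
    set w := p ^ (f - e) * w' with hw
    refine ⟨Subgroup.zpowers (D.a ^ (1 : ℤ) * D.b ^ w), Subgroup.zpowers D.b, inferInstance,
      inferInstance, aux _ _ ?_ (le_trans (Nat.mul_le_mul (hle _ e ?_) (hle _ (f + (m - e)) ?_))
        (le_trans (le_of_eq ?_) hcard))⟩
    · intro g
      obtain ⟨i, j, rfl⟩ := D.gen g
      obtain ⟨k, hk⟩ := CF.Fgs2.gs_surj hpp hp (D.dvd_r_pow w) m i
      rw [← CF.Fgs2.gs_cast, ZMod.intCast_eq_intCast_iff, ← hm, ← zpow_eq_zpow_iff_modEq] at hk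
      refine ⟨_, Subgroup.npow_mem_zpowers _ k, D.b ^ ((j : ℤ) - (w * k : ℕ)),
        Subgroup.zpow_mem_zpowers _ _, ?_⟩
      rw [D.pow_eq, one_mul, hk, zpow_sub, zpow_natCast, zpow_natCast]; group
    · have hwe : w * p ^ e = p ^ f * w' := by
        rw [hw, mul_right_comm, ← pow_add, Nat.sub_add_cancel hef.le]
      rw [D.pow_eq, one_mul, hwe, pow_mul D.b, ← ht,
        ← zpow_natCast (D.a ^ _), ← zpow_mul, ← zpow_add, ha]
      obtain ⟨z, hz⟩ := CF.Fgs2.dvd_gs_prime_pow hpp hp (D.dvd_r_pow w) e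
      obtain ⟨y, hy⟩ : (D.r - 1) ∣ D.r ^ w - 1 := by simpa using sub_dvd_pow_sub_pow D.r 1 w
      rw [sub_eq_iff_eq_add] at hz
      rw [hz, hy]
      exact (dvd_add (hc.mul_right (y * z)) (hw'.mul_left ((p : ℤ) ^ e))).trans
        (dvd_of_eq (by ring))
    · rw [pow_add, pow_mul, ← ht, ← zpow_natCast, ← zpow_mul, ha]
      push_cast
      rw [mul_right_comm, ← pow_add, Nat.add_sub_cancel' hem.le]
      exact dvd_mul_right _ _
    · rw [← pow_add, ← pow_add]; congr 1; omega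

end Cfsg.Agent.S3884
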