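import Cfsg.Statements.S0384
import Cfsg.Agent.Comp.MatIso

set_option autoImplicit false
open scoped Pointwise
open Cfsg

namespace Cfsg.Agent.S0384

/-- A dodecad stabiliser is sharply 5-transitive on the dodecad. -/
theorem result (d : Finset Cfsg.GolayPt) (hd : d ∈ Cfsg.dodecads) (x y : Fin 5 ↪ Cfsg.GolayPt) (hx : ∀ i, x i ∈ d) (hy : ∀ i, y i ∈ d) : ∃! g : MulAction.stabilizer Cfsg.M24 d, ∀ i, ((g : Cfsg.M24) : Equiv.Perm Cfsg.GolayPt) (x i) = y i := by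
  obtain ⟨k, hk, e⟩ := CF.Comp.Mat.M24_dodecads hd CF.Comp.Mat.sqD_mem
  have hx' : ∀ i, k (x i) ∈ Cfsg.Spor.squareDodecad := fun i => e ▸ CF.Leech.apply_mem_smul_finset.2 (hx i)
  have hy' : ∀ i, k (y i) ∈ Cfsg.Spor.squareDodecad := fun i => e ▸ CF.Leech.apply_mem_smul_finset.2 (hy i)
  have ix : Function.Injective fun i => k (x i) := k.injective.comp x.injective
  obtain ⟨g, hg, h⟩ := CF.Comp.Mat.M12_multi le_rfl _ _ ix (k.injective.comp y.injective) hx' hy'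
  have hg2 : g • Cfsg.Spor.squareDodecad = Cfsg.Spor.squareDodecad := hg.2
  refine ⟨⟨⟨k⁻¹ * g * k, M24.mul_mem (M24.mul_mem (M24.inv_mem hk) hg.1) hk⟩, ?_⟩, fun i => ?_, ?_⟩
  · show (k⁻¹ * g * k) • d = d
    rw [mul_smul, mul_smul, e, hg2, ← e, inv_smul_smul]
  · show k⁻¹ (g (k (x i))) = y i
    rw [h i]; simp
  · rintro ⟨⟨g', hg'⟩, hd'⟩ h'
    have hd2 : g' • d = d := hd'
    have h1 : g⁻¹ * (k * g' * k⁻¹) = 1 := by
      refine CF.Comp.Mat.M12_eq_one (Cfsg.Spor.M12.mul_mem (Cfsg.Spor.M12.inv_mem hg)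
        ⟨M24.mul_mem (M24.mul_mem hk hg') (M24.inv_mem hk), ?_⟩) _ ix hx' fun i => ?_
      · show (k * g' * k⁻¹) • Cfsg.Spor.squareDodecad = Cfsg.Spor.squareDodecad
        rw [← e, CF.Comp.conj_smul_smul_iff, hd2]
      · have h3 : g' (x i) = y i := h' i
        have h4 : g (k (x i)) = k (y i) := h i
        simp only [Equiv.Perm.mul_apply, Equiv.Perm.inv_def, Equiv.symm_apply_apply, h3, ← h4]
    rw [inv_mul_eq_one] at h1
    apply Subtype.ext; apply Subtype.ext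
    show g' = k⁻¹ * g * k
    rw [h1]; group

end Cfsg.Agent.S0384
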