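import Cfsg.Statements.S4220
import Cfsg.Agent.Perm.Miller

set_option autoImplicit false
open Cfsg

namespace Cfsg.Agent.S4220

open CF.Perm in

/-- Let `n = kp + r` with `p` prime, `1 ≤ k < p` and `r > k`, excluding the case `k = 1, r = 2`. Then a permutation group of degree `n` that is `(r + 1)`-fold transitive contains the alternating group. -/
theorem result {α : Type*} [Fintype α] [DecidableEq α] (G : Subgroup (Equiv.Perm α)) {k p r : ℕ} (hp : p.Prime) (hn : Fintype.card α = k * p + r) (hk : 1 ≤ k) (hpk : k < p) (hrk : k < r) (hex : ¬ (k = 1 ∧ r = 2)) (hG : MulAction.IsMultiplyPretransitive G α (r + 1)) : alternatingGroup α ≤ G := by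
  have hkp : p ≤ k * p := Nat.le_mul_of_pos_left p hk
  have hn' : r + 1 ≤ Nat.card α := by rw [Nat.card_eq_fintype_card]; omega
  by_cases h1 : k * p ≤ 3
  · exact IsMultiplyPretransitive.alternatingGroup_le α G
      (multTrans_of_le hG (by rw [Nat.card_eq_fintype_card]; omega) hn')
  by_cases h2 : r = 3 ∧ p = 3
  · obtain ⟨rfl, rfl⟩ := h2
    obtain ⟨x⟩ := Function.Embedding.nonempty_of_card_le (α := Fin 4) (β := α) (by simp; omega)
    by_cases h3 : Odd (Nat.card (MulAction.stabilizer G x))
    · have := hall_four G hG x h3; omega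
    obtain ⟨t, ht⟩ := exists_prime_orderOf_dvd_card' 2 (even_iff_two_dvd.1 (Nat.not_odd_iff_even.1 h3))
    rw [← Subgroup.orderOf_coe, ← Subgroup.orderOf_coe] at ht
    refine alt_le_of_support_le_four hG (by omega) t.1.2 (fun e => by simp [e] at ht) ?_
    have h4 := Equiv.Perm.two_dvd_card_support (ht ▸ pow_orderOf_eq_one t.1.1)
    have h5 := Finset.card_le_card (s := t.1.1.support) (t := (Finset.univ.map x)ᶜ) fun y hy => by
      simp only [Finset.mem_compl, Finset.mem_map, not_exists, not_and]
      rintro i - rfl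
      exact Equiv.Perm.mem_support.1 hy (DFunLike.congr_fun (MulAction.mem_stabilizer_iff.1 t.2) i)
    simp [Finset.card_compl] at h5
    omega
  exact miller hp hn hk hpk hrk (by rintro rfl; omega) (by omega) (by omega) hG

end Cfsg.Agent.S4220
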