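import Cfsg.Statements.S4418
import Cfsg.Agent.Fgs3.Meta2
import Cfsg.Agent.S0949
import Cfsg.Agent.S4064

set_option autoImplicit false
open Cfsg

namespace Cfsg.Agent.S4418

open CF.BG CF.Fgs3 Subgroup

/-- Let G be a finite group whose Sylow 2-subgroup S is metacyclic via a cyclic normal subgroup N of S with S/N cyclic of order greater than 2. Then G is soluble. -/
theorem result {G : Type*} [Group G] [Finite G] (S : Sylow 2 G) (N : Subgroup ↥(S : Subgroup G)) [hN : N.Normal] (hNc : IsCyclic N) (hQc : IsCyclic (↥(S : Subgroup G) ⧸ N)) (hQ : 2 < Nat.card (↥(S : Subgroup G) ⧸ N)) : Group.IsSolvable G := by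
  have hS := syl_sylow_top S
  obtain ⟨z, hz⟩ := hQc.exists_generator
  obtain ⟨⟨y, hy⟩, rfl⟩ := QuotientGroup.mk_surjective z
  set N₀ := N.map (S : Subgroup G).subtype with hN₀
  have hmem : ∀ s : (S : Subgroup G), (s : G) ∈ N₀ ↔ s ∈ N := fun s =>
    mem_map_iff_mem (S : Subgroup G).subtype_injective
  have h : MC (S : Subgroup G) N₀ y := by
    refine ⟨hS.pi, normal_iff_map_subtype.1 hN, Cyc.map hNc _, hy, fun s hs => ?_⟩
    obtain ⟨k, hk⟩ := mem_zpowers_iff.1 (hz (QuotientGroup.mk ⟨s, hs⟩))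
    rw [← QuotientGroup.mk_zpow, QuotientGroup.eq] at hk
    have h1 := mul_mem (mem_sup_right (zpow_mem (mem_zpowers y) k))
      (mem_sup_left ((hmem _).2 hk) : _ ∈ N₀ ⊔ zpowers y)
    simpa using h1
  have hy2 : y ^ 2 ∉ N₀ := by
    intro e
    have h1 : (QuotientGroup.mk ⟨y, hy⟩ : (S : Subgroup G) ⧸ N) ^ 2 = 1 := by
      rw [← QuotientGroup.mk_pow, QuotientGroup.eq_one_iff]
      exact (hmem _).1 e
    have h2 := Nat.le_of_dvd two_pos (orderOf_dvd_of_pow_eq_one h1)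
    rw [orderOf_eq_card_of_forall_mem_zpowers hz] at h2
    omega
  rw [← sol_top_iff]
  rcases h.npc_or hy2 hS with k | ⟨N', d, c, e⟩
  · exact sol_of_npc_two k
  obtain ⟨m, hm⟩ := (hS.pi.le h.normal.le).card_pow
  have hm2 : 2 ≤ m := by
    by_contra k
    have h1 := pow_relIndex_mem_of_normal h.normal hy
    rw [d.sdprod.relIndex_left, e, hm] at h1
    obtain ⟨j, hj⟩ : 2 ^ m ∣ 2 := by simpa using pow_dvd_pow 2 (show m ≤ 1 by omega)
    exact hy2 (by rw [hj, pow_mul]; exact pow_mem h1 j)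
  have : NeZero (2 ^ m) := ⟨by positivity⟩
  obtain ⟨e₁⟩ := Cfsg.Agent.S4064.dprod_equiv d
  have hc := h.cyc
  let e₂ : N₀ ≃* Multiplicative (ZMod (2 ^ m)) := mulEquivOfCyclicCardEq (by simpa using hm)
  let e₃ : N' ≃* Multiplicative (ZMod (2 ^ m)) := mulEquivOfCyclicCardEq (by simpa [e] using hm)
  set O := 𝐎 {2}ᶜ (⊤ : Subgroup G) with hO
  have nO : ⊤ ≤ 𝐍 O := (O_normal _ _).norm
  have htop : qt O ⊤ = ⊤ := by rw [← qt_norm_eq_top, top_le_iff.1 nO]
  have h1 := hS.qt nO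
  rw [htop] at h1
  obtain ⟨Q, hQ'⟩ := h1.exists_sylow_top
  obtain ⟨e₄⟩ := qt_iso_of_inf_bot (le_top.trans nO : (S : Subgroup G) ≤ 𝐍 O)
    ((O_pi _ _).inf_eq_bot' hS.pi)
  have h2 := (Cfsg.Agent.S0949.result Q m hm2 ((MulEquiv.subgroupCongr hQ').trans (e₄.symm.trans
    (e₁.trans ((e₂.prodCongr e₃).trans (MulEquiv.prodMultiplicative _ _).symm)))) (by
      intro K hK o
      have h3 := le_O (normalIn_top.2 hK) ((piNat_compl_single Nat.prime_two).2 (by
        rw [Nat.odd_iff] at o; omega))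
      rw [← htop] at h3
      exact eq_bot_mono (O_qt_O _ _) h3)).1
  refine Sol.of_qt (sol_of_pi' (O_pi _ _)) nO ?_
  rw [htop]
  exact sol_of_normal_syl (syl_sylow_top Q) (normalIn_top.2 h2).norm

end Cfsg.Agent.S4418
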