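import Cfsg.Statements.S0214
import Cfsg.Agent.Invol.StrEmb

set_option autoImplicit false
open Cfsg

namespace Cfsg.Agent.S0214

/-- Let H be a proper subgroup of the finite group G and P a nontrivial Sylow 2-subgroup of H. Then H is strongly embedded in G if and only if N_G(X) ≤ H for every nontrivial subgroup X of P. -/
theorem result {G : Type*} [Group G] [Finite G] (H : Subgroup G) (hH : H ≠ ⊤) (P : Sylow 2 ↥H) (hP : (P : Subgroup ↥H) ≠ ⊥) : Cfsg.IsStronglyEmbedded H ↔ (∀ X : Subgroup ↥H, X ≤ (P : Subgroup ↥H) → X ≠ ⊥ → Subgroup.normalizer ((X.map H.subtype : Subgroup G) : Set G) ≤ H) := by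
  haveI : Fact (Nat.Prime 2) := ⟨Nat.prime_two⟩
  have hP' := CF.Transfer.isSylowIn_map_sylow P
  have heven : Even (Nat.card H) := by
    rw [even_iff_two_dvd]
    by_contra h
    have := hP'.eq_bot_iff.2 h
    rw [Subgroup.map_eq_bot_iff_of_injective _ H.subtype_injective] at this
    exact hP this
  rw [CF.Invol.se_iff, CF.Invol.sEmb_iff_normalizer hP']
  constructor
  · rintro ⟨-, -, h⟩ X hX hne
    refine h _ (Subgroup.map_mono hX) ?_
    rwa [Ne, Subgroup.map_eq_bot_iff_of_injective _ H.subtype_injective]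
  · refine fun h => ⟨hH, heven, fun X hX hne => ?_⟩
    have hXH : X ≤ H := hX.trans hP'.le
    have := h (X.subgroupOf H) (by
      intro x hx
      obtain ⟨y, hy, hyx⟩ := hX hx
      rwa [← Subtype.ext hyx]) (by
      intro h0
      rw [Subgroup.subgroupOf_eq_bot, disjoint_iff, inf_eq_left.2 hXH] at h0
      exact hne h0)
    rwa [Subgroup.map_subgroupOf_eq_of_le hXH] at this

end Cfsg.Agent.S0214
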