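import Cfsg.Statements.S0224
import Cfsg.Agent.Invol.StrEmb

set_option autoImplicit false
open Cfsg

namespace Cfsg.Agent.S0224

/-- Let H be a proper subgroup of even order of the finite group G. Then H is strongly embedded if and only if each involution of H fixes exactly one point (namely the coset H) in the action of G on the cosets of H. -/
theorem result {G : Type*} [Group G] [Finite G] (H : Subgroup G) (hH : H ≠ ⊤) (heven : Even (Nat.card H)) : Cfsg.IsStronglyEmbedded H ↔ ∀ t ∈ H, orderOf t = 2 → Nat.card {c : G ⧸ H // t • c = c} = 1 := by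
  rw [CF.Invol.se_iff]
  constructor
  · rintro ⟨-, -, h⟩ t htH ht
    rw [Nat.card_eq_one_iff_exists]
    refine ⟨⟨QuotientGroup.mk 1, CF.Invol.smul_mk_eq_iff.2 (by simpa using htH)⟩, ?_⟩
    rintro ⟨c, hc⟩
    obtain ⟨a, rfl⟩ := QuotientGroup.mk_surjective c
    apply Subtype.ext
    have := h.mem_of_conj' htH ht (CF.Invol.smul_mk_eq_iff.1 hc)
    exact QuotientGroup.eq.2 (by simpa using H.inv_mem this)
  · refine fun h => ⟨hH, heven, fun t htH ht g hg => ?_⟩
    have h1 := (Nat.card_eq_one_iff_unique.1 (h t htH ht)).1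
    have := h1.elim ⟨QuotientGroup.mk g⁻¹, CF.Invol.smul_mk_eq_iff.2 (by simpa using hg)⟩
      ⟨QuotientGroup.mk 1, CF.Invol.smul_mk_eq_iff.2 (by simpa using htH)⟩
    simpa using QuotientGroup.eq.1 (congrArg Subtype.val this)

end Cfsg.Agent.S0224
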