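import Cfsg.Statements.S0340
import Cfsg.Agent.S0885
import Cfsg.Agent.S0347
import Cfsg.Agent.Perm.Sharp3

set_option autoImplicit false
open Cfsg

namespace Cfsg.Agent.S0340

/-- Classification of Zassenhaus groups, simple case, order-level form: a finite simple Zassenhaus group is
isomorphic to `PSL₂(F)` for some finite field `F` or is simple of Suzuki order. -/
theorem result {G Ω : Type*} [Group G] [Finite G] [MulAction G Ω]
    [Finite Ω] (hZ : Cfsg.IsZassenhausGroup G Ω) [IsSimpleGroup G] :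
    (∃ (F : Type) (_ : Field F) (_ : Fintype F), Nonempty (G ≃* Matrix.ProjectiveSpecialLinearGroup (Fin 2) F)) ∨ Cfsg.IsSuzuki G := by
  have := CF.Perm.Zass.nontrivial hZ
  have := Fintype.ofFinite Ω
  obtain ⟨a, b, hab⟩ := exists_pair_ne Ω
  obtain ⟨P, Z⟩ := CF.Perm.Zass.exists_zsetup hZ a
  have h1 := Z.card_eq hab.symm
  have hpos : 0 < Nat.card (CF.Small.stab2 G a b) := Nat.card_pos
  have key : ∀ p f : ℕ, p.Prime → 1 ≤ f → (∀ (F : Type) [Field F] [Fintype F],
      Fintype.card F = p ^ f → Nonempty (G ≃* Matrix.ProjectiveSpecialLinearGroup (Fin 2) F)) →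
      ∃ (F : Type) (_ : Field F) (_ : Fintype F),
        Nonempty (G ≃* Matrix.ProjectiveSpecialLinearGroup (Fin 2) F) := by
    intro p f hp hf h
    obtain ⟨F, _, _, hF⟩ := CF.Perm.exists_field_card hp hf
    exact ⟨F, inferInstance, inferInstance, h F hF⟩
  rcases Nat.even_or_odd (Nat.card (CF.Small.stab2 G a b)) with he | he
  · obtain ⟨-, p, f, hp, -, hf, -, h3⟩ := CF.Perm.ZS.psl_of_even_small Z hab.symm he
      (CF.Perm.Zass.small_of_simple_even hZ Z hab he)
    exact Or.inl (key p f hp hf h3)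
  rcases Cfsg.Agent.S0885.result hZ hab _ _ (Nat.card_eq_fintype_card.symm.trans h1) rfl he P
    (fun u hu => Z.fix u hu) (h1.symm.trans Nat.card_eq_fintype_card)
    (fun u hu hu1 c hc => by_contra fun h => hu1 (Z.free u hu c h hc)) with h2 | ⟨h2, h3, -⟩
  · have h3 : Nat.card P ≤ 2 * Nat.card (CF.Small.stab2 G a b) + 1 := Nat.sub_le_iff_le_add.1 h2
    rcases CF.Perm.Zass.three_trans_or_psl hZ Z hab.symm
      (CF.Perm.ZS.comm_of_card_le Z hab.symm h3) with h4 | ⟨-, p, f, hp, -, hf, -, h4⟩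
    · obtain ⟨f, hf, -, h5⟩ := CF.Perm.psl_of_three_trans_odd
        (CF.Perm.three_trans_of_card hZ.2.1 (CF.Perm.Zass.three hZ) hab (by omega))
        (CF.Perm.Zass.three hZ) (by omega) (by rw [h1, h4, add_assoc]; exact he.add_even even_two)
      exact Or.inl (key 2 f Nat.prime_two hf h5)
    · exact Or.inl (key p f hp hf h4)
  · refine Or.inr (Cfsg.Agent.S0347.result hZ a P (fun u hu => Z.fix u hu) ?_ h2 h3 ?_)
    · exact (Subgroup.normal_subgroupOf_iff_le_normalizer (fun u hu => Z.fix u hu)).2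
        fun g hg => Z.norm g hg
    · intro y z hy hz
      obtain ⟨u, hu, h⟩ := Z.trans y z hy hz
      refine ⟨⟨u, hu⟩, h, fun v hv => Subtype.ext ?_⟩
      have := Z.free (u⁻¹ * v) (P.mul_mem (P.inv_mem hu) v.2) y hy
        (by rw [mul_smul, hv, ← h, inv_smul_smul])
      exact (inv_mul_eq_one.1 this).symm

end Cfsg.Agent.S0340
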