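import Cfsg.Statements.S0650
import Cfsg.Agent.PLocal.GlaubRepl

set_option autoImplicit false
open Cfsg

namespace Cfsg.Agent.S0650

/-- The Glauberman replacement Theorem: from an abelian A ⊇ [B, B] not normalized by the normal subgroup B and a suitable b ∈ B one gets the abelian subgroup A* = (A ∩ b⁻¹Ab)[A, b] of the same order, containing [B, B], meeting B strictly more than A does but not containing B, mutually normalizing with A, with strictly larger normalizer containing b, and (p odd) of no larger exponent. -/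
theorem result {S : Type*} [Group S] [Finite S] {p : ℕ} [Fact p.Prime] (hS : IsPGroup p S) (B : Subgroup S) [B.Normal] (hB2 : p = 2 → IsMulCommutative B) (A : Subgroup S) (hA : IsMulCommutative A) (hBA : ⁅B, B⁆ ≤ A) (hnot : ¬ B ≤ Subgroup.normalizer (A : Set S)) (b : S) (hb : b ∈ B) (hbN : b ∈ Subgroup.normalizer ((Subgroup.normalizer (A : Set S)) : Set S)) (hbA : b ∉ Subgroup.normalizer (A : Set S)) : Nat.card ↥((A ⊓ A.map (MulAut.conj (b⁻¹)).toMonoidHom) ⊔ Subgroup.closure {g : S | ∃ a ∈ A, g = a * b⁻¹ * a⁻¹ * b}) = Nat.card A ∧ IsMulCommutative ↥((A ⊓ A.map (MulAut.conj (b⁻¹)).toMonoidHom) ⊔ Subgroup.closure {g : S | ∃ a ∈ A, g = a * b⁻¹ * a⁻¹ * b}) ∧ ⁅B, B⁆ ≤ ((A ⊓ A.map (MulAut.conj (b⁻¹)).toMonoidHom) ⊔ Subgroup.closure {g : S | ∃ a ∈ A, g = a * b⁻¹ * a⁻¹ * b}) ∧ A ⊓ B < ((A ⊓ A.map (MulAut.conj (b⁻¹)).toMonoidHom) ⊔ Subgroup.closure {g : S | ∃ a ∈ A, g = a * b⁻¹ * a⁻¹ * b}) ⊓ B ∧ ((A ⊓ A.map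 (MulAut.conj (b⁻¹)).toMonoidHom) ⊔ Subgroup.closure {g : S | ∃ a ∈ A, g = a * b⁻¹ * a⁻¹ * b}) ⊓ B < B ∧ A ≤ Subgroup.normalizer (((A ⊓ A.map (MulAut.conj (b⁻¹)).toMonoidHom) ⊔ Subgroup.closure {g : S | ∃ a ∈ A, g = a * b⁻¹ * a⁻¹ * b} : Subgroup S) : Set S) ∧ ((A ⊓ A.map (MulAut.conj (b⁻¹)).toMonoidHom) ⊔ Subgroup.closure {g : S | ∃ a ∈ A, g = a * b⁻¹ * a⁻¹ * b}) ≤ Subgroup.normalizer (A : Set S) ∧ b ∈ Subgroup.normalizer (((A ⊓ A.map (MulAut.conj (b⁻¹)).toMonoidHom) ⊔ Subgroup.closure {g : S | ∃ a ∈ A, g = a * b⁻¹ * a⁻¹ * b} : Subgroup S) : Set S) ∧ Subgroup.normalizer (A : Set S) < Subgroup.normalizer (((A ⊓ A.map (MulAut.conj (b⁻¹)).toMonoidHom) ⊔ Subgroup.closure {g : S | ∃ a ∈ A, g = a * b⁻¹ * a⁻¹ * b} : Subgroup S) : Set S) ∧ (p ≠ 2 → Monoid.exponent ↥((A ⊓ A.map (MulAut.conj (b⁻¹)).toMonoidHom) ⊔ Subgroup.closure {g : S | ∃ a ∈ A, g = a * b⁻¹ * a⁻¹ * b}) ∣ Monoid.exponent A) := by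
  have hodd : (∀ w ∈ B, w ^ 2 = 1 → w = 1) ∨ IsMulCommutative B := by
    by_cases hp : p = 2
    · exact Or.inr (hB2 hp)
    · exact Or.inl (CF.PLocal.eq_one_of_sq_of_isPGroup hp (hS.to_subgroup B))
  have h : CF.PLocal.GlSetup A B b := CF.PLocal.glSetup_of_mem (P := ⊤) hA le_top
    Subgroup.le_normalizer_of_normal hBA hb (by rwa [top_inf_eq]) hodd
  change Nat.card (CF.PLocal.glRepl A b) = _ ∧ IsMulCommutative (CF.PLocal.glRepl A b) ∧
    _ ≤ CF.PLocal.glRepl A b ∧ _ < CF.PLocal.glRepl A b ⊓ B ∧ CF.PLocal.glRepl A b ⊓ B < B ∧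
    A ≤ Subgroup.normalizer (CF.PLocal.glRepl A b : Set S) ∧ CF.PLocal.glRepl A b ≤ _ ∧
    b ∈ Subgroup.normalizer (CF.PLocal.glRepl A b : Set S) ∧
    _ < Subgroup.normalizer (CF.PLocal.glRepl A b : Set S) ∧
    (_ → Monoid.exponent (CF.PLocal.glRepl A b) ∣ _)
  refine ⟨h.card_glRepl, h.glRepl_comm, h.der_le, h.inf_lt hbA, ?_, h.le_normalizer_glRepl,
    h.glRepl_le_normalizer, h.mem_normalizer_glRepl, ?_, fun hp => ?_⟩
  · exact lt_of_le_of_ne inf_le_right fun e => hnot ((inf_eq_right.mp e).trans h.glRepl_le_normalizer)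
  · refine lt_of_le_of_ne (fun n hn => ?_) fun e => hbA (e ▸ h.mem_normalizer_glRepl)
    have hy : b⁻¹ * n * b * n⁻¹ ∈ Subgroup.normalizer (A : Set S) :=
      mul_mem (CF.Transfer.inv_conj_mem_of_mem_normalizer hbN hn) (inv_mem hn)
    have hyB : b⁻¹ * n * b * n⁻¹ ∈ B := by
      have := B.mul_mem (B.inv_mem hb) (Subgroup.Normal.conj_mem inferInstance b hb n)
      simpa [mul_assoc] using this
    have hn' : n ∈ Subgroup.normalizer (CF.Transfer.cj b⁻¹ A : Set S) := by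
      rw [CF.Transfer.normalizer_cj, CF.Transfer.mem_cj_inv]
      exact CF.Transfer.conj_mem_of_mem_normalizer hbN hn
    refine CF.PLocal.mem_normalizer_of_conj_mem fun x hx => ?_
    obtain ⟨z, hz, a, ha, rfl⟩ := h.exists_of_mem_glRepl hx
    set y := b⁻¹ * n * b * n⁻¹ with hydef
    have ha' : n * a * n⁻¹ ∈ A := CF.Transfer.conj_mem_of_mem_normalizer hn ha
    set a' := n * a * n⁻¹ with ha'def
    have h1 : n * z * n⁻¹ ∈ CF.PLocal.glRepl A b := Subgroup.mem_sup_left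
      ⟨CF.Transfer.conj_mem_of_mem_normalizer hn hz.1, CF.Transfer.conj_mem_of_mem_normalizer hn' hz.2⟩
    have h2 : b⁻¹ * a' * b * a'⁻¹ ∈ CF.PLocal.glRepl A b := Subgroup.mem_sup_right (h.phi_mem ha')
    have h3 := h.der_le (Subgroup.commutator_mem_commutator (B.inv_mem hyB) (h.glComm_le (h.phi_mem ha')))
    have h4 : y⁻¹ * a' * y * a'⁻¹ ∈ CF.PLocal.glRepl A b := by
      refine Subgroup.mem_sup_left (h.inf_le ⟨?_, ?_⟩)
      · exact A.mul_mem (CF.Transfer.inv_conj_mem_of_mem_normalizer hy ha') (A.inv_mem ha')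
      · have := B.mul_mem (B.inv_mem hyB) (Subgroup.Normal.conj_mem inferInstance y hyB a')
        simpa [mul_assoc] using this
    have h5 := mul_mem (mul_mem (mul_mem h1 h3) h2) h4
    convert h5 using 1
    rw [hydef, ha'def, commutatorElement_def]
    group
  · apply Monoid.exponent_dvd_of_forall_pow_eq_one
    intro x
    apply Subtype.ext
    refine h.pow_eq_one (CF.PLocal.dvd_choose_two_of_odd ?_)
      (fun a ha => congrArg Subtype.val (Monoid.pow_exponent_eq_one (⟨a, ha⟩ : A))) x x.2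
    obtain ⟨k, hk⟩ := (hS.to_subgroup A).exists_card_eq
    exact Odd.of_dvd_nat (((Fact.out : p.Prime).odd_of_ne_two hp).pow (n := k))
      (hk ▸ Group.exponent_dvd_nat_card)

end Cfsg.Agent.S0650
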