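import Cfsg.Statements.S0654
import Cfsg.Agent.PLocal.ZJ

set_option autoImplicit false
open Cfsg

namespace Cfsg.Agent.S0654

/-- The ZJ-Theorem for the elementary-abelian Thompson subgroup: for an odd prime p, a finite group G with C_G(O_p(G)) ≤ O_p(G) acting p-stably on its normal p-subgroups, and a Sylow p-subgroup S of G, the subgroup generated by the elements of order dividing p in Z(J_e(S)) is characteristic in G. -/
theorem result {G : Type*} [Group G] [Finite G] {p : ℕ} [Fact p.Prime] (hp : p ≠ 2) (hc : Subgroup.centralizer (Cfsg.pCore p G : Set G) ≤ Cfsg.pCore p G) (hst : ∀ (P : Subgroup G) [P.Normal], IsPGroup p P → Cfsg.IsPStableOn p P) (S : Sylow p G) : ((Cfsg.omegaCenterThompson p ↥(S : Subgroup G)).map (S : Subgroup G).subtype).Characteristic := by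
  rw [CF.PLocal.omegaCenterThompson_map]
  have := CF.PLocal.omega_centerThompson_normal hp (Or.inr rfl) (CF.PLocal.stabP_of_isPStableOn hst)
    hc (CF.Transfer.isSylowIn_top S) p
  exact CF.PLocal.characteristic_of_normal_of_sylow (CF.Transfer.isSylowIn_top S)
    (fun P => Cfsg.omegaOne p (Cfsg.centerThompsonOf p P)) (fun e => by
      rw [CF.PLocal.centerThompson_map e.injective.injOn, CF.PLocal.omegaOne_map e.injective.injOn])

end Cfsg.Agent.S0654
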