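import Cfsg.Statements.S0691
import Cfsg.Agent.Classical.RegVec

set_option autoImplicit false
open Cfsg

namespace Cfsg.Agent.S0691

/-- The certificate. -/
def tab : ℕ := nat_lit 0x300020004000200030002000200060001000300040002000d0004000300030002000f000300030003000100040000000100040002001500020004000300000009000100040002000200050004000400030002000c00030004000200000005000000030004000200120002000100030001000c0001000100020002000200040001000300020009000300010002000100020000000200020001000600020002000300020011000100020004000200180004000200010002000100030002000100010001000000040002000000020004000000030000000400020000000100000001000300000000000000000001000000000000000000000000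

theorem tab_ok : CF.Classical.RegVec.chk 5 tab [(2, 0, 0, 3), (0, 4, 1, 0), (1, 2, 1, 3)] = true := by decide +kernel


/-- An exceptional sharply doubly transitive group of degree 5^2: the listed matrices generate a subgroup of GL(2,5) of order 24 acting regularly on the non-zero vectors. -/
theorem result (A : Matrix.GeneralLinearGroup (Fin 2) (ZMod 5)) (B : Matrix.GeneralLinearGroup (Fin 2) (ZMod 5)) (C : Matrix.GeneralLinearGroup (Fin 2) (ZMod 5)) (hA : (A : Matrix (Fin 2) (Fin 2) (ZMod 5)) = !![2, 0; 0, -2]) (hB : (B : Matrix (Fin 2) (Fin 2) (ZMod 5)) = !![0, -1; 1, 0]) (hC : (C : Matrix (Fin 2) (Fin 2) (ZMod 5)) = !![1, 2; 1, -2]) : Nat.card (Subgroup.closure ({A, B, C} : Set (Matrix.GeneralLinearGroup (Fin 2) (ZMod 5)))) = 24 ∧ ∀ v w : Fin 2 → ZMod 5, v ≠ 0 → w ≠ 0 → ∃! h : Subgroup.closure ({A, B, C} : Set (Matrix.GeneralLinearGroup (Fin 2) (ZMod 5))), Matrix.mulVec ((h : Matrix.GeneralLinearGroup (Fin 2) (ZMod 5)) : Matrix (Fin 2) (Fin 2) (ZMod 5)) v = w := by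
  have : Fact (Nat.Prime 5) := ⟨by norm_num⟩
  have eA : (A : Matrix (Fin 2) (Fin 2) (ZMod 5)) = CF.Classical.RegVec.gm 5 (2, 0, 0, 3) := by
    rw [hA]; decide +kernel
  have eB : (B : Matrix (Fin 2) (Fin 2) (ZMod 5)) = CF.Classical.RegVec.gm 5 (0, 4, 1, 0) := by
    rw [hB]; decide +kernel
  have eC : (C : Matrix (Fin 2) (Fin 2) (ZMod 5)) = CF.Classical.RegVec.gm 5 (1, 2, 1, 3) := by
    rw [hC]; decide +kernel
  refine CF.Classical.RegVec.main tab_ok ?_ ?_
  · rintro s (rfl | rfl | rfl)
    exacts [⟨_, by simp, eA⟩, ⟨_, by simp, eB⟩, ⟨_, by simp, eC⟩]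
  · intro g hg
    simp only [List.mem_cons, List.not_mem_nil, or_false] at hg
    rcases hg with rfl | rfl | rfl
    exacts [⟨_, by simp, eA⟩, ⟨_, by simp, eB⟩, ⟨_, by simp, eC⟩]

end Cfsg.Agent.S0691
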