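import Cfsg.Statements.S0721
import Cfsg.Agent.Perm.CharSimple

set_option autoImplicit false
open Cfsg

namespace Cfsg.Agent.S0721

/-- A minimal normal subgroup of a finite group is isomorphic to a direct power `T ^ m` of a simple group `T` (possibly of prime order). -/
theorem result {H : Type*} [Group H] [Finite H] (N : Subgroup H) [N.Normal] (hN : N ≠ ⊥) (hmin : ∀ M : Subgroup H, M.Normal → M ≤ N → M = ⊥ ∨ M = N) : ∃ (T : Type) (_ : Group T) (m : ℕ), IsSimpleGroup T ∧ 0 < m ∧ Nonempty (N ≃* (Fin m → T)) := by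
  have h : CF.Solv.IsMinNormal N := ⟨‹_›, hN, hmin⟩
  have := (Subgroup.nontrivial_iff_ne_bot N).2 hN
  obtain ⟨M, hM⟩ := CF.Solv.exists_isMinNormal (G := N)
  have hK : ∀ C : Subgroup N, C.Characteristic → C = ⊥ ∨ C = ⊤ := fun C _ => h.char_eq_bot_or_top C
  obtain ⟨m, hm, ⟨e⟩⟩ := CF.Perm.exists_equiv_pi_of_charSimple hK hM
  have := CF.Perm.isSimpleGroup_of_charSimple hK hM
  let f : Shrink.{0} M ≃* M := Shrink.mulEquiv
  exact ⟨Shrink.{0} M, inferInstance, m, IsSimpleGroup.isSimpleGroup_of_surjective f.symm.toMonoidHom f.symm.surjective, hm,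
    ⟨e.trans (MulEquiv.piCongrRight fun _ => f.symm)⟩⟩

end Cfsg.Agent.S0721
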