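import Cfsg.Statements.S0799
import Cfsg.Agent.Classical.SL2b

set_option autoImplicit false
open Cfsg

namespace Cfsg.Agent.S0799

/-- Dickson's classification of the subgroups of PSL_2(q), q a power of the prime p, d = gcd(2, q − 1): every subgroup H is (a) cyclic or dihedral with k dividing (q+1)/d or (q−1)/d (cyclic of order k, or dihedral of order 2k), (b) isomorphic to a subgroup of the normaliser of a Sylow p-subgroup, (c) isomorphic to A_4, S_4 or A_5, or (d) isomorphic to PSL_2(K) or PGL_2(K) for a finite field K with |K|^m = q. -/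
theorem result {F : Type*} [Field F] [Fintype F] {q : ℕ} (hF : Fintype.card F = q) (p : ℕ) [Fact p.Prime] [CharP F p] (H : Subgroup (Matrix.ProjectiveSpecialLinearGroup (Fin 2) F)) : (∃ k : ℕ, (k ∣ (q + 1) / Nat.gcd 2 (q - 1) ∨ k ∣ (q - 1) / Nat.gcd 2 (q - 1)) ∧ ((IsCyclic H ∧ Nat.card H = k) ∨ Nonempty (H ≃* DihedralGroup k))) ∨ (∃ (P : Sylow p (Matrix.ProjectiveSpecialLinearGroup (Fin 2) F)) (K : Subgroup (Matrix.ProjectiveSpecialLinearGroup (Fin 2) F)), K ≤ Subgroup.normalizer ((P : Subgroup (Matrix.ProjectiveSpecialLinearGroup (Fin 2) F)) : Set (Matrix.ProjectiveSpecialLinearGroup (Fin 2) F)) ∧ Nonempty (H ≃* K)) ∨ Nonempty (H ≃* alternatingGroup (Fin 4)) ∨ Nonempty (H ≃* Equiv.Perm (Fin 4)) ∨ Nonempty (H ≃* alternatingGroup (Fin 5)) ∨ (∃ (K : Type) (_ : Field K) (_ : Fintype K) (m : ℕ), Fintype.card K ^ m = q ∧ (Nonempty (H ≃* Matrix.ProjectiveSpecialLinearGroup (Fin 2) K) ∨ Nonempty (H ≃* Matrix.ProjGenLinGroup (Fin 2) K))) :=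 by
  open CF.Classical in
  have L := isL2_PSL F (AlgebraicClosure F)
  have := L.finite
  rw [← Nat.card_eq_fintype_card] at hF
  subst hF
  have hd : 0 < Nat.gcd 2 (Nat.card F - 1) := Nat.gcd_pos_of_pos_left _ two_pos
  rcases L.dickson H with ⟨x, hx⟩ | ⟨x, y, hxy, -, h⟩ | ⟨-, h⟩ | ⟨-, h⟩ | ⟨K, c, H', h1, h2⟩
  · obtain ⟨P, hP⟩ := L.exists_sylow_eq_unip p x
    refine Or.inr (Or.inl ⟨P, H, ?_, ⟨MulEquiv.refl _⟩⟩)
    rwa [hP, normalizer_unip (L.unip_ratPt_ne_bot x)]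
  · left
    refine ⟨Nat.card (H ⊓ torus _ x y : Subgroup _), ?_, ?_⟩
    · have h1 := Subgroup.card_dvd_of_le (inf_le_right : H ⊓ torus _ x y ≤ _)
      have h2 := L.card_torus_dvd hxy
      rw [index_range_pslToPGL] at h2
      exact h2.symm.imp (fun h => h1.trans (Nat.dvd_div_of_mul_dvd (by rwa [mul_comm])))
        fun h => h1.trans (Nat.dvd_div_of_mul_dvd (by rwa [mul_comm]))
    · by_cases h1 : H ≤ torus _ x y
      · exact Or.inl ⟨isCyclic_of_le_torus hxy h1, by rw [inf_eq_left.2 h1]⟩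
      · exact Or.inr (equiv_dihedral_of_le_pairStab hxy h h1)
  · rcases h with h | h | h
    · exact Or.inr (Or.inr (Or.inl h))
    · exact Or.inr (Or.inr (Or.inr (Or.inl h)))
    · exact Or.inr (Or.inr (Or.inr (Or.inr (Or.inl h))))
  · exact Or.inr (Or.inr (Or.inr (Or.inr (Or.inl h))))
  · refine Or.inr (Or.inr (Or.inr (Or.inr (Or.inr ?_))))
    obtain ⟨m, -, hm⟩ := card_subfield_pow K
    have : Finite (Shrink.{0} K) := Finite.of_equiv _ (equivShrink.{0} K)
    refine ⟨Shrink.{0} K, inferInstance, Fintype.ofFinite _, m, ?_, ?_⟩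
    · rw [← hm, ← @Nat.card_eq_fintype_card _ (Fintype.ofFinite _), Nat.card_congr (equivShrink.{0} K).symm]
    have e : H ≃* H' := ((H.equivMapOfInjective _ L.inj).trans (MulEquiv.subgroupCongr h2)).trans
      (H'.equivMapOfInjective _ (subPGL_injective K c)).symm
    rcases eq_psl_or_eq_top h1 with rfl | rfl
    · exact Or.inl ⟨(e.trans (pslEquiv K).symm).trans (pslCongr _ (Shrink.ringEquiv.{0} K).symm)⟩
    · exact Or.inr ⟨(e.trans Subgroup.topEquiv).trans (pglCongr _ (Shrink.ringEquiv.{0} K).symm)⟩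

end Cfsg.Agent.S0799
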