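import Cfsg.Statements.S0994
import Cfsg.Agent.Small.ZassSylow

set_option autoImplicit false
open Cfsg

namespace Cfsg.Agent.S0994

/-- No finite simple group has order 1188 = 2^2 * 3^3 * 11. -/
theorem result {G : Type*} [Group G] [Finite G] [IsSimpleGroup G] : Nat.card G ≠ 1188 := by
  intro h
  have : Fact (Nat.Prime 11) := ⟨by norm_num⟩
  have hG : ¬ IsMulCommutative G := CF.Small.not_comm_of_not_prime (by rw [h]; norm_num)
  have hn := CF.Small.card_sylow_mem hG h 11 0 108 (by norm_num) (by norm_num) [11 + 1]
    (by decide +kernel)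
  obtain ⟨P⟩ : Nonempty (Sylow 11 G) := inferInstance
  obtain ⟨e, he1, he2⟩ := CF.Small.card_of_card_sylow_eq_succ hG P
    (CF.Small.card_sylow_eq P (a := 1) (m := 108) h (by norm_num)) (by simpa using hn)
  obtain rfl : e = 9 := by omega
  norm_num at he2

end Cfsg.Agent.S0994
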