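import Cfsg.Statements.S1159
import Cfsg.Agent.BN.ReeLink
import Cfsg.Agent.BN.ReeTori

set_option autoImplicit false
open Cfsg

namespace Cfsg.Agent.S1159

/-- In the small Ree group ²G₂(q), q = 3^(2m+1) with m ≥ 1, realised as G¹ inside the Chevalley group G₂ over the field with q elements (θ the 3^m-th power map), with `r = 3^(m+1)`: a natural number is the order of an element of `G¹` iff it divides one of `6`, `9`, `q - 1`, `(q + 1)/2`, `q - r + 1`, `q + r + 1`. -/
theorem result {K : Type*} [Field K] [Fintype K] {m : ℕ} (hm : 1 ≤ m) (hK : Fintype.card K = 3 ^ (2 * m + 1)) (d : ℕ) :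
    (∃ g : ↥(Cfsg.Lie.twistedG2 K (3 ^ m)), orderOf g = d) ↔
      (d ∣ 6 ∨ d ∣ 9 ∨ d ∣ 3 ^ (2 * m + 1) - 1 ∨ d ∣ (3 ^ (2 * m + 1) + 1) / 2 ∨
        d ∣ 3 ^ (2 * m + 1) - 3 ^ (m + 1) + 1 ∨ d ∣ 3 ^ (2 * m + 1) + 3 ^ (m + 1) + 1) := by
    obtain ⟨T, ⟨D⟩⟩ := CF.BN.Ree.nonempty_ree hK
    have hq := CF.BN.Ree.three_lt_card hK hm
    have e := CF.BN.Ree.natCard_eq hK
    have := D.finite
    have hr : (3 ^ (m + 1)) ^ 2 = 3 * Nat.card K := by rw [e]; ring
    rw [← e]
    have h4 := T.card_mod_four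
    obtain ⟨c, hc⟩ := D.exists_ns_w
    obtain ⟨x, y, hx, hy, a, b, -, -, h⟩ := D.exists_tori hq hr
    refine ⟨?_, fun h => ?_⟩
    · rintro ⟨g, rfl⟩
      rcases D.orderOf_cases g with h' | h' | h' | h' | h' | h' | h' | h'
      iterate 5 simp [h']
      · have := D.card_H₂ ▸ (D.oTor_H₂ hq).orderOf_dvd_of_commute (D.card_H₂' ▸ h') (.refl g)
        tauto
      · have := (hc.oTor hq).orderOf_dvd_of_commute (hc.card_A' ▸ h') (.refl g)
        rw [hc.card_A', show 2 * ((Nat.card K + 1) / 4) = (Nat.card K + 1) / 2 by omega] at this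
        tauto
      · have := h g h'
        tauto
    · have key : ∀ g : Cfsg.Lie.twistedG2 K (3 ^ m), d ∣ orderOf g → ∃ g : Cfsg.Lie.twistedG2 K (3 ^ m),
          orderOf g = d := fun g h => let ⟨_, hk⟩ := CF.BN.exists_pow_orderOf_eq h; ⟨_, hk⟩
      have key' : ∀ A : Subgroup (Cfsg.Lie.twistedG2 K (3 ^ m)), IsCyclic A → d ∣ Nat.card A →
          ∃ g : Cfsg.Lie.twistedG2 K (3 ^ m), orderOf g = d := fun A hA h =>
        let ⟨g, _, hg⟩ := CF.Classical.exists_orderOf_eq_of_isCyclic hA h; ⟨g, hg⟩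
      have pos : ∀ n, 0 < Nat.card {g : Cfsg.Lie.twistedG2 K (3 ^ m) // orderOf g = n} → d ∣ n →
          ∃ g : Cfsg.Lie.twistedG2 K (3 ^ m), orderOf g = d := fun n h h' =>
        let ⟨g, hg⟩ := (Nat.card_pos_iff.1 h).1; key g (hg ▸ h')
      have : 0 < Nat.card K - 1 := by omega
      rcases h with h | h | h | h | h | h
      · exact pos 6 (by rw [D.card_orderOf_six]; positivity) h
      · exact pos 9 (by rw [D.card_orderOf_nine]; positivity) h
      · exact key' _ D.isCyclic_H (D.card_H ▸ h)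
      · exact key c (by rwa [show orderOf c = (Nat.card K + 1) / 2 by have := hc.ord; omega])
      · exact key' _ (hy.isCyclic hq) (b ▸ h)
      · exact key' _ (hx.isCyclic hq) (a ▸ h)

end Cfsg.Agent.S1159
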