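import Cfsg.Statements.S1292
import Cfsg.Agent.Sig.Bal

set_option autoImplicit false
open Cfsg

namespace Cfsg.Agent.S1292

/-- Let G be a finite group such that F*(C_G(t)) = O_2(C_G(t)) for every involution t. Then F*(N_G(T)) = O_2(N_G(T)) for every nontrivial 2-subgroup T of G. -/
theorem result {G : Type*} [Group G] [Finite G] (h : ∀ t : G, orderOf t = 2 → Cfsg.generalizedFittingSubgroup ↥(Subgroup.centralizer ({t} : Set G)) = Cfsg.pCore 2 ↥(Subgroup.centralizer ({t} : Set G))) (T : Subgroup G) (hT : IsPGroup 2 ↥T) (hT1 : T ≠ ⊥) : Cfsg.generalizedFittingSubgroup ↥(Subgroup.normalizer (T : Set G)) = Cfsg.pCore 2 ↥(Subgroup.normalizer (T : Set G)) := by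
  have hp := Nat.prime_two
  have k := CF.BG.piGrp_of_isPGroup hp hT
  obtain ⟨t, ht, e⟩ := CF.BG.exists_mem_orderOf_eq hp
    ((k.le inf_le_left).dvd_card (k.center_ne_bot hT1))
  have h1 := ((CF.Sig.charP_iff_fstar hp).2 (h t e)).cent hp (CF.BG.le_cent1_iff.2 ht.2) k
  rw [inf_eq_right.2 (CF.BG.cent_le_cent1 ht.1), ← top_inf_eq (Subgroup.centralizer _)] at h1
  have h2 := h1.norm_of_cent le_top k
  rw [top_inf_eq] at h2
  exact (CF.Sig.charP_iff_fstar hp).1 h2

end Cfsg.Agent.S1292
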