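import Cfsg.Statements.S1295
import Cfsg.Agent.Sig.SftK

set_option autoImplicit false
open Cfsg

namespace Cfsg.Agent.S1295

open CF.BG CF.Sig Subgroup in

/-- Let G be finite with O_{p'}(G) = 1 and p-rank at least 3, whose reduced rank-2 commuting graph for p is connected. Suppose that for every element a of order p with m_p(C_G(a)) ≥ 3 the p-layer of C_G(a) is trivial and O_{p'}(C_G(a)) is solvable. Then F*(C_G(a)) = O_p(C_G(a)) for every such a. -/
theorem result {G : Type*} [Group G] [Finite G] (p : ℕ) [Fact p.Prime] (hO : Cfsg.pPrimeCore p G = ⊥) (hrk : ¬ Cfsg.PRankLE p 2 G) (hconn : Cfsg.IsRankGraphConnected p 2 G) (hL : ∀ a : G, (orderOf a = p ∧ ¬ Cfsg.PRankLE p 2 ↥(Subgroup.centralizer ({a} : Set G))) → Cfsg.pLayer p ↥(Subgroup.centralizer ({a} : Set G)) = ⊥ ∧ Group.IsSolvable ↥(Cfsg.centralizerPPrimeCore p a)) (a : G) (ha : (orderOf a = p ∧ ¬ Cfsg.PRankLE p 2 ↥(Subgroup.centralizer ({a} : Set G)))) : Cfsg.generalizedFittingSubgroup ↥(Subgroup.centralizer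 ({a} : Set G)) = Cfsg.pCore p ↥(Subgroup.centralizer ({a} : Set G)) := by
  have hp : p.Prime := Fact.out
  have := kill_of_conn (θ := Oc p) hp ((pPrimeCore_eq hp).symm.trans hO) hconn
    (fun E e => sf_Oc e.ab (by have := e.rk; omega)
      (fun a ha a1 => PLay_eq_bot_iff'.2 (hL a (e.good hp ha a1)).1) fun a ha a1 => by
        have := (hL a (e.good hp ha a1)).2
        rwa [Cfsg.centralizerPPrimeCore, map_pPrimeCore hp] at this)
    (fun a g _ => cj_Oc p g a) ha
  refine fstar_eq_pCore_iff_pLayer.2 ⟨(hL a ha).1, ?_⟩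
  rw [Oc, ← map_pPrimeCore hp] at this
  exact (map_eq_bot_iff_of_injective _ (subtype_injective _)).1 this

end Cfsg.Agent.S1295
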