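import Cfsg.Statements.S1322
import Cfsg.Agent.CT.Std

set_option autoImplicit false
open Cfsg

namespace Cfsg.Agent.S1322
open CF.BG Subgroup
open scoped commutatorElement Pointwise
open CF.Sig CF.CT

/-- Let G be finite with L_{2'}(G) = E(G), t an involution and L ≤ C_G(t) a component of C_G(t). Then there is a component D of G with: L = D; or L < D and D = ⁅D, ⟨t⟩⁆; or tDt⁻¹ ≠ D and L is the layer of C_{D ⊔ tDt⁻¹}(t). -/
theorem result {G : Type*} [Group G] [Finite G] (hL2 : Cfsg.pLayer 2 G = Cfsg.layer G) (t : G) (ht : orderOf t = 2) (L : Subgroup G) (hLt : L ≤ Subgroup.centralizer ({t} : Set G)) (hL : Cfsg.IsComponent (L.subgroupOf (Subgroup.centralizer ({t} : Set G)))) : ∃ D : Subgroup G, Cfsg.IsComponent D ∧ (L = D ∨ (L < D ∧ D = ⁅D, Subgroup.zpowers t⁆) ∨ (D.map (MulAut.conj t).toMonoidHom ≠ D ∧ L = (Cfsg.layer ↥((D ⊔ D.map (MulAut.conj t).toMonoidHom) ⊓ Subgroup.centralizer ({t} : Set G))).map ((D ⊔ D.map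 (MulAut.conj t).toMonoidHom) ⊓ Subgroup.centralizer ({t} : Set G)).subtype)) := by
  have c : Comp L (𝐂₁ t) := ⟨hLt, hL⟩
  have k := PComp.lbal (H := ⊤) ht trivial (by rw [top_inf_eq]; exact Comp.pc2 c)
  rw [PLay_top p2, hL2, ← Lay_top] at k
  obtain ⟨D, hD, nc⟩ := exists_comp_nc (k.le.trans inf_le_left) c.not_sol
  refine ⟨D, comp_top_iff.1 hD, ?_⟩
  have t2 : t ^ 2 ∈ 𝐂 D := by rw [sq_of ht]; exact one_mem _
  rcases pump p2 (by simp) t2 k hD nc with ⟨n, l⟩ | ⟨n, ν, g, rfl⟩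
  · rcases hD.comm_eq_or (zpowers_le.2 n) with e | e
    · exact l.eq_or_lt.imp_right fun l => .inl ⟨l, e.symm⟩
    · exact .inl (c.eq_of_le (hD.of_le (le_cent1_iff.2 (zpowers_le.1 e)) le_top) l)
  · refine .inr (.inr ⟨fun e => n (cj_eq_self.1 e), ?_⟩)
    change ν.range = Lay ((D ⊔ cj t D) ⊓ 𝐂₁ t)
    rw [← orbJ_two (cent_le_norm D t2)]
    refine le_antisymm (c.of_le g.le inf_le_right).le_Lay ?_
    rw [← Lay_perfect]
    exact (der_mono (Lay_le _)).trans (g.der_le hD (by simp))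

end Cfsg.Agent.S1322
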