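import Cfsg.Statements.S1323
import Cfsg.Agent.Perm.AltOn

set_option autoImplicit false
open Cfsg

namespace Cfsg.Agent.S1323

open CF.Perm Equiv Equiv.Perm Subgroup

variable {Ω : Type*} [Fintype Ω] [DecidableEq Ω] {s : Finset Ω}

theorem cent (h : 4 ≤ s.card) : centralizer ((altOn s).subgroupOf (alternatingGroup Ω) : Set _) =
    (altOn sᶜ).subgroupOf (alternatingGroup Ω) :=
  Subgroup.ext fun g => ⟨fun hg => ⟨(centralizer_altOn h).le fun x hx =>
    congrArg Subtype.val (hg ⟨x, hx.2⟩ hx), g.2⟩,
    fun hg x hx => Subtype.ext ((centralizer_altOn h).ge hg.1 x hx)⟩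

theorem norm (h : 3 ≤ s.card) : normalizer ((altOn s).subgroupOf (alternatingGroup Ω) : Set _) =
    (setStab s).subgroupOf (alternatingGroup Ω) :=
  Subgroup.ext fun g => ⟨fun hg => (normalizer_altOn h).le fun x =>
    ⟨fun hx => (hg ⟨x, hx.2⟩).1 hx, fun hx => (hg ⟨x, (mul_mem_cancel_left g.2).1
      ((mul_mem_cancel_right (inv_mem g.2)).1 hx.2)⟩).2 hx⟩,
    fun hg x => (normalizer_altOn h).ge hg x⟩

theorem conj_le (g : alternatingGroup Ω) : ((altOn s).subgroupOf (alternatingGroup Ω)).map
    (MulAut.conj g).toMonoidHom = (altOn (s.map g.1.toEmbedding)).subgroupOf (alternatingGroup Ω) := by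
  ext x
  obtain ⟨x, rfl⟩ := (MulAut.conj g).surjective x
  refine (mem_map_iff_mem (MulAut.conj g).injective).trans (and_congr ?_ (iff_of_true x.2 ?_))
  · exact g.1.forall_congr (by simp)
  · exact (MulAut.conj g x).2

/-- For n ≥ 9, the subgroup of the alternating group on Fin n fixing each of the points 0, 1, 2, 3 is a standard subgroup. -/
theorem result (n : ℕ) (h4 : 4 ≤ n) (hn : 9 ≤ n) : Cfsg.IsStandardSubgroup (⨅ i : Fin 4, MulAction.stabilizer ↥(alternatingGroup (Fin n)) (Fin.castLE h4 i : Fin n)) := by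
  let F : Finset (Fin n) := Finset.univ.map (Fin.castLEEmb h4)
  have hF : F.card = 4 := by simp [F]
  have hF' : 5 ≤ Fᶜ.card := by rw [Finset.card_compl, hF, Fintype.card_fin]; omega
  have e : (⨅ i : Fin 4, MulAction.stabilizer ↥(alternatingGroup (Fin n)) (Fin.castLE h4 i : Fin n)) =
      (altOn Fᶜ).subgroupOf (alternatingGroup _) := Subgroup.ext fun g => by
    refine mem_iInf.trans ⟨fun h => ⟨fun a ha => ?_, g.2⟩, fun h i => h.1 _ (by simp [F])⟩
    obtain ⟨i, -, rfl⟩ := Finset.mem_map.1 (Finset.notMem_compl.1 ha)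
    exact h i
  have hc : ∀ s : Finset (Fin n), Nat.card ((altOn s).subgroupOf (alternatingGroup _)) =
      Nat.card (altOn s) := fun s => Nat.card_congr (subgroupOfEquivOfLe inf_le_right).toEquiv
  rw [e]
  refine ⟨(CF.Sig.qs_subgroupOf_iff inf_le_right).2 (isQuasisimple_altOn hF').2, ?_, fun g _ h => ?_, ?_⟩
  · rw [cent (by omega), compl_compl]
    refine ⟨even_iff_two_dvd.2 (hc F ▸ dvd_card_altOn (by rw [hF]; decide) (by omega)), fun g hg => ?_⟩
    obtain ⟨t, h1, -, h2⟩ := Finset.exists_subsuperset_card_eq (F ∩ F.map g.1.toEmbedding).subset_univ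
      (n := 3) (by
        refine Nat.le_of_lt_succ ((Finset.card_lt_card (Finset.inter_subset_left.ssubset_of_ne
          fun h => hg ?_)).trans_eq hF)
        rw [norm (by omega), mem_subgroupOf]
        intro a
        conv_lhs => rw [Finset.eq_of_subset_of_card_le (Finset.inter_eq_left.1 h) (by simp)]
        exact Finset.mem_map' _) (by simp; omega)
    have h3 := card_altOn (s := t) (by omega)
    refine Odd.of_dvd_nat (n := 3) (by decide) ?_
    rw [show 3 = Nat.card (altOn t) by rw [h2] at h3; exact (Nat.eq_of_mul_eq_mul_left two_pos h3).symm,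
      ← hc, conj_le]
    exact card_dvd_of_le fun x hx => ⟨fun a ha => by
      by_cases h : a ∈ F
      · exact hx.2.1 a fun h' => ha (h1 (Finset.mem_inter.2 ⟨h, h'⟩))
      · exact hx.1.1 a h, x.2⟩
  · rw [CF.Sig.commutator_eq_bot_comm, commutator_eq_bot_iff_le_centralizer, cent (by omega), conj_le,
      compl_compl] at h
    have := Finset.card_le_card (subset_of_altOn_le (t := F) (by rw [Finset.card_map]; omega)
      fun x hx => (h (x := ⟨x, hx.2⟩) hx).1)
    rw [Finset.card_map] at this
    omega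
  · rw [cent (by omega), norm (by omega), norm (by rw [compl_compl]; omega), setStab_compl (s := Fᶜ)]

end Cfsg.Agent.S1323
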