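import Cfsg.Statements.S1339
import Cfsg.Agent.Sig.FStar

set_option autoImplicit false
open Cfsg

namespace Cfsg.Agent.S1339

open Matrix

theorem mi {F : Type*} [Field F] {n : ℕ} (a : SpecialLinearGroup (Fin n) F) : a.1 * (a⁻¹).1 = 1 :=
  congrArg Subtype.val (mul_inv_cancel a)

theorem im {F : Type*} [Field F] {n : ℕ} (a : SpecialLinearGroup (Fin n) F) : (a⁻¹).1 * a.1 = 1 :=
  congrArg Subtype.val (inv_mul_cancel a)

/-- transvections with a given centre -/
def Q {F : Type*} [Field F] {n : ℕ} (P : Matrix (Fin n) (Fin n) F) : Subgroup (SpecialLinearGroup (Fin n) F) where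
  carrier := {g | P * (g.1 - 1) = g.1 - 1}
  one_mem' := by simp
  mul_mem' := fun {a b} ha hb => by
    change P * (a.1 * b.1 - 1) = a.1 * b.1 - 1
    rw [show a.1 * b.1 - 1 = (a.1 - 1) * b.1 + (b.1 - 1) by noncomm_ring, mul_add, ← mul_assoc, ha, hb]
  inv_mem' := fun {a} ha => by
    have := mi a
    change P * ((a⁻¹).1 - 1) = (a⁻¹).1 - 1
    generalize (a⁻¹).1 = b at this
    rw [show b - 1 = -((a.1 - 1) * b) by rw [sub_mul, this, one_mul, neg_sub], mul_neg, ← mul_assoc, ha]


/-- Let F be a field with 2 elements, n ≥ 3, and t ∈ SL(n, F) a transvection (t = 1 + E_{ij}, i ≠ j). Then the generalized Fitting subgroup of C(t) is O_2(C(t)). -/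
theorem result {F : Type*} [Field F] [Fintype F] [DecidableEq F] (hF : Fintype.card F = 2) (n : ℕ) (hn : 3 ≤ n) (i j : Fin n) (hij : i ≠ j) (t : Matrix.SpecialLinearGroup (Fin n) F) (ht : (t : Matrix (Fin n) (Fin n) F) = Matrix.transvection i j 1) : Cfsg.generalizedFittingSubgroup ↥(Subgroup.centralizer ({t} : Set (Matrix.SpecialLinearGroup (Fin n) F))) = Cfsg.pCore 2 ↥(Subgroup.centralizer ({t} : Set (Matrix.SpecialLinearGroup (Fin n) F))) := by
  haveI := Fact.mk Nat.prime_two
  have two : ∀ x : F, x ≠ 0 → x = 1 := fun x hx => by simpa [hF] using FiniteField.pow_card_sub_one_eq_one x hx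
  have h2 : (2 : F) = 0 := by exact_mod_cast hF ▸ FiniteField.cast_card_eq_zero F
  obtain ⟨P, hP⟩ : ∃ P : Matrix (Fin n) (Fin n) F, P = single i i 1 := ⟨_, rfl⟩
  have mQ : ∀ {g : SpecialLinearGroup (Fin n) F}, g ∈ Q P ↔ P * (g.1 - 1) = g.1 - 1 := Iff.rfl
  have fx : ∀ (g : SpecialLinearGroup (Fin n) F) (c : F), g.1 * P = c • P → g.1 * P = P := fun g c h => by
    rw [h, two c fun e => ?_, one_smul]
    have := congrArg ((g⁻¹).1 * ·) h
    simp only [← mul_assoc, im, e, zero_smul, mul_zero, one_mul] at this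
    simpa [hP] using congrFun (congrFun this i) i
  have q1 : ∀ g ∈ Q P, (g.1 - 1) * P = 0 := fun g hg => by
    have e : (g.1 - 1) * P = (g.1 - 1) i i • P := by
      nth_rw 1 [← mQ.1 hg]
      rw [hP, single_mul_mul_single]
      simp
    rw [sub_mul, fx g (1 + (g.1 - 1) i i) (by rw [add_smul, ← e, sub_mul, one_smul, one_mul, add_sub_cancel]),
      one_mul, sub_self]
  have q2 : ∀ g ∈ Q P, ∀ h ∈ Q P, g.1 * h.1 = g.1 + h.1 - 1 := fun g hg h hh => by
    have : (g.1 - 1) * (h.1 - 1) = 0 := by rw [← mQ.1 hh, ← mul_assoc, q1 g hg, zero_mul]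
    rw [← sub_eq_zero, ← this]; noncomm_ring
  have tv : ∀ k, k ≠ i → ∀ s : SpecialLinearGroup (Fin n) F, s.1 = transvection i k 1 → s ∈ Q P :=
    fun k hk s hs => by rw [mQ, hs, hP]; simp [transvection]
  have cm : ∀ k, ∀ s g : SpecialLinearGroup (Fin n) F, s.1 = transvection i k 1 → g * s = s * g →
      g.1 * single i k (1 : F) = single i k (1 : F) * g.1 := fun k s g hs e => by
    have : g.1 * s.1 = s.1 * g.1 := congrArg Subtype.val e
    simpa [hs, transvection, mul_add, add_mul] using this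
  have c1 : ∀ g ∈ Subgroup.centralizer {t}, g.1 * P = P := fun g hg => fx g (g.1 j j) (by
    have := congrArg (· * single j i (1 : F)) (cm j t g ht (Subgroup.mem_centralizer_singleton_iff.1 hg))
    simp only [single_mul_mul_single] at this
    simpa [hP, mul_assoc] using this)
  have l : Q P ≤ Subgroup.centralizer {t} := fun g hg => Subgroup.mem_centralizer_singleton_iff.2 (Subtype.ext (by
    have tQ := tv j hij.symm t ht
    change g.1 * t.1 = t.1 * g.1
    rw [q2 g hg t tQ, q2 t tQ g hg, add_comm]))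
  haveI : ((Q P).subgroupOf (Subgroup.centralizer {t})).Normal := ⟨fun g hg c => by
    have hg : P * (g.1.1 - 1) = g.1.1 - 1 := hg
    have e : c.1.1 * (g.1.1 - 1) = g.1.1 - 1 := by rw [← hg, ← mul_assoc, c1 c c.2]
    have e1 := mi c.1
    change P * (c.1.1 * g.1.1 * (c.1⁻¹).1 - 1) = c.1.1 * g.1.1 * (c.1⁻¹).1 - 1
    generalize (c.1⁻¹).1 = d at e1
    rw [show c.1.1 * g.1.1 * d - 1 = c.1.1 * (g.1.1 - 1) * d by rw [mul_sub, sub_mul, mul_one, e1], e,
      ← mul_assoc, hg]⟩
  have lO : (Q P).subgroupOf (Subgroup.centralizer {t}) ≤ pCore 2 _ := CF.Solv.le_pCore fun g =>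
    ⟨1, Subtype.ext (Subtype.ext (Subtype.ext (by
      change g.1.1.1 ^ 2 = 1
      rw [pow_two, q2 g.1.1 g.2 g.1.1 g.2, ← two_smul F, h2, zero_smul, zero_sub, neg_eq_iff_add_eq_zero, ← two_smul F, h2,
        zero_smul])))⟩
  refine CF.Sig.fstar_eq_pCore_iff.2 fun g hg => lO (mQ.2 ?_)
  have gi : g.1.1 i i = 1 := by simpa [hP] using congrFun (congrFun (c1 g g.2) i) i
  ext a b
  rcases eq_or_ne a i with rfl | ha
  · simp [hP]
  let s : SpecialLinearGroup (Fin n) F := ⟨transvection i a 1, det_transvection_of_ne _ _ ha.symm _⟩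
  have sQ := tv a ha s rfl
  have := congrFun (congrFun (cm a s g rfl (congrArg Subtype.val (hg ⟨s, l sQ⟩ (lO sQ))).symm) i) b
  rcases eq_or_ne b a with rfl | hb
  · simp [gi] at this
    simp [hP, ha, ← this]
  · simp [hb] at this
    simp [hP, ha, ← this, hb.symm]

end Cfsg.Agent.S1339
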