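import Cfsg.Statements.S1340
import Cfsg.Agent.Ab2.App2
import Cfsg.Agent.Classical.SmallIso

set_option autoImplicit false
open Cfsg

namespace Cfsg.Agent.S1340

open Subgroup Matrix CF.Classical

theorem comp {G L : Type*} [Group G] [Finite G] [Group L] (q : IsQuasisimple L) {ψ : L →* G}
    (i : Function.Injective ψ) {t : G} (c : ∀ s, ψ s * t = t * ψ s)
    (n : ∀ g, g * t = t * g → ∀ s, ∃ s', g * ψ s * g⁻¹ = ψ s') :
    HasComponent (centralizer {t} ⧸ oddCore (centralizer {t})) := by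
  let φ : L →* centralizer {t} := ψ.codRestrict _ fun s => mem_centralizer_singleton_iff.2 (c s)
  let π := QuotientGroup.mk' (oddCore (centralizer {t}))
  have nφ : φ.range.Normal := ⟨by
    rintro _ ⟨s, rfl⟩ g
    exact (n g (mem_centralizer_singleton_iff.1 g.2) s).imp fun _ e => Subtype.ext e.symm⟩
  refine ⟨(π.comp φ).range, Normal.isSubnormal ?_, ?_⟩
  · rw [MonoidHom.range_comp]; exact nφ.map π (QuotientGroup.mk'_surjective _)
  haveI : Nontrivial (π.comp φ).range := (nontrivial_iff_ne_bot _).2 fun e => by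
    rw [MonoidHom.range_comp, Subgroup.map_eq_bot_iff, QuotientGroup.ker_mk'] at e
    haveI : Group.IsSolvable φ.range := (CF.Ab2.od_sol CF.Ab2.od_oddCore).mono e
    exact CF.Sig.qs_not_isSolvable q (solvable_of_solvable_injective (f := φ.rangeRestrict)
      fun a b h => i (congrArg (·.1.1) h))
  exact CF.Sig.qs_of_surjective q (π.comp φ).rangeRestrict_surjective

variable {F : Type*} [Field F] {ι : Type*} [Fintype ι] [DecidableEq ι]

/-- block embedding -/
def blk : Matrix ι ι F →* Matrix (ι ⊕ Unit) (ι ⊕ Unit) F where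
  toFun A := fromBlocks A 0 0 1
  map_one' := fromBlocks_one
  map_mul' A B := by simp [fromBlocks_multiply]

/-- a reflection -/
def rf : GL (ι ⊕ Unit) F := ⟨fromBlocks 1 0 0 (-1), fromBlocks 1 0 0 (-1), by simp [fromBlocks_multiply],
  by simp [fromBlocks_multiply]⟩

theorem diag (h : (2 : F) ≠ 0) {g : Matrix (ι ⊕ Unit) (ι ⊕ Unit) F} (e : g * rf.1 = rf.1 * g) :
    g = fromBlocks g.toBlocks₁₁ 0 0 g.toBlocks₂₂ := by
  rw [← fromBlocks_toBlocks g] at e
  simp only [rf, fromBlocks_multiply, fromBlocks_inj] at e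
  have z : ∀ {x : F}, -x = x → x = 0 := fun {x} e => by
    rwa [neg_eq_iff_add_eq_zero, ← two_mul, mul_eq_zero, or_iff_right h] at e
  nth_rw 1 [← fromBlocks_toBlocks g]
  rw [show g.toBlocks₁₂ = 0 from ext fun i j => z (by simpa using congrFun (congrFun e.2.1 i) j),
    show g.toBlocks₂₁ = 0 from ext fun i j => z (by simpa using congrFun (congrFun e.2.2.1.symm i) j)]


/-- Let F be a finite field of odd order and n ≥ 3 with (n, |F|) ≠ (3, 3). Then GL(n, F) has a non-central involution t such that C(t) / O(C(t)) has a component. -/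
theorem result {F : Type*} [Field F] [Fintype F] [DecidableEq F] (hF : Odd (Fintype.card F)) (n : ℕ) (hn : 3 ≤ n) (h33 : ¬ (n = 3 ∧ Fintype.card F = 3)) : ∃ t : Matrix.GeneralLinearGroup (Fin n) F, orderOf t = 2 ∧ t ∉ Subgroup.center (Matrix.GeneralLinearGroup (Fin n) F) ∧ Cfsg.HasComponent (↥(Subgroup.centralizer ({t} : Set (Matrix.GeneralLinearGroup (Fin n) F))) ⧸ Cfsg.oddCore ↥(Subgroup.centralizer ({t} : Set (Matrix.GeneralLinearGroup (Fin n) F)))) := by
  obtain ⟨m, rfl⟩ : ∃ m, n = m + 1 := ⟨n - 1, by omega⟩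
  have h2 : (2 : F) ≠ 0 := fun e => by
    have := (CharTwo.of_one_ne_zero_of_two_eq_zero one_ne_zero e)
    obtain ⟨k, -, hk⟩ := FiniteField.card F 2
    exact (Nat.not_even_iff_odd.2 hF) (hk ▸ (Nat.even_pow.2 ⟨even_two, k.ne_zero⟩))
  have q : IsQuasisimple (SpecialLinearGroup (Fin m) F) := by
    haveI : Nontrivial (Fin m) := Fin.nontrivial_iff_two_le.2 (by omega)
    suffices commutator (SpecialLinearGroup (Fin m) F) = ⊤ from ⟨⟨this⟩, isSimpleGroup_PSL_of_perfect this⟩
    rcases eq_or_ne m 2 with rfl | h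
    · refine commutator_SL2_eq_top ?_
      have := Fintype.one_lt_card (α := F)
      obtain ⟨k, hk⟩ := hF
      rw [Nat.card_eq_fintype_card]
      omega
    · exact commutator_SL_eq_top (by simp; omega)
  let e : GL (Fin m ⊕ Unit) F ≃* GL (Fin (m + 1)) F := Units.mapEquiv
    (reindexAlgEquiv F F (Fintype.equivFinOfCardEq (by simp))).toMulEquiv
  let ψ : SpecialLinearGroup (Fin m) F →* GL (Fin m ⊕ Unit) F := (Units.map blk).comp SpecialLinearGroup.toGL
  have hψ : ∀ s, (ψ s).1 = fromBlocks s.1 0 0 1 := fun s => rfl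
  have n1 : (-1 : F) ≠ 1 := fun e => h2 (by linear_combination -e)
  haveI := Fact.mk Nat.prime_two
  refine ⟨e rf, ?_, fun h => ?_, comp q (ψ := e.toMonoidHom.comp ψ) (e.injective.comp fun a b h => ?_)
    (fun s => ?_) fun g hg s => ?_⟩
  · rw [e.orderOf_eq]
    exact orderOf_eq_prime (Units.ext (by rw [pow_two]; exact rf.val_inv)) fun h => n1
      (by simpa [rf] using congrArg (fun g : GL (Fin m ⊕ Unit) F => g.1 (.inr ()) (.inr ())) h)
  · let i : Fin m := ⟨0, by omega⟩
    have := mem_center_iff.1 h (e (SpecialLinearGroup.toGL ⟨transvection (.inl i) (.inr ()) 1,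
      det_transvection_of_ne _ _ (by simp) _⟩))
    rw [← map_mul, ← map_mul, e.apply_eq_iff_eq] at this
    have : transvection (.inl i : Fin m ⊕ Unit) (.inr ()) (1 : F) (.inl i) (.inr ()) = 0 :=
      congrFun (congrFun (diag h2 (congrArg Units.val this)) (.inl i)) (.inr ())
    simp [transvection] at this
  · exact Subtype.ext (fromBlocks_inj.1 (congrArg Units.val h)).1
  · change e (ψ s) * _ = _ * e (ψ s)
    rw [← map_mul, ← map_mul, e.apply_eq_iff_eq]
    exact Units.ext (by simp [hψ, rf, fromBlocks_multiply])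
  obtain ⟨g, rfl⟩ := e.surjective g
  rw [← map_mul, ← map_mul, e.apply_eq_iff_eq] at hg
  have a := diag h2 (congrArg Units.val hg)
  have b := diag h2 (congrArg Units.val (Commute.inv_left hg))
  have c := g.mul_inv
  rw [a, b, fromBlocks_multiply, ← fromBlocks_one, fromBlocks_inj] at c
  simp only [Matrix.mul_zero, Matrix.zero_mul, add_zero, zero_add] at c
  refine ⟨⟨g.1.toBlocks₁₁ * s.1 * (g⁻¹).1.toBlocks₁₁, by
    rw [det_mul, det_mul, s.2, mul_one, ← det_mul, c.1, det_one]⟩, ?_⟩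
  change _ * e (ψ s) * _ = e (ψ _)
  rw [← map_inv, ← map_mul, ← map_mul, e.apply_eq_iff_eq]
  refine Units.ext ?_
  change g.1 * fromBlocks s.1 0 0 1 * (g⁻¹).1 = fromBlocks (g.1.toBlocks₁₁ * s.1 * (g⁻¹).1.toBlocks₁₁) 0 0 1
  generalize (g⁻¹).1 = k at *
  nth_rw 1 [a, b]
  simp [fromBlocks_multiply, c.2.2.2]

end Cfsg.Agent.S1340
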