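import Cfsg.Statements.S1558
import Cfsg.Agent.Leech.M24c

set_option autoImplicit false
open scoped Pointwise
open Cfsg

set_option maxRecDepth 1000000

namespace Cfsg.Agent.S1558

open CF.Comp CF.Comp.Mat CF.Bt CF.Leech CF.Leech.M MulAction

noncomputable def M : MD := ⟨[[4, 4, 2, 3, 1, 3, 2, 2, 2], [1, 3, 3, 1, 3, 3, 3, 2, 2], [1, 4, 4, 2, 4, 4, 1, 4, 2, 3], [3, 2, 2, 4, 4, 4, 2, 4, 2, 4, 1], [4, 4, 4, 4, 4, 1, 1, 1, 3, 3, 3, 2, 2], [4, 2, 3, 3, 1, 4, 4, 2, 2, 2, 4, 4, 2], [1, 3, 1, 4, 1, 4, 1, 4, 1, 4, 4, 2], [3, 1, 3, 1, 1, 4, 4, 2, 2, 4, 2, 4, 2], [1, 4, 1, 1, 1, 1, 4, 1, 4, 2, 3, 2, 3, 1, 1], [4, 2, 4, 1, 3, 3, 2, 2, 2, 3, 2, 4, 4, 1, 1], [2, 4, 4, 2, 4, 2, 3, 2, 2, 2, 3, 2, 3, 2, 4, 4], [3, 1, 4, 1, 1, 1, 3, 2, 3, 1, 4, 2, 2, 4, 2, 3, 2]], [(nat_lit 1351424), (nat_lit 6889680), (nat_lit 8536111)], [(Net.cons (nat_lit 1) (nat_lit 1) Net.nil), (Net.cons (nat_lit 2) (nat_lit 1) Net.nil), (Net.cons (nat_lit 1) (nat_lit 1) Net.nil), Net.nil, (Net.cons (nat_lit 1) (nat_lit 1) Net.nil), Net.nil, Net.nil,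 (Net.cons (nat_lit 1) (nat_lit 1) Net.nil), (Net.cons (nat_lit 1) (nat_lit 1) Net.nil), (Net.cons (nat_lit 1) (nat_lit 1) Net.nil), Net.nil, Net.nil], [⟨0, [[1], [3]], 1⟩, ⟨1, [[2, 3, 1]], 1⟩]⟩
noncomputable def M3 : MD := ⟨[[2, 3, 1, 4, 1, 4, 2, 4, 2, 3], [3, 2, 2, 4, 4, 4, 2, 4, 2, 4, 1], [3, 2, 4, 4, 2, 3, 1, 4, 2, 2, 2]], [(nat_lit 0x20000000000000000000000000000000000000000000000000000000000000000000002000000000000040000000000000000000000000000000000000000000000000000000000000000000000000000000000000000000000000000000000000000000000000000000000000000000000000000000000000000000000000000000000000000000000000000000000000000000000000000000000000000000000000000000000000000000000000000000000000000000000000000000000000000000000000000000000000000), (nat_lit 0x20000000000000000000000000000000000000008000000000000000000000000000000000000000000000000000000000000000000000000020000000000000000000000000000000000000000000000000000000000000000000000000000000000000000000000000000000000000000000000000000000000000000000000000000000000000000000000000000000000000000000000000000000000000000000000000000000000000000000000000000000000000000000000000000000000000000000000000000000000),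 (nat_lit 0x2000000000000000000000000000000000000000000000000000000000000000000000000000000000000002000000000000000000000000000000000000000000020000000000000000000000000000000000000000000000000000000000000000000000000000000000000000000000000000000000000000000000000000000000000000000000000000000000000000000000000000000000000000000000000000000000000000000000000000000000000000000000000000000000000000000000000000000000000000000000000000000000), (nat_lit 0x2000000000000000000000000000000000000000000000000000000008000000000000000000000000000000000000000000040000000000000000000000000000000000000000000000000000000000000000000000000000000000000000000000000000000000000000000000000000000000000000000000000000000000000000000000000000000000000000000000000000000000000000000000000000000000000000000000000000000000000000000000000000000000000000000000000000000000000000000000000000000000000000), (nat_lit 0x10000000000000000000000000000000000000000000000000000000000000000000000000000000000000000000000000000000000000000040000000000000000000000000000020000000000000000000000000000000000000000000000000000000000000000000000000000000000000000000000000000000000000000000000000000000000000000000000000000000000000000000000000000000000000000000000000000000000000000000000000000000000000000000000000000000000000000000000000000000000000000000000000000000000),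 (nat_lit 0x10000000000000000000000000000000000000000000000000000000000000000000008000000000000000000000000000002000000000000000000000000000000000000000000000000000000000000000000000000000000000000000000000000000000000000000000000000000000000000000000000000000000000000000000000000000000000000000000000000000000000000000000000000000000000000000000000000000000000000000000000000000000000000000000000000000000000000000000000000000000000000000000000000000000), (nat_lit 0x10000000000002000000000000000020000000000000000000000000000000000000000000000000000000000000000000000000000000000000000000000000000000000000000000000000000000000000000000000000000000000000000000000000000000000000000000000000000000000000000000000000000000000000000000000000000000000000000000000000000000000000000000000000000000000000000000000000000000000000000000000000000000000000000000000000000000000000000000000000000000000000000000000000000)], [(Net.cons (nat_lit 1) (nat_lit 17) Net.nil), (Net.cons (nat_lit 4) (nat_lit 3) (Net.cons (nat_lit 2) (nat_lit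 17) (Net.cons (nat_lit 1) (nat_lit 17) Net.nil))), (Net.cons (nat_lit 2) (nat_lit 18) (Net.cons (nat_lit 4) (nat_lit 3) (Net.cons (nat_lit 2) (nat_lit 18) Net.nil)))], [⟨0, [[1], [3], [5]], 2⟩, ⟨1, [[4, 5], [2, 4, 1, 4]], 2⟩, ⟨2, [[3, 2, 5, 1, 4], [2, 6, 2, 4, 1, 3]], 1⟩]⟩
noncomputable def L : MD := ⟨[[4, 4, 2, 3, 1, 3, 2, 2, 2], [1, 3, 3, 1, 3, 3, 3, 2, 2], [1, 4, 4, 2, 4, 4, 1, 4, 2, 3], [3, 2, 2, 4, 4, 4, 2, 4, 2, 4, 1], [4, 4, 4, 4, 4, 1, 1, 1, 3, 3, 3, 2, 2], [4, 2, 3, 3, 1, 4, 4, 2, 2, 2, 4, 4, 2], [1, 3, 1, 4, 1, 4, 1, 4, 1, 4, 4, 2], [3, 1, 3, 1, 1, 4, 4, 2, 2, 4, 2, 4, 2], [1, 4, 1, 1, 1, 1, 4, 1, 4, 2, 3, 2, 3, 1, 1], [4, 2, 4, 1, 3, 3, 2, 2, 2, 3, 2, 4, 4, 1, 1], [2, 4, 4, 2, 4, 2, 3, 2, 2, 2, 3, 2, 3, 2, 4, 4], [3, 1, 4, 1, 1, 1, 3, 2, 3, 1, 4, 2, 2, 4, 2, 3, 2]], [(nat_lit 0x20000000000000000000000000000000000000000000000000000000000000000000002000000000000040000000000000000000000000000000000000000000000000000000000000000000000000000000000000000000000000000000000000000000000000000000000000000000000000000000000000000000000000000000000000000000000000000000000000000000000000000000000000000000000000000000000000000000000000000000000000000000000000000000000000000000000000000000000000000),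 (nat_lit 0x20000000000000000000000000000000000000008000000000000000000000000000000000000000000000000000000000000000000000000020000000000000000000000000000000000000000000000000000000000000000000000000000000000000000000000000000000000000000000000000000000000000000000000000000000000000000000000000000000000000000000000000000000000000000000000000000000000000000000000000000000000000000000000000000000000000000000000000000000000), (nat_lit 0x2000000000000000000000000000000000000000000000000000000000000000000000000000000000000002000000000000000000000000000000000000000000020000000000000000000000000000000000000000000000000000000000000000000000000000000000000000000000000000000000000000000000000000000000000000000000000000000000000000000000000000000000000000000000000000000000000000000000000000000000000000000000000000000000000000000000000000000000000000000000000000000000), (nat_lit 0x2000000000000000000000000000000000000000000000000000000008000000000000000000000000000000000000000000040000000000000000000000000000000000000000000000000000000000000000000000000000000000000000000000000000000000000000000000000000000000000000000000000000000000000000000000000000000000000000000000000000000000000000000000000000000000000000000000000000000000000000000000000000000000000000000000000000000000000000000000000000000000000000),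 (nat_lit 0x10000000000000000000000000000000000000000000000000000000000000000000000000000000000000000000000000000000000000000040000000000000000000000000000020000000000000000000000000000000000000000000000000000000000000000000000000000000000000000000000000000000000000000000000000000000000000000000000000000000000000000000000000000000000000000000000000000000000000000000000000000000000000000000000000000000000000000000000000000000000000000000000000000000000), (nat_lit 0x10000000000000000000000000000000000000000000000000000000000000000000008000000000000000000000000000002000000000000000000000000000000000000000000000000000000000000000000000000000000000000000000000000000000000000000000000000000000000000000000000000000000000000000000000000000000000000000000000000000000000000000000000000000000000000000000000000000000000000000000000000000000000000000000000000000000000000000000000000000000000000000000000000000000), (nat_lit 0x10000000000002000000000000000020000000000000000000000000000000000000000000000000000000000000000000000000000000000000000000000000000000000000000000000000000000000000000000000000000000000000000000000000000000000000000000000000000000000000000000000000000000000000000000000000000000000000000000000000000000000000000000000000000000000000000000000000000000000000000000000000000000000000000000000000000000000000000000000000000000000000000000000000000)],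 [(Net.cons (nat_lit 4) (nat_lit 3) (Net.cons (nat_lit 2) (nat_lit 18) (Net.cons (nat_lit 1) (nat_lit 17) Net.nil))), (Net.cons (nat_lit 2) (nat_lit 18) (Net.cons (nat_lit 4) (nat_lit 3) (Net.cons (nat_lit 1) (nat_lit 5) Net.nil))), (Net.cons (nat_lit 1) (nat_lit 20) (Net.cons (nat_lit 2) (nat_lit 18) (Net.cons (nat_lit 4) (nat_lit 3) (Net.cons (nat_lit 2) (nat_lit 3) (Net.cons (nat_lit 1) (nat_lit 5) Net.nil))))), (Net.cons (nat_lit 4) (nat_lit 3) (Net.cons (nat_lit 2) (nat_lit 17) (Net.cons (nat_lit 1) (nat_lit 17) Net.nil))), (Net.cons (nat_lit 1) (nat_lit 20) (Net.cons (nat_lit 4) (nat_lit 5) (Net.cons (nat_lit 2) (nat_lit 3) (Net.cons (nat_lit 1) (nat_lit 17) Net.nil)))), (Net.cons (nat_lit 1) (nat_lit 17) (Net.cons (nat_lit 4) (nat_lit 5) (Net.cons (nat_lit 2) (nat_lit 18) (Net.cons (nat_lit 1) (nat_lit 17) Net.nil)))), (Net.cons (nat_lit 1) (nat_lit 17) (Net.cons (nat_lit 4) (nat_lit 5) (Net.cons (nat_lit 2) (nat_lit 17) (Net.cons (nat_lit 1) (nat_lit 17) Net.nil)))), Net.nil, (Net.cons (nat_lit 4)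 (nat_lit 6) Net.nil), (Net.cons (nat_lit 4) (nat_lit 6) Net.nil), (Net.cons (nat_lit 1) (nat_lit 20) (Net.cons (nat_lit 2) (nat_lit 18) (Net.cons (nat_lit 1) (nat_lit 20) Net.nil))), (Net.cons (nat_lit 4) (nat_lit 6) Net.nil)], [⟨0, [[1], [3]], 3⟩, ⟨1, [[21], [4, 5]], 2⟩, ⟨2, [[2, 7], [6, 4, 1]], 1⟩]⟩
noncomputable def LV : List (List Nat) := [[(nat_lit 67), (nat_lit 60)],
  [(nat_lit 37), (nat_lit 90)],
  [(nat_lit 22), (nat_lit 105)]]
noncomputable def LS : Net := (Net.cons (nat_lit 4) (nat_lit 3) (Net.cons (nat_lit 2) (nat_lit 18) (Net.cons (nat_lit 1) (nat_lit 5) Net.nil)))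
noncomputable def LC : List (List Nat) := [[(nat_lit 0), (nat_lit 127)],
  [(nat_lit 0), (nat_lit 127)],
  [(nat_lit 0), (nat_lit 127)],
  [(nat_lit 0), (nat_lit 127)],
  [(nat_lit 0), (nat_lit 127)],
  [(nat_lit 0), (nat_lit 127)],
  [(nat_lit 0), (nat_lit 127)],
  [(nat_lit 0), (nat_lit 127)],
  [(nat_lit 0), (nat_lit 127)],
  [(nat_lit 0), (nat_lit 127)],
  [(nat_lit 0), (nat_lit 127)],
  [(nat_lit 0), (nat_lit 127)]]
noncomputable def LA : List (List (List Nat)) := [[[1, 1, 0], [0, 1, 1], [0, 0, 1]],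
  [[1, 1, 1], [1, 0, 1], [1, 0, 0]],
  [[1, 0, 1], [0, 0, 1], [1, 1, 0]],
  [[0, 1, 0], [1, 1, 1], [0, 0, 1]],
  [[0, 1, 1], [0, 1, 0], [1, 1, 1]],
  [[1, 0, 1], [0, 1, 1], [1, 1, 1]],
  [[1, 0, 0], [0, 1, 0], [1, 1, 1]],
  [[1, 0, 0], [0, 1, 0], [0, 0, 1]],
  [[0, 1, 0], [1, 0, 0], [1, 1, 1]],
  [[0, 1, 0], [1, 0, 0], [1, 1, 1]],
  [[0, 1, 0], [1, 0, 0], [0, 0, 1]],
  [[0, 1, 0], [1, 0, 0], [1, 1, 1]]]
noncomputable def LD : List (List (List (List Nat))) := [[[[1, 1, 0], [0, 1, 1], [0, 0, 1]]],
 [[[1, 0, 0], [1, 1, 0], [1, 1, 1]],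
  [[1, 1, 1], [0, 1, 0], [0, 0, 1]]],
 [[[1, 0, 0], [0, 1, 1], [0, 0, 1]],
  [[1, 0, 0], [1, 1, 0], [1, 1, 1]],
  [[1, 0, 1], [0, 1, 0], [0, 0, 1]]],
 [[[1, 1, 0], [0, 1, 0], [0, 0, 1]],
  [[1, 0, 0], [1, 1, 0], [0, 0, 1]],
  [[1, 0, 1], [0, 1, 0], [0, 0, 1]]],
 [[[1, 0, 1], [0, 1, 0], [0, 0, 1]],
  [[1, 0, 0], [0, 1, 0], [1, 1, 1]]],
 [[[1, 0, 0], [0, 1, 0], [1, 1, 1]],
  [[1, 0, 1], [0, 1, 1], [0, 0, 1]]],
 [[[1, 0, 0], [0, 1, 0], [1, 1, 1]]],
 [],
 [[[1, 1, 0], [0, 1, 0], [0, 0, 1]],
  [[1, 0, 0], [1, 1, 0], [1, 0, 1]],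
  [[1, 1, 0], [0, 1, 0], [0, 0, 1]]],
 [[[1, 1, 0], [0, 1, 0], [0, 0, 1]],
  [[1, 0, 0], [1, 1, 0], [1, 0, 1]],
  [[1, 1, 0], [0, 1, 0], [0, 0, 1]]],
 [[[1, 1, 0], [0, 1, 0], [0, 0, 1]],
  [[1, 0, 0], [1, 1, 0], [0, 0, 1]],
  [[1, 1, 0], [0, 1, 0], [0, 0, 1]]],
 [[[1, 1, 0], [0, 1, 0], [0, 0, 1]],
  [[1, 0, 0], [1, 1, 0], [1, 0, 1]],
  [[1, 1, 0], [0, 1, 0], [0, 0, 1]]]]
noncomputable def LB : List (List (List Nat)) := [[[1, 1, 1], [0, 1, 1], [0, 0, 1]],
  [[0, 0, 1], [1, 1, 0], [0, 1, 1]],
  [[1, 1, 0], [1, 1, 1], [0, 1, 0]],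
  [[1, 1, 1], [1, 0, 0], [0, 0, 1]],
  [[1, 0, 1], [0, 1, 0], [1, 1, 0]],
  [[0, 1, 1], [1, 0, 1], [1, 1, 1]],
  [[1, 0, 0], [0, 1, 0], [1, 1, 1]],
  [[1, 0, 0], [0, 1, 0], [0, 0, 1]],
  [[0, 1, 0], [1, 0, 0], [1, 1, 1]],
  [[0, 1, 0], [1, 0, 0], [1, 1, 1]],
  [[0, 1, 0], [1, 0, 0], [0, 0, 1]],
  [[0, 1, 0], [1, 0, 0], [1, 1, 1]]]
noncomputable def Q : PD := ⟨[[2, 4, 4, 1, 3, 2, 2, 3, 3, 3, 2, 3, 2, 2], [4, 4, 1, 4, 4, 1, 1, 3, 3, 3, 2, 2, 2, 2, 2], [2, 2, 4, 2, 4, 2, 3, 3, 2, 3, 2, 2, 4, 2, 3], [3, 3, 3, 3, 3, 2, 4, 1, 4, 4, 4, 4, 1, 3, 3], [2, 3, 1, 4, 4, 2, 2, 4, 1, 4, 4, 1, 4, 4, 1], [1, 1, 1, 3, 3, 2, 4, 2, 4, 4, 2, 3, 3, 3, 3, 2]], [([], [[1], [3], [5], [7], [9]]), ([], [[1], [3], [5], [7]]), ([], [[1], [3], [5]]), ([], [[1], [3]]), ([], [[1]]), ([], [])], [⟨10, [[2, 4, 4, 1, 3, 2, 2, 3, 3, 3, 2, 3, 2, 2], [4, 1, 3, 1, 1, 4, 1, 4, 4, 1, 3, 1, 3, 1, 1], [2, 3, 3, 2, 3, 3, 2, 3, 1, 1, 3, 3, 2, 4, 1], [4, 4, 1, 4, 4, 1, 1, 3, 3, 3, 2, 2, 2, 2, 2], [3, 3, 3, 3, 3, 2, 4, 1, 4, 4, 4, 4, 1, 3, 3], [2, 3,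 2, 2, 2, 3, 2, 3, 3, 3, 2, 2, 3, 2, 4, 1]], 1⟩, ⟨16, [[4, 1, 3, 1, 1, 4, 1, 4, 4, 1, 3, 1, 3, 1, 1], [4, 4, 1, 4, 4, 1, 1, 3, 3, 3, 2, 2, 2, 2, 2], [1, 1, 1, 4, 2, 2, 4, 2, 4, 2, 4, 2, 4, 1, 3, 2, 2, 2]], 1⟩], [[1], [5], [9], [3], [7], [11, 7, 5, 1], [5], [3], [11, 7]]⟩

/-- Structure of a trio stabiliser: every permutation of the three octads is induced, and there is a normal subgroup of order 64 of elements squaring to the identity whose quotient is isomorphic to the product of GL(3, 2) with the symmetric group of degree 3. -/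
theorem result (T : Finset (Finset Cfsg.GolayPt)) (hT : T ∈ Cfsg.trios) : (∀ e : Equiv.Perm ↥T, ∃ g ∈ MulAction.stabilizer Cfsg.M24 T, ∀ o : ↥T, (g : Equiv.Perm Cfsg.GolayPt) • (o : Finset Cfsg.GolayPt) = ((e o : ↥T) : Finset Cfsg.GolayPt)) ∧ ∃ (N : Subgroup ↥(MulAction.stabilizer Cfsg.M24 T)) (_ : N.Normal), Nat.card N = 64 ∧ (∀ x ∈ N, x * x = 1) ∧ Nonempty (↥(MulAction.stabilizer Cfsg.M24 T) ⧸ N ≃* GL (Fin 3) (ZMod 2) × Equiv.Perm (Fin 3)) := by
  obtain ⟨g, hg, rfl⟩ := tT hT
  have c1 := Cj.stab (⟨g, hg⟩ : M24) T0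
  have c2 := Cj.fixF (⟨g, hg⟩ : M24) T0
  have h1 := Exact.card_eq xT (s := 64512) (by decide +kernel)
  have h2 := md_card_le r0 (M := M) (k := 3) (m := 12) (s := Nat.factorial 3) (by decide +kernel) (Exact.mem xT) fix_le_stab
    fun _ => fix_mfam.1
  refine ⟨induces_of_card (by rw [hT.1]; exact (congrArg _ c2.card).trans_le (h2.trans_eq c1.card.symm)), ?_⟩
  have k1 : Nat.card (GL (Fin 3) (ZMod 2)) = 168 := by
    rw [Matrix.card_GL_field]; simp [Fin.prod_univ_three]
  have k2 : Nat.card (GL (Fin 3) (ZMod 2) × Equiv.Perm (Fin 3)) = 1008 := by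
    rw [Nat.card_prod, k1, Nat.card_perm]; simp; rfl
  obtain ⟨ψ, -, a⟩ := md_surj rS' (M := L) (k := 7) (m := 12) (s := 168) (by decide +kernel) xT.eq_clo
    ((show LinOK (tabP 2) 7 3 12 LV LA L.nets from ⟨⟨LS, by decide +kernel⟩, by decide +kernel, by decide +kernel, rfl, LC, by decide +kernel, rfl, linAll_iff.1 (by decide +kernel)⟩).hasReps (tabP_ok (ZMod 2) 2 (by decide)) (Equiv.refl _) (Units.coeHom _)
      (exists_gl (tabP_ok (ZMod 2) 2 (by decide)) _ (Bs := LB) (by decide +kernel))) k1.le
  obtain ⟨φ, -, b⟩ := md_surj r0 (M := M) (k := 3) (m := 12) (s := 6) (by decide +kernel) xT.eq_clo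
    (hasReps_perm (by decide +kernel) rfl) (by rw [Nat.card_perm]; simp; rfl)
  have h3 := md_card_le rS' (M := M3) (k := 7) (m := 3) (s := 168) (by decide +kernel)
    (H := fixingSubgroup M24 (T0 : Set (Finset GolayPt))) (K := (ψ.prod φ).ker.map (Subgroup.subtype _))
    (fun w hw => fix_mfam.2 (fix_of_closed r0 (by decide +kernel) (ev_mem_clo m hw)))
    (by rintro _ ⟨x, hx, rfl⟩; exact fix_mfam.2 fun c hc => (b x).1 (congrArg Prod.snd hx) c
          ((show ∀ c ∈ [1351424, 6889680, 8536111], c ∈ M.l by decide +kernel) c hc))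
    (by rintro _ ⟨x, hx, rfl⟩; exact (a x).1 (congrArg Prod.fst hx))
  rw [Subgroup.card_map_of_injective (Subgroup.subtype_injective _)] at h3
  change _ ≤ Nat.card (stabilizer M24 T0) at h2
  have h4 : Function.Surjective (ψ.prod φ) := surj_of_card (by
    rw [k2]; simp only [Nat.factorial] at h2; change _ * Nat.card (fixingSubgroup M24 (T0 : Set (Finset GolayPt))) ≤ _ at h2; omega)
  have h5 := card_ker_of_surj h4 k2 (t := 64) h1 (by decide)
  have h6 := ker_eq_of_card (N := clo m Q.qs) (clo_le.2 (mem_fm (by decide +kernel))) (fun x hx =>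
    Prod.ext ((a x).2 (fix_of_closed rS' (by decide +kernel) hx)) ((b x).2 (fix_of_closed r0 (by decide +kernel) hx)))
    (h5.trans (abOK_spec xM k5 two_ne_zero (a := 6) (by decide +kernel)).2.2.symm).le
  obtain ⟨e⟩ := c1.equiv
  exact h5 ▸ exists_quot e h4 fun x hx => by
    rw [← map_mul, ← sq, show x ^ 2 = 1 from Subtype.ext (eqM.pow_eq_one (by decide +kernel) (by decide +kernel) _ (h6.le hx)), map_one]

end Cfsg.Agent.S1558
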