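import Cfsg.Statements.S1601
import Cfsg.Agent.Leech.M24c

set_option autoImplicit false
open scoped Pointwise
open Cfsg

set_option maxRecDepth 1000000

namespace Cfsg.Agent.S1601

open CF.Comp CF.Comp.Mat CF.Bt CF.Leech CF.Leech.M MulAction

noncomputable def M : MD := ⟨[[4, 4, 2, 2, 2, 2, 2, 4, 1, 1, 3], [4, 1, 1, 3, 3, 3, 1, 1, 1, 1, 1, 3, 1]], [(nat_lit 0xc00800242000a00101000000a08000000881310048000804042141000040280000002520820002012840020080008020402a00026100000000008000000), (nat_lit 0xc00801220022004001000080208118408010000044000000a400082440000020080125042020009048081000100a0048080020020100000080000010080), (nat_lit 0x100400809040022004800000100401008102018040404000201800148010002284008000401800080002009504100008021440200000000000801208000400), (nat_lit 0x100600108000800a009000000203000500002011104040002002084002044010860080020098000020200408101800a0000080821000000000880044000400), (nat_lit 0x10080081104000820010040008080800850a8000400080048040001018100030040018000802280000240408141000000c8080020800000000085044000000),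 (nat_lit 0x100a00110000808800100080120020000402880300044004000a00400045060000100810109000080824000504010000081440200806000000000008001080), (nat_lit 0x20820000002a0082000024000a010014010020801040800480004000824406020010000052000a000012009400180000089040021004000000005000010400), (nat_lit 0x2082000180008088000020800005201100082110000480000010881480100010060090000a0020082110801020010000048442000800100000000240001080), (nat_lit 0x40800000024a002000002480000521000000099040400004804042400a0042308000100000c2020008240005100000a0040002800002100000800208001000), (nat_lit 0x4080000012280020048010001200211405000082000000000050880018114000020018100898000820120408200000800a0080001026000000004000010080), (nat_lit 0x60000010002a020004801000080a08050000200310000000201882400841022200100800004228000100001824010028000002200800000000801244001000), (nat_lit 0x600000118000820000002480100c0100800a88004000000020028a0410014400001000120a400a000900808010080008021000801020000000084004010400)],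 [(Net.cons (nat_lit 1) (nat_lit 1028) (Net.cons (nat_lit 2) (nat_lit 784) (Net.cons (nat_lit 4) (nat_lit 9) (Net.cons (nat_lit 8) (nat_lit 13) (Net.cons (nat_lit 4) (nat_lit 3) (Net.cons (nat_lit 2) (nat_lit 1) (Net.cons (nat_lit 1) (nat_lit 1089) Net.nil))))))), (Net.cons (nat_lit 1) (nat_lit 1040) (Net.cons (nat_lit 8) (nat_lit 8) (Net.cons (nat_lit 4) (nat_lit 14) (Net.cons (nat_lit 2) (nat_lit 272) (Net.cons (nat_lit 1) (nat_lit 68) Net.nil)))))], [⟨0, [[1], [3]], 4⟩, ⟨1, [[3], [1, 1, 4, 2]], 3⟩, ⟨2, [[1, 4, 1, 3, 1]], 4⟩]⟩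
noncomputable def MV : List (List Nat) := [[(nat_lit 512), (nat_lit 3583), (nat_lit 0), (nat_lit 0), (nat_lit 0), (nat_lit 0), (nat_lit 0), (nat_lit 0), (nat_lit 0), (nat_lit 0), (nat_lit 0)],
  [(nat_lit 256), (nat_lit 516), (nat_lit 64), (nat_lit 1), (nat_lit 128), (nat_lit 8), (nat_lit 2), (nat_lit 16), (nat_lit 32), (nat_lit 1024), (nat_lit 2048)]]
noncomputable def MS : Net := (Net.cons (nat_lit 1) (nat_lit 4) (Net.cons (nat_lit 4) (nat_lit 4) (Net.cons (nat_lit 8) (nat_lit 12) (Net.cons (nat_lit 4) (nat_lit 3) (Net.cons (nat_lit 2) (nat_lit 787) (Net.cons (nat_lit 1) (nat_lit 85) Net.nil))))))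
noncomputable def MC : List (List Nat) := [[(nat_lit 0), (nat_lit 4), (nat_lit 8), (nat_lit 2560), (nat_lit 16), (nat_lit 1), (nat_lit 128), (nat_lit 1280), (nat_lit 32), (nat_lit 64), (nat_lit 2)],
  [(nat_lit 0), (nat_lit 0), (nat_lit 0), (nat_lit 3583), (nat_lit 512), (nat_lit 0), (nat_lit 0), (nat_lit 0), (nat_lit 0), (nat_lit 0), (nat_lit 0)]]
noncomputable def MA : List (List (List Nat)) := [[[8, 4], [4, 9]],
  [[4, 0], [3, 3]]]
noncomputable def MDs : List (List (List (List Nat))) := [[[[1, 0], [6, 1]],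
  [[8, 4], [0, 7]]],
 [[[1, 0], [9, 1]],
  [[4, 0], [0, 3]]]]

/-- In the 3-transitive action of the smallest Mathieu group on the complementary dodecad, a point stabiliser is isomorphic to PSL(2, 11). -/
theorem result (d : Finset Cfsg.GolayPt) (hd : d ∈ Cfsg.dodecads) (p q : Cfsg.GolayPt) (hp : p ∈ d) (hq : q ∉ d) : Nonempty (↥(MulAction.stabilizer Cfsg.M24 d ⊓ MulAction.stabilizer Cfsg.M24 p ⊓ MulAction.stabilizer Cfsg.M24 q) ≃* Matrix.ProjectiveSpecialLinearGroup (Fin 2) (ZMod 11)) := by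
  obtain ⟨g, hg, e⟩ := tD10 hd hp hq
  obtain ⟨⟨rfl, rfl⟩, rfl⟩ : (g • sD = d ∧ g • pt 0 = p) ∧ g • pt 23 = q := by
    simpa [Prod.ext_iff] using e
  obtain ⟨e⟩ := (((Cj.stab (⟨g, hg⟩ : M24) sD).inf (Cj.stab _ (pt 0))).inf (Cj.stab _ (pt 23))).equiv
  haveI : Fact (Nat.Prime 11) := ⟨by norm_num⟩
  have h := CF.Classical.card_PSL_two (F := ZMod 11)
  rw [ZMod.card] at h
  obtain ⟨e'⟩ := md_equiv rO (M := M) (k := 12) (m := 2) (s := 660) (by decide +kernel) (mem_inf (mem_inf (mem_st r0 (a := 340831) (by decide +kernel)) (mem_stab r0 (b := 0) (by decide +kernel))) (mem_stab r0 (b := 23) (by decide +kernel)))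
    (Exact.card_eq (Exact.stab (Exact.stab xD r0 (by decide) (c' := [⟨1, [[2, 4, 1, 1, 4, 4, 2, 4, 1, 1, 1], [4, 2, 3, 3, 2, 2, 3, 1, 3, 1, 1]], 3⟩, ⟨2, [[1, 4, 1, 4, 4, 2, 4, 2, 4, 2, 4, 2], [1, 4, 4, 1, 4, 2, 2, 3, 3, 2, 2, 4, 1]], 3⟩, ⟨3, [[3, 2, 3, 1, 1, 1, 1, 1, 1, 1, 1, 3, 2], [4, 2, 4, 1, 1, 4, 1, 3, 2, 4, 1, 3, 2]], 3⟩, ⟨4, [[2, 4, 2, 2, 4, 1, 4, 4, 4, 1, 1, 4, 4, 2, 2, 2], [4, 1, 4, 4, 2, 2, 2, 3, 2, 3, 3, 1, 3, 3, 2, 3]], 2⟩]) (mem_st r0 (a := 340831) (by decide +kernel)) (b := 0) (k := 5) (x := pt 0) rfl (by decide +kernel)) r0 (by decide) (c' := [⟨1, [[4, 4, 2, 2, 2, 2, 2, 4, 1, 1, 3], [4, 1, 1, 3, 3, 3, 1, 1, 1, 1, 1, 3, 1]], 3⟩, ⟨2, [[2, 4, 1, 1, 1, 3, 1, 1, 4, 4, 1, 3, 3, 2], [1, 4, 1, 4, 2, 3, 1, 3, 3, 1, 1, 3, 2, 4, 1]], 3⟩, ⟨3, [[4, 2, 4, 1, 1, 3, 1, 3, 3, 1, 1, 3, 1, 4, 2, 4], [3, 1, 4, 1, 3, 3, 2, 4, 1, 4, 1, 1, 3, 1, 4, 2, 3]], 1⟩, ⟨4, [[1, 4, 4, 2, 3, 3, 2, 3, 2, 2, 4, 2, 3, 2, 2, 4, 2, 3, 2]], 1⟩]) (mem_inf (mem_st r0 (a := 340831)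 (by decide +kernel)) (mem_stab r0 (b := 0) (by decide +kernel))) (b := 23) (k := 5) (x := pt 23) rfl (by decide +kernel)) (by decide +kernel)).le
    ((show LinOK (tabP 11) 12 2 2 MV MA M.nets from ⟨⟨MS, by decide +kernel⟩, by decide +kernel, by decide +kernel, rfl, MC, by decide +kernel, rfl, linAll_iff.1 (by decide +kernel)⟩).hasReps_PSL (tabP_ok (ZMod 11) 11 (by decide)) (Ds := MDs) (by decide +kernel))
    (Nat.le_of_mul_le_mul_left h.le two_pos)
  exact ⟨e.symm.trans e'⟩

end Cfsg.Agent.S1601
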