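import Cfsg.Statements.S2093
import Cfsg.Agent.Schur.S62
import Cfsg.Agent.S0245
import Cfsg.Agent.S0246

set_option autoImplicit false
open Cfsg

namespace Cfsg.Agent.S2093

/-- Exceptional Schur multiplier: over the field with 2 elements, PSp₆ has Schur multiplier cyclic of order 2 (here the Schur multiplier is described through stem extensions, as in the definitions). -/
theorem result {F : Type*} [Field F] [Fintype F] (hF : Fintype.card F = 2) : Cfsg.HasCyclicSchurMultiplier (Cfsg.PSp 3 F) 2 := by
  have h := Cfsg.Agent.S0245.result hF 3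
  have h' := Cfsg.Agent.S0246.result hF 3 (by norm_num)
  refine CF.Schur.S62.schur_of (CF.Schur.S62.linU.hasReps_PSp (r := 3) (CF.Schur.Pc.exists_ok_prime Nat.prime_two hF)
    (c := 1) (by decide +kernel) (by norm_num) CF.Schur.S62.memU) ?_
  have h2 := Subgroup.card_eq_card_quotient_mul_card_subgroup (Subgroup.center (Matrix.symplecticGroup (Fin 3) F))
  rw [h, h'] at h2
  simp [Finset.prod_range_succ] at h2
  exact h2.symm

end Cfsg.Agent.S2093
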