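import Cfsg.Statements.S1896
import Cfsg.Agent.Fus.Meta2

set_option autoImplicit false
open Cfsg

namespace Cfsg.Agent.S1896
open CF.Fus Cfsg.FusionSystem

/-- A finite metacyclic 2-group whose automorphism group is not a 2-group is isomorphic to the quaternion group of order 8 or to a homocyclic abelian group Z_{2^n} × Z_{2^n}. -/
theorem result {X : Type*} [Group X] [Finite X] (hX : IsPGroup 2 X)
    (hm : Cfsg.IsMetacyclic X) (hA : ¬ IsPGroup 2 (MulAut X)) :
    Nonempty (X ≃* QuaternionGroup 2) ∨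
      ∃ n : ℕ, Nonempty (X ≃* Multiplicative (ZMod (2 ^ n)) × Multiplicative (ZMod (2 ^ n))) := by
  by_cases hc : IsMulCommutative X
  · have e0 : (⊤ : Subgroup X) ≃* X := Subgroup.topEquiv
    have hP : IsPGroup 2 (⊤ : Subgroup X) := hX.to_subgroup _
    haveI : IsMulCommutative (⊤ : Subgroup X) := ⟨⟨fun a b => Subtype.ext (hc.1.1 a.1 b.1)⟩⟩
    rcases ch_or_split hP with c | ⟨n, H, _, c, ⟨e⟩⟩
    · exact (hA ((((c.abE hP).two.of_equiv Subgroup.topEquiv)).of_equiv (MulAut.congr e0))).elim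
    obtain ⟨k, y, -, d⟩ := exists_mcy hm
    haveI := nontrivial_zmod (p := 2) c
    haveI := @Unique.mk' H ⟨1⟩ (subsingleton_of_split hX (index_frattini_le hX d) (e0.symm.trans e))
    exact .inr ⟨n, ⟨e0.symm.trans (e.trans MulEquiv.prodUnique)⟩⟩
  · exact .inl (q8_of_meta hX hm hA hc)

end Cfsg.Agent.S1896
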