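import Cfsg.Statements.S1921
import Cfsg.Agent.Sig.Diag

set_option autoImplicit false
open Cfsg

namespace Cfsg.Agent.S1921

open CF.BG CF.Sig Subgroup in

/-- Let a be an involution of a finite group H and L a component of H with a L a⁻¹ ≠ L; put M = ⟨L, aLa⁻¹⟩ and let J be the subgroup generated by the elements x · a x a⁻¹ with x ∈ L (the diagonal). Then every element of M outside J·Z(M) generates M together with J. -/
theorem result {H : Type*} [Group H] [Finite H] (a : H) (ha : orderOf a = 2) (L : Subgroup H) (hL : Cfsg.IsComponent L)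
    (hLa : L.map (MulAut.conj a).toMonoidHom ≠ L) (x : H) (hxM : x ∈ L ⊔ L.map (MulAut.conj a).toMonoidHom)
    (hxJ : x ∉ Subgroup.closure {y : H | ∃ l ∈ L, y = l * (a * l * a⁻¹)} ⊔
      ((L ⊔ L.map (MulAut.conj a).toMonoidHom) ⊓ Subgroup.centralizer ((L ⊔ L.map (MulAut.conj a).toMonoidHom : Subgroup H) : Set H))) :
    Subgroup.closure {y : H | ∃ l ∈ L, y = l * (a * l * a⁻¹)} ⊔ Subgroup.zpowers x = L ⊔ L.map (MulAut.conj a).toMonoidHom := by
  have hc : Comp L ⊤ := comp_top_iff.2 hL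
  have hc' : Comp (cj a L) ⊤ := hc.cj_of_norm (by rw [normalizer_eq_top]; trivial)
  have c : L ≤ 𝐂 (cj a L) := hc.cent_of_ne hc' (Ne.symm hLa)
  rw [dg_closure c] at hxJ ⊢
  change _ = L ⊔ cj a L
  change x ∈ L ⊔ cj a L at hxM
  change x ∉ _ ⊔ ((L ⊔ cj a L) ⊓ 𝐂 (L ⊔ cj a L)) at hxJ
  set J := (dgHom a L c).range
  have hle : J ⊔ zpowers x ≤ L ⊔ cj a L := sup_le (dg_le c) (zpowers_le.2 hxM)
  have hd : J ⊔ zpowers x = J ⊔ ((J ⊔ zpowers x) ⊓ L) := by
    rw [← inf_sup_left le_sup_left (Or.inl (dg_norm c)), sup_dg c, inf_eq_left.2 hle]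
  have hn : (J ⊔ zpowers x) ⊓ L ⊴ L :=
    ⟨inf_le_right, norm_of_dg_norm c inf_le_right (norm_inf (norm_of_le le_sup_left) (dg_norm c))⟩
  rcases hc.eq_or hn with h | h
  · rw [hd, h, sup_dg c]
  · exfalso
    apply hxJ
    have : J ⊔ zpowers x ≤ J ⊔ ((L ⊔ cj a L) ⊓ 𝐂 (L ⊔ cj a L)) := by
      rw [hd]
      exact sup_le_sup_left (le_inf (inf_le_right.trans le_sup_left)
        (le_cent_sup h (inf_le_right.trans c))) _
    exact this (mem_sup_right (mem_zpowers x))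

end Cfsg.Agent.S1921
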