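import Cfsg.Statements.S1922
import Cfsg.Agent.BG.B6
import Cfsg.Agent.Invol.Count

set_option autoImplicit false
open Cfsg

namespace Cfsg.Agent.S1922

open CF.BG Subgroup

theorem par {G : Type*} [Group G] [Finite G] {S : Set G} {w : G} (hw : w * w = 1)
    (hinv : ∀ x ∈ S, w * x * w⁻¹ ∈ S) :
    S.ncard ≡ {x | x ∈ S ∧ w * x * w⁻¹ = x}.ncard [MOD 2] := by
  classical
  have := Fintype.ofFinite G
  have h := Equiv.Perm.card_fixedPoints_modEq
    (f := fun y : S => (⟨w * y.1 * w⁻¹, hinv _ y.2⟩ : S))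
    (p := 2) (n := 1) (funext fun y => Subtype.ext (by
      change w * (w * y.1 * w⁻¹) * w⁻¹ = y.1
      calc _ = (w * w) * y.1 * (w * w)⁻¹ := by group
        _ = _ := by rw [hw]; simp))
  rw [← Nat.card_eq_fintype_card, ← Nat.card_eq_fintype_card] at h
  refine h.trans (Eq.symm (congrArg (· % 2) ?_))
  exact Nat.card_congr ⟨fun x => ⟨⟨x, x.2.1⟩, Subtype.ext x.2.2⟩,
    fun x => ⟨x.1, x.1.2, congrArg Subtype.val x.2⟩, fun _ => rfl, fun _ => rfl⟩

theorem central_iff {G : Type*} [Group G] [Finite G] {z : G} (hz : orderOf z = 2) :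
    (∃ P : Sylow 2 G, z ∈ (Subgroup.center ↥(P : Subgroup G)).map (P : Subgroup G).subtype) ↔
      Odd {d | IsConj z d}.ncard := by
  haveI : Fact (Nat.Prime 2) := ⟨Nat.prime_two⟩
  have e : {d | IsConj z d}.ncard = (𝐂₁ z).index := CF.Invol.card_isConj_eq_index z
  rw [e, ← Nat.not_even_iff_odd, even_iff_two_dvd, ← relIndex_top_right]
  constructor
  · rintro ⟨P, hP⟩
    rw [center_map_subtype] at hP
    exact ((syl_sylow_top P).idx_of_le (le_cent1_iff.2 hP.2)).not_dvd' Nat.prime_two rfl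
  · intro h
    obtain ⟨P, sP, hle⟩ := exists_syl_le (p := 2) (M := 𝐂₁ z) (zpowers_le.2 (self_mem_cent1 z))
      (piGrp_zpowers.2 (by change PiNat _ _; rw [hz]; exact piNat_self Nat.prime_two))
    obtain ⟨Q, hQ⟩ := (sP.trans_idx le_top ((piNat_compl_single Nat.prime_two).2 h)).exists_sylow_top
    refine ⟨Q, ?_⟩
    rw [center_map_subtype, hQ]
    exact ⟨hle (mem_zpowers z), le_cent1_iff.1 sP.le⟩

theorem eq_of_sq {G : Type*} [Group G] {a b : G} (ha : Odd (orderOf a)) (hb : Odd (orderOf b))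
    (h : a ^ 2 = b ^ 2) : a = b := by
  obtain ⟨k, hk⟩ := ha.mul hb
  have h1 : a ^ (2 * k + 1) = 1 := by rw [← hk, pow_mul, pow_orderOf_eq_one, one_pow]
  have h2 : b ^ (2 * k + 1) = 1 := by rw [← hk, mul_comm, pow_mul, pow_orderOf_eq_one, one_pow]
  calc a = a ^ (2 * k + 1) * a := by rw [h1, one_mul]
    _ = (a ^ 2) ^ (k + 1) := by rw [← pow_succ, ← pow_mul]; congr 1
    _ = (b ^ 2) ^ (k + 1) := by rw [h]
    _ = b ^ (2 * k + 1) * b := by rw [← pow_succ, ← pow_mul]; congr 1
    _ = b := by rw [h2, one_mul]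

/-- Let z be an involution of a finite group G and H a proper subgroup such that z lies in gHg⁻¹ exactly when g ∈ H. Then the following are equivalent: (1) for every conjugate t ≠ z of z commuting with z, the product zt lies in gHg⁻¹ exactly when g ∈ H; (2) z lies in the centre of some Sylow 2-subgroup of G, and for every conjugate t ≠ z of z commuting with z, the centralizer of zt is contained in H. -/
theorem result {G : Type*} [Group G] [Finite G] (z : G) (hz : orderOf z = 2) (H : Subgroup G) (hH : H ≠ ⊤)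
    (h0 : ∀ g : G, z ∈ H.map (MulAut.conj g).toMonoidHom ↔ g ∈ H) :
    (∀ t : G, IsConj z t → t ≠ z → t * z = z * t → ∀ g : G, z * t ∈ H.map (MulAut.conj g).toMonoidHom ↔ g ∈ H) ↔
      ((∃ P : Sylow 2 G, z ∈ (Subgroup.center ↥(P : Subgroup G)).map (P : Subgroup G).subtype) ∧
        ∀ t : G, IsConj z t → t ≠ z → t * z = z * t → Subgroup.centralizer ({z * t} : Set G) ≤ H) := by
  change ∀ g, z ∈ cj g H ↔ g ∈ H at h0
  change (∀ t : G, IsConj z t → t ≠ z → t * z = z * t → ∀ g : G, z * t ∈ cj g H ↔ g ∈ H) ↔ _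
  have z2 : z * z = 1 := CF.Invol.mul_self_of_orderOf hz
  have h1 : ∀ g : G, g * z * g⁻¹ ∈ H ↔ g ∈ H := fun g => by
    rw [← mem_cj_inv, h0, inv_mem_iff]
  have hzH : z ∈ H := by simpa using (h1 1).2 (one_mem H)
  have hCH : ∀ g, g * z = z * g → g ∈ H := fun g hg => (h1 g).1 (by rw [hg]; simpa using hzH)
  have uniq : ∀ d, IsConj z d → ∀ g, d ∈ H → d ∈ cj g H → g ∈ H := by
    intro d hd g a b
    obtain ⟨k, rfl⟩ := isConj_iff.1 hd
    have hk := (h1 k).1 a
    have := (h1 (g⁻¹ * k)).1 (by simpa [mul_assoc] using mem_cj.1 b)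
    simpa using inv_mem (mul_mem this (inv_mem hk))
  have cD : ∀ d, IsConj z d → ∀ g, IsConj z (g * d * g⁻¹) := fun d hd g =>
    hd.trans (isConj_iff.2 ⟨g, rfl⟩)
  have sqD : ∀ d, IsConj z d → d * d = 1 := fun d hd =>
    CF.Invol.mul_self_of_orderOf (by rw [← CF.Invol.orderOf_eq_of_isConj hd, hz])
  -- parity of `D` and of `D ∩ H^g`
  have par1 : {d | IsConj z d}.ncard ≡ {d | IsConj z d ∧ d ∈ H}.ncard [MOD 2] := by
    refine (par z2 (S := {d | IsConj z d}) fun x hx => cD x hx z).trans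
      (Nat.ModEq.trans ?_ (par z2 (S := {d | IsConj z d ∧ d ∈ H}) fun x hx =>
        ⟨cD x hx.1 z, mul_mem (mul_mem hzH hx.2) (inv_mem hzH)⟩).symm)
    have : {x | x ∈ {d | IsConj z d} ∧ z * x * z⁻¹ = x} =
        {x | x ∈ {d | IsConj z d ∧ d ∈ H} ∧ z * x * z⁻¹ = x} := by
      ext x
      exact ⟨fun h => ⟨⟨h.1, hCH x (mul_inv_eq_iff_eq_mul.1 h.2).symm⟩, h.2⟩, fun h => ⟨h.1.1, h.2⟩⟩
    rw [this]
  have par2 : ∀ g, {d | IsConj z d ∧ d ∈ cj g H}.ncard = {d | IsConj z d ∧ d ∈ H}.ncard := by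
    intro g
    rw [← Set.ncard_image_of_injective {d | IsConj z d ∧ d ∈ H} (MulAut.conj g).injective]
    congr 1
    ext x
    constructor
    · rintro ⟨a, b⟩
      exact ⟨g⁻¹ * x * g, ⟨by simpa using cD x a g⁻¹, mem_cj.1 b⟩, by simp [mul_assoc]⟩
    · rintro ⟨y, ⟨a, b⟩, rfl⟩
      exact ⟨cD y a g, conj_mem_cj.2 b⟩
  rw [central_iff hz]
  constructor
  · intro ha
    have hb : ∀ t : G, IsConj z t → t ≠ z → t * z = z * t → 𝐂₁ (z * t) ≤ H := by
      intro t a b c g hg
      refine (ha t a b c g).1 ?_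
      rw [mem_cj, mul_assoc, ← mem_cent1.1 hg, inv_mul_cancel_left]
      exact mul_mem hzH (hCH t c)
    refine ⟨?_, hb⟩
    have odd : ∀ d, IsConj z d → d ∉ H → Odd (orderOf (z * d)) := by
      intro d hd hdH
      by_contra hev
      rw [Nat.not_odd_iff_even] at hev
      obtain ⟨w, hw, hw2, c1, c2⟩ := CF.Invol.exists_central_invol z2 (sqD d hd) hev
      have inv := CF.Invol.left_inverts_mul z2 (sqD d hd)
      obtain ⟨k, rfl⟩ := mem_zpowers_iff.1 hw
      have ht : IsConj z (z * (z * d) ^ k) := by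
        rcases Int.even_or_odd' k with ⟨m, rfl | rfl⟩
        · exact isConj_iff.2 ⟨_, CF.Invol.mul_zpow_conj_of_inverts inv m⟩
        · refine hd.trans (isConj_iff.2 ⟨(z * d) ^ (-m), ?_⟩)
          have e : d = z * (z * d) := by rw [← mul_assoc, z2, one_mul]
          have := CF.Invol.zpow_conj_of_inverts inv (-m)
          set c := z * d
          calc c ^ (-m) * d * (c ^ (-m))⁻¹ = (c ^ (-m) * z * (c ^ (-m))⁻¹) * c := by rw [e]; group
            _ = _ := by rw [this]; group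
      have hne : z * (z * d) ^ k ≠ z := fun h =>
        CF.Invol.ne_one_of_orderOf hw2 (mul_left_cancel (h.trans (mul_one z).symm))
      have := hb _ ht hne (by rw [mul_assoc, c1.eq])
      rw [← mul_assoc, z2, one_mul] at this
      exact hdH (this (mem_cent1.2 c2.symm.eq))
    obtain ⟨g, hg⟩ : ∃ g, g ∉ H := by
      by_contra h; push Not at h; exact hH (eq_top_iff.2 fun g _ => h g)
    set y := g * z * g⁻¹ with hy
    have hyD : IsConj z y := isConj_iff.2 ⟨g, rfl⟩
    have hyH : y ∉ H := fun h => hg ((h1 g).1 h)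
    have y2 := sqD y hyD
    have yi : y⁻¹ = y := inv_eq_of_mul_eq_one_right y2
    have EH : ∀ u, y * u ∈ H → u ∉ H := fun u a b => hyH (by simpa using mul_mem a (inv_mem b))
    have e1 : {d | IsConj z d ∧ d ∈ cj y H} = (fun u => u * z * u⁻¹) '' {u | IsConj z u ∧ y * u ∈ H} := by
      ext d
      constructor
      · rintro ⟨a, b⟩
        have hd : d ∉ H := fun h => hyH (uniq d a y h b)
        obtain ⟨k, hk⟩ := CF.Invol.exists_invol_conj_of_odd z2 (sqD d a) (odd d a hd)
        have inv := CF.Invol.left_inverts_mul z2 (sqD d a)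
        have u2 : (z * (z * d) ^ k) * (z * (z * d) ^ k) = 1 :=
          CF.Invol.mul_mul_self_of_inverts z2 (CF.Invol.inverts_of_mem_zpowers inv (zpow_mem_zpowers _ k))
        refine ⟨z * (z * d) ^ k, ⟨CF.Invol.isConj_of_odd z2 u2 ?_, ?_⟩, hk⟩
        · rw [← mul_assoc, z2, one_mul]
          exact (odd d a hd).of_dvd_nat (orderOf_dvd_of_mem_zpowers (zpow_mem_zpowers _ k))
        · rw [← h1, ← yi]
          have := mem_cj.1 b
          rw [← hk] at this
          simpa [mul_assoc] using this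
      · rintro ⟨u, ⟨a, b⟩, rfl⟩
        refine ⟨isConj_iff.2 ⟨u, rfl⟩, mem_cj.2 ?_⟩
        have := (h1 _).2 b
        rw [yi]
        simpa [mul_assoc, yi] using this
    have e2 : Set.InjOn (fun u => u * z * u⁻¹) {u | IsConj z u ∧ y * u ∈ H} := by
      rintro u ⟨a, b⟩ v ⟨a', b'⟩ h
      have ui : u⁻¹ = u := inv_eq_of_mul_eq_one_right (sqD u a)
      have vi : v⁻¹ = v := inv_eq_of_mul_eq_one_right (sqD v a')
      simp only [ui, vi] at h
      refine mul_left_cancel (eq_of_sq (odd u a (EH u b)) (odd v a' (EH v b')) ?_)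
      rw [pow_two, pow_two, mul_assoc z u, mul_assoc z v, ← mul_assoc u, ← mul_assoc v, h]
    have e3 := par y2 (S := {u | IsConj z u ∧ y * u ∈ H}) fun u hu => ⟨cD u hu.1 y, by
      have := inv_mem hu.2
      rw [mul_inv_rev, inv_eq_of_mul_eq_one_right (sqD u hu.1)] at this
      rwa [mul_assoc y u, ← mul_assoc y y, y2, one_mul]⟩
    have e4 : {x | x ∈ {u | IsConj z u ∧ y * u ∈ H} ∧ y * x * y⁻¹ = x} = {y} := by
      ext u
      constructor
      · rintro ⟨⟨a, b⟩, c⟩
        by_contra hne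
        have c' : y * u = u * y := mul_inv_eq_iff_eq_mul.1 c
        have := (ha (g⁻¹ * u * g) (by simpa using cD u a g⁻¹)
          (fun h => hne (by rw [Set.mem_singleton_iff, hy, ← h]; group))
          (by calc g⁻¹ * u * g * z = g⁻¹ * (u * y) * g := by rw [hy]; group
                _ = _ := by rw [← c', hy]; group) g⁻¹).1
          (mem_cj_inv.2 (by
            have : g * (z * (g⁻¹ * u * g)) * g⁻¹ = y * u := by rw [hy]; group
            rwa [this]))
        exact hg (inv_mem_iff.1 this)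
      · rintro rfl
        exact ⟨⟨hyD, by rw [y2]; exact one_mem H⟩, by simp⟩
    rw [e4, Set.ncard_singleton, ← e2.ncard_image, ← e1, par2] at e3
    exact Nat.odd_iff.2 (par1.trans e3)
  · rintro ⟨hodd, hb⟩ t a b c g
    have htH := hCH t c
    refine ⟨fun h => ?_, fun h => by rw [cj_of_mem h]; exact mul_mem hzH htH⟩
    have w2 : (z * t) * (z * t) = 1 := by
      rw [mul_assoc, ← mul_assoc t, c, mul_assoc, sqD t a, mul_one, z2]
    have e3 := par w2 (S := {d | IsConj z d ∧ d ∈ cj g H}) fun u hu =>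
      ⟨cD u hu.1 _, mul_mem (mul_mem h hu.2) (inv_mem h)⟩
    rw [par2] at e3
    have e4 := (par1.trans e3).symm
    obtain ⟨d, ⟨hd, hd'⟩, hd''⟩ := Set.nonempty_of_ncard_ne_zero
      (s := {x | x ∈ {d | IsConj z d ∧ d ∈ cj g H} ∧ z * t * x * (z * t)⁻¹ = x}) (fun h0 => by
        rw [h0] at e4
        have := Nat.odd_iff.1 hodd
        unfold Nat.ModEq at e4
        omega)
    exact uniq d hd g (hb t a b c (mem_cent1.2 (mul_inv_eq_iff_eq_mul.1 hd'').symm)) hd'

end Cfsg.Agent.S1922
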