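import Cfsg.Statements.S1930
import Cfsg.Agent.QA.G

set_option autoImplicit false
open Cfsg

namespace Cfsg.Agent.S1930


/-- Inside a finite group let G be a nontrivial subgroup and R an r-subgroup (r a prime) normalizing G, with the order of G prime to r. Let p > 3 be a prime with F*(G) = O_p(G), and let P be the intersection of all R-invariant Sylow p-subgroups of G. Then P has a nontrivial characteristic subgroup that is normalized by G. -/
theorem result {X : Type*} [Group X] [Finite X] (G R : Subgroup X) (r : ℕ) [Fact r.Prime] (hR : IsPGroup r ↥R) (hcop : (Nat.card ↥G).Coprime r) (hnorm : R ≤ Subgroup.normalizer (G : Set X)) (hG : G ≠ ⊥) (p : ℕ) [Fact p.Prime] (hp : 3 < p) (hF : Cfsg.generalizedFittingSubgroup ↥G = Cfsg.pCore p ↥G) (P : Subgroup X) (hP : P = ⨅ S : {S : Sylow p ↥G // ∀ a ∈ R, ((S : Subgroup ↥G).map G.subtype).map (MulAut.conj a).toMonoidHom = (S : Subgroup ↥G).map G.subtype}, ((S : Sylow p ↥G) : Subgroup ↥G).map G.subtype) : ∃ C : Subgroup ↥P,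 C.Characteristic ∧ C ≠ ⊥ ∧ G ≤ Subgroup.normalizer ((C.map P.subtype : Subgroup X) : Set X) := by
    open CF.BG CF.Transfer CF.QA in
    have hpp : p.Prime := Fact.out
    have h5 : 5 ≤ p := hpp.five_le_of_ne_two_of_ne_three (by omega) (by omega)
    have hC : CF.Sig.CharP p G := (CF.Sig.charP_iff_fstar hpp).2 hF
    have hcop' : (Nat.card R).Coprime (Nat.card G) := by
      obtain ⟨n, hn⟩ := hR.exists_card_eq
      rw [hn]; exact hcop.symm.pow_left n
    have hs : CF.BG.Sol R := (CF.BG.piGrp_of_isPGroup Fact.out hR).sol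
    have hT : Cfsg.piCoreOf {p} G ≤ P := hP ▸ le_iInf fun S => (CF.BG.syl_sylow S.1).O_le
    have hPS : ∀ S, CF.BG.Syl p S G → R ≤ Subgroup.normalizer (S : Set X) → P ≤ S := fun S hS n => by
      obtain ⟨Q, rfl⟩ := hS.exists_sylow
      exact hP ▸ iInf_le_of_le ⟨Q, fun a ha => CF.BG.cj_of_norm (n ha)⟩ le_rfl
    have hSt : ∀ g ∈ P, CF.QA.St p G R g := fun g hg => ⟨hnorm, hcop', hs, by
      obtain ⟨S, hS, n⟩ := CF.BG.exists_syl_inv hnorm hcop' (Or.inl hs) p
      exact hS.le (hPS S hS n hg), fun U hU n hp => by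
      obtain ⟨S, hS, n, h⟩ := CF.BG.exists_syl_inv_le hnorm hcop' (Or.inl hs) hU hp n
      exact hS.pi.le (sup_le h (Subgroup.zpowers_le.2 (hPS S hS n hg)))⟩
    have hPp : IsPGroup p P := by
      obtain ⟨S, hS, n⟩ := CF.BG.exists_syl_inv hnorm hcop' (Or.inl hs) p
      exact (hS.pi.le (hPS S hS n)).isPGroup
    have h1 : P ≠ ⊥ := fun e => hG (by
      have h0 : Cfsg.piCoreOf {p} G = ⊥ := le_bot_iff.1 (e ▸ hT)
      have := hC
      rw [CF.Sig.CharP, h0] at this
      simpa using this)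
    have := (Subgroup.nontrivial_iff_ne_bot P).2 h1
    refine ⟨kInfUpper P, Subgroup.characteristic_iff_map_eq.2 fun φ => CF.Transfer.map_kInfUpper_equiv φ,
      (CF.Transfer.kInfUpper_isCharPFunctor p).1 P hPp this, ?_⟩
    have := (CF.BG.le_norm_self G).trans (CF.QA.norm_k h5 hnorm hC hT hSt).2
    rwa [← CF.Transfer.ind_kInfUpper] at this

end Cfsg.Agent.S1930
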