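import Cfsg.Statements.S1946
import Cfsg.Agent.Transfer.Ctrl

set_option autoImplicit false
open Cfsg

namespace Cfsg.Agent.S1946

/-- Let P be a Sylow p-subgroup of the finite group G. Then G has a normal p-complement if and only if P controls the fusion of its elements of order dividing p (dividing 4 when p = 2): whenever such an element a of P has a G-conjugate g a g⁻¹ in P, that conjugate is already x a x⁻¹ for some x in P. -/
theorem result {G : Type*} [Group G] [Finite G] {p : ℕ} [Fact p.Prime] (P : Sylow p G) :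
    Cfsg.HasNormalPComplement p G ↔
      ∀ a ∈ (P : Subgroup G), (a ^ p = 1 ∨ (p = 2 ∧ a ^ 4 = 1)) → ∀ g : G, g * a * g⁻¹ ∈ (P : Subgroup G) →
        ∃ x ∈ (P : Subgroup G), g * a * g⁻¹ = x * a * x⁻¹ := by
  open CF.Transfer Subgroup commutatorElement in
  refine ⟨fun h a ha _ g hg => ?_, fun h => hasNPC_of_small_exponent P fun U hU g hg _ h1 h2 => ?_⟩
  · obtain ⟨s, hs, e⟩ := (hasNPC_iff_controls_fusion P).1 h a ha g hg
    exact ⟨s, hs, e.symm⟩
  · refine eq_bot_of_le_commutator P.isPGroup' hU (h1.ge.trans (commutator_le.2 fun u hu y hy => ?_))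
    have hy' : y ∈ normalizer (U : Set G) := zpowers_le.2 hg hy
    obtain ⟨x, hx, e⟩ := h u⁻¹ (hU (inv_mem hu)) (h2 _ (inv_mem hu)) y
      (hU (conj_mem_of_mem_normalizer hy' (inv_mem hu)))
    have : ⁅u, y⁆ = ⁅u, x⁆ := by
      rw [commutatorElement_def, commutatorElement_def, mul_assoc, mul_assoc, ← mul_assoc y, e]
      group
    exact this ▸ commutator_mem_commutator hu hx

end Cfsg.Agent.S1946
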