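import Cfsg.Statements.S2098
import Cfsg.Agent.Schur.O82
import Cfsg.Agent.S0293

set_option autoImplicit false
open Cfsg

namespace Cfsg.Agent.S2098

/-- Exceptional Schur multiplier: over the field with 2 elements, PΩ⁺₈ (for the form Σ xᵢyᵢ) has Schur multiplier a four-group, the product of two cyclic groups of order 2 (here the Schur multiplier is described through stem extensions, as in the definitions). -/
theorem result {F : Type*} [Field F] [Fintype F] (hF : Fintype.card F = 2) : Cfsg.HasSchurMultiplier (Cfsg.POmega F (Cfsg.quadFormPlus 4 F)) (Multiplicative (ZMod 2 × ZMod 2)) := by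
  have h := Cfsg.Agent.S0293.result hF 4 (by norm_num)
  refine CF.Schur.O82.schur_of (CF.Schur.O82.linU.hasReps_POmega (CF.Schur.Pc.exists_ok_prime Nat.prime_two hF)
    (finSumFinEquiv (m := 4) (n := 4))
    (Q := CF.Geom.qPlus 4 F) (CF.Geom.qPlus_nondegenerate 4) (by norm_num) (B := CF.Schur.O82.UB) (fun v => ?_)
    CF.Schur.O82.memU) ?_
  · show Cfsg.quadFormPlus 4 F v = _
    have e : ∀ i j, CF.Comp.ent CF.Schur.O82.UB (finSumFinEquiv (m := 4) (n := 4) i) (finSumFinEquiv (m := 4) (n := 4) j) =
        (Matrix.fromBlocks 0 1 0 0 : Matrix (Fin 4 ⊕ Fin 4) (Fin 4 ⊕ Fin 4) ℕ) i j := by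
      simp only [Sum.forall]
      decide +kernel
    simp [Cfsg.quadFormPlus, CF.Comp.mat, e, dotProduct, Matrix.mulVec, Matrix.one_apply]
  · simp [Finset.prod_range_succ] at h
    exact h

end Cfsg.Agent.S2098
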