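import Cfsg.Statements.S2109
import Cfsg.Agent.Mon.MulE
import Cfsg.Agent.Mon.Crt
import Cfsg.Agent.BN.TGr2
import Cfsg.Agent.BN.TwMaxE6

set_option autoImplicit false
open Cfsg

namespace Cfsg.Agent.S2109

open CF.BN CF.Chev CF.Schur CF.Schur.Pc Subgroup in
theorem main {K G : Type*} [Field K] [Fintype K] [Group G] {ρ : StRep cE6 K G} {T : CF.BN.Tw ρ}
    {φ : K →+* K} (h : T.IsGr pE6 φ) (hφ : ∀ t, φ t = t ^ 2) (h4 : ∀ t, φ (φ t) = t)
    (hU : Univ ρ) (hK : Fintype.card K = 2 ^ 2) {X : Type*} [Group X] {θ : gE6 ρ 2 →* X}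
    (hθ : Function.Surjective θ) (hθ' : ∀ g, θ g = 1 ↔ g.1 ∈ center G) :
    Dom X (Multiplicative (ZMod 3)) := by
  have := hU.r3.finite hU.faith hU.top
  have h5 : _ = 3 := card_ker_E6 h hφ hK
  have hP := commutator_E6 h hφ h4 hU.r3 (by omega)
  have e := (formE6 h hφ h4).eq_Fix (by
    rw [T.H_inf_Fix hU.r3 hU.inj]; rintro _ ⟨c, hc, rfl⟩; exact tor_memE6 hφ _ (h.mem_TF.1 hc))
  generalize gE6 ρ 2 = G1 at *
  subst e
  have := Finite.of_surjective _ hθ
  have e : θ.ker.map T.Fix.subtype = (T.TF ⊓ (cE6.torChar (K := K)).ker).map hU.r3.tor := by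
    rw [map_inf _ _ _ hU.inj, ← T.H_inf_Fix hU.r3 hU.inj, ← hU.r3.center_eq hU.faith hU.top]
    ext g
    exact ⟨by
      rintro ⟨g, hg, rfl⟩
      exact ⟨⟨StRep.center_le_H hU.faith hU.top ((hθ' g).1 hg), g.2⟩, (hθ' g).1 hg⟩,
      fun hg => ⟨⟨g, hg.1.2⟩, (hθ' _).2 hg.2, rfl⟩⟩
  exact (dom_ker ⟨hθ, fun g hg => mem_center_iff.2 fun a => Subtype.ext
    (mem_center_iff.1 ((hθ' g).1 hg) a), hP ▸ le_top⟩).congr ((((equivMapOfInjective _ _
      T.Fix.subtype_injective).trans (.subgroupCongr e)).trans (equivMapOfInjective _ _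
      hU.inj).symm).trans (h5 ▸ zmodCyclicMulEquiv (isCyclic_of_prime_card
        (hp := ⟨Nat.prime_three⟩) h5)).symm)

open CF.BN CF.Chev CF.Schur CF.Schur.Pc Subgroup in
theorem dom3 {F : Type*} [Field F] [Fintype F] (hF : Fintype.card F = 2 ^ 2) :
    Dom (Lie.twistedE6 F 2) (Multiplicative (ZMod 3)) := by
  have : Nonempty (Fin Lie.chevE6.rank) := ⟨(0 : Fin 6)⟩
  have : CharP F 2 := charP_of_card_eq_prime_pow hF
  have hU := univ_stRep goodE6 F (torE6 F)
  obtain ⟨T, h⟩ := hU.exists_gr (π := pE6) (by decide +kernel) (iterateFrobenius F 2 1)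
  obtain ⟨θ, hθ, hθ'⟩ := exists_hom_tw goodE6 (K := F) (S := Lie.e6Words F 2) rfl
  exact main h (fun _ => rfl) (fun t => by
    change (t ^ 2) ^ 2 = t
    rw [← pow_mul, show 2 * 2 = Fintype.card F from hF.symm, FiniteField.pow_card]) hU hF hθ hθ'

/-- Exceptional Schur multiplier: ²E₆(2), realised over the field with 4 elements, has Schur multiplier isomorphic to the product of cyclic groups of orders 3, 2 and 2 (order 12, not cyclic; here the Schur multiplier is described through stem extensions, as in the definitions). -/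
theorem result {K : Type*} [Field K] [Fintype K] (hK : Fintype.card K = 4) : Cfsg.HasSchurMultiplier ↥(Cfsg.Lie.twistedE6 K 2) (Multiplicative (ZMod 3 × ZMod 2 × ZMod 2)) := by
  open CF.Mon CF.MonY in
  obtain ⟨ρ, τ, h⟩ := C3.crt.outM
  open CF.Mon CF.MonY in
  have Y := Tr.ymod h Tr.genPB
  open CF.Mon CF.MonY in
  obtain ⟨g, a, b⟩ := exists_Y333 hK
  open CF.Mon CF.MonY in
  have f1 := (f1_eq Y.cox (by norm_num) (by norm_num) (Or.inr le_rfl) Y.spider).symm.trans Y.f1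
  open CF.Mon CF.MonY in
  have f2 := (f2_eq Y.cox (by norm_num) (by norm_num) (Or.inr le_rfl) Y.spider).symm.trans Y.f2
  open CF.Mon CF.MonY in
  exact schur_E6 a b (card_twistedE6 hK) (Y.cox.mono (by norm_num) (by norm_num) le_rfl) Y.spider
    (C3.f31_t h G.covers C3.covers2 Y) (by rw [f1, Ne, h.eq_one]; decide +kernel)
    (by rw [f2, Ne, h.eq_one]; decide +kernel) (by rw [f1, f2, Ne, h.inj]; decide +kernel) (dom3 hK)

end Cfsg.Agent.S2109
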