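import Cfsg.Statements.S2215
import Cfsg.Agent.BN.Xp6

set_option autoImplicit false
open Cfsg

namespace Cfsg.Agent.S2215

/-- Let G be a finite non-abelian simple group all of whose composition factors are known simple groups, p a prime and S a Sylow p-subgroup of G that is extraspecial of order p³. Then one of the following holds: G ≅ PSL₃(p), or p is odd and G ≅ PSU₃(p); p = 2 and G is isomorphic to the alternating group of degree 7 or to PSL₂(q) with q ≡ ±7 (mod 16); p = 3 and G ≅ PSU₃(3), or G ≅ G₂(rᵃ) for a prime r ≡ ±2, ±4 (mod 9) and a ≥ 1 not divisible by 3, with a > 1 if r = 2; p = 3 and G is the Tits group or G ≅ ²F₄(2ᵃ) with a ≥ 3 odd and not divisible by 3; or G is sporadic, namely p = 3 and G is one of M₁₂, M₂₄, J₂, J₄, He, Ru; p = 5 and G is one of HS, Co₃, Co₂, McL, Ru, Th; p = 7 and G is one of He, O'N, Fi₂₄′; p = 11 and G ≅ J₄; or p = 13 and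 G is the Monster. -/
theorem result {G : Type*} [Group G] [Finite G] [IsSimpleGroup G] (hG : ¬ IsMulCommutative G) (hK : Cfsg.IsCompositionKGroup G)
    {p : ℕ} [Fact p.Prime] (S : Sylow p G) (hS : Cfsg.IsExtraspecial p ↥(S : Subgroup G)) (hS3 : Nat.card (S : Subgroup G) = p ^ 3) :
    (Nonempty (G ≃* Matrix.ProjectiveSpecialLinearGroup (Fin 3) (ZMod p)) ∨
       (p ≠ 2 ∧ ∃ (F : Type) (_ : Field F) (_ : Fintype F), Fintype.card F = p ^ 2 ∧ Nonempty (G ≃* Cfsg.PSU 3 F p))) ∨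
    (p = 2 ∧ (Nonempty (G ≃* ↥(alternatingGroup (Fin 7))) ∨
       ∃ (F : Type) (_ : Field F) (_ : Fintype F), (Fintype.card F % 16 = 7 ∨ Fintype.card F % 16 = 9) ∧
         Nonempty (G ≃* Matrix.ProjectiveSpecialLinearGroup (Fin 2) F))) ∨
    (p = 3 ∧ ((∃ (F : Type) (_ : Field F) (_ : Fintype F), Fintype.card F = 9 ∧ Nonempty (G ≃* Cfsg.PSU 3 F 3)) ∨
       ∃ (F : Type) (_ : Field F) (_ : Fintype F) (r a : ℕ), r.Prime ∧ (r % 9 = 2 ∨ r % 9 = 4 ∨ r % 9 = 5 ∨ r % 9 = 7) ∧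
         1 ≤ a ∧ ¬ 3 ∣ a ∧ (r = 2 → 1 < a) ∧ Fintype.card F = r ^ a ∧ Nonempty (G ≃* ↥(Cfsg.Lie.chevG2.group F)))) ∨
    (p = 3 ∧ (Cfsg.Lie.IsoTits G ∨
       ∃ (K : Type) (_ : Field K) (_ : Fintype K) (m : ℕ), 1 ≤ m ∧ ¬ 3 ∣ (2 * m + 1) ∧ Fintype.card K = 2 ^ (2 * m + 1) ∧
         Nonempty (G ≃* ↥(Cfsg.Lie.twistedF4 K (2 ^ m))))) ∨
    (p = 3 ∧ (Cfsg.Spor.IsoM12 G ∨ Cfsg.Spor.IsoM24 G ∨ Cfsg.Spor.IsoJ2 G ∨ Cfsg.Spor.IsoJ4 G ∨ Cfsg.Spor.IsoHe G ∨ Cfsg.Spor.IsoRu G)) ∨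
    (p = 5 ∧ (Cfsg.Spor.IsoHS G ∨ Cfsg.Spor.IsoCo3 G ∨ Cfsg.Spor.IsoCo2 G ∨ Cfsg.Spor.IsoMcL G ∨ Cfsg.Spor.IsoRu G ∨ Cfsg.Spor.IsoTh G)) ∨
    (p = 7 ∧ (Cfsg.Spor.IsoHe G ∨ Cfsg.Spor.IsoON G ∨ Cfsg.Spor.IsoFi24' G)) ∨
    (p = 11 ∧ Cfsg.Spor.IsoJ4 G) ∨
    (p = 13 ∧ Cfsg.Spor.IsoM G) := by
    have hp : p.Prime := Fact.out
    have h1 : ¬ IsMulCommutative S := fun e => by
      have := hS.2
      rw [Subgroup.center_eq_top_iff.2 e, Subgroup.card_top, hS3] at this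
      exact absurd (Nat.pow_right_injective hp.two_le (this.trans (pow_one p).symm)) (by decide)
    rcases eq_or_ne p 2 with rfl | h2
    · exact .inr (.inl ⟨rfl, CF.BN.Xp.two hG S h1 hS3⟩)
    have h3 : p ^ 3 ∣ Nat.card G := hS3 ▸ S.1.card_subgroup_dvd_card
    have h4 : ¬ p ^ 4 ∣ Nat.card G := fun e => by
      rw [S.card_eq_multiplicity] at hS3
      have := (hp.pow_dvd_iff_le_factorization Nat.card_pos.ne').1 e
      have := Nat.pow_right_injective hp.two_le hS3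
      omega
    rcases CF.BN.Xp.main hG (CF.BN.Xp.known hG hK) h2 ⟨_, S.2, h1⟩ h3 h4 with h | h | h | h | h
    exacts [.inl (.inl h), .inl (.inr ⟨h2, h⟩), .inr (.inr (.inl ⟨h.1, .inr h.2⟩)),
      .inr (.inr (.inr (.inl h))), .inr (.inr (.inr (.inr (CF.BN.Xp.sporadic CF.BN.Xp.sc h2 h3 h4 h))))]

end Cfsg.Agent.S2215
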