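import Cfsg.Statements.S2216
import Cfsg.Agent.KCl.Lf
import Cfsg.Agent.KCl.R9
import Cfsg.Agent.S0498
import Cfsg.Agent.S0984

set_option autoImplicit false
open Cfsg

namespace Cfsg.Agent.S2216

/-- A non-abelian finite simple group with exactly nine conjugacy classes is isomorphic to PSL(2, 8), PSL(2, 13) or the alternating group of degree 7. -/
theorem result {G : Type*} [Group G] [Finite G] [IsSimpleGroup G] (hG : ¬ IsMulCommutative G)
    (h : Nat.card (ConjClasses G) = 9) :
    (∃ (F : Type) (_ : Field F) (_ : Fintype F), Fintype.card F = 8 ∧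
        Nonempty (G ≃* Matrix.ProjectiveSpecialLinearGroup (Fin 2) F)) ∨
      Nonempty (G ≃* Matrix.ProjectiveSpecialLinearGroup (Fin 2) (ZMod 13)) ∨
      Nonempty (G ≃* ↥(alternatingGroup (Fin 7))) := by
  open CF.KCl in
  rcases main hG h le_rfl one_pos fun i hi => by interval_cases i; exact r9_0 with
    h1 | ⟨h1, -⟩ | ⟨h1, -⟩ | ⟨h1, -⟩
  · rcases (by simpa [eq_comm] using h1 : Nat.card G = 504 ∨ Nat.card G = 1092) with h1 | h1
    · haveI := Fintype.ofFinite (GaloisField 2 3)
      have h2 : Fintype.card (GaloisField 2 3) = 8 :=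
        Nat.card_eq_fintype_card.symm.trans (GaloisField.card 2 3 (by decide))
      exact Or.inl ⟨_, _, _, h2, CF.Small.psl_eight_of_card h1 h2⟩
    · haveI : Fact (Nat.Prime 13) := ⟨by norm_num⟩
      exact Or.inr (Or.inl (Cfsg.Agent.S0498.result 13 (Or.inr rfl) (by rw [h1]; rfl) (ZMod.card 13)))
  exacts [Or.inr (Or.inr (Cfsg.Agent.S0984.result h1)), by omega, by omega]

end Cfsg.Agent.S2216
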