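import Cfsg.Statements.S2217
import Cfsg.Agent.KCl.Lf
import Cfsg.Agent.KCl.R10
import Cfsg.Agent.Small.O7920

set_option autoImplicit false
open Cfsg

namespace Cfsg.Agent.S2217

/-- A non-abelian finite simple group with exactly ten conjugacy classes is isomorphic to the Mathieu group M₁₁ or to PSL(3, 4). -/
theorem result {G : Type*} [Group G] [Finite G] [IsSimpleGroup G] (hG : ¬ IsMulCommutative G)
    (h : Nat.card (ConjClasses G) = 10) :
    Nonempty (G ≃* ↥Cfsg.Spor.M11) ∨
      ∃ (F : Type) (_ : Field F) (_ : Fintype F), Fintype.card F = 4 ∧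
        Nonempty (G ≃* Matrix.ProjectiveSpecialLinearGroup (Fin 3) F) := by
  open CF.KCl in
  rcases main hG h (by decide) four_pos fun i hi => by
    interval_cases i; exacts [r10_0, r10_1, r10_2, r10_3] with h1 | ⟨-, h1⟩ | ⟨-, h1⟩ | ⟨h1, -⟩
  exacts [Or.inl (CF.Small.M11_of_card (by simpa using h1)), by simp at h1, Or.inr h1, by omega]

end Cfsg.Agent.S2217
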