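import Cfsg.Statements.S2218
import Cfsg.Agent.KCl.Lf
import Cfsg.Agent.KCl.R11a
import Cfsg.Agent.KCl.R11b
import Cfsg.Agent.KCl.R11c
import Cfsg.Agent.KCl.R11d
import Cfsg.Agent.KCl.R11e
import Cfsg.Agent.KCl.R11f
import Cfsg.Agent.KCl.R11g
import Cfsg.Agent.KCl.R11h
import Cfsg.Agent.S1020

set_option autoImplicit false
open Cfsg

namespace Cfsg.Agent.S2218

/-- A non-abelian finite simple group with exactly eleven conjugacy classes is isomorphic to PSL(2, 17) or to the Suzuki group Sz(8). -/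
theorem result {G : Type*} [Group G] [Finite G] [IsSimpleGroup G] (hG : ¬ IsMulCommutative G)
    (h : Nat.card (ConjClasses G) = 11) :
    Nonempty (G ≃* Matrix.ProjectiveSpecialLinearGroup (Fin 2) (ZMod 17)) ∨
      ∃ (F : Type) (_ : Field F) (_ : Fintype F), Fintype.card F = 8 ∧ Nonempty (G ≃* ↥(Cfsg.Lie.Sz F 4)) := by
  open CF.KCl in
  rcases main hG h (by decide) (M := 31) (by decide) fun i hi => by
    interval_cases i
    exacts [r11_0, r11_1, r11_2, r11_3, r11_4, r11_5, r11_6, r11_7, r11_8, r11_9, r11_10,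
      r11_11, r11_12, r11_13, r11_14, r11_15, r11_16, r11_17, r11_18, r11_19, r11_20,
      r11_21, r11_22, r11_23, r11_24, r11_25, r11_26, r11_27, r11_28, r11_29, r11_30] with h1 | ⟨-, h1⟩ | ⟨h1, -⟩ | ⟨-, h1⟩
  · haveI : Fact (Nat.Prime 17) := ⟨by norm_num⟩
    exact Or.inl (Cfsg.Agent.S1020.result (by simpa using h1) (ZMod.card 17))
  exacts [by simp at h1, by omega, Or.inr h1]

end Cfsg.Agent.S2218
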