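import Cfsg.Statements.S2225
import Cfsg.Agent.Classical.PnL2

set_option autoImplicit false
open Cfsg

namespace Cfsg.Agent.S2225

/-- Let F be a finite field and d = 2^w ≥ 2 a power of 2 such that PSL_d(F) is simple. Then every subgroup H of PSL_d(F) of odd index is pronormal: for every g, H and gHg⁻¹ are conjugate by an element of the subgroup they generate. -/
theorem result {F : Type*} [Field F] [Fintype F]
    (w : ℕ) (hw : 1 ≤ w) (hs : IsSimpleGroup (Matrix.ProjectiveSpecialLinearGroup (Fin (2 ^ w)) F))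
    (H : Subgroup (Matrix.ProjectiveSpecialLinearGroup (Fin (2 ^ w)) F)) (hH : Odd H.index) : Cfsg.IsPronormal H := by
  open CF.Classical in
  rcases Nat.even_or_odd (Fintype.card F) with hq | hq
  · obtain ⟨p, hchar, n, hp, hn⟩ := FiniteField.card' F
    obtain rfl : p = 2 := ((Nat.prime_dvd_prime_iff_eq Nat.prime_two hp).1
      (Nat.prime_two.dvd_of_dvd_pow (hn ▸ hq.two_dvd))).symm
    exact isPronormal_of_hasMdl (hasMdl_psl F (Nat.one_lt_two_pow (by omega))) hH.not_two_dvd_nat
  rcases hw.eq_or_lt with rfl | hw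
  · exact isPronormal_PSL2_odd (F := F) hq (H := H) hH
  · obtain ⟨k, rfl⟩ : ∃ k, w = k + 2 := ⟨w - 2, by omega⟩
    exact isPronormal_PSL_odd hq k hH

end Cfsg.Agent.S2225
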