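import Cfsg.Statements.S2226
import Cfsg.Agent.Classical.PnCls

set_option autoImplicit false
open Cfsg

namespace Cfsg.Agent.S2226

/-- Let F be a finite field with q² elements and d = 2^w ≥ 4 a power of 2 such that the unitary group PSU_d(q) (realised over F) is simple. Then every subgroup H of PSU_d(q) of odd index is pronormal: for every g, H and gHg⁻¹ are conjugate by an element of the subgroup they generate. -/
theorem result {F : Type*} [Field F] [Fintype F] (q : ℕ)
    (hF : Fintype.card F = q ^ 2) (w : ℕ) (hw : 2 ≤ w) (hs : IsSimpleGroup (Cfsg.PSU (2 ^ w) F q))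
    (H : Subgroup (Cfsg.PSU (2 ^ w) F q)) (hH : Odd H.index) : Cfsg.IsPronormal H := by
  open CF.Classical in
  obtain ⟨k, rfl⟩ : ∃ k, w = k + 2 := ⟨w - 2, by omega⟩
  rcases Nat.even_or_odd q with hq | hq
  · have h1 : 4 ≤ 2 ^ (k + 2) := by
      have : 1 ≤ 2 ^ k := Nat.one_le_two_pow
      rw [pow_add]; omega
    obtain ⟨p, hchar, n, hp, hn⟩ := FiniteField.card' F
    obtain rfl : p = 2 := ((Nat.prime_dvd_prime_iff_eq Nat.prime_two hp).1
      (Nat.prime_two.dvd_of_dvd_pow (hn ▸ hF ▸ hq.two_dvd.trans (dvd_pow_self q two_ne_zero)))).symm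
    exact isPronormal_of_hasMdl (hasMdl_psu F hF (by omega) (by omega)) hH.not_two_dvd_nat
  · exact isPronormal_PSU_odd hF hq k hH

end Cfsg.Agent.S2226
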