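import Cfsg.Statements.S2271
import Cfsg.Agent.Perm.Basic

set_option autoImplicit false
open Cfsg

namespace Cfsg.Agent.S2271

open Finset Equiv Equiv.Perm MulAction

theorem cnt {G X : Type*} [Group G] [Fintype G] [MulAction G X] [DecidableEq X] (x : X) {S O : Finset X}
    (hO : ∀ y ∈ O, y ∈ orbit G x) (h1 : ∀ g : G, g • x ∈ O) (h : S ⊆ O) :
    #{g : G | g • x ∈ S} * #O = #S * Fintype.card G := by
  have k : ∀ S ⊆ O, #{g : G | g • x ∈ S} = #S * #{g : G | g • x = x} := fun S h => by
    rw [card_eq_sum_card_fiberwise (f := (· • x)) (t := S) (by simp [Set.MapsTo]), ← smul_eq_mul, ← sum_const]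
    refine sum_congr rfl fun y hy => ?_
    obtain ⟨g, rfl⟩ := hO y (h hy)
    exact card_nbij' (g⁻¹ * ·) (g * ·) (by simp +contextual [Set.MapsTo, mul_smul])
      (by simp +contextual [Set.MapsTo, mul_smul]; exact fun _ _ => hy) (by simp [Set.LeftInvOn]) (by simp [Set.RightInvOn, Set.LeftInvOn])
  have := k O subset_rfl
  rw [filter_true_of_mem fun g _ => h1 g, card_univ] at this
  rw [k S h, this]; ring

theorem core {n c : ℕ} (hn : 5 ≤ n) {α β : Perm (Fin n)} (ha : α ≠ 1) (hb : β ≠ 1)
    (hle : #β.support ≤ #α.support)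
    (h : ∀ g ∈ alternatingGroup (Fin n), #{x | α x = (g * β * g⁻¹) x} = c) : False := by
  have tr := alternatingGroup.isMultiplyPretransitive (Fin n)
  rw [Nat.card_eq_fintype_card, Fintype.card_fin] at tr
  have t2 := CF.Perm.twoTrans_iff.1 (CF.Perm.multTrans_of_le tr (m := 2) (by omega) (by simp))
  have := Fin.nontrivial_iff_two_le.2 (show 2 ≤ n by omega)
  have a2 := two_le_card_support_of_ne_one ha
  have b2 := two_le_card_support_of_ne_one hb
  have an := card_compl_add_card α.support
  have bn := card_compl_add_card β.support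
  rw [Fintype.card_fin] at an bn
  have av : c * (n * (n - 1)) = #β.supportᶜ * (#α.supportᶜ * (n - 1)) + #β.support * #α.support := by
    have h1 : ∑ g : alternatingGroup (Fin n), #{y | α (g • y) = g • β y} =
        ∑ y, #{g : alternatingGroup (Fin n) | α (g • y) = g • β y} := sum_card_bipartiteAbove_eq_sum_card_bipartiteBelow _
    rw [sum_congr rfl (g := fun _ => c) fun (g : alternatingGroup (Fin n)) (_ : g ∈ univ) =>
      (card_equiv (s := {y | α (g • y) = g • β y}) g.1 (by simp only [mem_filter]; simp [Subgroup.smul_def])).trans (h g g.2),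
      ← sum_compl_add_sum β.support] at h1
    refine Nat.eq_of_mul_eq_mul_right (Fintype.card_pos (α := alternatingGroup (Fin n))) ?_
    rw [mul_right_comm, mul_comm c, ← smul_eq_mul (Fintype.card _), ← card_univ, ← sum_const, h1, add_mul, add_mul,
      sum_mul, sum_mul, mul_assoc, mul_assoc (#β.support), ← smul_eq_mul (#_), ← smul_eq_mul (#β.support),
      ← sum_const, ← sum_const]
    congr 1 <;> refine sum_congr rfl fun y hy => ?_
    · have := cnt (G := alternatingGroup (Fin n)) y (S := α.supportᶜ) (O := univ) (fun z _ => by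
        obtain ⟨y', hy'⟩ := exists_ne y
        obtain ⟨z', hz'⟩ := exists_ne z
        exact (t2 y y' z z' hy'.symm hz'.symm).imp fun _ h => h.1) (fun _ => mem_univ _) (subset_univ _)
      rw [mul_right_comm, card_univ, ← this, ← mul_assoc]
      simp [notMem_support.1 (mem_compl.1 hy)]
    · have := cnt (G := alternatingGroup (Fin n)) (y, β y) (S := α.support.map ⟨fun x => (x, α x), fun _ _ e =>
        congrArg Prod.fst e⟩) (O := univ.offDiag) (fun z hz => (t2 y _ _ _ (mem_support.1 hy).symm
          (mem_offDiag.1 hz).2.2).imp fun _ h => Prod.ext h.1 h.2) (fun g => by simpa using (mem_support.1 hy).symm)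
        (fun z hz => by obtain ⟨x, hx, rfl⟩ := mem_map.1 hz; exact mem_offDiag.2 ⟨mem_univ _, mem_univ _, (mem_support.1 hx).symm⟩)
      rw [card_map, offDiag_card, card_univ, Fintype.card_fin, ← Nat.mul_sub_one] at this
      rw [card_univ, ← this]
      congr 2; ext g
      simp only [mem_filter, mem_univ, true_and, mem_map]
      exact ⟨fun e => ⟨_, mem_support.2 (e ▸ (MulAction.injective g).ne (mem_support.1 hy)), Prod.ext rfl e⟩,
        fun ⟨_, _, h1⟩ => (congrArg α (congrArg Prod.fst h1).symm).trans (congrArg Prod.snd h1)⟩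
  have ex : ∀ {ι : Type} [Fintype ι] (u v : ι → Fin n), u.Injective → v.Injective →
      (Fintype.card ι + 2 ≤ n ∨ ∃ s : Perm (Fin n), sign s = -1 ∧ Commute s β) →
      ∃ g : Perm (Fin n), (∀ i, g (u i) = v i) ∧ #{x | α x = (g * β * g⁻¹) x} = c := by
    rintro ι _ u v hu hv (h1 | ⟨s, h1, h2⟩)
    · obtain ⟨g, hg⟩ := CF.Perm.multTrans_family (CF.Perm.multTrans_of_le tr (m := Fintype.card ι) (by omega)
        (by simp)) rfl u v hu hv
      exact ⟨g, hg, h g g.2⟩
    obtain ⟨g, hg⟩ := exists_extending_pair u v hu hv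
    refine ⟨g, hg, (Int.units_eq_one_or (sign g)).elim (h g) fun e => ?_⟩
    rw [← h (g * s) (by simp [mem_alternatingGroup, e, h1]), mul_assoc g s, h2.eq, mul_inv_rev]
    simp only [mul_assoc, mul_inv_cancel_left]
  obtain ⟨x, hx⟩ := card_pos.1 (two_pos.trans_le a2)
  obtain ⟨y, hy⟩ := card_pos.1 (two_pos.trans_le b2)
  obtain ⟨m, rfl⟩ := Nat.exists_eq_add_of_le' hn
  rw [show m + 5 - 1 = m + 4 from rfl] at av
  rcases (#α.supportᶜ).eq_zero_or_pos with h0 | h0
  · rw [h0, zero_add] at an
    rw [h0, an, zero_mul, mul_zero, zero_add, mul_comm (m + 5), ← mul_assoc, Nat.mul_left_inj (by omega)] at av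
    obtain rfl : c = 1 := by
      rcases c with _ | _ | c
      · omega
      · rfl
      · nlinarith
    have k : ∀ (γ : Perm (Fin (m + 5))) x, 4 ≤ #γ.support → x ∈ γ.support → ∃ z ∈ γ.support, z ≠ x ∧
        Function.Injective ![x, γ x, z, γ z] := fun γ x h1 h2 => by
      obtain ⟨z, h3, h4⟩ := exists_mem_notMem_of_card_lt_card (s := {x, γ x, γ⁻¹ x}) (card_le_three.trans_lt h1)
      simp only [mem_insert, mem_singleton, not_or, eq_inv_iff_eq] at h4
      exact ⟨z, h3, h4.1, CF.Perm.inj4 (mem_support.1 h2).symm (Ne.symm h4.1) (Ne.symm h4.2.2) (Ne.symm h4.2.1)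
        (γ.injective.ne (Ne.symm h4.1)) (mem_support.1 h3).symm⟩
    obtain ⟨x', -, x1, x2⟩ := k α x (by omega) hx
    obtain ⟨y', -, -, y2⟩ := k β y (by omega) hy
    obtain ⟨g, g1, g2⟩ := ex _ _ y2 x2 (by
      rcases m with _ | m
      · rcases (by decide +kernel : ∀ β : Perm (Fin 5), #β.support = 4 → sign β = -1 ∨ β * β = 1) β (by omega)
          with e | e
        · exact .inr ⟨β, e, .refl _⟩
        refine .inr ⟨swap y (β y), sign_swap (mem_support.1 hy).symm, ?_⟩
        rw [Commute, SemiconjBy, mul_swap_eq_swap_mul, ← mul_apply, e, swap_comm]; rfl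
      · simp)
    have := card_le_card (show {x, x'} ⊆ univ.filter fun x => α x = (g * β * g⁻¹) x by
      have e1 : g y = x := g1 0
      have e2 : g y' = x' := g1 2
      have e3 : g (β y) = α x := g1 1
      have e4 : g (β y') = α x' := g1 3
      subst e1 e2
      simp only [insert_subset_iff, singleton_subset_iff, mem_filter]; simp [e3, e4])
    rw [card_pair x1.symm] at this; omega
  obtain ⟨e⟩ := Function.Embedding.nonempty_of_card_le (α := ↥α.supportᶜ) (β := ↥β.supportᶜ) (by
    simp only [Fintype.card_coe]; omega)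
  have k : ∀ (γ : Perm (Fin (m + 5))) x (u : ↥α.supportᶜ → ↥γ.supportᶜ), x ∈ γ.support → u.Injective →
      Function.Injective (Sum.elim (fun i => (u i).1) ![x, γ x]) := fun γ x u h1 h2 =>
    (Subtype.val_injective.comp h2).sumElim (CF.Perm.inj2 (mem_support.1 h1).symm) fun i j e => by
      have := mem_compl.1 (u i).2
      fin_cases j
      exacts [this ((show (u i).1 = x from e) ▸ h1), this ((show (u i).1 = γ x from e) ▸ apply_mem_support.2 h1)]
  obtain ⟨g, g1, g2⟩ := ex _ _ (k β y e hy e.injective) (k α x id hx Function.injective_id) (by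
    by_cases h1 : #α.supportᶜ ≤ 1
    · left; simp only [Fintype.card_sum, Fintype.card_coe, Fintype.card_fin]; omega
    obtain ⟨u, hu, v, hv, h2⟩ := one_lt_card.1 (show 1 < #β.supportᶜ by omega)
    refine .inr ⟨swap u v, sign_swap h2, ?_⟩
    rw [Commute, SemiconjBy, mul_swap_eq_swap_mul, notMem_support.1 (mem_compl.1 hu),
      notMem_support.1 (mem_compl.1 hv)])
  have := card_le_card (show insert x α.supportᶜ ⊆ univ.filter fun x => α x = (g * β * g⁻¹) x by
    have e1 : g y = x := g1 (.inr 0)
    have e3 : g (β y) = α x := g1 (.inr 1)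
    refine insert_subset (by subst e1; rw [mem_filter]; simp [e3]) fun z hz => ?_
    have e2 : g (e ⟨z, hz⟩) = z := g1 (.inl _)
    rw [mem_filter, notMem_support.1 (mem_compl.1 hz), ← e2]
    simp [notMem_support.1 (mem_compl.1 (e _).2)])
  rw [card_insert_of_notMem (by simpa using hx), g2] at this
  have h1 := Nat.mul_le_mul_right ((m + 5) * (m + 4)) this
  have h2 : #β.support * #α.support ≤ (m + 4) * (m + 4) := Nat.mul_le_mul (by omega) (by omega)
  have h3 : #β.supportᶜ * (#α.supportᶜ * (m + 4)) ≤ (m + 5) * (#α.supportᶜ * (m + 4)) :=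
    Nat.mul_le_mul_right _ (by omega)
  nlinarith

/-- Let n ≥ 5 and let a, b be non-identity permutations in the symmetric group S_n. Then the number of fixed points is not constant on the set of products a′b′ with a′ conjugate to a and b′ conjugate to b under the alternating group: there are even permutations g₁, h₁, g₂, h₂ such that (g₁ a g₁⁻¹)(h₁ b h₁⁻¹) and (g₂ a g₂⁻¹)(h₂ b h₂⁻¹) have different numbers of fixed points. -/
theorem result (n : ℕ) (hn : 5 ≤ n) (a b : Equiv.Perm (Fin n)) (ha : a ≠ 1) (hb : b ≠ 1) :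
    ∃ g₁ h₁ g₂ h₂ : Equiv.Perm (Fin n), g₁ ∈ alternatingGroup (Fin n) ∧ h₁ ∈ alternatingGroup (Fin n) ∧ g₂ ∈ alternatingGroup (Fin n) ∧ h₂ ∈ alternatingGroup (Fin n) ∧
      Nat.card (Function.fixedPoints ⇑(g₁ * a * g₁⁻¹ * (h₁ * b * h₁⁻¹))) ≠
        Nat.card (Function.fixedPoints ⇑(g₂ * a * g₂⁻¹ * (h₂ * b * h₂⁻¹))) := by
  by_contra! h
  have k : ∀ g ∈ alternatingGroup (Fin n), ∀ g' ∈ alternatingGroup (Fin n),
      #{x | (g * a⁻¹ * g⁻¹) x = (g' * b * g'⁻¹) x} = Nat.card (Function.fixedPoints ⇑(a * b)) := fun g hg g' hg' => by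
    have := h g g' 1 1 hg hg' (one_mem _) (one_mem _)
    simp only [inv_one, mul_one, one_mul] at this
    rw [← this, Nat.card_eq_fintype_card, Fintype.card_subtype]
    congr 1; ext x
    rw [mem_filter, mem_filter, Function.mem_fixedPoints_iff, mul_apply (g * a * g⁻¹), ← eq_inv_iff_eq, eq_comm]
    simp [mul_assoc]
  rcases le_total #b.support #a⁻¹.support with h1 | h1
  · exact core hn (inv_ne_one.2 ha) hb h1 fun g hg => by
      simpa only [one_mul, inv_one, mul_one] using k 1 (one_mem _) g hg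
  · exact core hn hb (inv_ne_one.2 ha) h1 fun g hg => by
      simpa only [one_mul, inv_one, mul_one, eq_comm (a := b _)] using k g hg 1 (one_mem _)

end Cfsg.Agent.S2271
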