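import Cfsg.Statements.S2276
import Cfsg.Agent.AltD.Pe2

set_option autoImplicit false
open Cfsg

namespace Cfsg.Agent.S2276

/-- Let n ≥ 5, p ≥ 3 a prime, and u, w non-identity elements of p-power order in the alternating group A_n. Then there is g ∈ A_n such that u·(g w g⁻¹) does not have p-power order and ⟨u, g w g⁻¹⟩ is not solvable. -/
theorem result (n : ℕ) (hn : 5 ≤ n) (p : ℕ) (hp : p.Prime) (hp3 : 3 ≤ p) (u w : alternatingGroup (Fin n)) (hu : u ≠ 1) (hw : w ≠ 1)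
    (hu' : ∃ k : ℕ, orderOf u = p ^ k) (hw' : ∃ k : ℕ, orderOf w = p ^ k) :
    ∃ g : alternatingGroup (Fin n), (¬ ∃ k : ℕ, orderOf (u * (g * w * g⁻¹)) = p ^ k) ∧
      ¬ Group.IsSolvable ↥(Subgroup.closure ({u, g * w * g⁻¹} : Set (alternatingGroup (Fin n)))) := by
  have : Fact p.Prime := ⟨hp⟩
  obtain ⟨a, ha⟩ := hu'
  obtain ⟨b, hb⟩ := hw'
  obtain ⟨g, hg, h⟩ := CF.AltPe.main (p := p) (by omega) (by simpa using hn) (u := u.1) (w := w.1) (m := a) (n := b)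
    (by rw [← ha, ← Subgroup.orderOf_coe, pow_orderOf_eq_one])
    (by rw [← hb, ← Subgroup.orderOf_coe, pow_orderOf_eq_one])
    (fun e => hu (Subtype.ext e)) (fun e => hw (Subtype.ext e))
  have h2 : CF.AltPe.Good p u (⟨g, hg⟩ * w * ⟨g, hg⟩⁻¹) :=
    CF.AltPe.Good.of_map (alternatingGroup (Fin n)).subtype h
  exact ⟨⟨g, hg⟩, fun ⟨k, hk⟩ => h2.1 k (hk ▸ pow_orderOf_eq_one _), h2.2⟩

end Cfsg.Agent.S2276
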