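import Cfsg.Statements.S2277
import Cfsg.Agent.Cls.GM

set_option autoImplicit false
open Cfsg

namespace Cfsg.Agent.S2277

open CF.Cls CF.Coprime Subgroup

/-- Let p ≥ 3 be prime and G a finite group with a Sylow p-subgroup P and a normal p-complement N (N normal, of order prime to p, with NP = G). Suppose P is generated by a subset C and also by a subset D, and that ⟨x c x⁻¹, d⟩ is a p-group for all x ∈ N, c ∈ C, d ∈ D. Then P centralizes N, so that G = N × P. -/
theorem result {G : Type*} [Group G] [Finite G] (p : ℕ) [Fact p.Prime] (hp3 : 3 ≤ p) (P : Sylow p G)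
    (N : Subgroup G) [N.Normal] (hN : (Nat.card N).Coprime p) (hNP : N ⊔ (P : Subgroup G) = ⊤)
    (C D : Set G) (hC : Subgroup.closure C = (P : Subgroup G)) (hD : Subgroup.closure D = (P : Subgroup G))
    (h : ∀ x ∈ N, ∀ c ∈ C, ∀ d ∈ D, IsPGroup p ↥(Subgroup.closure ({x * c * x⁻¹, d} : Set G))) :
    ⁅(P : Subgroup G), N⁆ = ⊥ := by
  have hPN : (P : Subgroup G) ≤ normalizer (N : Set G) := by
    rw [normalizer_eq_top]; exact le_top
  have hcl : ∀ E : Set G, closure E = (P : Subgroup G) →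
      closure ((P : Subgroup G).subtype ⁻¹' E) = ⊤ := by
    intro E hE
    have := closure_preimage_eq_top E
    revert this
    rw [hE]; exact id
  have hcop : (Nat.card (P : Subgroup G)).Coprime (Nat.card N) := by
    obtain ⟨k, hk⟩ := P.isPGroup'.exists_card_eq
    rw [hk]; exact (hN.symm).pow_left k
  have hdisj : ∀ g ∈ N, g ∈ (P : Subgroup G) → g = 1 := by
    intro g h1 h2
    have := (disjoint_of_coprime_natCard hcop).eq_bot
    rw [← mem_bot, ← this]; exact ⟨h2, h1⟩
  have key := gm_action hp3 P.isPGroup' _ _ (hcl D hD) (hcl C hC) _ N (conjAct P N hPN) rfl hcop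
    (fun d hd c hc x => by
      obtain ⟨Q, hQ⟩ := (h x x.2 c hc d hd).exists_le_sylow
      obtain ⟨g, rfl⟩ := MulAction.exists_smul_eq G P Q
      have hg : g ∈ N ⊔ (P : Subgroup G) := by rw [hNP]; trivial
      obtain ⟨n, hn, s, hs, rfl⟩ := mem_sup_of_normal_left.1 hg
      have hmem : ∀ y ∈ closure ({(x : G) * c * (x : G)⁻¹, (d : G)} : Set G),
          n⁻¹ * y * n ∈ (P : Subgroup G) := by
        intro y hy
        have h1 := hQ hy
        rw [Sylow.coe_subgroup_smul, mem_pointwise_smul_iff_inv_smul_mem] at h1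
        have h2 : s⁻¹ * (n⁻¹ * y * n) * s ∈ (P : Subgroup G) := by
          simpa [mul_assoc] using h1
        have := mul_mem (mul_mem hs h2) (inv_mem hs)
        simpa [mul_assoc] using this
      have hNn : ∀ (m : G), m ∈ N → ∀ y : G, m⁻¹ * y * m * y⁻¹ ∈ N := fun m hm y => by
        have := mul_mem (inv_mem hm) (‹N.Normal›.conj_mem m hm y)
        simpa [mul_assoc] using this
      have h1 := hmem _ (subset_closure (Set.mem_insert _ _))
      have h2 := hmem d (subset_closure (by simp))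
      have h3 := hdisj _ (hNn n hn d) (mul_mem h2 (inv_mem d.2))
      have h4 := hdisj _ (hNn ((x : G)⁻¹ * n) (mul_mem (inv_mem x.2) hn) c)
        (mul_mem (by simpa [mul_assoc] using h1) (inv_mem c.2))
      refine ⟨⟨n, hn⟩, ⟨n, hn⟩⁻¹ * x, Subtype.ext ?_, Subtype.ext ?_, by simp⟩
      · show (d : G) * n * (d : G)⁻¹ = n
        calc (d : G) * n * (d : G)⁻¹ = n * (n⁻¹ * d * n * (d : G)⁻¹) := by group
          _ = n := by rw [h3, mul_one]
      · show (c : G) * (n⁻¹ * x) * (c : G)⁻¹ = n⁻¹ * x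
        have h5 : (c : G) * ((x : G)⁻¹ * n) * (c : G)⁻¹ = (x : G)⁻¹ * n := by
          calc (c : G) * ((x : G)⁻¹ * n) * (c : G)⁻¹ = ((x : G)⁻¹ * n) *
              (((x : G)⁻¹ * n)⁻¹ * c * ((x : G)⁻¹ * n) * (c : G)⁻¹) := by group
            _ = _ := by rw [h4, mul_one]
        calc (c : G) * (n⁻¹ * x) * (c : G)⁻¹ = ((c : G) * ((x : G)⁻¹ * n) * (c : G)⁻¹)⁻¹ := by group
          _ = _ := by rw [h5]; group)
  rw [eq_bot_iff, commutator_le]
  intro s hs n hn
  have := congrArg Subtype.val (key ⟨s, hs⟩ ⟨n, hn⟩)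
  simp only [coe_conjAct_apply] at this
  rw [mem_bot, commutatorElement_def, this, mul_inv_cancel]

end Cfsg.Agent.S2277
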