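import Cfsg.Statements.S2451
import Cfsg.Agent.Ah.Main
import Cfsg.Agent.Ah.SV
import Cfsg.Agent.Ah.SSp
import Cfsg.Agent.Ah.SSU
import Cfsg.Agent.Ah.SO1
import Cfsg.Agent.Ah.SO2
import Cfsg.Agent.Ah.SE
import Cfsg.Agent.Ah.SF
import Cfsg.Agent.Ah.SR
import Cfsg.Agent.Ah.ST2
import Cfsg.Agent.Ah.ST3
import Cfsg.Agent.Ah.US
import Cfsg.Agent.Ah.UB
import Cfsg.Agent.Ah.UE
import Cfsg.Agent.Ah.UT
import Cfsg.Agent.Ah.UG
import Cfsg.Agent.Ah.UZ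
import Cfsg.Agent.Ah.UD
import Cfsg.Agent.Ah.U4

set_option autoImplicit false
open Cfsg

namespace Cfsg.Agent.S2451

/-- Let G be a finite simple group of Lie type in characteristic p and let a, b, c be non-identity elements of G such that the set of products of a conjugate of a with a conjugate of b is exactly the conjugacy class of c. Then c is neither semisimple (of order prime to p) nor unipotent (of p-power order), a and b are not both semisimple, and a and b are not both unipotent. -/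
theorem result {G : Type*} [Group G] [Finite G] (p : ℕ) [Fact p.Prime] (hG : Cfsg.IsLieTypeChar p G) (a b c : G)
    (ha : a ≠ 1) (hb : b ≠ 1) (hc : c ≠ 1)
    (h : {g : G | ∃ u v : G, g = (u * a * u⁻¹) * (v * b * v⁻¹)} = {g : G | IsConj c g}) :
    p ∣ orderOf c ∧ (¬ ∃ k : ℕ, orderOf c = p ^ k) ∧ (p ∣ orderOf a ∨ p ∣ orderOf b) ∧
      ((¬ ∃ k : ℕ, orderOf a = p ^ k) ∨ (¬ ∃ k : ℕ, orderOf b = p ^ k)) := by
  open CF.Ah in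
  have k : NoS p G ∧ NoU p G → _ := fun k => main_of (hasSV hG) k.1 k.2 ha hb hc h
  rcases hG with g | g | g | g | g | g | ⟨K, _, _, _, ⟨g, ⟨e⟩⟩ | ⟨⟨e⟩⟩ | ⟨⟨e⟩⟩ | ⟨⟨e⟩⟩ | ⟨⟨e⟩⟩⟩ |
    ⟨K, _, _, _, q, g, ⟨g', ⟨e⟩⟩ | ⟨g', ⟨e⟩⟩⟩ | ⟨rfl, g⟩ | ⟨rfl, g⟩ | ⟨rfl, g⟩
  · exact absurd h (not_class_psl g ha hb)
  · exact k ⟨s_Sp g, (em (p = 2)).elim (fun e => by subst e; exact u_Sp2 g) (u_Sp g)⟩
  · exact k ⟨s_SU g, u_SU g⟩
  · exact k ⟨s_B g, u_B g⟩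
  · exact k ⟨s_Dp g, u_Dp g⟩
  · exact k ⟨s_Dm g, u_Dm g⟩
  · exact k ⟨(s_G2 K).of_equiv e, (u_G2 K g).of_equiv e⟩
  · exact k ⟨(s_F4 K).of_equiv e, ((em (p = 2)).elim (u_F42 K) (u_F4 K)).of_equiv e⟩
  · exact k ⟨(s_E6 K).of_equiv e, (u_E6 K).of_equiv e⟩
  · exact k ⟨(s_E7 K).of_equiv e, (u_E7 K).of_equiv e⟩
  · exact k ⟨(s_E8 K).of_equiv e, (u_E8 K).of_equiv e⟩
  · exact k ⟨(s_2E6 K g g').of_equiv e, (u_2E6 K g g').of_equiv e⟩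
  · exact k ⟨(s_3D4 K g g').of_equiv e, (u_3D4 K g g').of_equiv e⟩
  · exact k ⟨s_Sz g, u_Sz g⟩
  · exact k ⟨s_2F4 g, u_2F4 g⟩
  · exact k ⟨s_Ree g, u_Ree g⟩

end Cfsg.Agent.S2451
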