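import Cfsg.Statements.S2470
import Cfsg.Agent.Cls.Rep
import Cfsg.Agent.Cls.Spec2

set_option autoImplicit false
open Cfsg

namespace Cfsg.Agent.S2470

/-- Adjacency of an odd prime and the characteristic in the prime graph of PSL(n,q): let F be a finite field of characteristic p with q elements, n ≥ 2 with PSL(n,F) simple, and let r ≠ p be an odd prime dividing the order of PSL(n,F), with k the multiplicative order of q modulo r. Then PSL(n,F) has NO element of order r·p if and only if either k > n − 2, or n = 3, r = 3 and 3 divides q − 1 exactly once. -/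
theorem result {F : Type*} [Field F] [Fintype F] (p : ℕ) [Fact p.Prime] [CharP F p] (n : ℕ) (hn : 2 ≤ n) (hsmall : n = 2 → 4 ≤ Fintype.card F)
    (r : ℕ) (hr : r.Prime) (hr2 : r ≠ 2) (hrp : r ≠ p) (hrG : r ∣ Nat.card (Matrix.ProjectiveSpecialLinearGroup (Fin n) F))
    (k : ℕ) (hk : k = orderOf ((Fintype.card F : ℕ) : ZMod r)) :
    (r * p ∉ Set.range (orderOf : Matrix.ProjectiveSpecialLinearGroup (Fin n) F → ℕ)) ↔
      (n - 2 < k ∨ (n = 3 ∧ r = 3 ∧ 3 ∣ Fintype.card F - 1 ∧ ¬ 9 ∣ Fintype.card F - 1)) := by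
  have hT := CF.Cls.ta_ac F p
  have hQ := CF.Cls.pq_card (F := F) p
  have hR := CF.Cls.rep_PSL (F := F) (K := AlgebraicClosure F) p n
  obtain ⟨J, -, x, -, hx⟩ := hR.exists_per_of_dvd hT hr hrp hrG
  have h1 := CF.Cls.dvd_pow_per (Q := Nat.card F) hx
  have h2 := hT.per_pos hQ x.1
  rw [Set.mem_range, hR.mul_char_iff hT hQ hr hrp]
  simp only [CF.Cls.int_dvd_pow_iff, Nat.card_eq_fintype_card, ← hk] at h1 h2 ⊢
  have h3 := Nat.pos_of_dvd_of_pos h1 h2
  have h4 : ∀ a : ℕ, (a : ℤ) ∣ (Fintype.card F : ℤ) - 1 ↔ a ∣ Fintype.card F - 1 := fun a => by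
    rw [← Nat.cast_pred Fintype.card_pos, Int.natCast_dvd_natCast]
  have h5 := h4 9
  have h6 := CF.Cls.int_dvd_pow_iff (Fintype.card F) r 1
  rw [pow_one, h4, ← hk, Nat.dvd_one] at h6
  rw [Nat.cast_ofNat] at h5
  rw [h5]
  constructor
  · intro h
    by_contra! h7
    exact h ⟨k, h3, by omega, dvd_rfl, fun a b => h7.2 a b (b ▸ h6.2 (by omega))⟩
  · rintro h ⟨d, h7, h8, h9, h10⟩
    have := Nat.le_of_dvd h7 h9
    rcases h with h | h
    · omega
    · exact h.2.2.2 (h10 h.1 h.2.1)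

end Cfsg.Agent.S2470
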