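import Cfsg.Statements.S2553
import Cfsg.Agent.Known.SubA8

set_option autoImplicit false
open Cfsg

namespace Cfsg.Agent.S2553

/-- Let H be a nontrivial subgroup of GL(4,2) (a group isomorphic to the alternating group of degree 8) whose largest normal 2-subgroup and largest normal subgroup of odd order are both trivial. Then H is isomorphic to an alternating group of degree n for some 5 ≤ n ≤ 8, to the symmetric group of degree 5 or 6, or to GL(3,2). -/
theorem result (H : Subgroup (GL (Fin 4) (ZMod 2))) (hH : H ≠ ⊥) (hO : Cfsg.pPrimeCore 2 ↥H = ⊥) (hO2 : Cfsg.pCore 2 ↥H = ⊥) :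
    (∃ n : ℕ, 5 ≤ n ∧ n ≤ 8 ∧ Nonempty (↥H ≃* alternatingGroup (Fin n))) ∨
    Nonempty (↥H ≃* Equiv.Perm (Fin 5)) ∨ Nonempty (↥H ≃* Equiv.Perm (Fin 6)) ∨ Nonempty (↥H ≃* GL (Fin 3) (ZMod 2)) := by
  haveI := Fact.mk Nat.prime_three
  obtain ⟨e⟩ := CF.Known.gl_four_two
  have hs : ¬ Group.IsSolvable H := fun _ => by
    haveI := (Subgroup.nontrivial_iff_ne_bot H).2 hH
    obtain ⟨p, hp, h⟩ := CF.Solv.exists_pCore_ne_bot (G := H)
    haveI := Fact.mk hp
    exact h (eq_bot_iff.2 (hO ▸ CF.Solv.pCore_le_pPrimeCore_of_ne fun e => h (e ▸ hO2)))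
  rcases CF.Known.a8List_of_injective (f := e.toMonoidHom.comp H.subtype)
    (e.injective.comp H.subtype_injective) hO2 hs with h | h | h | h | ⟨h, -⟩
  exacts [Or.inr (Or.inr (Or.inr h)), Or.inl h, Or.inr (Or.inl h), Or.inr (Or.inr (Or.inl h)), by
    rw [le_bot_iff.1 ((CF.Solv.pCore_le_pPrimeCore_of_ne (q := 3) (by decide)).trans hO.le),
      Subgroup.card_bot] at h
    exact absurd h (by decide)]

end Cfsg.Agent.S2553
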