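import Cfsg.Statements.S2739
import Cfsg.Agent.Bt.Cent
import Cfsg.Agent.Schur.L34
import Cfsg.Agent.Classical.Linear

set_option autoImplicit false
open scoped Pointwise
open Cfsg

namespace Cfsg.Agent.S2739

set_option maxRecDepth 100000
open CF.Comp CF.Bt CF.Schur.L34

noncomputable def wa : List Nat := [(nat_lit 4), (nat_lit 4), (nat_lit 1), (nat_lit 4), (nat_lit 4), (nat_lit 1)]
noncomputable def T_1 : Tr := (.op 2 0 (.xor 0 1 (.focus 0 (.op 4 2 (.xor 2 0 (.focus 0 (.op 7 4 (.xor 4 0 (.focus 0 (.cons [] 0 1 (.focus 5 (.focus 3 (.focus 1 (.xor 6 0 (.focus 0 (.base (nat_lit 1998812) (.focus 0 (.op 4 0 (.focus 0 (.op 7 1 (.focus 0 (.cons [] 0 1 (.base (nat_lit 1092) (.focus 0 (.op 4 0 (.xor 13 0 (.focus 0 (.cons [] 0 1 .triv .nil)))))) (.cons [4] 0 0 (.base (nat_lit 1092) (.op 4 1 (.and 1 0 (.dead0 0)))) (.cons [5] 0 0 (.op 5 0 (.and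 1 0 (.dead0 0))) (.cons [3] 0 0 (.op 5 0 (.and 1 0 (.dead0 0))) (.cons [1, 4] 0 0 (.base (nat_lit 1092) (.op 7 1 (.and 1 0 (.dead0 0)))) (.cons [5, 4] 0 0 (.base (nat_lit 1092) (.op 7 1 (.and 1 0 (.dead0 0)))) (.cons [5, 3] 0 0 (.base (nat_lit 1092) (.op 4 1 (.and 1 0 (.dead0 0)))) (.cons [1, 6, 3] 0 0 (.base (nat_lit 6400) (.and 0 10 (.dead0 0))) .nil))))))))))))))))))) (.cons [3] 0 0 (.focus 5 (.focus 3 (.focus 1 (.xor 6 0 (.focus 0 (.base (nat_lit 1998812) (.focus 0 (.op 4 0 (.focus 0 (.op 7 1 (.focus 0 (.cons [] 0 0 (.base (nat_lit 1092) (.op 4 6 (.and 1 0 (.dead0 0)))) (.cons [4] 0 0 (.op 5 0 (.and 1 0 (.dead0 0))) (.cons [5] 0 0 (.base (nat_lit 1092) (.and 0 8 (.dead0 0))) (.cons [6, 3] 0 0 (.base (nat_lit 1092) (.op 7 6 (.and 1 0 (.dead0 0)))) (.cons [5, 3] 0 0 (.base (nat_lit 1092) (.and 0 8 (.dead0 0))) (.cons [6, 4] 0 0 (.op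 5 0 (.and 1 0 (.dead0 0))) (.cons [3, 6] 0 0 (.base (nat_lit 1092) (.and 0 10 (.dead0 0))) (.cons [3, 6, 3] 0 0 (.base (nat_lit 1092) (.and 0 10 (.dead0 0))) .nil))))))))))))))))))) (.cons [4] 0 0 (.op 5 0 (.and 1 0 (.dead0 0))) (.cons [2] 0 0 (.base (nat_lit 1998812) (.op 7 1 (.and 1 0 (.dead0 0)))) (.cons [1] 0 0 (.base (nat_lit 1998812) (.op 7 1 (.and 1 0 (.dead0 0)))) (.cons [1, 4] 0 0 (.base (nat_lit 1998812) (.op 5 0 (.and 1 0 (.dead 0)))) (.cons [9, 2] 0 0 (.base (nat_lit 1998812) (.op 5 0 (.and 1 0 (.dead 0)))) (.cons [2, 2] 0 0 (.base (nat_lit 1998812) (.op 4 1 (.and 1 0 (.dead0 0)))) (.cons [2, 4] 0 0 (.base (nat_lit 1998812) (.op 5 0 (.and 1 0 (.dead 0)))) (.cons [6, 2] 0 0 (.base (nat_lit 1998812) (.op 4 1 (.and 1 0 (.dead0 0)))) (.cons [1, 3] 0 0 (.base (nat_lit 1998812) (.op 5 0 (.and 1 0 (.dead 0)))) (.cons [5, 2] 0 0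 (.op 5 0 (.and 1 0 (.dead0 0))) (.cons [7, 2] 0 0 (.base (nat_lit 1998812) (.op 4 1 (.and 1 0 (.dead0 0)))) (.cons [2, 3] 0 0 (.base (nat_lit 1998812) (.op 5 0 (.and 1 0 (.dead 0)))) (.cons [5, 3] 0 0 (.focus 5 (.focus 3 (.focus 1 (.xor 6 0 (.focus 0 (.base (nat_lit 1998812) (.focus 0 (.op 4 0 (.focus 0 (.op 7 1 (.focus 0 (.cons [4] 0 0 (.base (nat_lit 1092) (.and 0 10 (.dead0 0))) (.cons [6] 0 0 (.op 5 0 (.and 1 0 (.dead0 0))) (.cons [3] 0 0 (.base (nat_lit 1092) (.and 0 10 (.dead0 0))) (.cons [6, 3] 0 0 (.base (nat_lit 1092) (.op 4 6 (.and 1 0 (.dead0 0)))) (.cons [1, 5] 0 0 (.base (nat_lit 1092) (.and 0 8 (.dead0 0))) (.cons [5, 3] 0 0 (.op 5 0 (.and 1 0 (.dead0 0))) (.cons [3, 6, 3] 0 0 (.base (nat_lit 1092) (.and 0 8 (.dead0 0))) (.cons [1, 6, 3] 0 0 (.base (nat_lit 1092) (.op 7 6 (.and 1 0 (.dead0 0)))) .nil)))))))))))))))))))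 (.cons [4, 1] 0 0 (.base (nat_lit 1998812) (.op 5 0 (.and 1 0 (.dead 0)))) (.cons [7, 1] 0 0 (.base (nat_lit 1998812) (.op 7 1 (.and 1 0 (.dead0 0)))) (.cons [3, 1, 4] 0 0 (.op 5 0 (.and 1 0 (.dead0 0))) .nil)))))))))))))))))))))))))))
noncomputable def T : Tr := (.sym [[1], [3]] (.cons [] 2 1 T_1 (.cons [1] 2 0 (.op 2 0 (.xor 0 1 (.focus 0 (.op 4 2 (.xor 2 0 (.focus 0 (.op 7 4 (.xor 4 0 (.focus 0 (.sym [[3]] (.cons [] 2 0 (.focus 5 (.focus 3 (.focus 1 (.xor 6 0 (.focus 0 (.base (nat_lit 1998812) (.focus 0 (.op 4 0 (.focus 0 (.op 7 1 (.focus 0 (.cons [] 0 0 (.base (nat_lit 1092) (.op 7 1 (.and 1 0 (.dead0 0)))) (.cons [3] 0 0 (.base (nat_lit 393232) (.op 4 6 (.and 1 0 (.dead0 0)))) (.cons [4] 0 0 (.base (nat_lit 1092) (.op 4 1 (.and 1 0 (.dead0 0)))) (.cons [1, 4] 0 0 (.op 5 0 (.and 1 0 (.dead0 0))) (.cons [1, 5] 0 0 (.base (nat_lit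 1092) (.op 4 1 (.and 1 0 (.dead0 0)))) (.cons [4, 5] 0 0 (.base (nat_lit 1092) (.op 7 1 (.and 1 0 (.dead0 0)))) (.cons [3, 6] 0 0 (.base (nat_lit 393232) (.op 4 6 (.and 1 0 (.dead0 0)))) (.cons [3, 6, 3] 0 0 (.op 5 0 (.and 1 0 (.dead0 0))) .nil))))))))))))))))))) (.cons [3] 2 0 (.op 5 0 (.and 1 0 (.dead0 0))) (.cons [4] 2 0 (.focus 5 (.focus 3 (.focus 1 (.xor 6 0 (.focus 0 (.base (nat_lit 1998812) (.focus 0 (.op 4 0 (.focus 0 (.op 7 1 (.focus 0 (.cons [] 0 0 (.op 5 0 (.and 1 0 (.dead0 0))) (.cons [3] 0 0 (.base (nat_lit 1092) (.op 7 6 (.and 1 0 (.dead0 0)))) (.cons [6, 3] 0 0 (.base (nat_lit 1092) (.and 0 10 (.dead0 0))) (.cons [5, 4] 0 0 (.base (nat_lit 1092) (.and 0 8 (.dead0 0))) (.cons [3, 6] 0 0 (.op 5 0 (.and 1 0 (.dead0 0))) (.cons [1, 5] 0 0 (.base (nat_lit 1092) (.op 4 6 (.and 1 0 (.dead0 0)))) (.cons [5, 3] 0 0 (.base (nat_lit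 1092) (.and 0 8 (.dead0 0))) (.cons [6, 1, 4] 0 0 (.base (nat_lit 1092) (.and 0 10 (.dead0 0))) .nil))))))))))))))))))) (.cons [2] 2 0 (.focus 5 (.focus 3 (.focus 1 (.xor 6 0 (.focus 0 (.base (nat_lit 1998812) (.focus 0 (.op 4 0 (.focus 0 (.op 7 1 (.focus 0 (.cons [] 0 0 (.base (nat_lit 1092) (.and 0 10 (.dead0 0))) (.cons [6] 0 0 (.base (nat_lit 1092) (.and 0 8 (.dead0 0))) (.cons [3] 0 0 (.base (nat_lit 1092) (.and 0 10 (.dead0 0))) (.cons [6, 4] 0 0 (.base (nat_lit 1092) (.and 0 8 (.dead0 0))) (.cons [5, 4] 0 0 (.op 5 0 (.and 1 0 (.dead0 0))) (.cons [5, 3] 0 0 (.base (nat_lit 1092) (.op 4 6 (.and 1 0 (.dead0 0)))) (.cons [4, 5] 0 0 (.op 5 0 (.and 1 0 (.dead0 0))) (.cons [3, 6, 3] 0 0 (.base (nat_lit 1092) (.op 7 6 (.and 1 0 (.dead0 0)))) .nil))))))))))))))))))) (.cons [1, 4] 2 0 (.base (nat_lit 1998812) (.and 0 3 (.dead0 0))) (.cons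 [9, 2] 2 0 (.base (nat_lit 1998812) (.and 0 5 (.dead0 0))) .nil)))))))))))))))) (.cons [2] 1 0 (.op 5 0 (.and 1 0 (.dead0 0))) (.cons [7, 1] 1 0 (.op 2 0 (.xor 0 1 (.focus 0 (.op 4 2 (.xor 2 0 (.focus 0 (.op 7 4 (.xor 4 0 (.focus 0 (.sym [[5]] (.cons [] 2 0 (.base (nat_lit 1998812) (.and 0 3 (.dead0 0))) (.cons [1] 2 0 (.focus 5 (.focus 3 (.focus 1 (.xor 6 0 (.focus 0 (.base (nat_lit 1998812) (.focus 0 (.op 4 0 (.focus 0 (.op 7 1 (.focus 0 (.cons [6] 0 0 (.base (nat_lit 1092) (.op 5 0 (.and 1 0 (.dead 0)))) (.cons [1, 5] 0 0 (.base (nat_lit 1092) (.op 4 1 (.and 1 0 (.dead0 0)))) (.cons [6, 3] 0 0 (.op 5 0 (.and 1 0 (.dead0 0))) (.cons [3, 6] 0 0 (.base (nat_lit 1092) (.op 7 1 (.and 1 0 (.dead0 0)))) (.cons [4, 5] 0 0 (.base (nat_lit 1092) (.op 7 1 (.and 1 0 (.dead0 0)))) (.cons [6, 4] 0 0 (.op 5 0 (.and 1 0 (.dead0 0))) (.cons [3, 6,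 3] 0 0 (.base (nat_lit 1092) (.op 4 1 (.and 1 0 (.dead0 0)))) (.cons [6, 1, 4] 0 0 (.base (nat_lit 1092) (.op 5 0 (.and 1 0 (.dead 0)))) .nil))))))))))))))))))) (.cons [2] 2 0 (.op 5 0 (.and 1 0 (.dead0 0))) (.cons [6, 1] 2 0 (.focus 5 (.focus 3 (.focus 1 (.xor 6 0 (.focus 0 (.base (nat_lit 1998812) (.focus 0 (.op 4 0 (.focus 0 (.op 7 1 (.focus 0 (.cons [] 0 0 (.base (nat_lit 1092) (.and 0 10 (.dead0 0))) (.cons [6] 0 0 (.base (nat_lit 1092) (.op 4 1 (.and 1 0 (.dead0 0)))) (.cons [4] 0 0 (.op 5 0 (.and 1 0 (.dead0 0))) (.cons [5, 4] 0 0 (.base (nat_lit 1092) (.and 0 8 (.dead0 0))) (.cons [3, 6] 0 0 (.base (nat_lit 1092) (.op 4 1 (.and 1 0 (.dead0 0)))) (.cons [3, 6, 3] 0 0 (.base (nat_lit 1092) (.op 4 6 (.and 1 0 (.dead0 0)))) (.cons [6, 1, 4] 0 0 (.base (nat_lit 1092) (.op 7 1 (.and 1 0 (.dead0 0)))) (.cons [1, 6, 3] 0 0 (.op 5 0 (.and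 1 0 (.dead0 0))) .nil))))))))))))))))))) (.cons [4, 1] 2 0 (.base (nat_lit 1998812) (.and 0 5 (.dead0 0))) (.cons [1, 3] 2 0 (.focus 5 (.focus 3 (.focus 1 (.xor 6 0 (.focus 0 (.base (nat_lit 1998812) (.focus 0 (.op 4 0 (.focus 0 (.op 7 1 (.focus 0 (.cons [6] 0 0 (.base (nat_lit 1092) (.op 7 1 (.and 1 0 (.dead0 0)))) (.cons [3] 0 0 (.op 5 0 (.and 1 0 (.dead0 0))) (.cons [4, 5] 0 0 (.base (nat_lit 1092) (.op 4 6 (.and 1 0 (.dead0 0)))) (.cons [5, 4] 0 0 (.base (nat_lit 1092) (.and 0 8 (.dead0 0))) (.cons [1, 4] 0 0 (.base (nat_lit 1092) (.and 0 10 (.dead0 0))) (.cons [1, 5] 0 0 (.base (nat_lit 1092) (.op 4 1 (.and 1 0 (.dead0 0)))) (.cons [6, 1, 4] 0 0 (.base (nat_lit 1092) (.op 4 1 (.and 1 0 (.dead0 0)))) (.cons [1, 6, 3] 0 0 (.op 5 0 (.and 1 0 (.dead0 0))) .nil))))))))))))))))))) .nil)))))))))))))))) (.cons [6, 2] 2 0 (.op 2 0 (.xor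 0 1 (.focus 0 (.op 4 2 (.xor 2 0 (.focus 0 (.op 7 4 (.xor 4 0 (.focus 0 (.sym [[1]] (.cons [] 2 0 (.base (nat_lit 1998812) (.and 0 5 (.dead0 0))) (.cons [1] 2 0 (.focus 5 (.focus 3 (.focus 1 (.xor 6 0 (.focus 0 (.base (nat_lit 1998812) (.focus 0 (.op 4 0 (.focus 0 (.op 7 1 (.focus 0 (.cons [5] 0 0 (.base (nat_lit 1092) (.and 0 10 (.dead0 0))) (.cons [4] 0 0 (.base (nat_lit 1092) (.op 4 1 (.and 1 0 (.dead0 0)))) (.cons [3, 6] 0 0 (.base (nat_lit 1092) (.op 7 1 (.and 1 0 (.dead0 0)))) (.cons [6, 3] 0 0 (.base (nat_lit 1092) (.and 0 8 (.dead0 0))) (.cons [1, 4] 0 0 (.base (nat_lit 1092) (.op 4 6 (.and 1 0 (.dead0 0)))) (.cons [1, 5] 0 0 (.base (nat_lit 1092) (.op 4 1 (.and 1 0 (.dead0 0)))) (.cons [6, 1, 4] 0 0 (.op 5 0 (.and 1 0 (.dead0 0))) (.cons [1, 6, 3] 0 0 (.op 5 0 (.and 1 0 (.dead0 0))) .nil))))))))))))))))))) (.cons [2] 2 0 (.focus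 5 (.focus 3 (.focus 1 (.xor 6 0 (.focus 0 (.base (nat_lit 1998812) (.focus 0 (.op 4 0 (.focus 0 (.op 7 1 (.focus 0 (.cons [4] 0 0 (.base (nat_lit 1092) (.op 4 1 (.and 1 0 (.dead0 0)))) (.cons [6] 0 0 (.op 5 0 (.and 1 0 (.dead0 0))) (.cons [5] 0 0 (.op 5 0 (.and 1 0 (.dead0 0))) (.cons [6, 4] 0 0 (.base (nat_lit 1092) (.and 0 8 (.dead0 0))) (.cons [1, 4] 0 0 (.base (nat_lit 1092) (.op 4 6 (.and 1 0 (.dead0 0)))) (.cons [4, 5] 0 0 (.base (nat_lit 1092) (.op 7 1 (.and 1 0 (.dead0 0)))) (.cons [3, 6, 3] 0 0 (.base (nat_lit 1092) (.op 4 1 (.and 1 0 (.dead0 0)))) (.cons [1, 6, 3] 0 0 (.base (nat_lit 1092) (.and 0 10 (.dead0 0))) .nil))))))))))))))))))) (.cons [2, 3] 2 0 (.focus 5 (.focus 3 (.focus 1 (.xor 6 0 (.focus 0 (.base (nat_lit 1998812) (.focus 0 (.op 4 0 (.focus 0 (.op 7 1 (.focus 0 (.cons [6] 0 0 (.op 5 0 (.and 1 0 (.dead0 0))) (.cons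 [5] 0 0 (.base (nat_lit 1092) (.op 7 1 (.and 1 0 (.dead0 0)))) (.cons [5, 3] 0 0 (.base (nat_lit 1092) (.op 4 1 (.and 1 0 (.dead0 0)))) (.cons [6, 3] 0 0 (.base (nat_lit 1092) (.op 5 0 (.and 1 0 (.dead 0)))) (.cons [5, 4] 0 0 (.base (nat_lit 1092) (.op 7 1 (.and 1 0 (.dead0 0)))) (.cons [6, 4] 0 0 (.op 5 0 (.and 1 0 (.dead0 0))) (.cons [1, 6, 3] 0 0 (.base (nat_lit 1092) (.op 4 1 (.and 1 0 (.dead0 0)))) (.cons [6, 1, 4] 0 0 (.base (nat_lit 1092) (.op 5 0 (.and 1 0 (.dead 0)))) .nil))))))))))))))))))) (.cons [2, 2] 2 0 (.op 5 0 (.and 1 0 (.dead0 0))) (.cons [5, 2] 2 0 (.base (nat_lit 1998812) (.and 0 3 (.dead0 0))) .nil)))))))))))))))) .nil))))))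
noncomputable def TK : List (List ℕ) := [[3, 14, 16], [4, 6, 6, 9, 14, 11, 15], [13, 2, 11, 6, 14, 9, 12, 16]]
noncomputable def TF : List (List ℕ) := [[], [1]]
noncomputable def cP : List Lvl := [⟨(nat_lit 0), [[(nat_lit 4), (nat_lit 4), (nat_lit 1)],
  [(nat_lit 1), (nat_lit 3), (nat_lit 2), (nat_lit 3), (nat_lit 2), (nat_lit 4), (nat_lit 4), (nat_lit 1), (nat_lit 1), (nat_lit 3)]], (nat_lit 2)⟩]
noncomputable def tbl : BT Ent := (.node 541 (.node 323 (.node 156 (.leaf ⟨27, [1, 3, 3, 1, 3, 2, 4, 2, 3, 1], 0⟩) (.leaf ⟨156, [1, 4, 4, 2, 4, 2, 2], 0⟩)) (.node 502 (.leaf ⟨323, [3, 3, 2, 4, 2, 2, 4, 2, 3], 0⟩) (.leaf ⟨502, [1, 1, 3, 1, 3, 3, 2], 0⟩))) (.node 751 (.node 720 (.leaf ⟨541, [3, 2, 4, 2, 3, 1, 3, 1], 0⟩) (.leaf ⟨720, [], 1⟩)) (.node 828 (.leaf ⟨751, [3, 3, 2, 4, 1, 3, 1, 4], 0⟩) (.node 913 (.leaf ⟨828, [4, 1, 3, 1, 1, 3, 1, 3,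 1], 0⟩) (.leaf ⟨913, [], 0⟩)))))
noncomputable def trP : List (List (List Nat)) := [[[], [1], [2], [4], [3], [4, 2], [3, 2], [1, 3], [4, 1]]]

/-- In the projective special linear group PSL(3, 4) all subgroups of order 3 are conjugate. -/
theorem result (F : Type*) [Field F] [Fintype F] (hF : Fintype.card F = 4) (X Y : Subgroup (Matrix.ProjectiveSpecialLinearGroup (Fin 3) F)) (hX : Nat.card ↥X = 3) (hY : Nat.card ↥Y = 3) : ∃ g : Matrix.ProjectiveSpecialLinearGroup (Fin 3) F, MulAut.conj g • X = Y := by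
  obtain ⟨el, hT⟩ := exists_ok_four hF
  obtain ⟨_, _, D, f, h2, h3⟩ := linU.hasReps_PSL hT memU
  have hc : Nat.card (Matrix.ProjectiveSpecialLinearGroup (Fin 3) F) = 20160 := by
    have := CF.Classical.card_PSL_fin (F := F) 3 (by decide)
    rw [hF, Fin.prod_univ_three] at this
    norm_num at this
    omega
  have E := chU.exact h2 h3 (H := ⊤) (fun _ => trivial) (Subgroup.card_top.trans hc).le
  have k : ∀ g, orderOf g = 3 → ∃ x, x * g * x⁻¹ = ev (slp f UW 2) wa := fun g h => by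
    obtain ⟨v, hv, x, -, e⟩ := classes (H := ⊤) (exact_cent (c' := cP) E (k := 5) (by norm_num) (a := wa)
      (card_cent_top_le E (by norm_num) (k := 5) (by norm_num) (fw := TF) (kg := TK) (T := T) (m := 9)
        (by decide +kernel)) (by decide +kernel) (by decide +kernel))
      (labOK_spec (k := 5) (R := repl 21 5) (Q := full 20) (by decide +kernel)) E.faithful (fun _ => trivial)
      (M := 1009) (p := 3) (a := 1) (m := 2240) (by norm_num) (by rw [Subgroup.card_top, hc]; decide +kernel)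
      (by norm_num) (reps := [wa]) (tbl := tbl) (Ts := trP) (by decide +kernel) (g := g) trivial
      (orderOf_dvd_iff_pow_eq_one.1 (by rw [h]; decide)) (by rintro rfl; simp at h)
    exact ⟨x, List.mem_singleton.1 hv ▸ e⟩
  obtain ⟨x, ox, rfl⟩ := eq_zpowers_of_card (by norm_num) hX
  obtain ⟨y, oy, rfl⟩ := eq_zpowers_of_card (by norm_num) hY
  obtain ⟨a, ha⟩ := k x ox
  obtain ⟨b, hb⟩ := k y oy
  refine ⟨b⁻¹ * a, ?_⟩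
  rw [conj_smul_zpowers, show b⁻¹ * a * x * (b⁻¹ * a)⁻¹ = b⁻¹ * (a * x * a⁻¹) * b by group, ha, ← hb]
  congr 1; group

end Cfsg.Agent.S2739
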