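import Cfsg.Statements.S2806
import Cfsg.Agent.Loc.Wiel
-- import your own Cfsg.Agent.* helpers here

set_option autoImplicit false
open Cfsg

namespace Cfsg.Agent.S2806

open Cfsg CF.Loc Subgroup
open scoped commutatorElement


/-- Let H be a finite group of local characteristic p, T a Sylow p-subgroup, and L₁, L₂ subnormal subgroups of H generating the subgroup L. Then the point stabilizer of L with respect to T ∩ L is generated by the point stabilizers of L₁ and L₂ with respect to T ∩ L₁ and T ∩ L₂ (point stabilizer of X w.r.t. R: the subgroup generated by the p-elements of X centralizing Ω₁(Z(R))). -/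
theorem result {H : Type*} [Group H] [Finite H] {p : ℕ} [Fact p.Prime] (hH : Cfsg.IsOfLocalCharacteristic p H) (T : Sylow p H) (L₁ L₂ : Subgroup H) (h₁ : L₁.IsSubnormal) (h₂ : L₂.IsSubnormal) : Cfsg.pointStabilizer p (L₁ ⊔ L₂) ((T : Subgroup H) ⊓ (L₁ ⊔ L₂)) = Cfsg.pointStabilizer p L₁ ((T : Subgroup H) ⊓ L₁) ⊔ Cfsg.pointStabilizer p L₂ ((T : Subgroup H) ⊓ L₂) := by
  have h := locChar_of_local hH
  have a := sn_top_iff.2 h₁
  have b := sn_top_iff.2 h₂
  have hT := isSyl_top T
  rw [h.pointStabilizer_eq a hT, h.pointStabilizer_eq b hT, h.pointStabilizer_eq (a.sup b) hT]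
  exact pElementClosure_sup_inf hT a b (le_centralizer_omegaOneCenter _ _)

end Cfsg.Agent.S2806
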