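import Cfsg.Statements.S2810
import Cfsg.Agent.Loc.Misc
-- import your own Cfsg.Agent.* helpers here

set_option autoImplicit false
open Cfsg

namespace Cfsg.Agent.S2810

open Cfsg CF.Loc Subgroup
open scoped commutatorElement


/-- Let H be a finite group of characteristic p and L a subgroup of H centralizing every factor of some H-invariant chain 1 = A₀ ≤ A₁ ≤ … ≤ Aₙ = O_p(H) of normal subgroups (that is, [A_{i+1}, L] ≤ Aᵢ for each i). Then L ≤ O_p(H). -/
theorem result {H : Type*} [Group H] [Finite H] {p : ℕ} [Fact p.Prime] (hchar : Subgroup.centralizer (Cfsg.pCore p H : Set H) ≤ Cfsg.pCore p H) (L : Subgroup H) (n : ℕ) (A : Fin (n + 1) → Subgroup H) (h0 : A 0 = ⊥) (hn : A (Fin.last n) = Cfsg.pCore p H) (hmono : Monotone A) (hnorm : ∀ i, (A i).Normal) (hcent : ∀ i : Fin n, ⁅A i.succ, L⁆ ≤ A i.castSucc) : L ≤ Cfsg.pCore p H := by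
  set K : Subgroup H := ⨅ i : Fin n, secCent (A i.succ) (A i.castSucc) with hK
  have hLK : L ≤ K := le_iInf fun i => le_secCent_iff.2
    ⟨by haveI := hnorm i.castSucc; exact le_normalizer_of_normal' _ _, hcent i⟩
  haveI : K.Normal := normal_of_top_le_normalizer (le_normalizer_iInf fun i =>
    le_normalizer_secCent (by haveI := hnorm i.succ; exact le_normalizer_of_normal' _ _)
      (by haveI := hnorm i.castSucc; exact le_normalizer_of_normal' _ _))
  have key : ∀ k (hk : k ≤ n), iterCommutator (pCore p H) K k ≤ A ⟨n - k, by omega⟩ := by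
    intro k
    induction k with
    | zero => intro _; rw [iterCommutator_zero, ← hn]; exact le_rfl
    | succ k ih =>
      intro hk
      rw [iterCommutator_succ]
      have h1 := ih (by omega)
      have h2 := commutator_secCent_le (A (⟨n - (k + 1), by omega⟩ : Fin n).succ)
        (A (⟨n - (k + 1), by omega⟩ : Fin n).castSucc)
      refine le_trans (commutator_mono ?_ (iInf_le _ _)) h2
      refine h1.trans (le_of_eq ?_)
      congr 1
      ext
      simp only [Fin.succ_mk]
      omega
  have h1 : iterCommutator (pCore p H) K n = ⊥ := by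
    rw [eq_bot_iff, ← h0]
    refine (key n le_rfl).trans (le_of_eq ?_)
    congr 1
    ext
    simp
  have h2 := pResidualOf_le_centralizer_of_iter (isPGroup_pCore p H)
    (le_normalizer_of_normal' _ _) h1
  exact hLK.trans (le_pCore (isPGroup_of_pResidualOf_le (isPGroup_pCore p H) (h2.trans hchar)))

end Cfsg.Agent.S2810
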