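import Cfsg.Statements.S2813
import Cfsg.Agent.Loc.Misc
-- import your own Cfsg.Agent.* helpers here

set_option autoImplicit false
open Cfsg

namespace Cfsg.Agent.S2813

open Cfsg CF.Loc Subgroup
open scoped commutatorElement


/-- Let K be a subgroup of the finite group H with O_p(K) = 1 and Y a p-subgroup of N_H(K) with [K, Y, Y] = 1. Then [K, Y] = 1. -/
theorem result {H : Type*} [Group H] [Finite H] {p : ℕ} [Fact p.Prime] (K : Subgroup H) (hO : Cfsg.pCore p ↥K = ⊥) (Y : Subgroup H) (hY : IsPGroup p ↥Y) (hYK : Y ≤ Subgroup.normalizer (K : Set H)) (hq : ⁅⁅K, Y⁆, Y⁆ = ⊥) : ⁅K, Y⁆ = ⊥ := by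
  have h1 : Y ≤ 𝐂(⁅K, Y⁆) := commutator_eq_bot_iff_le_centralizer'.1 hq
  have h2 : Y ≤ pCoreOf p (⁅K, Y⁆ ⊔ Y) := le_pCoreOf hY le_sup_right
    (sup_le ((le_centralizer_iff.1 h1).trans (centralizer_le_normalizer _)) le_normalizer)
  have h3 : ⁅K, Y⁆ ≤ pCoreOf p (⁅K, Y⁆ ⊔ Y) := commutator_le_of_le_of_normalizes h2
    ((le_normalizer_commutator_sup K Y).trans (normalizer_le_normalizer_pCoreOf p _))
  rw [eq_bot_iff, ← pCoreOf_eq_bot_iff.2 hO]
  exact le_pCoreOf ((isPGroup_pCoreOf p _).to_le h3) (commutator_le_left_of_le_normalizer hYK)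
    (normalizer_commutator_ge_left K Y)

end Cfsg.Agent.S2813
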