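import Cfsg.Statements.S2814
import Cfsg.Agent.Loc.PMin2
-- import your own Cfsg.Agent.* helpers here

set_option autoImplicit false
open Cfsg

namespace Cfsg.Agent.S2814

open Cfsg CF.Loc Subgroup
open scoped commutatorElement


/-- Let A be a subgroup of the finite group H and K the subnormal closure of A (intersection of the subnormal subgroups containing A). Then K is the normal closure of A inside K and N_H(A) ≤ N_H(K); K = A·O^p(K), O^p(K) being generated by the elements of K of order prime to p; and if A is a p-group, O^p(K) = [O^p(K), A]. -/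
theorem result {H : Type*} [Group H] [Finite H] {p : ℕ} [Fact p.Prime] (A : Subgroup H) (K : Subgroup H) (hK : K = Cfsg.subnormalClosure A) : (Subgroup.normalClosure ((A.subgroupOf K : Subgroup ↥K) : Set ↥K)).map K.subtype = K ∧ Subgroup.normalizer (A : Set H) ≤ Subgroup.normalizer (K : Set H) ∧ A ⊔ (Cfsg.pResidual p ↥K).map K.subtype = K ∧ (IsPGroup p ↥A → ⁅(Cfsg.pResidual p ↥K).map K.subtype, A⁆ = (Cfsg.pResidual p ↥K).map K.subtype) := by
  have hs : Sn K ⊤ := hK ▸ sn_sInf (fun X hX => sn_top_iff.2 hX.2) ⟨⊤, le_top, sn_top_iff.1 (Sn.refl _)⟩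
  have hA : A ≤ K := hK ▸ le_sInf fun X hX => hX.1
  have k : ∀ X, A ≤ X → Sn X K → X = K := fun X a b =>
    le_antisymm b.le (hK ▸ sInf_le ⟨a, sn_top_iff.1 (b.trans hs)⟩)
  have h1 : ncl A K = K :=
    k _ (le_ncl A K) (Sn.of_normal (ncl_le_of_le hA) (le_normalizer_ncl A K))
  have h2 : A ⊔ 𝐑[p](K) = K :=
    k _ le_sup_left (sn_of_pResidualOf_le le_sup_right (sup_le hA (pResidualOf_le p K)))
  refine ⟨by rw [map_normalClosure_subgroupOf hA, h1], fun g hg => inv_mem_iff.1
    (mem_normalizer_of_cj_le (cj_le_iff.2 ?_)), h2, fun hp => ?_⟩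
  · rw [inv_inv]
    nth_rw 1 [hK]
    refine sInf_le ⟨?_, sn_top_iff.1 (hs.cj_of_mem_normalizer
      (le_normalizer_of_normal' ⊤ ⊤ (mem_top g)))⟩
    rw [← cj_eq_self hg]; exact cj_mono g hA
  · refine commutator_eq_of_le_ncl (pResidualOf_pResidualOf p K) hp
      (hA.trans (le_normalizer_pResidualOf p K)) ((pResidualOf_le p K).trans (h1.ge.trans
        (ncl_eq_of_forall_mul (pResidualOf_le p K) fun g hg => ?_).le))
    rw [← h2, sup_comm, mem_sup_of_le_normalizer (hA.trans (le_normalizer_pResidualOf p K))] at hg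
    obtain ⟨a, ha, b, hb, e⟩ := hg
    exact ⟨a, ha, b, le_normalizer hb, e.symm⟩

end Cfsg.Agent.S2814
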