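import Cfsg.Statements.S2815
import Cfsg.Agent.Loc.PMin2
-- import your own Cfsg.Agent.* helpers here

set_option autoImplicit false
open Cfsg

namespace Cfsg.Agent.S2815

open Cfsg CF.Loc Subgroup
open scoped commutatorElement


/-- Let H be a finite group and p a prime dividing its order with O_p(H) = 1, and suppose K = O^p(H) (generated by the elements of order prime to p) is quasisimple. Then K = F*(H); for every nontrivial p-subgroup Y of H, K = [K, Y] and K lies in the subgroup generated by the K-conjugates of Y; every normal subgroup of H not containing K has order prime to p; and H is p-irreducible. -/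
theorem result {H : Type*} [Group H] [Finite H] {p : ℕ} [Fact p.Prime] (hp : p ∣ Nat.card H) (hO : Cfsg.pCore p H = ⊥) (hq : Cfsg.IsQuasisimple ↥(Cfsg.pResidual p H)) : Cfsg.pResidual p H = Cfsg.generalizedFittingSubgroup H ∧ (∀ Y : Subgroup H, IsPGroup p ↥Y → Y ≠ ⊥ → ⁅Cfsg.pResidual p H, Y⁆ = Cfsg.pResidual p H ∧ Cfsg.pResidual p H ≤ ⨆ k : ↥(Cfsg.pResidual p H), Y.map (MulAut.conj (k : H)).toMonoidHom) ∧ (∀ C : Subgroup H, C.Normal → ¬ Cfsg.pResidual p H ≤ C → (Nat.card ↥C).Coprime p) ∧ Cfsg.IsPIrreducible p H := by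
  haveI := pResidual_normal p H
  have hc : IsComponent (pResidual p H) := ⟨Normal.isSubnormal inferInstance, hq⟩
  have h1 : pResidual p H = generalizedFittingSubgroup H := le_antisymm
    ((CF.Sig.comp_le_layer hc).trans CF.Sig.layer_le_fstar) (fstar_le_pResidual hO)
  have h2 : ∀ C : Subgroup H, C ≤ 𝐂(pResidual p H) → (Nat.card C).Coprime p := fun C hC =>
    (coprime_card_fitting hO).coprime_dvd_left
      (card_dvd_of_le (hC.trans (h1 ▸ CF.Sig.centralizer_fstar_le_fitting)))
  have h3 : ∀ C : Subgroup H, C.Normal → ¬ pResidual p H ≤ C → (Nat.card C).Coprime p :=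
    fun C hC hn => h2 C (commutator_eq_bot_iff_le_centralizer'.1
      ((CF.Sig.comp_le_or_commutator_eq_bot hc hC.isSubnormal).resolve_left hn))
  refine ⟨h1, fun Y hY hY1 => ?_, h3, pIrr_top_iff.1 ⟨fun c => ?_, fun N _ a b => ?_⟩⟩
  · have e : ⁅pResidual p H, Y⁆ = pResidual p H := by
      refine (CF.Sig.qs_eq_or_le_centralizer hq (commutator_le_left _ _)
        (normalizer_commutator_ge_left _ _)).resolve_right fun c => hY1 ?_
      have d := CF.Sig.commutator_eq_bot_of_perfect (N := Y) (CF.Sig.qs_perfect hq)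
        (commutator_eq_bot_iff_le_centralizer.2 ((commutator_comm _ _).le.trans c))
      have := inf_eq_bot_of_coprime_card hY (h2 Y (commutator_eq_bot_iff_le_centralizer.1 d))
      rwa [inf_idem] at this
    exact ⟨e, e.ge.trans (commutator_le_ncl Y _)⟩
  · have := c.coprime ((pCoreOf_top p H).trans hO)
    rw [card_top] at this
    exact (Nat.Prime.coprime_iff_not_dvd Fact.out).1 this.symm hp
  · rw [pResidualOf_top]
    by_contra c
    exact b (pClosed_of_coprime (h3 N (normal_of_top_le_normalizer a) c))

end Cfsg.Agent.S2815
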