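import Cfsg.Statements.S2816
import Cfsg.Agent.Loc.Wiel
-- import your own Cfsg.Agent.* helpers here

set_option autoImplicit false
open Cfsg

namespace Cfsg.Agent.S2816

open Cfsg CF.Loc Subgroup
open scoped commutatorElement


/-- Let H be a finite group and p a prime with O_p(H) = 1, and Y a p-subgroup of H. Then for every subnormal subgroup K of H containing Y, [F*(H), Y] = [F*(K), Y] = [F*(K), Y, Y]; and if Y₀ ≤ Y with [F*(H), Y, Y₀] = 1 then Y₀ = 1 (in particular [F*(H), Y] = 1 forces Y = 1). -/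
theorem result {H : Type*} [Group H] [Finite H] {p : ℕ} [Fact p.Prime] (hO : Cfsg.pCore p H = ⊥) (Y : Subgroup H) (hY : IsPGroup p ↥Y) : (∀ K : Subgroup H, K.IsSubnormal → Y ≤ K → ⁅Cfsg.generalizedFittingSubgroup H, Y⁆ = ⁅(Cfsg.generalizedFittingSubgroup ↥K).map K.subtype, Y⁆ ∧ ⁅(Cfsg.generalizedFittingSubgroup ↥K).map K.subtype, Y⁆ = ⁅⁅(Cfsg.generalizedFittingSubgroup ↥K).map K.subtype, Y⁆, Y⁆) ∧ (∀ Y₀ : Subgroup H, Y₀ ≤ Y → ⁅⁅Cfsg.generalizedFittingSubgroup H, Y⁆, Y₀⁆ = ⊥ → Y₀ = ⊥) := by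
  rw [← pCoreOf_top] at hO
  have hF := fsO_fst hO
  rw [CF.Sig.Fst_top] at hF
  have n : ∀ Y : Subgroup H, Y ≤ 𝐍(generalizedFittingSubgroup H) := fun Y =>
    le_normalizer_of_normal' _ _
  refine ⟨fun K hK hYK => ?_, fun Y₀ h1 h2 => ?_⟩
  · have hK' := sn_top_iff.2 hK
    have e : (generalizedFittingSubgroup K).map K.subtype = generalizedFittingSubgroup H ⊓ K :=
      CF.Sig.map_fstar_subtype_of_subnormal hK
    have h2 : FsO p (CF.Sig.Fst K) := fsO_fst (le_bot_iff.1 (hK'.pCoreOf_le.trans hO.le))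
    refine ⟨?_, (h2.commutator_commutator hY
      ((hYK.trans le_normalizer).trans (CF.Sig.norm_Fst K))).symm⟩
    rw [e]
    refine le_antisymm ?_ (commutator_mono inf_le_left le_rfl)
    have h3 := hF.commutator_commutator hY (n Y)
    exact h3.ge.trans (commutator_mono (le_inf (commutator_le_left_of_le_normalizer (n Y))
      (le_of_commutator_eq_of_sn hK' le_top hYK h3)) le_rfl)
  · refine eq_bot_of_le_centralizer_fst hO (hY.to_le h1) le_top ?_
    rw [CF.Sig.Fst_top]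
    refine hF.le_centralizer (hY.to_le h1) (n _) ((commutator_mono le_rfl h1).trans ?_)
    exact le_centralizer_comm.1 (commutator_eq_bot_iff_le_centralizer'.1 h2)

end Cfsg.Agent.S2816
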