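import Cfsg.Statements.S2817
import Cfsg.Agent.Loc.Wiel
-- import your own Cfsg.Agent.* helpers here

set_option autoImplicit false
open Cfsg

namespace Cfsg.Agent.S2817

open Cfsg CF.Loc Subgroup
open scoped commutatorElement


/-- Let H be a finite group and p a prime with O_p(H) = 1, Q a p-subgroup of H, L = [F*(H), Q], and F the largest normal subgroup of F*(H) centralized by Q (a normal subgroup of F*(H) centralized by Q and containing every such). Then F = C_{F*(H)}(LQ); L = [L, Q]; L ∩ F ≤ Φ(L); every p-subgroup B of N_H(Q) with [L, B] ≤ F satisfies [L, B] = 1; and C_H(FL) has order prime to p. -/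
theorem result {H : Type*} [Group H] [Finite H] {p : ℕ} [Fact p.Prime] (hO : Cfsg.pCore p H = ⊥) (Q : Subgroup H) (hQ : IsPGroup p ↥Q) (L : Subgroup H) (hL : L = ⁅Cfsg.generalizedFittingSubgroup H, Q⁆) (F : Subgroup H) (hF : F ≤ Cfsg.generalizedFittingSubgroup H ∧ Cfsg.generalizedFittingSubgroup H ≤ Subgroup.normalizer (F : Set H) ∧ Q ≤ Subgroup.centralizer (F : Set H) ∧ ∀ N : Subgroup H, N ≤ Cfsg.generalizedFittingSubgroup H → Cfsg.generalizedFittingSubgroup H ≤ Subgroup.normalizer (N : Set H) → Q ≤ Subgroup.centralizer (N : Set H) → N ≤ F) : F = Cfsg.generalizedFittingSubgroup H ⊓ Subgroup.centralizer ((L ⊔ Q : Subgroup H) : Set H) ∧ ⁅L, Q⁆ = L ∧ L ⊓ F ≤ (frattini ↥L).map L.subtype ∧ (∀ B : Subgroup H, IsPGroup p ↥B → B ≤ Subgroup.normalizer (Q : Set H) → ⁅L, B⁆ ≤ F → ⁅L, B⁆ = ⊥) ∧ (Nat.card ↥(Subgroup.centralizer ((F ⊔ L : Subgroup H) : Set H))).Coprime p := by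
  obtain ⟨hF1, hF2, hF3, hF4⟩ := hF
  rw [← pCoreOf_top] at hO
  have hS := fsO_fst hO
  have hb : ∀ Y : Subgroup H, IsPGroup p Y → Y ≤ 𝐂(generalizedFittingSubgroup H) → Y = ⊥ :=
    fun Y a b => eq_bot_of_le_centralizer_fst hO a le_top (by rwa [CF.Sig.Fst_top])
  have hb' : ∀ Y : Subgroup H, IsPGroup p Y → generalizedFittingSubgroup H ≤ 𝐍(Y) → Y = ⊥ :=
    fun Y a b => eq_bot_of_fst_le_normalizer hO a le_top (by rwa [CF.Sig.Fst_top])
  rw [CF.Sig.Fst_top] at hS
  set E := generalizedFittingSubgroup H with hE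
  have n : ∀ Y : Subgroup H, Y ≤ 𝐍(E) := fun Y => le_normalizer_of_normal' _ _
  have hLE : L ≤ E := hL ▸ commutator_le_left_of_le_normalizer (n Q)
  have nL : E ≤ 𝐍(L) := hL ▸ normalizer_commutator_ge_left E Q
  have nQ : Q ≤ 𝐍(L) := hL ▸ normalizer_commutator_ge_right E Q
  have nLQ : E ≤ 𝐍(L ⊔ Q) := hL ▸ le_normalizer_commutator_sup E Q
  have hLs : FsO p L := hS.of_sn (Sn.of_normal hLE nL)
  have c1 : ⁅F, Q⁆ = ⊥ := commutator_eq_bot_iff_le_centralizer'.2 hF3
  have hFL : F ≤ 𝐂(L) := by
    rw [← commutator_eq_bot_iff_le_centralizer', hL]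
    refine commutator_commutator_eq_bot_of_rotate ?_ ?_
    · rw [commutator_comm Q, c1, commutator_bot_left]
    · exact le_bot_iff.1 ((commutator_mono (commutator_le_left_of_le_normalizer hF2) le_rfl).trans
        c1.le)
  have e1 : F = E ⊓ 𝐂(L ⊔ Q) := by
    refine le_antisymm (le_inf hF1 ?_) (hF4 _ inf_le_left
      (le_normalizer_inf le_normalizer (le_normalizer_centralizer nLQ)) ?_)
    · rw [CF.Loc.centralizer_sup]; exact le_inf hFL (le_centralizer_comm.1 hF3)
    · exact le_centralizer_comm.1 (inf_le_right.trans (centralizer_anti le_sup_right))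
  have e2 : ⁅L, Q⁆ = L := by rw [hL]; exact hS.commutator_commutator hQ (n Q)
  have e3 : L ⊓ F ≤ CF.Coprime.frattiniOf L := by
    have a : 𝐎[p](L ⊔ Q) = ⊥ := hb' _ (isPGroup_pCoreOf _ _)
      (nLQ.trans (normalizer_le_normalizer_pCoreOf _ _))
    have b : pElementClosure p (L ⊔ Q) = L ⊔ Q := by
      refine le_antisymm (pElementClosure_le _ _) ?_
      have hq := le_pElementClosure hQ (le_sup_right : Q ≤ L ⊔ Q)
      refine sup_le (e2.ge.trans ?_) hq
      exact commutator_le_of_le_of_normalizes hq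
        (le_sup_left.trans (le_normalizer_pElementClosure _ _))
    have c := center_le_frattiniOf a b
    rw [frattiniOf_eq_residual a, pResidualOf_sup_eq hQ nQ, hLs.residual] at c
    exact (inf_le_inf le_sup_left (e1.le.trans inf_le_right)).trans c
  refine ⟨e1, e2, e3, fun B hB hBQ h => ?_, ?_⟩
  · have nB : B ≤ 𝐍(L) := hL ▸ le_normalizer_commutator (n B) hBQ
    have a := hLs.commutator_sup hB nB
    have b := CF.Coprime.eq_of_sup_frattiniOf (K := L) (H := L ⊓ 𝐂(B)) inf_le_left
      (a.ge.trans (sup_le (((le_inf (commutator_le_left_of_le_normalizer nB) h).trans e3).trans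
        le_sup_right) le_sup_left))
    exact commutator_eq_bot_iff_le_centralizer'.2 (le_centralizer_comm.1 (b.ge.trans inf_le_right))
  · refine coprime_card_of_forall fun x hx ho => ?_
    have hX : IsPGroup p (zpowers x) := isPGroup_zpowers_of_orderOf (k := 1) (by rw [ho, pow_one])
    have hX1 : zpowers x ≤ 𝐂(F ⊔ L) := zpowers_le.2 hx
    have c2 : ⁅L, zpowers x⁆ = ⊥ := commutator_eq_bot_iff_le_centralizer'.2
      (hX1.trans (centralizer_anti le_sup_right))
    have a : ⁅E, zpowers x⁆ ≤ E ⊓ 𝐂(L) := by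
      refine le_inf (commutator_le_left_of_le_normalizer (n _)) ?_
      rw [le_centralizer_comm, ← commutator_eq_bot_iff_le_centralizer']
      refine commutator_commutator_eq_bot_of_rotate ?_ ?_
      · rw [commutator_comm (zpowers x), c2, commutator_bot_left]
      · exact le_bot_iff.1 ((commutator_mono (commutator_le_left_of_le_normalizer nL) le_rfl).trans
          c2.le)
    have b : E ⊓ 𝐂(L) ≤ F ⊔ L := by
      have hC : FsO p (E ⊓ 𝐂(L)) := hS.of_sn (Sn.of_normal inf_le_left
        (le_normalizer_inf le_normalizer (le_normalizer_centralizer nL)))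
      rw [← hC.commutator_sup hQ (le_normalizer_inf (n Q) (le_normalizer_centralizer nQ))]
      refine sup_le (((commutator_mono inf_le_left le_rfl).trans hL.ge).trans le_sup_right)
        (le_trans ?_ le_sup_left)
      rw [e1, CF.Loc.centralizer_sup, inf_assoc]
    have := hb _ hX (hS.le_centralizer hX (n _) ((a.trans b).trans (le_centralizer_comm.1 hX1)))
    rw [zpowers_eq_bot] at this
    rw [this, orderOf_one] at ho
    exact (Fact.out : p.Prime).one_lt.ne ho

end Cfsg.Agent.S2817
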