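import Cfsg.Statements.S2823
import Cfsg.Agent.Loc.PRed
-- import your own Cfsg.Agent.* helpers here

set_option autoImplicit false
open Cfsg

namespace Cfsg.Agent.S2823

open Cfsg CF.Loc Subgroup
open scoped commutatorElement


/-- Let H be a finite group, p a prime, T a Sylow p-subgroup and L a subgroup of characteristic p containing T; let Z_L be the subgroup generated by the Ω₁(Z(S)) over the Sylow p-subgroups S of L and O^p(L) the subgroup generated by the elements of L of order prime to p. Then Z_L = Ω₁(Z(L))·[Z_L, O^p(L)] and [Z_L, L] = [Z_L, O^p(L)]. -/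
theorem result {H : Type*} [Group H] [Finite H] {p : ℕ} [Fact p.Prime] (T : Sylow p H) (L : Subgroup H) (hTL : (T : Subgroup H) ≤ L) (hL : Subgroup.centralizer (Cfsg.pCore p ↥L : Set ↥L) ≤ Cfsg.pCore p ↥L) : Cfsg.sylowCenterClosure p L = (Cfsg.omegaOne p (L ⊓ Subgroup.centralizer ((L : Subgroup H) : Set H))) ⊔ ⁅Cfsg.sylowCenterClosure p L, (Cfsg.pResidual p ↥L).map L.subtype⁆ ∧ ⁅Cfsg.sylowCenterClosure p L, L⁆ = ⁅Cfsg.sylowCenterClosure p L, (Cfsg.pResidual p ↥L).map L.subtype⁆ := by
  rw [pResidualOf_def, omegaOneCenter_def]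
  have hc := isCharP_iff.2 hL
  have hT := isSyl_of_le T hTL
  set V := sylowCenterClosure p L with hV
  have hVe : IsElementaryAbelian p V := hc.isElemAb_sylowCenterClosure
  have hn : L ≤ 𝐍(V) := le_normalizer_sylowCenterClosure p L
  have hn2 : L ≤ 𝐍(⁅V, pResidualOf p L⁆) :=
    le_normalizer_commutator hn (le_normalizer_pResidualOf p L)
  have h1 := hT.centralizer_eq_sup (isElemAb_isPGroup hVe) (isElemAb_le_centralizer hVe) hn
  have h2 : omegaOneCenter p L ≤ V :=
    (le_omegaOneCenter (isElemAb_omegaOneCenter p L)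
      (hT.le_of_le_normalizer (isElemAb_isPGroup (isElemAb_omegaOneCenter p L))
        (omegaOneCenter_le p L)
        (hTL.trans (le_normalizer.trans (normalizer_le_normalizer_omegaOneCenter p L))))
      ((omegaOneCenter_le_centralizer p L).trans (centralizer_anti hTL))).trans
      (omegaOneCenter_le_sylowCenterClosure hT)
  have h3 : V = omegaOneCenter p L ⊔ ⁅V, pResidualOf p L⁆ := by
    refine le_antisymm (hT.sylowCenterClosure_le ?_ (le_normalizer_sup
      (le_normalizer.trans (normalizer_le_normalizer_omegaOneCenter p L)) hn2))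
      (sup_le h2 (commutator_le_left_of_le_normalizer ((pResidualOf_le p L).trans hn)))
    refine (le_inf (omegaOneCenter_le_sylowCenterClosure hT)
      (omegaOneCenter_le_centralizer p _)).trans (h1.ge.trans (sup_le ?_ ?_))
    · exact inf_le_right.trans ((commutator_mono inf_le_left le_rfl).trans le_sup_right)
    · exact (le_omegaOneCenter (isElemAb_of_le hVe inf_le_left)
        (inf_le_left.trans (sylowCenterClosure_le p L)) inf_le_right).trans le_sup_left
  refine ⟨h3, le_antisymm ?_ (commutator_mono le_rfl (pResidualOf_le p L))⟩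
  conv_lhs => rw [h3]
  have h4 : V ≤ 𝐍(⁅V, pResidualOf p L⁆) := normalizer_commutator_ge_left _ _
  refine commutator_sup_left_le (h2.trans h4) le_normalizer ?_
    (commutator_le_left_of_le_normalizer hn2)
  rw [commutator_eq_bot_iff_le_centralizer.2 (omegaOneCenter_le_centralizer p L)]
  exact bot_le

end Cfsg.Agent.S2823
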