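import Cfsg.Statements.S2825
import Cfsg.Agent.Loc.PRed
-- import your own Cfsg.Agent.* helpers here

set_option autoImplicit false
open Cfsg

namespace Cfsg.Agent.S2825

open Cfsg CF.Loc Subgroup
open scoped commutatorElement


/-- Let L be a subnormal subgroup of the finite group H, p a prime, Y_H and Y_L the largest p-reduced normal subgroups. Then Y_H ∩ L = Y_H ∩ Y_L and this subgroup is a p-reduced normal subgroup of L; C_L(Y_L) = C_L(Y_H) = C_L(Y_H ∩ L); and if O^p(H) ≤ L, then [Y_L, L] = 1 if and only if [Y_H, H] = 1. -/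
theorem result {H : Type*} [Group H] [Finite H] {p : ℕ} [Fact p.Prime] (L : Subgroup H) (hL : L.IsSubnormal) : Cfsg.largestPReduced p H ⊓ L = Cfsg.largestPReduced p H ⊓ (Cfsg.largestPReducedOf p L) ∧ Cfsg.IsPReducedNormal p ((Cfsg.largestPReduced p H ⊓ L).subgroupOf L) ∧ L ⊓ Subgroup.centralizer ((Cfsg.largestPReducedOf p L : Subgroup H) : Set H) = L ⊓ Subgroup.centralizer (Cfsg.largestPReduced p H : Set H) ∧ L ⊓ Subgroup.centralizer (Cfsg.largestPReduced p H : Set H) = L ⊓ Subgroup.centralizer ((Cfsg.largestPReduced p H ⊓ L : Subgroup H) : Set H) ∧ (Cfsg.pResidual p H ≤ L → (⁅(Cfsg.largestPReducedOf p L), L⁆ = ⊥ ↔ ⁅Cfsg.largestPReduced p H, (⊤ : Subgroup H)⁆ = ⊥)) := by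
  rw [← Y_top]
  have hs := sn_top_iff.2 hL
  have hY := isPRed_Y (p := p) (⊤ : Subgroup H)
  set Y := largestPReducedOf p (⊤ : Subgroup H) with hYd
  have h0 : ⁅Y, pResidualOf p L⁆ ≤ Y ⊓ L :=
    le_inf (commutator_le_left_of_le_normalizer (le_top.trans hY.le_normalizer))
      ((hY.commutator_le_of_sn hs).trans (pResidualOf_le p L))
  have hn : L ≤ 𝐍(Y ⊓ L) := le_normalizer_inf (le_top.trans hY.le_normalizer) le_normalizer
  have h1 : IsPRed p (Y ⊓ L) L := hY.of_sn hs h0 inf_le_left inf_le_right hn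
  have h2 : L ⊓ 𝐂(Y ⊓ L) ≤ 𝐂(Y) := hY.le_centralizer_of_sn hs h0
    (Sn.of_normal inf_le_left (le_normalizer_inf le_normalizer (le_normalizer_centralizer hn)))
    ((pResidualOf_le p _).trans inf_le_right)
  have h3 : L ⊓ 𝐂(Y) ≤ 𝐂(largestPReducedOf p L) := hs.centralizer_Y_le
  have h4 : L ⊓ 𝐂(largestPReducedOf p L) ≤ 𝐂(Y) :=
    (inf_le_inf_left L (centralizer_anti h1.le_Y)).trans h2
  refine ⟨le_antisymm (le_inf inf_le_left h1.le_Y) (inf_le_inf_left _ (Y_le L)),
    (isPRed_iff_subgroupOf inf_le_right).1 h1,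
    le_antisymm (le_inf inf_le_left h4) (le_inf inf_le_left h3),
    le_antisymm (inf_le_inf_left L (centralizer_anti inf_le_left)) (le_inf inf_le_left h2),
    fun hR => ?_⟩
  rw [commutator_eq_bot_iff_le_centralizer', commutator_eq_bot_iff_le_centralizer']
  constructor
  · intro h
    refine hY.red ⊤ le_rfl le_normalizer ?_
    rw [pResidualOf_top]
    exact hR.trans ((le_inf le_rfl h).trans h4)
  · intro h
    exact (le_inf le_rfl (le_top.trans h)).trans h3

end Cfsg.Agent.S2825
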