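import Cfsg.Statements.S2826
import Cfsg.Agent.Loc.PRed
-- import your own Cfsg.Agent.* helpers here

set_option autoImplicit false
open Cfsg

namespace Cfsg.Agent.S2826

open Cfsg CF.Loc Subgroup
open scoped commutatorElement


/-- Let H be a finite group of characteristic p, T a Sylow p-subgroup, and V a normal elementary abelian p-subgroup of H containing Ω₁(Z(T)). Then C_H(Ω₁(Z(T))) = C_H([V, O^p(H)] ∩ Ω₁(Z(T))), O^p(H) being generated by the elements of order prime to p. -/
theorem result {H : Type*} [Group H] [Finite H] {p : ℕ} [Fact p.Prime] (hH : Subgroup.centralizer (Cfsg.pCore p H : Set H) ≤ Cfsg.pCore p H) (T : Sylow p H) (V : Subgroup H) [V.Normal] (hV : Cfsg.IsElementaryAbelian p V) (hZV : (Cfsg.omegaOne p ((T : Subgroup H) ⊓ Subgroup.centralizer (((T : Subgroup H) : Subgroup H) : Set H))) ≤ V) : Subgroup.centralizer ((Cfsg.omegaOne p ((T : Subgroup H) ⊓ Subgroup.centralizer (((T : Subgroup H) : Subgroup H) : Set H))) : Set H) = Subgroup.centralizer (((⁅V, Cfsg.pResidual p H⁆ ⊓ (Cfsg.omegaOne p ((T : Subgroup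 H) ⊓ Subgroup.centralizer (((T : Subgroup H) : Subgroup H) : Set H)))) : Subgroup H) : Set H) := by
  rw [omegaOneCenter_def] at hZV ⊢
  have hT := isSyl_top T
  have h1 := hT.centralizer_eq_sup (isElemAb_isPGroup hV) (isElemAb_le_centralizer hV)
    (le_normalizer_of_normal' _ _)
  have hVT : V ≤ T := hT.le_of_le_normalizer (isElemAb_isPGroup hV) le_top
    (le_normalizer_of_normal' _ _)
  have h2 : V ⊓ 𝐂((T : Subgroup H)) = omegaOneCenter p (T : Subgroup H) :=
    le_antisymm (le_omegaOneCenter (isElemAb_of_le hV inf_le_left) (inf_le_left.trans hVT)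
      inf_le_right) (le_inf hZV (omegaOneCenter_le_centralizer p _))
  refine le_antisymm (centralizer_anti inf_le_right) ?_
  rw [h2, pResidualOf_top] at h1
  conv_rhs => rw [← h1, centralizer_sup]
  refine le_inf (centralizer_anti (le_inf (inf_le_right.trans (commutator_mono hZV le_rfl))
    inf_le_left)) (le_centralizer_iff.1 (inf_le_right.trans (centralizer_anti le_top)))

end Cfsg.Agent.S2826
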