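import Cfsg.Statements.S2830
import Cfsg.Agent.Loc.PMin
-- import your own Cfsg.Agent.* helpers here

set_option autoImplicit false
open Cfsg

namespace Cfsg.Agent.S2830

open Cfsg CF.Loc Subgroup
open scoped commutatorElement


/-- Let H act by conjugation on the elementary abelian p-subgroup V of a finite group G (H ≤ N(V)), with H p-irreducible and O^p(H) not centralizing V. Then C_H(V) is p-closed and C_T(V) ≤ O_p(H) for every p-subgroup T of H. If in addition O_p(H) centralizes V, then C_T(V) = T ∩ O_p(H) for every p-subgroup T of H, and V is p-reduced for H: O_p(H/C_H(V)) = 1. -/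
theorem result {G : Type*} [Group G] [Finite G] {p : ℕ} [Fact p.Prime] (V H : Subgroup G) (hV : Cfsg.IsElementaryAbelian p V) (hHV : H ≤ Subgroup.normalizer (V : Set G)) (hH : Cfsg.IsPIrreducible p ↥H) (hnc : ¬ (Cfsg.pResidual p ↥H).map H.subtype ≤ Subgroup.centralizer (V : Set G)) [hn : ((Subgroup.centralizer (V : Set G)).subgroupOf H).Normal] : Cfsg.IsPClosed p ↥(H ⊓ Subgroup.centralizer (V : Set G)) ∧ (∀ T : Subgroup G, T ≤ H → IsPGroup p ↥T → T ⊓ Subgroup.centralizer (V : Set G) ≤ Cfsg.pCoreOf p H) ∧ (Cfsg.pCoreOf p H ≤ Subgroup.centralizer (V : Set G) → (∀ T : Subgroup G, T ≤ H → IsPGroup p ↥T → T ⊓ Subgroup.centralizer (V : Set G) = T ⊓ Cfsg.pCoreOf p H) ∧ Cfsg.pCore p (↥H ⧸ (Subgroup.centralizer (V : Set G)).subgroupOf H) = ⊥) := by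
  rw [pResidualOf_def] at hnc
  have h := pIrr_iff.2 hH
  have hn' : H ≤ 𝐍(H ⊓ 𝐂(V)) := le_normalizer_inf le_normalizer (le_normalizer_centralizer hHV)
  have h1 : PClosed p (H ⊓ 𝐂(V)) :=
    h.pClosed_of_not_le inf_le_left hn' fun c => hnc (c.trans inf_le_right)
  have h2 : ∀ T : Subgroup G, T ≤ H → IsPGroup p T → T ⊓ 𝐂(V) ≤ pCoreOf p H := fun T a b =>
    h1.le_pCoreOf_of_sn (Sn.of_normal inf_le_left hn') (b.to_le inf_le_left) (inf_le_inf_right _ a)
  exact ⟨pClosed_iff.1 h1, h2, fun c => ⟨fun T a b =>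
    le_antisymm (le_inf inf_le_left (h2 T a b)) (inf_le_inf_left _ c),
    redMod_iff.1 (h.redMod c hnc)⟩⟩

end Cfsg.Agent.S2830
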