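import Cfsg.Statements.S2832
import Cfsg.Agent.Loc.PMin
-- import your own Cfsg.Agent.* helpers here

set_option autoImplicit false
open Cfsg

namespace Cfsg.Agent.S2832

open Cfsg CF.Loc Subgroup
open scoped commutatorElement


/-- Let H be a finite group with Sylow p-subgroup T such that H is T-minimal (generated by the conjugates of T, with T in exactly one maximal subgroup), and let N be a normal subgroup of H. Then either H/N is a p-group or H/N is minimal over the image of T in the same sense. -/
theorem result {H : Type*} [Group H] [Finite H] {p : ℕ} [Fact p.Prime] (T : Sylow p H) (hmin : Cfsg.IsMinimalOver (T : Subgroup H)) (N : Subgroup H) [N.Normal] : IsPGroup p (H ⧸ N) ∨ Cfsg.IsMinimalOver ((T : Subgroup H).map (QuotientGroup.mk' N)) := by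
  obtain ⟨h1, M, h2⟩ := isMinimalOver_iff.1 hmin
  have e := map_top_of_surjective _ (QuotientGroup.mk'_surjective N)
  rcases h2.le_or_le T.isPGroup' le_top (le_normalizer_of_normal' _ N) with h | h
  · left
    have : IsPGroup p (⊤ : Subgroup (H ⧸ N)) := by
      apply isPGroup_of_pResidualOf_eq_bot
      rwa [← e, ← map_pResidualOf, Subgroup.map_eq_bot_iff, QuotientGroup.ker_mk']
    exact this.of_equiv topEquiv
  · right
    rw [isMinimalOver_iff, ← e, ← map_ncl, h1]
    exact ⟨rfl, _, h2.map _ (by rwa [QuotientGroup.ker_mk', top_inf_eq])⟩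

end Cfsg.Agent.S2832
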