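import Cfsg.Statements.S2833
import Cfsg.Agent.Loc.PMin
-- import your own Cfsg.Agent.* helpers here

set_option autoImplicit false
open Cfsg

namespace Cfsg.Agent.S2833

open Cfsg CF.Loc Subgroup
open scoped commutatorElement


/-- Let V be a subgroup of a finite group G normalized by the subgroup L, let X ≤ L and g ∈ L with [V, X, X] = 1 and L generated by X and gXg⁻¹. Put W = [V, L]. Then W = [V, X]·[V, gXg⁻¹], C_W(X) = [V, X], and C_W(L) = [V, X] ∩ [V, gXg⁻¹]. -/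
theorem result {G : Type*} [Group G] [Finite G] (V L : Subgroup G) (hLV : L ≤ Subgroup.normalizer (V : Set G)) (X : Subgroup G) (hX : X ≤ L) (g : G) (hg : g ∈ L) (hq : ⁅⁅V, X⁆, X⁆ = ⊥) (hgen : X ⊔ X.map (MulAut.conj g).toMonoidHom = L) (W : Subgroup G) (hW : W = ⁅V, L⁆) : ⁅V, X⁆ ⊔ ⁅V, X.map (MulAut.conj g).toMonoidHom⁆ = W ∧ W ⊓ Subgroup.centralizer (X : Set G) = ⁅V, X⁆ ∧ W ⊓ Subgroup.centralizer (L : Set G) = ⁅V, X⁆ ⊓ ⁅V, X.map (MulAut.conj g).toMonoidHom⁆ := by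
  have hXg : cj[g] X ≤ L := cj_le_of_mem hg hX
  have hV : cj[g] V = V := cj_eq_self (hLV hg)
  have e1 : cj[g] ⁅V, X⁆ = ⁅V, cj[g] X⁆ := by rw [cj_commutator, hV]
  have a1 : ⁅V, X⁆ ≤ V := commutator_le_left_of_le_normalizer (hX.trans hLV)
  have a2 : ⁅V, cj[g] X⁆ ≤ V := commutator_le_left_of_le_normalizer (hXg.trans hLV)
  have b1 : ⁅V, X⁆ ≤ 𝐂(X) := commutator_eq_bot_iff_le_centralizer.1 hq
  have b2 : ⁅V, cj[g] X⁆ ≤ 𝐂(cj[g] X) := by rw [← e1, ← cj_centralizer]; exact cj_mono g b1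
  have h1 : ⁅V, X⁆ ⊔ ⁅V, cj[g] X⁆ = W := by
    rw [hW]
    refine le_antisymm (sup_le (commutator_mono le_rfl hX) (commutator_mono le_rfl hXg)) ?_
    rw [← hgen]
    exact commutator_sup_right_le (le_normalizer_of_commutator_le (sup_le a1 a2) le_sup_left)
      (le_normalizer_of_commutator_le (sup_le a1 a2) le_sup_right) le_sup_left le_sup_right
  have c1 : ⁅V, cj[g] X⁆ ⊓ 𝐂(X) ≤ ⁅V, X⁆ := by
    rintro x ⟨hx, hx'⟩
    have hc : x ∈ 𝐂(L) := by rw [← hgen, centralizer_sup]; exact ⟨hx', b2 hx⟩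
    rw [← e1] at hx
    have := mem_cj.1 hx
    rwa [hc _ (L.inv_mem hg), inv_mul_cancel_right] at this
  have h2 : W ⊓ 𝐂(X) = ⁅V, X⁆ := by
    rw [← h1, sup_inf_of_le_normalizer_left (a2.trans (normalizer_commutator_ge_left V X)) b1,
      sup_eq_left.2 c1]
  refine ⟨h1, h2, ?_⟩
  have h3 : W ⊓ 𝐂(cj[g] X) = ⁅V, cj[g] X⁆ := by
    rw [← e1, ← h2, cj_inf, cj_centralizer, hW,
      cj_eq_self (normalizer_commutator_ge_right V L hg)]
  rw [← h2, ← h3, ← hgen, centralizer_sup, inf_inf_distrib_left]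

end Cfsg.Agent.S2833
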