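import Cfsg.Statements.S2835
import Cfsg.Agent.Loc.PMin
-- import your own Cfsg.Agent.* helpers here

set_option autoImplicit false
open Cfsg

namespace Cfsg.Agent.S2835

open Cfsg CF.Loc Subgroup
open scoped commutatorElement


/-- Let L be a finite group, L₀ a maximal subgroup, T a Sylow p-subgroup of L₀ and Y ≤ T, and suppose L is Y-minimal (generated by the conjugates of Y, with Y in exactly one maximal subgroup, necessarily L₀). Then N_L(T) ≤ L₀, O_p(L) ≤ L₀ and T is a Sylow p-subgroup of L; N_L(L₀) = L₀; L = ⟨Y, gYg⁻¹⟩ for each g ∈ L outside L₀; and if Y is abelian then Y ∩ gYg⁻¹ = C_Y(L) for each such g. -/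
theorem result {L : Type*} [Group L] [Finite L] {p : ℕ} [Fact p.Prime] (L₀ : Subgroup L) (hL₀ : IsCoatom L₀) (T : Sylow p ↥L₀) (Y : Subgroup L) (hYT : Y ≤ (T : Subgroup ↥L₀).map L₀.subtype) (hmin : Cfsg.IsMinimalOver Y) : Subgroup.normalizer (((T : Subgroup ↥L₀).map L₀.subtype : Subgroup L) : Set L) ≤ L₀ ∧ Cfsg.pCore p L ≤ L₀ ∧ (∃ P : Sylow p L, (P : Subgroup L) = (T : Subgroup ↥L₀).map L₀.subtype) ∧ Subgroup.normalizer (L₀ : Set L) = L₀ ∧ (∀ g : L, g ∉ L₀ → Y ⊔ Y.map (MulAut.conj g).toMonoidHom = ⊤) ∧ (IsMulCommutative ↥Y → ∀ g : L, g ∉ L₀ → Y ⊓ Y.map (MulAut.conj g).toMonoidHom = Y ⊓ Subgroup.center L) := by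
  obtain ⟨h1, M, h2⟩ := isMinimalOver_iff.1 hmin
  have hT := isSyl_map T
  have e : L₀ = M := (hL₀.le_iff_eq h2.lt.ne).1 (h2.le_of_lt (hYT.trans hT.le) hL₀.lt_top) |>.symm
  subst e
  have h3 := h2.isSyl h1 hT hYT
  refine ⟨?_, ?_, h3.exists_sylow_top, le_antisymm ?_ le_normalizer,
    fun g hg => h2.sup_cj h1 (mem_top g) hg, fun hY g hg => le_antisymm (le_inf inf_le_left ?_) ?_⟩
  · simpa using h2.inf_normalizer_le h1 hYT hT.le
  · rw [← pCoreOf_top]; exact h3.pCoreOf_le.trans hT.le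
  · simpa using h2.inf_normalizer_le h1 h2.le le_rfl
  · rw [← CF.Loc.centralizer_top, ← h2.sup_cj h1 (mem_top g) hg, centralizer_sup]
    have := CF.Loc.isMulCommutative_iff.1 hY
    exact inf_le_inf this (by rw [← cj_centralizer]; exact cj_mono g this)
  · refine le_inf inf_le_left fun x hx => ?_
    rw [mem_cj, (mem_center_iff.1 hx.2) g⁻¹, inv_mul_cancel_right]
    exact hx.1

end Cfsg.Agent.S2835
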