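import Cfsg.Statements.S2836
import Cfsg.Agent.Loc.PMin2
-- import your own Cfsg.Agent.* helpers here

set_option autoImplicit false
open Cfsg

namespace Cfsg.Agent.S2836

open Cfsg CF.Loc Subgroup
open scoped commutatorElement


/-- Let L be a finite group, L₀ a maximal subgroup, T a Sylow p-subgroup of L₀, Y ≤ T, and suppose L is Y-minimal. Let D be the intersection of the conjugates of L₀ (the core of L₀). Then D contains O_p(L) and D/O_p(L) is the Frattini subgroup of L/O_p(L), so D is p-closed; and every normal subgroup N of L contained in L₀ is p-closed with N/O_p(N) a nilpotent group of order prime to p. -/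
theorem result {L : Type*} [Group L] [Finite L] {p : ℕ} [Fact p.Prime] (L₀ : Subgroup L) (hL₀ : IsCoatom L₀) (T : Sylow p ↥L₀) (Y : Subgroup L) (hYT : Y ≤ (T : Subgroup ↥L₀).map L₀.subtype) (hmin : Cfsg.IsMinimalOver Y) : (Cfsg.pCore p L ≤ L₀.normalCore ∧ (L₀.normalCore).map (QuotientGroup.mk' (Cfsg.pCore p L)) = frattini (L ⧸ Cfsg.pCore p L) ∧ Cfsg.IsPClosed p ↥(L₀.normalCore)) ∧ ∀ (N : Subgroup L) [N.Normal], N ≤ L₀ → Cfsg.IsPClosed p ↥N ∧ Group.IsNilpotent (↥N ⧸ Cfsg.pCore p ↥N) ∧ (Nat.card (↥N ⧸ Cfsg.pCore p ↥N)).Coprime p := by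
  obtain ⟨h1, M', h2⟩ := isMinimalOver_iff.1 hmin
  have hY : IsPGroup p Y := (isSyl_map T).isPGroup.to_le hYT
  have e : L₀ = M' := hL₀.le_iff.1 (h2.le_of_lt (hYT.trans (map_subtype_le _)) hL₀.lt_top)
    |>.resolve_left h2.lt.ne |>.symm
  subst e
  have hO : pCore p L ≤ L₀ := pCoreOf_top p L ▸ h2.pCoreOf_le h1 hY
  refine ⟨⟨normal_le_normalCore.2 hO, le_antisymm (h2.map_le_frattini hY (normalCore_le _)) ?_,
    pClosed_iff.1 (h2.pClosed_of_normal hY (normalCore_le _) (le_normalizer_of_normal' _ _))⟩,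
    fun N _ hN => ?_⟩
  · rw [← map_comap_eq_self_of_surjective (QuotientGroup.mk'_surjective (pCore p L))
      (frattini (L ⧸ pCore p L))]
    refine map_mono (normal_le_normalCore.2 ?_)
    have h3 := frattini_le_coatom (CF.Solv.isCoatom_map_of_ker_le
      (QuotientGroup.mk'_surjective (pCore p L)) hL₀ ((QuotientGroup.ker_mk' _).le.trans hO))
    refine (comap_mono h3).trans ?_
    rw [comap_map_eq, QuotientGroup.ker_mk', sup_eq_left.2 hO]
  · have hc := h2.pClosed_of_normal hY hN (le_normalizer_of_normal' _ _)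
    refine ⟨pClosed_iff.1 hc, ?_, ?_⟩
    · haveI := frattini_nilpotent (G := L ⧸ pCore p L)
      haveI := isNilpotent_of_le (h2.map_le_frattini hY hN)
      have hk : ((QuotientGroup.mk' (pCore p L)).subgroupMap N).ker = pCore p N := by
        ext x
        rw [mem_pCore_iff, pCoreOf_eq_inf_of_normal le_top (le_normalizer_of_normal' _ _),
          pCoreOf_top, MonoidHom.mem_ker, Subtype.ext_iff]
        simp
      exact nilpotent_of_mulEquiv ((QuotientGroup.quotientKerEquivOfSurjective _
        (MonoidHom.subgroupMap_surjective _ N)).symm.trans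
        (QuotientGroup.quotientMulEquivOfEq hk))
    · have := IsSyl.not_dvd_relIndex hc
      rw [relIndex, pCoreOf_subgroupOf, index] at this
      exact ((Nat.Prime.coprime_iff_not_dvd Fact.out).2 this).symm

end Cfsg.Agent.S2836
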