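import Cfsg.Statements.S2837
import Cfsg.Agent.Loc.PMin2
import Cfsg.Agent.Coprime.PGroup
-- import your own Cfsg.Agent.* helpers here

set_option autoImplicit false
open Cfsg

namespace Cfsg.Agent.S2837

open Cfsg CF.Loc Subgroup
open scoped commutatorElement


/-- Let L be a finite group of characteristic p, L₀ a maximal subgroup, Y an elementary abelian p-subgroup of L₀ with L Y-minimal and O_p(L) ≤ N_L(Y). Put A = the normal closure of O_p(L) ∩ Y in L. Then for every g ∈ L outside L₀: Φ(A) = A' = [A ∩ Y, A] = [A ∩ Y, A ∩ gYg⁻¹] ≤ C_Y(L), and Y ∩ gYg⁻¹ = (A ∩ Y) ∩ (A ∩ gYg⁻¹) = C_Y(L) = C_A(L). -/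
theorem result {L : Type*} [Group L] [Finite L] {p : ℕ} [Fact p.Prime] (hchar : Subgroup.centralizer (Cfsg.pCore p L : Set L) ≤ Cfsg.pCore p L) (L₀ : Subgroup L) (hL₀ : IsCoatom L₀) (Y : Subgroup L) (hYL₀ : Y ≤ L₀) (hYel : Cfsg.IsElementaryAbelian p Y) (hmin : Cfsg.IsMinimalOver Y) (hOY : Cfsg.pCore p L ≤ Subgroup.normalizer (Y : Set L)) (A : Subgroup L) (hA : A = Subgroup.normalClosure (((Cfsg.pCore p L ⊓ Y : Subgroup L)) : Set L)) (g : L) (hg : g ∉ L₀) : (frattini ↥A).map A.subtype = ⁅A, A⁆ ∧ ⁅A, A⁆ = ⁅A ⊓ Y, A⁆ ∧ ⁅A ⊓ Y, A⁆ = ⁅A ⊓ Y, A ⊓ Y.map (MulAut.conj g).toMonoidHom⁆ ∧ ⁅A ⊓ Y, A⁆ ≤ Y ⊓ Subgroup.center L ∧ Y ⊓ Y.map (MulAut.conj g).toMonoidHom = Y ⊓ Subgroup.center L ∧ (A ⊓ Y) ⊓ (A ⊓ Y.map (MulAut.conj g).toMonoidHom) = Y ⊓ Subgroup.center L ∧ A ⊓ Subgroup.center L = Y ⊓ Subgroup.center L := by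
  obtain ⟨h1, M', h2⟩ := isMinimalOver_iff.1 hmin
  have e : L₀ = M' := hL₀.le_iff.1 (h2.le_of_lt hYL₀ hL₀.lt_top)
    |>.resolve_left h2.lt.ne |>.symm
  subst e
  have hgen := h2.sup_cj h1 (mem_top g) hg
  set O := pCore p L with hO
  set B := O ⊓ Y with hB
  have y1 : Y ≤ 𝐂(Y) := isElemAb_le_centralizer hYel
  have y2 : cj[g] Y ≤ 𝐂(cj[g] Y) := isElemAb_le_centralizer (isElemAb_cj g hYel)
  have eB : cj[g] B = O ⊓ cj[g] Y := by rw [hB, cj_inf, cj_normal]
  have o2 : O ≤ 𝐍(cj[g] Y) := by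
    rw [← cj_normalizer, le_cj_iff, cj_normal]; exact hOY
  have z : Y ⊓ cj[g] Y = Y ⊓ center L := by
    refine le_antisymm (le_inf inf_le_left ?_) (le_inf inf_le_left fun x hx => ?_)
    · rw [← CF.Loc.centralizer_top, ← hgen, centralizer_sup]
      exact inf_le_inf y1 y2
    · rw [mem_cj, mem_center_iff.1 hx.2 g⁻¹, inv_mul_cancel_right]; exact hx.1
  have c1 : ⁅cj[g] B, Y⁆ ≤ B := by
    rw [eB]
    exact (commutator_mono inf_le_left le_rfl).trans
      (commutator_le_inf_of_normalize (le_normalizer_of_normal' _ _) hOY)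
  have c2 : ⁅B, cj[g] Y⁆ ≤ cj[g] B := by
    rw [eB]
    exact (commutator_mono inf_le_left le_rfl).trans
      (commutator_le_inf_of_normalize (le_normalizer_of_normal' _ _) o2)
  have b1 : ⁅B, Y⁆ = ⊥ := commutator_eq_bot_iff_le_centralizer.2 (inf_le_right.trans y1)
  have b2 : ⁅cj[g] B, cj[g] Y⁆ = ⊥ := by rw [← cj_commutator, b1, cj_bot]
  have n0 : B ⊔ cj[g] B ≤ 𝐍(B ⊔ cj[g] B) := le_normalizer
  have eA : A = B ⊔ cj[g] B := by
    rw [hA, ← ncl_top]
    refine le_antisymm (ncl_le le_sup_left ?_) (sup_le (le_ncl _ _) (cj_le_ncl (mem_top g)))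
    rw [← hgen]
    exact sup_le (le_normalizer_of_commutator_le le_rfl (commutator_sup_left_le
        (le_sup_left.trans n0) (le_sup_right.trans n0) (b1 ▸ bot_le) (le_sup_of_le_left c1)))
      (le_normalizer_of_commutator_le le_rfl (commutator_sup_left_le
        (le_sup_left.trans n0) (le_sup_right.trans n0) (le_sup_of_le_right c2) (b2 ▸ bot_le)))
  have aO : A ≤ O := eA ▸ sup_le inf_le_left (eB ▸ inf_le_left)
  have e1 : A ⊓ Y = B := le_antisymm (inf_le_inf aO le_rfl)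
    (le_inf (eA ▸ le_sup_left) inf_le_right)
  have e2 : A ⊓ cj[g] Y = cj[g] B := le_antisymm (eB ▸ inf_le_inf aO le_rfl)
    (le_inf (eA ▸ le_sup_right) (cj_mono g inf_le_right))
  have d1 : ⁅B, cj[g] B⁆ ≤ Y ⊓ center L := by
    rw [← z]
    refine le_inf ?_ (((commutator_mono le_rfl (cj_mono g inf_le_right)).trans c2).trans
      (cj_mono g inf_le_right))
    rw [commutator_comm]
    exact ((commutator_mono le_rfl inf_le_right).trans c1).trans inf_le_right
  have nn : ∀ X : Subgroup L, X ≤ 𝐍(⁅B, cj[g] B⁆) := fun X =>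
    le_trans (le_centralizer_comm.1 ((d1.trans inf_le_right).trans (center_le_centralizer _)))
      (centralizer_le_normalizer _)
  have d2 : ⁅B, A⁆ ≤ ⁅B, cj[g] B⁆ := by
    rw [eA]
    exact commutator_sup_right_le (nn _) (nn _)
      ((commutator_mono le_rfl inf_le_right).trans (b1 ▸ bot_le)) le_rfl
  have d3 : ⁅cj[g] B, A⁆ ≤ ⁅B, cj[g] B⁆ := by
    rw [eA]
    exact commutator_sup_right_le (nn _) (nn _) (commutator_comm _ _).le
      ((commutator_mono le_rfl (cj_mono g inf_le_right)).trans (b2 ▸ bot_le))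
  have d4 : ⁅A, A⁆ ≤ ⁅B, cj[g] B⁆ := by
    nth_rw 1 [eA]
    exact commutator_sup_left_le (nn _) (nn _) d2 d3
  have d5 : ⁅B, cj[g] B⁆ ≤ ⁅B, A⁆ := commutator_mono le_rfl (eA ▸ le_sup_right)
  have d6 : ⁅B, A⁆ ≤ ⁅A, A⁆ := commutator_mono (eA ▸ le_sup_left) le_rfl
  have zO : Y ⊓ center L ≤ O := by
    rw [hO, ← pCoreOf_top]
    exact CF.Loc.le_pCoreOf ((isElemAb_isPGroup hYel).to_le inf_le_left) le_top
      (le_trans (le_centralizer_comm.1 (inf_le_right.trans (center_le_centralizer _)))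
        (centralizer_le_normalizer _))
  have zA : Y ⊓ center L ≤ A := (le_inf zO inf_le_left).trans (eA ▸ le_sup_left)
  have nB : cj[g] B ≤ 𝐍(B) := (eB ▸ inf_le_left : cj[g] B ≤ O).trans
    (le_normalizer_inf le_normalizer hOY)
  rw [e1, e2]
  refine ⟨le_antisymm (CF.Coprime.frattiniOf_le_of (p := p) le_rfl fun x hx => ?_)
    (CF.Coprime.commutator_le_frattiniOf ((isPGroup_pCore p L).to_le aO)),
    le_antisymm (d4.trans d5) d6, le_antisymm d2 d5, d2.trans d1, z, ?_, ?_⟩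
  · haveI : (⁅A, A⁆).Normal := normal_of_top_le_normalizer
      (le_antisymm d4 (d5.trans d6) ▸ nn ⊤)
    rw [← QuotientGroup.eq_one_iff, QuotientGroup.mk_pow]
    have k : IsElementaryAbelian p ((B ⊔ cj[g] B).map (QuotientGroup.mk' ⁅A, A⁆)) := by
      rw [Subgroup.map_sup]
      refine isElemAb_sup (isElemAb_map _ (isElemAb_of_le hYel inf_le_right))
        (isElemAb_map _ (isElemAb_cj g (isElemAb_of_le hYel inf_le_right))) ?_
      rw [← commutator_eq_bot_iff_le_centralizer, ← map_commutator, Subgroup.map_eq_bot_iff,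
        QuotientGroup.ker_mk']
      exact d5.trans d6
    exact (isElementaryAbelian_iff.1 k).2 _ (mem_map_of_mem _ (eA.le hx))
  · rw [← e2, ← e1, ← inf_inf_distrib_left, z]
    exact inf_eq_right.2 zA
  · refine le_antisymm (le_inf ?_ inf_le_right) (le_inf zA inf_le_right)
    rintro x ⟨hx, hx'⟩
    rw [eA] at hx
    obtain ⟨b, hb, b', hb', rfl⟩ := (mem_sup_of_le_normalizer nB).1 hx
    have m1 : b' ∈ 𝐂(Y) := by
      simpa using mul_mem (inv_mem (y1 hb.2)) (center_le_centralizer _ hx')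
    have m2 : b' ∈ center L := by
      rw [← CF.Loc.centralizer_top, ← hgen, centralizer_sup]
      exact ⟨m1, y2 (cj_mono g inf_le_right hb')⟩
    have m3 := cj_mono g inf_le_right hb'
    rw [mem_cj, mem_center_iff.1 m2 g⁻¹, inv_mul_cancel_right] at m3
    exact Y.mul_mem hb.2 m3

end Cfsg.Agent.S2837
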