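import Cfsg.Statements.S2838
import Cfsg.Agent.Loc.Weak
-- import your own Cfsg.Agent.* helpers here

set_option autoImplicit false
open Cfsg

namespace Cfsg.Agent.S2838

open Cfsg CF.Loc Subgroup
open scoped commutatorElement


/-- For a nontrivial p-subgroup Q of a finite group H the following are equivalent: Q is a weakly closed subgroup (it is the only H-conjugate of itself inside some Sylow p-subgroup containing it); Q = P for every conjugate P of Q with [Q, P] ≤ Q ∩ P; Q is normal in N_H(R) for every p-subgroup R of H containing Q. -/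
theorem result {H : Type*} [Group H] [Finite H] {p : ℕ} [Fact p.Prime] (Q : Subgroup H) (hQp : IsPGroup p ↥Q) (hQ1 : Q ≠ ⊥) : (Cfsg.IsWeaklyClosedSubgroup p Q ↔ ∀ g : H, ⁅Q, ((Q : Subgroup H).map (MulAut.conj (g : H)).toMonoidHom)⁆ ≤ Q ⊓ ((Q : Subgroup H).map (MulAut.conj (g : H)).toMonoidHom) → ((Q : Subgroup H).map (MulAut.conj (g : H)).toMonoidHom) = Q) ∧ (Cfsg.IsWeaklyClosedSubgroup p Q ↔ ∀ R : Subgroup H, IsPGroup p ↥R → Q ≤ R → Subgroup.normalizer ((R : Subgroup H) : Set H) ≤ Subgroup.normalizer ((Q : Subgroup H) : Set H)) := by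
  rw [← wC_top_iff]
  refine ⟨⟨fun h g hg => ?_, fun h => ?_⟩, fun h R hR hQR => ?_, fun h => ?_⟩
  · have hn : cj[g] Q ≤ 𝐍(Q) := le_normalizer_of_commutator_le le_rfl (hg.trans inf_le_left)
    exact cj_eq_self (h.mem_normalizer (isPGroup_sup hQp (isPGroup_cj g hQp) hn) le_sup_left
      (mem_top g) le_sup_right)
  · have key : ∀ a b : H, cj[a] Q ≤ 𝐍(cj[b] Q) → cj[b] Q ≤ 𝐍(cj[a] Q) → cj[a] Q = cj[b] Q := by
      intro a b h1 h2
      have e : cj[a] Q = cj[b] (cj[b⁻¹ * a] Q) := by rw [← cj_mul, mul_inv_cancel_left]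
      rw [e, ← cj_normalizer, cj_le_cj_iff] at h1 h2
      rw [e, h (b⁻¹ * a) (le_inf (commutator_le_left_of_le_normalizer h1)
        (commutator_le_right_of_le_normalizer h2))]
    obtain ⟨T, hT, hQT⟩ := exists_isSyl_ge hQp (le_top : Q ≤ ⊤)
    have k2 : ∀ a : H, cj[a] Q ≤ T → T ≤ 𝐍(cj[a] Q) := by
      intro a ha
      have : T ⊓ 𝐍(cj[a] Q) = T := by
        refine eq_of_inf_normalizer_le hT.isPGroup inf_le_left ?_
        rintro x ⟨hx, hx'⟩
        refine ⟨hx, cj_eq_self_iff.1 ?_⟩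
        have h0 : cj[a] Q ≤ T ⊓ 𝐍(cj[a] Q) := le_inf ha le_normalizer
        rw [← cj_mul]
        refine key _ _ ?_ ?_
        · rw [cj_mul]; exact (cj_le_of_mem_normalizer hx' h0).trans inf_le_right
        · rw [cj_mul, ← cj_normalizer]
          refine h0.trans ?_
          conv_lhs => rw [← cj_eq_self hx']
          exact cj_mono x inf_le_right
      exact inf_eq_left.1 this
    refine wC_of_syl hT hQT fun g _ e => cj_eq_self_iff.1 ?_
    have := key g 1 (e.trans (k2 1 (by rwa [cj_one]))) (by rw [cj_one]; exact hQT.trans (k2 g e))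
    rwa [cj_one] at this
  · simpa using h.normalizer_le hR hQR
  · exact wC_of_normalizer_le le_top hQp fun T hT hQT => inf_le_right.trans (h T hT.isPGroup hQT)

end Cfsg.Agent.S2838
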