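import Cfsg.Statements.S2840
import Cfsg.Agent.Loc.Weak
-- import your own Cfsg.Agent.* helpers here

set_option autoImplicit false
open Cfsg

namespace Cfsg.Agent.S2840

open Cfsg CF.Loc Subgroup
open scoped commutatorElement


/-- Let Q be a nontrivial p-subgroup of the finite group H that is a weakly closed subgroup and K a subgroup containing Q; let K° be the weak closure of Q in K (generated by the H-conjugates of Q inside K). Then K° is generated by the K-conjugates of Q, and K° is the subnormal closure of Q in K. -/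
theorem result {H : Type*} [Group H] [Finite H] {p : ℕ} [Fact p.Prime] (Q : Subgroup H) (hQp : IsPGroup p ↥Q) (hQ1 : Q ≠ ⊥) (hwc : Cfsg.IsWeaklyClosedSubgroup p Q) (K : Subgroup H) (hQK : Q ≤ K) (Kc : Subgroup H) (hKc : Kc = Cfsg.weakClosure Q K) : Kc = ⨆ k : ↥K, ((Q : Subgroup H).map (MulAut.conj ((k : H) : H)).toMonoidHom) ∧ Kc = (Cfsg.subnormalClosure (Q.subgroupOf K)).map K.subtype := by
  have h := wC_top_iff.2 hwc
  have e : Kc = ncl Q K := hKc.trans (h.weakClosure_eq hQK)
  refine ⟨e, e.trans (le_antisymm ?_ ?_)⟩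
  · rw [← map_subgroupOf_eq_of_le (ncl_le_of_le hQK)]
    refine map_mono (le_sInf ?_)
    rintro X ⟨h1, h2⟩
    have h3 : Sn (X.map K.subtype) K := by
      have := (sn_top_iff.2 h2).map K.subtype
      rwa [top_map_subtype] at this
    have h4 : Q ≤ X.map K.subtype := by
      rw [← map_subgroupOf_eq_of_le hQK]; exact map_mono h1
    rw [(h.mono hQK le_top).ncl_eq_of_sn h3 h4]
    intro x hx
    obtain ⟨y, hy, e⟩ := ncl_le_of_le h4 hx
    rwa [← Subtype.ext e]
  · rw [← map_subgroupOf_eq_of_le (ncl_le_of_le hQK)]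
    refine map_mono (sInf_le ⟨subgroupOf_mono K (le_ncl Q K), ?_⟩)
    exact (normal_subgroupOf_of_le_normalizer' (le_normalizer_ncl Q K)).isSubnormal

end Cfsg.Agent.S2840
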