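import Cfsg.Statements.S2841
import Cfsg.Agent.Loc.Weak
-- import your own Cfsg.Agent.* helpers here

set_option autoImplicit false
open Cfsg

namespace Cfsg.Agent.S2841

open Cfsg CF.Loc Subgroup
open scoped commutatorElement


/-- Let Q be a nontrivial p-subgroup of the finite group H that is a weakly closed subgroup and N a normal subgroup of H. Then N = N_N(Q)·[N, Q] and [N, Q] = (Q ∩ [N, Q])·[N, Q, Q]. -/
theorem result {H : Type*} [Group H] [Finite H] {p : ℕ} [Fact p.Prime] (Q : Subgroup H) (hQp : IsPGroup p ↥Q) (hQ1 : Q ≠ ⊥) (hwc : Cfsg.IsWeaklyClosedSubgroup p Q) (N' : Subgroup H) [N'.Normal] : (∀ n : H, n ∈ N' → ∃ a ∈ N' ⊓ Subgroup.normalizer ((Q : Subgroup H) : Set H), ∃ b ∈ ⁅N', Q⁆, n = a * b) ∧ (∀ c : H, c ∈ ⁅N', Q⁆ → ∃ a ∈ Q ⊓ ⁅N', Q⁆, ∃ b ∈ ⁅⁅N', Q⁆, Q⁆, c = a * b) := by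
  have h := wC_top_iff.2 hwc
  have hn : Q ≤ 𝐍(N') := le_normalizer_of_normal' Q N'
  refine ⟨fun n hn' => ?_, fun c hc => ?_⟩
  · obtain ⟨b, hb, a, ha, e⟩ := h.exists_mul le_top hn (N'.inv_mem hn')
    exact ⟨a⁻¹, inv_mem ha, b⁻¹, inv_mem hb, by rw [← mul_inv_rev, ← e, inv_inv]⟩
  · have h1 := commutator_le_ncl Q N' hc
    rw [h.ncl_eq le_top hn, ncl_eq_commutator_sup, sup_comm,
      mem_sup_of_le_normalizer' (normalizer_commutator_ge_right _ Q)] at h1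
    obtain ⟨a, ha, b, hb, rfl⟩ := h1
    have hb' : b ∈ ⁅N', Q⁆ :=
      commutator_le_left_of_le_normalizer (normalizer_commutator_ge_right _ Q) hb
    exact ⟨a, ⟨ha, by simpa using mul_mem hc (inv_mem hb')⟩, b, hb, rfl⟩

end Cfsg.Agent.S2841
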