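import Cfsg.Statements.S2845
import Cfsg.Agent.Loc.Weak
-- import your own Cfsg.Agent.* helpers here

set_option autoImplicit false
open Cfsg

namespace Cfsg.Agent.S2845

open Cfsg CF.Loc Subgroup
open scoped commutatorElement


/-- Let Q be a nontrivial large p-subgroup of the finite group H. Then for every subgroup L ≥ Q with O_p(L) ≠ 1, C_H(O_p(L)) is a p-group and L has characteristic p, and either the weak closure L° of Q in L equals Q or C_H(L°) = 1; for every subgroup R of H containing a Sylow p-subgroup of H with O_p(R) ≠ 1, C_H(O_p(R)) ≤ O_p(R); and H has parabolic characteristic p. -/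
theorem result {H : Type*} [Group H] [Finite H] {p : ℕ} [Fact p.Prime] (Q : Subgroup H) (hQp : IsPGroup p ↥Q) (hQ1 : Q ≠ ⊥) (hL : Cfsg.IsLarge Q) : (∀ L : Subgroup H, Q ≤ L → Cfsg.pCore p ↥L ≠ ⊥ → IsPGroup p ↥(Subgroup.centralizer (((Cfsg.pCoreOf p L) : Subgroup H) : Set H)) ∧ Subgroup.centralizer (Cfsg.pCore p ↥L : Set ↥L) ≤ Cfsg.pCore p ↥L ∧ (Cfsg.weakClosure Q L = Q ∨ Subgroup.centralizer (((Cfsg.weakClosure Q L) : Subgroup H) : Set H) = ⊥)) ∧ (∀ R : Subgroup H, Cfsg.IsParabolic p R → Cfsg.pCore p ↥R ≠ ⊥ → Subgroup.centralizer (((Cfsg.pCoreOf p R) : Subgroup H) : Set H) ≤ (Cfsg.pCoreOf p R)) ∧ Cfsg.IsOfParabolicCharacteristic p H := by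
  have h := large_wC hL hQp hQ1
  have k : ∀ R : Subgroup H, IsParabolic p R → pCoreOf p R ≠ ⊥ → 𝐂(pCoreOf p R) ≤ pCoreOf p R := by
    rintro R ⟨T, hT⟩ h2
    exact large_centralizer_le_of_syl hL hQp hQ1 (isSyl_top T) hT h2
  refine ⟨fun L hQL h2 => ?_, fun R h1 h2 => k R h1 (mt pCoreOf_eq_bot_iff.1 h2), fun R h1 h2 h3 => ?_⟩
  · obtain ⟨-, a, b⟩ := large_centralizer_pCoreOf hL hQp hQ1 hQL (mt pCoreOf_eq_bot_iff.1 h2)
    refine ⟨a, isCharP_iff.1 b, ?_⟩
    rw [h.weakClosure_eq hQL]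
    by_cases hn : L ≤ 𝐍(Q)
    · exact Or.inl (ncl_eq_self hn)
    · obtain ⟨g, hg, hg'⟩ := SetLike.not_le_iff_exists.1 hn
      refine Or.inr (le_bot_iff.1 ?_)
      rw [← large_inf_eq_bot hL hQp hQ1 hg']
      exact le_inf (centralizer_anti (le_ncl Q L)) (centralizer_anti (cj_le_ncl hg))
  · rw [← isCharP_iff]
    refine inf_le_right.trans (k _ h3 fun e => h2 (le_bot_iff.1 ?_))
    exact e ▸ CF.Loc.le_pCoreOf h1 le_normalizer le_rfl

end Cfsg.Agent.S2845
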