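import Cfsg.Statements.S2846
import Cfsg.Agent.Loc.FrakM2
-- import your own Cfsg.Agent.* helpers here

set_option autoImplicit false
open Cfsg

namespace Cfsg.Agent.S2846

open Cfsg CF.Loc Subgroup
open scoped commutatorElement


/-- Let Q be a nontrivial large p-subgroup of the finite group H, S a Sylow p-subgroup containing Q, and L a subgroup containing S with O_p(L) ≠ 1 and C_H(O_p(L)) ≤ O_p(L). Then there are a subgroup M containing S having the basic property (M ∈ 𝔐_H, writing Y_X for the largest p-reduced normal subgroup of X and 𝓛_H for the set of subgroups X with O_p(X) ≠ 1 and C_H(O_p(X)) ≤ O_p(X): M ∈ 𝓛_H, M·C_H(Y_M) is the only maximal member of 𝓛_H containing M and its largest p-reduced normal subgroup is again Y_M, C_M(Y_M) is p-closed, and the image of C_M(Y_M) in M/O_p(M) lies in the Frattini subgroup of M/O_p(M)) and a subgroup L* with S ≤ L* ≤ M, O_p(L*) ≠ 1, C_H(O_p(L*)) ≤ O_p(L*), such that L·C_H(Y_L) = L*·C_H(Y_L),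 the weak closures of Q in L and in L* agree and lie in that of M, and Y_L = Y_{L*} ≤ Y_M. If moreover Q is not normal in L, then Q is normal in neither L* nor M. -/
theorem result {H : Type*} [Group H] [Finite H] {p : ℕ} [Fact p.Prime] (Q : Subgroup H) (hQp : IsPGroup p ↥Q) (hQ1 : Q ≠ ⊥) (hLg : Cfsg.IsLarge Q) (S : Sylow p H) (hQS : Q ≤ (S : Subgroup H)) (L : Subgroup H) (hSL : (S : Subgroup H) ≤ L) (hL : L ∈ Cfsg.charPSubgroups p H) : ∃ M Ls : Subgroup H, (S : Subgroup H) ≤ M ∧ Cfsg.IsInFrakM p M ∧ (S : Subgroup H) ≤ Ls ∧ Ls ≤ M ∧ Ls ∈ Cfsg.charPSubgroups p H ∧ L ⊔ Subgroup.centralizer (((Cfsg.largestPReducedOf p L) : Subgroup H) : Set H) = Ls ⊔ Subgroup.centralizer (((Cfsg.largestPReducedOf p L) : Subgroup H) : Set H) ∧ Cfsg.weakClosure Q L = Cfsg.weakClosure Q Ls ∧ Cfsg.weakClosure Q Ls ≤ Cfsg.weakClosure Q M ∧ (Cfsg.largestPReducedOf p L) = (Cfsg.largestPReducedOf p Ls) ∧ (Cfsg.largestPReducedOf p Ls) ≤ (Cfsg.largestPReducedOf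 p M) ∧ (¬ L ≤ Subgroup.normalizer ((Q : Subgroup H) : Set H) → ¬ Ls ≤ Subgroup.normalizer ((Q : Subgroup H) : Set H) ∧ ¬ M ≤ Subgroup.normalizer ((Q : Subgroup H) : Set H)) := by
  obtain ⟨M, K, hM, k1, k2, k3, k4, k5, k6⟩ := exists_fM' (parChar_of_large hLg hQp hQ1)
    (isSyl_top S) hSL (mem_charPSubgroups.1 hL).1
  have h0 := Y_ne_bot_of_mem hL
  have e : weakClosure Q L = weakClosure Q K := by
    rw [← large_weakClosure_sup hLg hQp hQ1 (hQS.trans hSL) (isPGroup_Y L) h0 (le_normalizer_Y L),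
      k6, large_weakClosure_sup hLg hQp hQ1 (hQS.trans k1) (isPGroup_Y L) h0
        (k4 ▸ le_normalizer_Y K)]
  have k7 : ¬ L ≤ 𝐍(Q) → ¬ K ≤ 𝐍(Q) := fun h1 h2 => h1 <| by
    have := le_normalizer_weakClosure Q L
    rwa [e, (large_wC hLg hQp hQ1).weakClosure_eq (hQS.trans k1), ncl_eq_self h2] at this
  exact ⟨M, K, hM.le, hM.mem, k1, k2, k3, k6, e, weakClosure_mono Q k2, k4, k4 ▸ k5,
    fun h => ⟨k7 h, fun h' => k7 h (k2.trans h')⟩⟩

end Cfsg.Agent.S2846
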