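import Cfsg.Statements.S2850
import Cfsg.Agent.Loc.FrakM
-- import your own Cfsg.Agent.* helpers here

set_option autoImplicit false
open Cfsg

namespace Cfsg.Agent.S2850

open Cfsg CF.Loc Subgroup
open scoped commutatorElement


/-- Standing hypotheses: G a finite group, S a Sylow p-subgroup, Q a nontrivial large p-subgroup of G contained in S (C_G(Q) ≤ Q and N_G(U) ≤ N_G(Q) for all nontrivial U ≤ C_G(Q)), and M a subgroup containing S with the basic property (M ∈ 𝔐_G(S)); Y_M denotes the largest p-reduced normal subgroup of M and M† = M·C_G(Y_M). Suppose Y_M is asymmetric in G. Then N_G(L) ≤ N_G(O_p(M)) ≤ M† for every p-subgroup L containing O_p(M); O_p(M) is a weakly closed subgroup of G; for every subgroup L containing O_p(M), L ∩ M† contains a Sylow p-subgroup of L; and two elements of Y_M conjugate in G are conjugate in M. -/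
theorem result {G : Type*} [Group G] [Finite G] {p : ℕ} [Fact p.Prime] (S : Sylow p G) (Q : Subgroup G) (hQp : IsPGroup p ↥Q) (hQ1 : Q ≠ ⊥) (hQS : Q ≤ (S : Subgroup G)) (hQ : Cfsg.IsLarge Q) (M : Subgroup G) (hSM : (S : Subgroup G) ≤ M) (hM : Cfsg.IsInFrakM p M) (hasym : ¬ Cfsg.IsSymmetricIn (Cfsg.largestPReducedOf p M)) : (∀ L : Subgroup G, IsPGroup p ↥L → (Cfsg.pCoreOf p M) ≤ L → Subgroup.normalizer ((L : Subgroup G) : Set G) ≤ Subgroup.normalizer (((Cfsg.pCoreOf p M) : Subgroup G) : Set G) ∧ Subgroup.normalizer (((Cfsg.pCoreOf p M) : Subgroup G) : Set G) ≤ (M ⊔ Subgroup.centralizer (((Cfsg.largestPReducedOf p M) : Subgroup G) : Set G))) ∧ Cfsg.IsWeaklyClosedSubgroup p (Cfsg.pCoreOf p M) ∧ (∀ L : Subgroup G, (Cfsg.pCoreOf p M) ≤ L → Cfsg.IsParabolic p ((L ⊓ (M ⊔ Subgroup.centralizer (((Cfsg.largestPReducedOf p M) : Subgroup G) : Set G))).subgroupOf L)) ∧ (∀ x ∈ (Cfsg.largestPReducedOf p M), ∀ g : G, g * x * g⁻¹ ∈ (Cfsg.largestPReducedOf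 p M) → ∃ m ∈ M, m * x * m⁻¹ = g * x * g⁻¹) := by
  have h := fM_of_large hQ hQp hQ1 S hSM hM
  have ha := asym_of_not_symmetric hasym
  have hw := h.wC ha
  rw [← h.normalizer_Y]
  refine ⟨fun L hL hle => ⟨by simpa using hw.normalizer_le hL hle, h.normalizer_core_le⟩,
    wC_top_iff.1 hw, fun L hL => ?_, fun x hx g hg => ?_⟩
  · obtain ⟨T, h1, -, h3⟩ := h.exists_syl ha hL
    obtain ⟨T', hT'⟩ := h1.exists_sylow'
    exact ⟨T', hT' ▸ subgroupOf_mono L (le_inf h1.le (h3.trans h.normalizer_core_le))⟩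
  · have a : 𝐎[p](M) ≤ centralizer {x} := by
      rw [← centralizer_zpowers]
      exact (pCoreOf_le_centralizer_Y M).trans (centralizer_anti (zpowers_le.2 hx))
    have b : cj[g⁻¹] 𝐎[p](M) ≤ centralizer {x} := by
      rw [← le_cj_iff, cj_centralizer_singleton, ← centralizer_zpowers]
      exact (pCoreOf_le_centralizer_Y M).trans (centralizer_anti (zpowers_le.2 hg))
    obtain ⟨c, hc, e⟩ := hw.exists_cj_eq a le_top (mem_top g⁻¹) b
    have h1 : g * c ∈ 𝐍(𝐘[p](M)) :=
      h.normalizer_core_le (cj_eq_self_iff.1 (by rw [cj_mul, ← e, cj_cj_inv]))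
    rw [h.normalizer_Y, mem_sup_of_le_normalizer' (le_normalizer_centralizer (le_normalizer_Y M))]
      at h1
    obtain ⟨m, hm, d, hd, e2⟩ := h1
    refine ⟨m, hm, ?_⟩
    have e3 : d * x * d⁻¹ = x := conj_eq_of_mem_centralizer hd hx
    have e4 : c * x * c⁻¹ = x := by rw [← hc x rfl, mul_inv_cancel_right]
    calc m * x * m⁻¹ = m * (d * x * d⁻¹) * m⁻¹ := by rw [e3]
      _ = (m * d) * x * (m * d)⁻¹ := by group
      _ = g * (c * x * c⁻¹) * g⁻¹ := by rw [e2]; group
      _ = g * x * g⁻¹ := by rw [e4]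

end Cfsg.Agent.S2850
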