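import Cfsg.Statements.S2851
import Cfsg.Agent.Loc.FrakM
import Cfsg.Agent.Sig.FStar
-- import your own Cfsg.Agent.* helpers here

set_option autoImplicit false
open Cfsg

namespace Cfsg.Agent.S2851

open Cfsg CF.Loc Subgroup
open scoped commutatorElement

theorem redMod_of_fstar {G : Type*} [Group G] [Finite G] {p : ℕ} [Fact p.Prime] {N C X : Subgroup G}
    [hn : (C.subgroupOf N).Normal] (h : RedMod p N C) (hX : X ≤ N)
    (hF : ((generalizedFittingSubgroup (N ⧸ C.subgroupOf N)).comap
      (QuotientGroup.mk' (C.subgroupOf N))).map N.subtype ≤ X) : RedMod p X C := by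
  intro K h1 h2 h3
  have h0 := redMod_iff.1 h
  set f := QuotientGroup.mk' (C.subgroupOf N) with hf
  set F := generalizedFittingSubgroup (N ⧸ C.subgroupOf N) with hFdef
  have hK : K ≤ N := h1.trans hX
  have a1 : IsPGroup p ((K.subgroupOf N).map f) := by
    refine isPGroup_of_pResidualOf_eq_bot ?_
    rw [← map_pResidualOf, Subgroup.map_eq_bot_iff, QuotientGroup.ker_mk', ← map_subtype_le_map_subtype,
      pResidualOf_map_subtype, map_subgroupOf_eq_of_le hK, subgroupOf_map_subtype]
    exact le_inf h3 ((pResidualOf_le p K).trans hK)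
  have a2 : F ≤ 𝐍((K.subgroupOf N).map f) := by
    rw [← map_comap_eq_self_of_surjective (QuotientGroup.mk'_surjective (C.subgroupOf N)) F]
    refine map_le_normalizer_map _ ?_
    rw [← map_subtype_le_map_subtype, normalizer_map_subtype, map_subgroupOf_eq_of_le hK]
    exact le_inf (map_subtype_le _) (hF.trans h2)
  have a3 : (K.subgroupOf N).map f ⊓ F = ⊥ := by
    refine le_bot_iff.1 ?_
    rw [← h0, ← pCoreOf_top]
    exact (CF.Loc.le_pCoreOf (a1.to_le inf_le_left) inf_le_right
      (le_normalizer_inf a2 le_normalizer)).trans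
      (pCoreOf_le_pCoreOf_of_normal le_top (le_normalizer_of_normal' _ _))
  have a4 : (K.subgroupOf N).map f ≤ F := by
    refine le_trans ?_ CF.Sig.centralizer_fstar_le
    rw [← commutator_eq_bot_iff_le_centralizer, ← le_bot_iff, ← a3]
    exact commutator_le_inf_of_normalize a2 (le_normalizer_of_normal' _ _)
  rw [inf_eq_left.2 a4, Subgroup.map_eq_bot_iff, QuotientGroup.ker_mk'] at a3
  exact fun x hx => a3 (show (⟨x, hK hx⟩ : N) ∈ K.subgroupOf N from hx)


/-- Standing hypotheses: G a finite group, S a Sylow p-subgroup, Q a nontrivial large p-subgroup of G contained in S, M a subgroup containing S with the basic property (M ∈ 𝔐_G(S)); Y_M the largest p-reduced normal subgroup of M and M† = M·C_G(Y_M). Let F be the preimage in M† of the generalized Fitting subgroup of M†/C_{M†}(Y_M). If Y_M is asymmetric in G and H is a subgroup of characteristic p containing F, then Y_M ≤ Y_H. -/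
theorem result {G : Type*} [Group G] [Finite G] {p : ℕ} [Fact p.Prime] (S : Sylow p G) (Q : Subgroup G) (hQp : IsPGroup p ↥Q) (hQ1 : Q ≠ ⊥) (hQS : Q ≤ (S : Subgroup G)) (hQ : Cfsg.IsLarge Q) (M : Subgroup G) (hSM : (S : Subgroup G) ≤ M) (hM : Cfsg.IsInFrakM p M) (hasym : ¬ Cfsg.IsSymmetricIn (Cfsg.largestPReducedOf p M)) [hn : ((Subgroup.centralizer (((Cfsg.largestPReducedOf p M) : Subgroup G) : Set G)).subgroupOf (M ⊔ Subgroup.centralizer (((Cfsg.largestPReducedOf p M) : Subgroup G) : Set G))).Normal] (F : Subgroup G) (hF : F = ((Cfsg.generalizedFittingSubgroup (↥(M ⊔ Subgroup.centralizer (((Cfsg.largestPReducedOf p M) : Subgroup G) : Set G)) ⧸ (Subgroup.centralizer (((Cfsg.largestPReducedOf p M) : Subgroup G) : Set G)).subgroupOf (M ⊔ Subgroup.centralizer (((Cfsg.largestPReducedOf p M) : Subgroup G) : Set G)))).comap (QuotientGroup.mk' ((Subgroup.centralizer (((Cfsg.largestPReducedOf p M) : Subgroup G) : Set G)).subgroupOf (M ⊔ Subgroup.centralizer (((Cfsg.largestPReducedOf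 p M) : Subgroup G) : Set G))))).map ((M ⊔ Subgroup.centralizer (((Cfsg.largestPReducedOf p M) : Subgroup G) : Set G))).subtype) (H : Subgroup G) (hFH : F ≤ H) (hH : Subgroup.centralizer (Cfsg.pCore p ↥H : Set ↥H) ≤ Cfsg.pCore p ↥H) : (Cfsg.largestPReducedOf p M) ≤ Cfsg.largestPReducedOf p H := by
  have h := fM_of_large hQ hQp hQ1 S hSM hM
  have ha := asym_of_not_symmetric hasym
  have hC : 𝐂(𝐘[p](M)) ≤ F := by
    rw [hF]
    refine (map_subgroupOf_eq_of_le (le_sup_right : 𝐂(𝐘[p](M)) ≤ M ⊔ 𝐂(𝐘[p](M)))).ge.trans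
      (map_mono ?_)
    exact (QuotientGroup.ker_mk' _).ge.trans (ker_le_comap _ _)
  have hP : 𝐎[p](M) ≤ H := (pCoreOf_le_centralizer_Y M).trans (hC.trans hFH)
  obtain ⟨T, h1, h2, h3⟩ := h.exists_syl ha hP
  have hr : RedMod p (H ⊓ (M ⊔ 𝐂(𝐘[p](M)))) 𝐂(𝐘[p](M)) :=
    redMod_of_fstar (isPRed_Y M).sup_centralizer.red inf_le_right
      (hF ▸ le_inf hFH (hF ▸ map_subtype_le _))
  rw [← h.normalizer_Y] at hr
  exact IsPRed.le_Y_of_charP ⟨le_inf ((Y_le_pCoreOf M).trans hP) le_normalizer, inf_le_right,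
    isElemAb_Y M, hr⟩ (isCharP_iff.2 hH) h1 (le_inf h1.le (h3.trans h.normalizer_core_le))
    inf_le_left

end Cfsg.Agent.S2851
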