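import Cfsg.Statements.S2852
import Cfsg.Agent.Loc.FrakM
-- import your own Cfsg.Agent.* helpers here

set_option autoImplicit false
open Cfsg

namespace Cfsg.Agent.S2852

open Cfsg CF.Loc Subgroup
open scoped commutatorElement


/-- Standing hypotheses: G a finite group, S a Sylow p-subgroup, Q a nontrivial large p-subgroup of G contained in S, M a subgroup containing S with the basic property (M ∈ 𝔐_G(S)); Y_M the largest p-reduced normal subgroup of M. If Y_M is char-p-tall and asymmetric in G, then some subgroup H of G lies in ℌ_G(O_p(M)): H has characteristic p, O_p(M) ≤ H, Y_M ≰ O_p(H), and Y_M ≤ O_p(P) for every proper subgroup P of H containing O_p(M). -/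
theorem result {G : Type*} [Group G] [Finite G] {p : ℕ} [Fact p.Prime] (S : Sylow p G) (Q : Subgroup G) (hQp : IsPGroup p ↥Q) (hQ1 : Q ≠ ⊥) (hQS : Q ≤ (S : Subgroup G)) (hQ : Cfsg.IsLarge Q) (M : Subgroup G) (hSM : (S : Subgroup G) ≤ M) (hM : Cfsg.IsInFrakM p M) (htall : Cfsg.IsCharPTall p (Cfsg.largestPReducedOf p M)) (hasym : ¬ Cfsg.IsSymmetricIn (Cfsg.largestPReducedOf p M)) : ∃ H : Subgroup G, Cfsg.IsInFrakH p M H := by
  have h := fM_of_large hQ hQp hQ1 S hSM hM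
  have ha := asym_of_not_symmetric hasym
  obtain ⟨T, L, h1, h2, h3⟩ := htall
  obtain ⟨c, hc, e⟩ := (isSyl_map T).conj h.isSyl_core
  have a1 : 𝐎[p](M) ≤ cj[c] L := e ▸ cj_mono c h1
  have a2 : ¬ 𝐘[p](M) ≤ 𝐎[p](cj[c] L) := by
    rw [← cj_pCoreOf, le_cj_iff, cj_eq_self (centralizer_le_normalizer _ (inv_mem hc))]
    exact h3
  obtain ⟨H, b1, ⟨b2, b3⟩, b4⟩ := exists_minimal_le
    (fun K => 𝐎[p](M) ≤ K ∧ ¬ 𝐘[p](M) ≤ 𝐎[p](K)) ⟨a1, a2⟩
  refine ⟨H, fH_iff.1 ⟨h.isCharP_of_le ha ((isCharP_iff.2 h2).cj c) b2 b1, b2, b3,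
    fun X c1 c2 => ?_⟩⟩
  by_contra hc'
  exact c2.ne (b4 X ⟨c1, hc'⟩ c2.le)

end Cfsg.Agent.S2852
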