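import Cfsg.Statements.S2854
import Cfsg.Agent.Loc.FrakM
-- import your own Cfsg.Agent.* helpers here

set_option autoImplicit false
open Cfsg

namespace Cfsg.Agent.S2854

open Cfsg CF.Loc Subgroup
open scoped commutatorElement


/-- Standing hypotheses: G a finite group, S a Sylow p-subgroup, Q a nontrivial large p-subgroup of G contained in S, M a subgroup containing S with the basic property (M ∈ 𝔐_G(S)); Y_M the largest p-reduced normal subgroup of M and M† = M·C_G(Y_M). Suppose Y_M is asymmetric in G, H ∈ ℌ_G(O_p(M)), and H ≤ N_G(gQg⁻¹) for some g ∈ G. Then gQg⁻¹ ≤ O_p(H·gQg⁻¹) ≤ N_G(O_p(M)) ≤ N_G(Y_M) = M†; H is normal in H·gQg⁻¹ with O^p(H) = O^p(H·gQg⁻¹); and H·gQg⁻¹ is p-irreducible. -/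
theorem result {G : Type*} [Group G] [Finite G] {p : ℕ} [Fact p.Prime] (S : Sylow p G) (Q : Subgroup G) (hQp : IsPGroup p ↥Q) (hQ1 : Q ≠ ⊥) (hQS : Q ≤ (S : Subgroup G)) (hQ : Cfsg.IsLarge Q) (M : Subgroup G) (hSM : (S : Subgroup G) ≤ M) (hM : Cfsg.IsInFrakM p M) (hasym : ¬ Cfsg.IsSymmetricIn (Cfsg.largestPReducedOf p M)) (H : Subgroup G) (hH : Cfsg.IsInFrakH p M H) (g : G) (hHQ : H ≤ Subgroup.normalizer ((((Q : Subgroup G).map (MulAut.conj (g : G)).toMonoidHom) : Subgroup G) : Set G)) : ((Q : Subgroup G).map (MulAut.conj (g : G)).toMonoidHom) ≤ Cfsg.pCoreOf p (H ⊔ ((Q : Subgroup G).map (MulAut.conj (g : G)).toMonoidHom)) ∧ Cfsg.pCoreOf p (H ⊔ ((Q : Subgroup G).map (MulAut.conj (g : G)).toMonoidHom)) ≤ Subgroup.normalizer (((Cfsg.pCoreOf p M) : Subgroup G) : Set G) ∧ Subgroup.normalizer (((Cfsg.pCoreOf p M) : Subgroup G) : Set G) ≤ Subgroup.normalizer (((Cfsg.largestPReducedOf p M) : Subgroup G) : Set G) ∧ Subgroup.normalizer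 (((Cfsg.largestPReducedOf p M) : Subgroup G) : Set G) = (M ⊔ Subgroup.centralizer (((Cfsg.largestPReducedOf p M) : Subgroup G) : Set G)) ∧ (H.subgroupOf (H ⊔ ((Q : Subgroup G).map (MulAut.conj (g : G)).toMonoidHom))).Normal ∧ (Cfsg.pResidual p ↥H).map H.subtype = (Cfsg.pResidual p ↥(H ⊔ ((Q : Subgroup G).map (MulAut.conj (g : G)).toMonoidHom))).map (H ⊔ ((Q : Subgroup G).map (MulAut.conj (g : G)).toMonoidHom)).subtype ∧ Cfsg.IsPIrreducible p ↥(H ⊔ ((Q : Subgroup G).map (MulAut.conj (g : G)).toMonoidHom)) := by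
  have h := fM_of_large hQ hQp hQ1 S hSM hM
  have ha := asym_of_not_symmetric hasym
  have hH' := fH_iff.2 hH
  have hp : IsPGroup p (cj[g] Q) := isPGroup_cj g hQp
  have a1 : cj[g] Q ≤ 𝐎[p](H ⊔ cj[g] Q) :=
    CF.Loc.le_pCoreOf hp le_sup_right (sup_le hHQ le_normalizer)
  have a2 := h.le_normalizer_core ha (isPGroup_pCoreOf p (H ⊔ cj[g] Q))
    ((hH'.2.1.trans le_sup_left).trans (le_normalizer_pCoreOf p _))
  have a3 := a1.trans a2
  have n1 : H ≤ 𝐍(cj[g] Q ⊓ H) := le_normalizer_inf hHQ le_normalizer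
  have a4 : 𝐑[p](H) ≤ secCent (cj[g] Q) (cj[g] Q ⊓ H) := hH'.residual_le_ncl.trans (ncl_le
    (le_secCent_iff.2 ⟨hH'.Y_le.trans n1, le_inf
      (commutator_le_left_of_le_normalizer (hH'.Y_le.trans hHQ))
      ((commutator_le_right_of_le_normalizer (a3.trans h.normalizer_core_le)).trans hH'.Y_le)⟩)
    (le_normalizer_secCent hHQ n1))
  have a5 : cj[g] Q ≤ 𝐍(H) := by
    refine le_normalizer_of_commutator_le le_rfl ?_
    rw [commutator_comm]
    nth_rw 1 [← hH'.residual_sup]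
    exact commutator_sup_right_le ((pResidualOf_le p H).trans le_normalizer)
      (hH'.2.1.trans le_normalizer) ((le_secCent_iff.1 a4).2.trans inf_le_right)
      ((commutator_le_right_of_le_normalizer a3).trans hH'.2.1)
  exact ⟨a1, a2, h.normalizer_core_le, h.normalizer_Y,
    normal_subgroupOf_of_le_normalizer' (sup_le le_normalizer a5),
    (pResidualOf_sup_eq hp a5).symm, pIrr_iff.1 (hH'.pIrr.sup_of_isPGroup hp hHQ a5)⟩

end Cfsg.Agent.S2854
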