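import Cfsg.Statements.S2855
import Cfsg.Agent.Loc.PMin3
-- import your own Cfsg.Agent.* helpers here

set_option autoImplicit false
open Cfsg

namespace Cfsg.Agent.S2855

open Cfsg CF.Loc Subgroup
open scoped commutatorElement


/-- Let H be a finite group, p a prime, and 𝒦 a nonempty set of subgroups of H permuted transitively by conjugation, with R the subgroup generated by the members of 𝒦. Suppose O^p(H) ≤ R, each E ∈ 𝒦 has E·O_p(H) normal in R·O_p(H), and each E ∈ 𝒦 is p-minimal (generated by the conjugates of a Sylow p-subgroup T_E of E, with T_E in exactly one maximal subgroup of E). Then H is p-minimal in the same sense. If instead each E ∈ 𝒦 is strongly p-irreducible, then H is p-irreducible and, for E, K ∈ 𝒦, either O^p(E·O_p(H)) = O^p(K·O_p(H)) or [E, K] ≤ O_p(H). -/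
theorem result {H : Type*} [Group H] [Finite H] {p : ℕ} [Fact p.Prime] (𝒦 : Set (Subgroup H)) (hne : 𝒦.Nonempty) (hinv : ∀ h : H, ∀ E ∈ 𝒦, E.map (MulAut.conj h).toMonoidHom ∈ 𝒦) (htr : ∀ E ∈ 𝒦, ∀ K ∈ 𝒦, ∃ h : H, K = E.map (MulAut.conj h).toMonoidHom) (hres : Cfsg.pResidual p H ≤ sSup 𝒦) (hnorm : ∀ E ∈ 𝒦, sSup 𝒦 ⊔ Cfsg.pCore p H ≤ Subgroup.normalizer ((E ⊔ Cfsg.pCore p H : Subgroup H) : Set H)) : ((∀ E ∈ 𝒦, ∀ T : Sylow p ↥E, Cfsg.IsMinimalOver (T : Subgroup ↥E)) → ∀ T : Sylow p H, Cfsg.IsMinimalOver (T : Subgroup H)) ∧ ((∀ E ∈ 𝒦, Cfsg.IsStronglyPIrreducible p ↥E) → Cfsg.IsPIrreducible p H ∧ ∀ E ∈ 𝒦, ∀ K ∈ 𝒦, (Cfsg.pResidual p ↥(E ⊔ Cfsg.pCore p H)).map (E ⊔ Cfsg.pCore p H).subtype = (Cfsg.pResidual p ↥(K ⊔ Cfsg.pCore p H)).map (K ⊔ Cfsg.pCore p H).subtype ∨ ⁅E, K⁆ ≤ Cfsg.pCore p H) := by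
  have hO := isPGroup_pCore p H
  have hsup : sSup 𝒦 = ⨆ E : 𝒦, (E : Subgroup H) := sSup_eq_iSup' 𝒦
  haveI hN : (sSup 𝒦).Normal := normal_of_top_le_normalizer (le_normalizer_iff_cj.2 fun g _ => by
    rw [hsup, cj_iSup]
    exact iSup_le fun E => le_iSup_of_le ⟨_, hinv g E E.2⟩ le_rfl)
  refine ⟨fun h T => ?_, fun h => ?_⟩
  · obtain ⟨E, hE⟩ := hne
    have hT := isSyl_top T
    have nO : E ≤ 𝐍(pCore p H) := le_normalizer_of_normal' _ _
    have hn' : sSup 𝒦 ⊔ pCore p H ≤ 𝐍(pCore p H ⊔ E) := by rw [sup_comm _ E]; exact hnorm E hE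
    have s : Sn (pCore p H ⊔ E) ⊤ := (Sn.of_normal ((sup_comm _ _).le.trans
      (sup_le_sup_right (le_sSup hE) _)) hn').trans
      (Sn.of_normal le_top (le_normalizer_of_normal' _ _))
    have s1 := s.isSyl_inf hT
    have s2 := s1.inf_of_sup hO nO
    obtain ⟨T', hT'⟩ := s2.exists_sylow'
    have h1 := h E hE T'
    rw [hT', isMinimalOver_subgroupOf_iff s2.le] at h1
    obtain ⟨h1, M, h2⟩ := h1
    have hOT : pCore p H ≤ (T : Subgroup H) ⊓ (pCore p H ⊔ E) :=
      le_inf (pCore_le_sylow T) le_sup_left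
    have h3 := h2.sup_normal hOT nO inf_le_right ((CF.Loc.le_pCoreOf (hO.to_le inf_le_right)
      inf_le_left (le_normalizer_inf le_normalizer nO)).trans (h2.pCoreOf_le h1 s2.isPGroup))
    refine isMinimalOver_iff.2 (uMax_of_family (p := p) (R := sSup 𝒦 ⊔ pCore p H) ?_
      hn' ?_ h3 ?_)
    · refine top_le_iff.1 (hT.pResidualOf_sup.ge.trans (sup_le_sup_right ?_ _))
      rw [pResidualOf_top]; exact le_sup_of_le_left hres
    · rw [ncl_sup_left, ncl_eq_self (le_normalizer_of_normal' _ _), sup_comm]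
      congr 1
      refine le_antisymm (ncl_le (le_sSup hE) (le_normalizer_of_normal' _ _))
        (sSup_le fun K hK => ?_)
      obtain ⟨g, rfl⟩ := htr E hE K hK
      exact cj_le_ncl (mem_top g)
    · exact le_antisymm (ncl_le_of_le inf_le_right) (sup_le (hOT.trans (le_ncl _ _))
        (h1.ge.trans (ncl_mono inf_le_right le_sup_right)))
  · set f := QuotientGroup.mk' (pCore p H) with hf
    have hk : IsPGroup p f.ker := by rw [hf, QuotientGroup.ker_mk']; exact hO
    have hs : Function.Surjective f := QuotientGroup.mk'_surjective _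
    have e0 : ∀ E : Subgroup H, (E ⊔ pCore p H).map f = E.map f := fun E => by
      rw [Subgroup.map_sup, (Subgroup.map_eq_bot_iff _).2 (QuotientGroup.ker_mk' _).ge, sup_bot_eq]
    have e1 : (⨆ E : 𝒦, (E : Subgroup H).map f) = (sSup 𝒦).map f := by
      rw [hsup, Subgroup.map_iSup]
    haveI : (⨆ E : 𝒦, (E : Subgroup H).map f).Normal := e1 ▸ hN.map f hs
    have hn : ∀ E : 𝒦, (⨆ E : 𝒦, (E : Subgroup H).map f) ≤ 𝐍((E : Subgroup H).map f) := fun E => by
      rw [e1, ← e0, ← e0 E]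
      exact map_le_normalizer_map f (hnorm E E.2)
    have hE : ∀ E : 𝒦, SPIrr p ((E : Subgroup H).map f) := fun E =>
      (sPIrr_map_iff hk).2 (sPIrr_iff.2 (h E E.2))
    have hO' := pCore_quotient_pCore p H
    have htr' : ∀ E K : 𝒦, ∃ g, (K : Subgroup H).map f = cj[g] ((E : Subgroup H).map f) :=
      fun E K => by
        obtain ⟨g, e⟩ := htr E E.2 K K.2
        exact ⟨f g, by rw [e, map_cj]⟩
    haveI : Nonempty 𝒦 := hne.to_subtype
    refine ⟨?_, fun E hE' K hK' => ?_⟩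
    · have := family_pIrr hO' hn hE (by
        rw [e1, ← map_pResidual hs]; exact map_mono hres) htr'
      rw [← Subgroup.map_top_of_surjective f hs, pIrr_map_iff hk] at this
      exact pIrr_top_iff.1 this
    · rcases family_dichotomy hO' hn hE ⟨E, hE'⟩
        ((le_iSup (fun E : 𝒦 => (E : Subgroup H).map f) ⟨E, hE'⟩).trans (hn ⟨K, hK'⟩))
        ((le_iSup (fun E : 𝒦 => (E : Subgroup H).map f) ⟨K, hK'⟩).trans (hn _)) with c | c
      · left
        have c1 : 𝐑[p](E.map f) ≤ 𝐑[p](K.map f) :=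
          (pResidualOf_pResidualOf p _).ge.trans (pResidualOf_mono c)
        obtain ⟨g, e⟩ := htr' ⟨E, hE'⟩ ⟨K, hK'⟩
        have c2 := eq_of_le_of_card_le c1 (by
          simp only at e
          rw [e, ← cj_pResidualOf, card_cj])
        rw [← e0 E, ← e0 K, ← map_pResidualOf, ← map_pResidualOf] at c2
        have c3 := congrArg (comap f) c2
        rw [comap_map_eq, comap_map_eq] at c3
        have c4 := congrArg (pResidualOf p) c3
        have n : ∀ E : Subgroup H, f.ker ≤ 𝐍(𝐑[p](E ⊔ pCore p H)) := fun E =>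
          ((QuotientGroup.ker_mk' _).le.trans le_sup_right).trans (le_normalizer_pResidualOf p _)
        rwa [pResidualOf_sup_eq hk (n E), pResidualOf_sup_eq hk (n K), pResidualOf_pResidualOf,
          pResidualOf_pResidualOf] at c4
      · right
        rwa [← commutator_eq_bot_iff_le_centralizer, ← map_commutator, Subgroup.map_eq_bot_iff,
          QuotientGroup.ker_mk'] at c

end Cfsg.Agent.S2855
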