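import Cfsg.Statements.S2859
import Cfsg.Agent.Loc.PMin2
-- import your own Cfsg.Agent.* helpers here

set_option autoImplicit false
open Cfsg

namespace Cfsg.Agent.S2859

open Cfsg CF.Loc Subgroup
open scoped commutatorElement

theorem aux0 {G : Type*} [Group G] [Finite G] {p : ℕ} [Fact p.Prime] {Q Hc H₁ : Subgroup G}
    (h : WC p Q Hc) (a1 : H₁ ≤ Hc) (b1 : Hc ≤ 𝐍(H₁)) :
    𝐑[p](ncl Q H₁) ⊔ Q = ncl Q H₁ ∧ ⁅𝐑[p](ncl Q H₁), Q⁆ = 𝐑[p](ncl Q H₁) ∧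
      𝐑[p](ncl Q H₁) ≤ ⁅H₁, Q⁆ := by
  have hle : ncl Q H₁ ≤ Hc := (ncl_le_sup _ _).trans (sup_le h.le a1)
  have h1 : ncl Q (ncl Q H₁) = ncl Q H₁ := by
    have e : ncl Q (H₁ ⊔ Q) = ncl Q H₁ := ncl_eq_of_forall_mul le_sup_left fun g hg => by
      obtain ⟨a, ha, b, hb, e⟩ := (mem_sup_of_le_normalizer (h.le.trans b1)).1 hg
      exact ⟨a, ha, b, le_normalizer hb, e.symm⟩
    rw [← e]
    exact (h.mono le_sup_right (sup_le a1 h.le)).ncl_ncl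
  have h2 : 𝐑[p](ncl Q H₁) ⊔ Q ≤ ncl Q H₁ := sup_le (pResidualOf_le p _) (le_ncl _ _)
  have h3 : 𝐑[p](ncl Q H₁) ⊔ Q = ncl Q H₁ := by
    refine le_antisymm h2 (h1.ge.trans ?_)
    rw [(h.mono (le_ncl _ _) hle).ncl_eq_of_sn (sn_of_pResidualOf_le le_sup_left h2) le_sup_right]
    exact ncl_le_of_le le_sup_right
  have n1 : Q ≤ 𝐍(𝐑[p](ncl Q H₁)) := (le_ncl _ _).trans (le_normalizer_pResidualOf p _)
  refine ⟨h3, commutator_eq_of_le_ncl (pResidualOf_pResidualOf p _) h.isPGroup n1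
    ((pResidualOf_le p _).trans (h1.ge.trans (ncl_eq_of_forall_mul (pResidualOf_le p _)
      fun g hg => ?_).le)), ?_⟩
  · obtain ⟨a, ha, b, hb, e⟩ := (mem_sup_of_le_normalizer n1).1 (h3.ge hg)
    exact ⟨a, ha, b, le_normalizer hb, e.symm⟩
  · rw [ncl_eq_commutator_sup]
    exact pResidualOf_sup_le h.isPGroup (normalizer_commutator_ge_right _ _)

theorem res_le {G : Type*} [Group G] {p : ℕ} {K X O : Subgroup G} (hK : 𝐑[p](K) = K)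
    (hO : IsPGroup p O) (n : O ≤ 𝐍(X)) (h : K ≤ X ⊔ O) : K ≤ X :=
  hK.ge.trans ((pResidualOf_mono h).trans (pResidualOf_sup_le hO n))

theorem aux {G : Type*} [Group G] [Finite G] {p : ℕ} [Fact p.Prime] {Q Hc H₁ H₂ : Subgroup G}
    (h : WC p Q Hc) (hc : ncl Q Hc = Hc) (a1 : H₁ ≤ Hc) (b1 : Hc ≤ 𝐍(H₁)) (a2 : H₂ ≤ Hc)
    (b2 : Hc ≤ 𝐍(H₂)) (e : H₁ ⊔ H₂ = Hc) (hD : ⁅H₁, H₂⁆ ≤ 𝐍(Q)) :
    ⁅𝐑[p](ncl Q H₁), H₁⁆ = 𝐑[p](ncl Q H₁) ∧ 𝐑[p](ncl Q H₁) ≤ ⁅H₁, H₁⁆ ∧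
      Hc ≤ 𝐍(𝐑[p](ncl Q H₁)) ∧ ⁅𝐑[p](ncl Q H₁), H₂⁆ ≤ 𝐎[p](Hc) := by
  obtain ⟨-, k2, k3⟩ := aux0 h a1 b1
  set K := 𝐑[p](ncl Q H₁) with hK
  have kK : 𝐑[p](K) = K := pResidualOf_pResidualOf p _
  have nO : Hc ≤ 𝐍(𝐎[p](Hc)) := le_normalizer_pCoreOf p Hc
  have nD : Hc ≤ 𝐍(⁅H₁, H₂⁆) := le_normalizer_commutator b1 b2
  have dH : ⁅H₁, H₂⁆ ≤ Hc := (commutator_le_sup _ _).trans e.le
  have d1 : ⁅⁅H₁, H₂⁆, Q⁆ ≤ 𝐎[p](Hc) :=
    (CF.Loc.le_pCoreOf (h.isPGroup.to_le (commutator_le_right_of_le_normalizer hD))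
      (commutator_le_left_of_le_normalizer (h.le.trans nD))
      (normalizer_commutator_ge_left _ _)).trans (pCoreOf_le_pCoreOf_of_normal dH nD)
  have d2 : ⁅⁅H₁, H₂⁆, Hc⁆ ≤ 𝐎[p](Hc) := (le_secCent_iff.1 (hc.ge.trans
    (ncl_le (le_secCent_iff.2 ⟨h.le.trans nO, d1⟩) (le_normalizer_secCent nD nO)))).2
  have kH : K ≤ H₁ := k3.trans (commutator_le_left_of_le_normalizer (h.le.trans b1))
  have n11 : Hc ≤ 𝐍(⁅H₁, H₁⁆) := le_normalizer_commutator b1 b1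
  have c1 : ⁅H₁, Q⁆ ≤ ⁅H₁, H₁⁆ ⊔ ⁅H₁, H₂⁆ := by
    refine (commutator_mono le_rfl (h.le.trans e.ge)).trans ?_
    exact commutator_sup_right_le (a1.trans (le_normalizer_sup n11 nD))
      (a2.trans (le_normalizer_sup n11 nD)) le_sup_left le_sup_right
  have c2 : K ≤ ⁅H₁, H₁⁆ := by
    refine res_le kK (isPGroup_pCoreOf p Hc) ((pCoreOf_le p Hc).trans n11) (k2.ge.trans
      ((commutator_mono (k3.trans c1) le_rfl).trans ?_))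
    have n := le_normalizer_sup n11 nO
    exact commutator_sup_left_le (((commutator_le_sup _ _).trans (sup_le a1 a1)).trans n)
      (dH.trans n) (le_sup_of_le_left (commutator_le_left_of_le_normalizer (h.le.trans n11)))
      (le_sup_of_le_right d1)
  have c3 : ⁅K, H₂⁆ ≤ 𝐎[p](Hc) := by
    refine (commutator_mono c2 le_rfl).trans (three_subgroups (a1.trans nO) (a1.trans nO)
      (a2.trans nO) ((commutator_mono le_rfl a1).trans d2) ?_)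
    rw [commutator_comm H₂]
    exact (commutator_mono le_rfl a1).trans d2
  have n1 : H₁ ≤ 𝐍(K) := (le_normalizer_ncl Q H₁).trans (normalizer_le_normalizer_pResidualOf p _)
  have s : Sn K Hc := (Sn.of_normal kH n1).trans (Sn.of_normal a1 b1)
  have n2 : H₂ ≤ 𝐍(K) := by
    have e2 := s.pResidualOf_sup (isPGroup_pCoreOf p Hc) (pCoreOf_le p Hc) nO
    rw [kK] at e2
    rw [← e2]
    refine le_trans ?_ (normalizer_le_normalizer_pResidualOf p _)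
    have n0 : K ⊔ 𝐎[p](Hc) ≤ 𝐍(K ⊔ 𝐎[p](Hc)) := le_normalizer
    exact le_normalizer_of_commutator_le le_rfl (commutator_sup_left_le (le_sup_left.trans n0)
      (le_sup_right.trans n0) (le_sup_of_le_right c3)
      (le_sup_of_le_right (commutator_le_left_of_le_normalizer (a2.trans nO))))
  have n3 : Hc ≤ 𝐍(K) := e ▸ sup_le n1 n2
  have n4 := le_normalizer_commutator n3 b1
  refine ⟨le_antisymm (commutator_le_left_of_le_normalizer n1) (res_le kK (isPGroup_pCoreOf p Hc)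
    ((pCoreOf_le p Hc).trans n4) (k2.ge.trans ((commutator_mono le_rfl (h.le.trans e.ge)).trans
      ?_))), c2, n3, c3⟩
  exact commutator_sup_right_le (a1.trans (le_normalizer_sup n4 nO))
    (a2.trans (le_normalizer_sup n4 nO)) le_sup_left (le_sup_of_le_right c3)


/-- Let Q be a nontrivial p-subgroup of the finite group H that is a weakly closed subgroup, H° the weak closure of Q in H (generated by the conjugates of Q) and H_∘ = O^p(H°). Suppose H₁, H₂ are normal subgroups of H° with H° = H₁H₂ and [H₁, H₂] ≤ N_H(Q), and put Kᵢ = O^p of the weak closure of Q in HᵢQ. Then for i = 1, 2: Kᵢ = [Kᵢ, Q] = [Kᵢ, Hᵢ] ≤ Hᵢ′ and Kᵢ is normal in H°; H_∘ = K₁K₂; and [K₁, K₂] ≤ O_p(H°). -/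
theorem result {G : Type*} [Group G] [Finite G] {p : ℕ} [Fact p.Prime] (Q : Subgroup G) (hQp : IsPGroup p ↥Q) (hQ1 : Q ≠ ⊥) (hwc : Cfsg.IsWeaklyClosedSubgroup p Q) (Hc : Subgroup G) (hHc : Hc = Cfsg.weakClosure Q ⊤) (H₁ H₂ : Subgroup G) (hn₁ : H₁ ≤ Hc ∧ Hc ≤ Subgroup.normalizer ((H₁ : Subgroup G) : Set G)) (hn₂ : H₂ ≤ Hc ∧ Hc ≤ Subgroup.normalizer ((H₂ : Subgroup G) : Set G)) (hprod : H₁ ⊔ H₂ = Hc) (hcomm : ⁅H₁, H₂⁆ ≤ Subgroup.normalizer ((Q : Subgroup G) : Set G)) (K₁ K₂ : Subgroup G) (hK₁ : K₁ = ((Cfsg.pResidual p ↥(Cfsg.weakClosure Q (H₁ ⊔ Q))).map ((Cfsg.weakClosure Q (H₁ ⊔ Q))).subtype)) (hK₂ : K₂ = ((Cfsg.pResidual p ↥(Cfsg.weakClosure Q (H₂ ⊔ Q))).map ((Cfsg.weakClosure Q (H₂ ⊔ Q))).subtype)) : (⁅K₁, Q⁆ = K₁ ∧ ⁅K₁, H₁⁆ = K₁ ∧ K₁ ≤ ⁅H₁, H₁⁆ ∧ Hc ≤ Subgroup.normalizer ((K₁ : Subgroup G) : Set G)) ∧ (⁅K₂, Q⁆ = K₂ ∧ ⁅K₂, H₂⁆ = K₂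 ∧ K₂ ≤ ⁅H₂, H₂⁆ ∧ Hc ≤ Subgroup.normalizer ((K₂ : Subgroup G) : Set G)) ∧ K₁ ⊔ K₂ = ((Cfsg.pResidual p ↥Hc).map (Hc).subtype) ∧ ⁅K₁, K₂⁆ ≤ (Cfsg.pCoreOf p Hc) := by
  have h0 := wC_top_iff.2 hwc
  rw [weakClosure_top] at hHc
  have hQ : Q ≤ Hc := hHc ▸ le_ncl Q ⊤
  have h := h0.mono hQ le_top
  have hc : ncl Q Hc = Hc := by rw [hHc]; exact h0.ncl_ncl
  have w : ∀ H₁ : Subgroup G, Hc ≤ 𝐍(H₁) → weakClosure Q (H₁ ⊔ Q) = ncl Q H₁ := fun H₁ b => by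
    rw [h0.weakClosure_eq le_sup_right]
    exact ncl_eq_of_forall_mul le_sup_left fun g hg => by
      obtain ⟨a, ha, b, hb, e⟩ := (mem_sup_of_le_normalizer (hQ.trans b)).1 hg
      exact ⟨a, ha, b, le_normalizer hb, e.symm⟩
  rw [pResidualOf_def, w _ hn₁.2] at hK₁
  rw [pResidualOf_def, w _ hn₂.2] at hK₂
  obtain ⟨a1, a2, a3⟩ := aux0 h hn₁.1 hn₁.2
  obtain ⟨b1, b2, b3⟩ := aux0 h hn₂.1 hn₂.2
  obtain ⟨c1, c2, c3, c4⟩ := aux h hc hn₁.1 hn₁.2 hn₂.1 hn₂.2 hprod hcomm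
  obtain ⟨d1, d2, d3, d4⟩ := aux h hc hn₂.1 hn₂.2 hn₁.1 hn₁.2 ((sup_comm _ _).trans hprod)
    ((commutator_comm _ _).le.trans hcomm)
  rw [← hK₁] at a1 a2 a3 c1 c2 c3 c4
  rw [← hK₂] at b1 b2 b3 d1 d2 d3 d4
  refine ⟨⟨a2, c1, c2, c3⟩, ⟨b2, d1, d2, d3⟩, le_antisymm (sup_le ?_ ?_) ?_,
    (commutator_mono le_rfl (d2.trans (commutator_le_left_of_le_normalizer le_normalizer))).trans
      c4⟩
  · rw [hK₁]; exact pResidualOf_mono ((ncl_le_sup _ _).trans (sup_le hQ hn₁.1))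
  · rw [hK₂]; exact pResidualOf_mono ((ncl_le_sup _ _).trans (sup_le hQ hn₂.1))
  · refine (pResidualOf_mono (hc.ge.trans (ncl_le_iff.2 fun g hg => ?_))).trans
      (pResidualOf_sup_le hQp (hQ.trans (le_normalizer_sup c3 d3)))
    obtain ⟨x, hx, y, hy, rfl⟩ := (mem_sup_of_le_normalizer (hn₂.1.trans hn₁.2)).1 (hprod.ge hg)
    rw [cj_mul]
    refine (cj_mono x ((cj_le_ncl hy).trans b1.ge)).trans ?_
    rw [cj_sup, cj_eq_self (d3 (hn₁.1 hx))]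
    exact sup_le (le_sup_of_le_left le_sup_right)
      (((cj_le_ncl hx).trans a1.ge).trans (sup_le_sup_right le_sup_left _))

end Cfsg.Agent.S2859
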