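import Cfsg.Statements.S2860
import Cfsg.Agent.Loc.PMin3
-- import your own Cfsg.Agent.* helpers here

set_option autoImplicit false
open Cfsg

namespace Cfsg.Agent.S2860

open Cfsg CF.Loc Subgroup
open scoped commutatorElement


/-- Let Q be a nontrivial large p-subgroup of the finite group H, U a nontrivial elementary abelian p-subgroup of H, and Q ≤ E ≤ N_H(U) with Q not normal in E. Suppose O_p(E/C_E(U)) = 1 and O^p(E)·C_E(U)/C_E(U) is quasisimple. Let E° be the weak closure of Q in E (generated by the conjugates of Q inside E) and E_∘ = O^p(E°). Then O^p(E)·C_E(U) = E_∘·C_E(U); E_∘ is perfect and equals O^p(E_∘); E_∘/C_{E_∘}(U) and E_∘/O_p(E_∘) are quasisimple; and E_∘ = [E_∘, Y] for every p-subgroup Y of E not centralizing U. -/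
theorem result {G : Type*} [Group G] [Finite G] {p : ℕ} [Fact p.Prime] (Q : Subgroup G) (hQp : IsPGroup p ↥Q) (hQ1 : Q ≠ ⊥) (hQ : Cfsg.IsLarge Q) (U : Subgroup G) (hU : Cfsg.IsElementaryAbelian p U) (hU1 : U ≠ ⊥) (E : Subgroup G) (hQE : Q ≤ E) (hEU : E ≤ Subgroup.normalizer ((U : Subgroup G) : Set G)) (hQn : ¬ E ≤ Subgroup.normalizer ((Q : Subgroup G) : Set G)) [hn : ((Subgroup.centralizer ((U : Subgroup G) : Set G)).subgroupOf E).Normal] (hred : Cfsg.pCore p (↥E ⧸ (Subgroup.centralizer ((U : Subgroup G) : Set G)).subgroupOf E) = ⊥) (hqs : Cfsg.IsQuasisimple ↥(((Cfsg.pResidual p ↥E) ⊔ (Subgroup.centralizer ((U : Subgroup G) : Set G)).subgroupOf E).map (QuotientGroup.mk' ((Subgroup.centralizer ((U : Subgroup G) : Set G)).subgroupOf E)))) (Er : Subgroup G) (hEr : Er = ((Cfsg.pResidual p ↥(Cfsg.weakClosure Q E)).map ((Cfsg.weakClosure Q E)).subtype)) [hn2 : ((Subgroup.centralizer ((U : Subgroup G) : Set G)).subgroupOf Er).Normal] : ((Cfsg.pResidual p ↥E).map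 (E).subtype) ⊔ (E ⊓ Subgroup.centralizer ((U : Subgroup G) : Set G)) = Er ⊔ (E ⊓ Subgroup.centralizer ((U : Subgroup G) : Set G)) ∧ ⁅Er, Er⁆ = Er ∧ ((Cfsg.pResidual p ↥Er).map (Er).subtype) = Er ∧ Cfsg.IsQuasisimple (↥Er ⧸ (Subgroup.centralizer ((U : Subgroup G) : Set G)).subgroupOf Er) ∧ Cfsg.IsQuasisimple (↥Er ⧸ Cfsg.pCore p ↥Er) ∧ ∀ Y : Subgroup G, Y ≤ E → IsPGroup p ↥Y → ¬ Y ≤ Subgroup.centralizer ((U : Subgroup G) : Set G) → ⁅Er, Y⁆ = Er := by
  have hw := large_wC hQ hQp hQ1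
  have hwE := hw.mono hQE le_top
  rw [pResidualOf_def, hw.weakClosure_eq hQE] at hEr
  set f := QuotientGroup.mk' ((𝐂(U)).subgroupOf E) with hf
  have hs : Function.Surjective f := QuotientGroup.mk'_surjective _
  have hk : f.ker = (𝐂(U)).subgroupOf E := QuotientGroup.ker_mk' _
  rw [Subgroup.map_sup, (Subgroup.map_eq_bot_iff _).2 hk.ge, sup_bot_eq, map_pResidual hs] at hqs
  have pull : ∀ A B : Subgroup G, A ≤ E → B ≤ E →
      (A.subgroupOf E).map f ≤ (B.subgroupOf E).map f → A ≤ B ⊔ (E ⊓ 𝐂(U)) := by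
    intro A B a b h
    rw [map_le_iff_le_comap, comap_map_eq, hk, ← map_subtype_le_map_subtype, Subgroup.map_sup,
      map_subgroupOf_eq_of_le a, map_subgroupOf_eq_of_le b, subgroupOf_map_subtype, inf_comm] at h
    exact h
  have mcomm : ∀ A B : Subgroup G, A ≤ E → B ≤ E → (⁅A, B⁆.subgroupOf E).map f =
      ⁅(A.subgroupOf E).map f, (B.subgroupOf E).map f⁆ := by
    intro A B a b
    rw [← map_commutator]
    congr 1
    apply map_injective E.subtype_injective
    rw [map_commutator, map_subgroupOf_eq_of_le a, map_subgroupOf_eq_of_le b,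
      map_subgroupOf_eq_of_le ((commutator_le_sup _ _).trans (sup_le a b))]
  have mres : ∀ A : Subgroup G, A ≤ E → ((𝐑[p](A)).subgroupOf E).map f =
      𝐑[p]((A.subgroupOf E).map f) := by
    intro A a
    rw [← map_pResidualOf]
    congr 1
    apply map_injective E.subtype_injective
    rw [pResidualOf_map_subtype, map_subgroupOf_eq_of_le a,
      map_subgroupOf_eq_of_le ((pResidualOf_le p A).trans a)]
  have key : ∀ Y : Subgroup G, Y ≤ E → IsPGroup p Y → ¬ Y ≤ 𝐂(U) →
      ⁅pResidual p _, (Y.subgroupOf E).map f⁆ = pResidual p _ := fun Y a b c =>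
    qs_residual_commutator hred hqs ((isPGroup_subgroupOf b).map f) fun e => c fun x hx =>
      hk.le ((Subgroup.map_eq_bot_iff _).1 e (show (⟨x, a hx⟩ : E) ∈ Y.subgroupOf E from hx))
  have nE : ncl Q E ≤ E := ncl_le_of_le hQE
  have rn : Er ≤ ncl Q E := hEr ▸ pResidualOf_le p _
  have rE : Er ≤ E := rn.trans nE
  have rr : 𝐑[p](Er) = Er := by rw [hEr, pResidualOf_pResidualOf]
  have nr : E ≤ 𝐍(Er) := hEr ▸ (le_normalizer_ncl Q E).trans
    (normalizer_le_normalizer_pResidualOf p _)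
  have mE : ((𝐑[p](E)).subgroupOf E).map f = pResidual p _ := by
    rw [pResidualOf_subgroupOf, map_pResidual hs]
  have m1 : (Er.subgroupOf E).map f = pResidual p _ := by
    refine le_antisymm (mE ▸ map_mono (subgroupOf_mono E (hEr ▸ pResidualOf_mono nE))) ?_
    have c := key Q hQE hQp fun c => hQn (hEU.trans (hQ.2 U (le_centralizer_comm.1 c) hU1))
    have d : pResidual p _ ≤ ((ncl Q E).subgroupOf E).map f := by
      rw [← c, ← mE, ← mcomm _ _ (pResidualOf_le p E) hQE]
      exact map_mono (subgroupOf_mono E ((commutator_mono (pResidualOf_le p E) le_rfl).trans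
        (commutator_le_ncl Q E)))
    rw [hEr, mres _ nE, ← pResidualOf_top, ← pResidualOf_pResidualOf, pResidualOf_top]
    exact pResidualOf_mono d
  have c0 : ⁅ncl Q E, 𝐂(U)⁆ ≤ 𝐎[p](ncl Q E) :=
    large_commutator_ncl_le hQ hQp hQE (isElemAb_isPGroup hU) hU1 hEU
  have nO : E ≤ 𝐍(𝐎[p](ncl Q E)) :=
    (le_normalizer_ncl Q E).trans (normalizer_le_normalizer_pCoreOf p _)
  have dd : ∀ X, X ≤ Er → Er ≤ X ⊔ (E ⊓ 𝐂(U)) → Er ≤ X ⊔ (Er ⊓ 𝐂(U)) := by
    intro X a b
    have n : X ≤ 𝐍(E ⊓ 𝐂(U)) := le_normalizer_inf ((a.trans rE).trans le_normalizer)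
      (le_normalizer_centralizer ((a.trans rE).trans hEU))
    have := sup_inf_of_le_normalizer_right n a
    rw [inf_eq_right.2 (b.trans (sup_comm _ _).le)] at this
    exact this.le.trans (sup_le (le_sup_of_le_right (le_inf inf_le_right
      (inf_le_left.trans inf_le_right))) le_sup_left)
  have fin : ∀ X Z, X ≤ Er → Er ⊔ Z ≤ 𝐍(X) → Z ≤ ncl Q E → Er ≤ X ⊔ (E ⊓ 𝐂(U)) →
      ⁅Er, Z⁆ = Er → Er ≤ X := by
    intro X Z a b c d e
    have n0 : ∀ W, W ≤ Er ⊔ Z → W ≤ 𝐍(X ⊔ (Er ⊓ 𝐎[p](ncl Q E))) := fun W w =>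
      le_normalizer_sup (w.trans b) (le_normalizer_inf (w.trans ((sup_le rE (c.trans nE)).trans nr))
        (w.trans ((sup_le rE (c.trans nE)).trans nO)))
    refine le_of_le_sup_isPGroup rr ((isPGroup_pCoreOf p (ncl Q E)).to_le
      (inf_le_right : Er ⊓ _ ≤ _)) (inf_le_left.trans (le_sup_left.trans b))
      (e.ge.trans ((commutator_mono (dd X a d) le_rfl).trans (commutator_sup_left_le
        (n0 _ (le_sup_of_le_left a)) (n0 _ (le_sup_of_le_left inf_le_left))
        (le_sup_of_le_left (commutator_le_left_of_le_normalizer (le_sup_right.trans b)))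
        (le_sup_of_le_right (le_inf ?_ ?_)))))
    · exact (commutator_mono inf_le_left le_rfl).trans e.le
    · rw [commutator_comm]; exact (commutator_mono c inf_le_right).trans c0
  have perf : ⁅Er, Er⁆ = Er := by
    refine le_antisymm (commutator_le_left_of_le_normalizer le_normalizer) (fin _ Q
      (commutator_le_left_of_le_normalizer le_normalizer)
      ((sup_le rE hQE).trans (le_normalizer_commutator nr nr)) (le_ncl _ _)
      (pull _ _ rE ((commutator_le_left_of_le_normalizer le_normalizer).trans rE) ?_)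
      (hEr ▸ hwE.commutator_residual))
    rw [mcomm _ _ rE rE, m1, CF.Sig.qs_perfect hqs]
  have q1 : IsQuasisimple (Er ⧸ (𝐂(U)).subgroupOf Er) := by
    have a : (f.comp (inclusion rE)).ker = (𝐂(U)).subgroupOf Er := by
      ext x; rw [MonoidHom.mem_ker, MonoidHom.comp_apply, ← MonoidHom.mem_ker, hk]; rfl
    have b : (f.comp (inclusion rE)).range = pResidual p _ := by
      rw [← m1, MonoidHom.range_comp, inclusion_range]
    exact CF.Sig.qs_of_mulEquiv hqs (((QuotientGroup.quotientMulEquivOfEq a.symm).trans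
      (QuotientGroup.quotientKerEquivRange _)).trans (MulEquiv.subgroupCongr b)).symm
  refine ⟨le_antisymm (sup_le (pull _ _ (pResidualOf_le p E) rE (mE.trans m1.symm).le) le_sup_right)
    (sup_le_sup_right (hEr ▸ pResidualOf_mono nE) _), perf, rr, q1, ?_, fun Y a b c => ?_⟩
  · have o1 : pCore p Er ≤ (𝐂(U)).subgroupOf Er := by
      have := (redMod_iff.2 hred).le_of_isPGroup (isPGroup_pCoreOf p Er)
        ((pCoreOf_le p Er).trans rE) (nr.trans (normalizer_le_normalizer_pCoreOf p Er))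
      exact fun x hx => this (mem_pCore_iff.1 hx)
    let φ := QuotientGroup.map (pCore p Er) ((𝐂(U)).subgroupOf Er) (MonoidHom.id _) o1
    have hφ : Function.Surjective φ := by
      intro y; obtain ⟨x, rfl⟩ := QuotientGroup.mk_surjective y; exact ⟨x, rfl⟩
    have pt : ⁅(⊤ : Subgroup Er), (⊤ : Subgroup Er)⁆ = ⊤ := by
      apply map_injective Er.subtype_injective
      rw [map_commutator, top_map_subtype, perf]
    refine CF.Sig.qs_top_iff.1 (CF.Sig.qs_of_map_of_ker_central φ ?_ ?_ ?_)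
    · rw [← Subgroup.map_top_of_surjective _ (QuotientGroup.mk'_surjective (pCore p Er)),
        ← map_commutator, pt]
    · rw [Subgroup.map_top_of_surjective _ hφ]; exact CF.Sig.qs_top_iff.2 q1
    · rintro y ⟨-, hy⟩ z -
      obtain ⟨x, rfl⟩ := QuotientGroup.mk_surjective y
      obtain ⟨w, rfl⟩ := QuotientGroup.mk_surjective z
      have hx : (x : G) ∈ 𝐂(U) := (QuotientGroup.eq_one_iff (N := (𝐂(U)).subgroupOf Er) x).1 hy
      rw [← commutatorElement_eq_one_iff_mul_comm]
      refine (QuotientGroup.eq_one_iff ⁅w, x⁆).2 (mem_pCore_iff.2 (inf_pCoreOf_le rn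
        ⟨(⁅w, x⁆ : Er).2, c0 (commutator_mem_commutator (rn w.2) hx)⟩))
  · have d : ⁅Er, Y⁆ ≤ Er := commutator_le_left_of_le_normalizer (a.trans nr)
    refine le_antisymm d (fin _ Er d ((sup_idem _).le.trans (normalizer_commutator_ge_left _ _)) rn
      (pull _ _ rE (d.trans rE) ?_) perf)
    rw [mcomm _ _ rE a, m1, key Y a b c]

end Cfsg.Agent.S2860
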