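import Cfsg.Statements.S2861
import Cfsg.Agent.PLocal.FrL

set_option autoImplicit false
open Cfsg

namespace Cfsg.Agent.S2861

open Subgroup CF.Loc CF.FrL Matrix
open scoped MatrixGroups

/-- `N(Q)` is irreducible on `Q`. -/
def Irr {H : Type*} [Group H] (Q : Subgroup H) : Prop :=
  ∀ W : Subgroup H, W ≤ Q → W ≠ ⊥ → (∀ n ∈ 𝐍(Q), ∀ w ∈ W, n * w * n⁻¹ ∈ W) → Q ≤ W

theorem Irr.of_map {H H' : Type*} [Group H] [Group H'] (e : H ≃* H') {Q : Subgroup H}
    (h : Irr (Q.map e.toMonoidHom)) : Irr Q := fun W a b c x hx => by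
  have := h (W.map e.toMonoidHom) (map_mono a)
    (fun k => b ((map_eq_bot_iff_of_injective _ e.injective).1 k)) (by
      rintro n hn _ ⟨w, hw, rfl⟩
      refine ⟨_, c (e.symm n) ?_ w hw, by simp⟩
      rw [mem_normalizer_iff] at hn ⊢
      intro y
      have := hn (e y)
      rw [mem_map_equiv, mem_map_equiv] at this
      simpa using this) (mem_map_of_mem _ hx)
  simpa [mem_map_equiv] using this

section SL
variable {F : Type*} [Field F]

def uu (F : Type*) [Field F] : Multiplicative F →* SL(2, F) :=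
  MonoidHom.mk' (fun b => ⟨!![1, b.toAdd; 0, 1], by simp [det_fin_two]⟩) fun a b => Subtype.ext (by
    change !![1, (a * b).toAdd; 0, 1] = !![1, a.toAdd; 0, 1] * !![1, b.toAdd; 0, 1]
    simp [add_comm])

def dd (t : F) (ht : t ≠ 0) : SL(2, F) := ⟨!![t, 0; 0, t⁻¹], by simp [det_fin_two, ht]⟩

theorem dd_uu (t : F) (ht : t ≠ 0) (c : F) : dd t ht * uu F (Multiplicative.ofAdd c) * (dd t ht)⁻¹ =
    uu F (Multiplicative.ofAdd (t ^ 2 * c)) := by
  rw [mul_inv_eq_iff_eq_mul]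
  have : (!![t, 0; 0, t⁻¹] * !![1, c; 0, 1] : Matrix (Fin 2) (Fin 2) F) =
      !![1, t ^ 2 * c; 0, 1] * !![t, 0; 0, t⁻¹] := by
    ext i j
    fin_cases i <;> fin_cases j <;> simp <;> field_simp
  exact Subtype.ext this

theorem uu_inj : Function.Injective (uu F) := fun a b h => by
  have := congrFun (congrFun (congrArg Subtype.val h) 0) 1
  exact Multiplicative.toAdd.injective this

theorem irr_uu [Finite F] : Irr (uu F).range := fun W a b c => by
  obtain ⟨⟨w, hw⟩, w1⟩ := ne_bot_iff_exists_ne_one.1 b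
  obtain ⟨x, rfl⟩ := a hw
  have x0 : x.toAdd ≠ 0 := fun e => w1 (Subtype.ext (by
    change uu F x = 1
    rw [show x = 1 from Multiplicative.toAdd.injective e, map_one]))
  have k : ∀ t : F, uu F (Multiplicative.ofAdd (t ^ 2 * x.toAdd)) ∈ W := fun t => by
    by_cases ht : t = 0
    · rw [ht]; simp [W.one_mem]
    rw [← dd_uu t ht]
    refine c _ (mem_normalizer_of_conj_mem ?_) _ hw
    rintro _ ⟨y, rfl⟩
    exact ⟨_, (dd_uu t ht y.toAdd).symm⟩
  rintro _ ⟨y, rfl⟩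
  by_cases h2 : (2 : F) = 0
  · have : CharP F 2 := (CharP.charP_iff_prime_eq_zero Nat.prime_two).2 h2
    have := Fintype.ofFinite F
    obtain ⟨t, ht⟩ := FiniteField.isSquare_of_char_two (ringChar.eq F 2) (y.toAdd / x.toAdd)
    have := k t
    rwa [sq, ← ht, div_mul_cancel₀ _ x0] at this
  · have := W.mul_mem (k ((y.toAdd / x.toAdd + 1) / 2)) (W.inv_mem (k ((y.toAdd / x.toAdd - 1) / 2)))
    rw [← map_inv, ← map_mul, ← ofAdd_neg, ← ofAdd_add] at this
    convert this using 2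
    apply Multiplicative.toAdd.injective
    simp only [toAdd_ofAdd]
    field_simp
    ring

theorem irr_SL [Finite F] {p : ℕ} [Fact p.Prime] [CharP F p] {Q : Subgroup SL(2, F)}
    (hQ : IsPGroup p Q) (hi : ¬ p ∣ Q.index) (hc : Nat.card Q = Nat.card F) : Irr Q := by
  have hU : IsPGroup p (uu F).range := isPGroup_of_pow (by
    rintro _ ⟨a, rfl⟩
    rw [← map_pow, show a ^ p = 1 from Multiplicative.toAdd.injective (by simp), map_one])
  have cU : Nat.card (uu F).range = Nat.card F := by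
    rw [← Nat.card_congr (MonoidHom.ofInjective uu_inj).toEquiv, Nat.card_congr Multiplicative.toAdd]
  have iU : (uu F).range.index = Q.index := by
    have a := (uu F).range.card_mul_index
    rw [cU, ← Q.card_mul_index, hc] at a
    exact Nat.eq_of_mul_eq_mul_left Nat.card_pos a
  obtain ⟨g, hg⟩ := MulAction.exists_smul_eq SL(2, F) (hQ.toSylow hi) (hU.toSylow (iU ▸ hi))
  refine Irr.of_map (MulAut.conj g) ?_
  have : Q.map (MulAut.conj g).toMonoidHom = (uu F).range := congrArg Sylow.toSubgroup hg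
  rw [this]
  exact irr_uu
end SL

theorem irr_sz {H F : Type*} [Group H] [Field F] [Finite F] {T : CF.BN.Suz.Tits F}
    (D : CF.BN.Suz.SzData T H) {Q : Subgroup H} (hQ : ∀ a ∈ Q, a ^ 2 = 1)
    (hc : Nat.card Q = Nat.card F) : Irr Q := by
  have := D.finite
  obtain ⟨g, hg⟩ := D.exists_conj_le_U (isPGroup_of_pow hQ)
  have h1 : Q = (D.conj g).Z := eq_of_le_of_card_ge
    (fun a ha => ((D.conj g).mem_Z_iff_sq (hg ha)).2 (by rw [← sq, hQ a ha]))
    (by rw [hc, (D.conj g).card_Z])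
  generalize D.conj g = E at h1
  subst h1
  intro W a b c
  obtain ⟨⟨w, hw⟩, w1⟩ := ne_bot_iff_exists_ne_one.1 b
  obtain ⟨x, rfl⟩ := a hw
  have x0 : x ≠ 0 := fun e => w1 (Subtype.ext (by change E.u 0 x = 1; rw [e]; exact E.u_zero))
  rintro _ ⟨y, rfl⟩
  by_cases y0 : y = 0
  · rw [y0, E.u_zero]; exact W.one_mem
  obtain ⟨t, ht⟩ := T.exists_θ_mul_sq (div_ne_zero y0 x0)
  have := c (E.h t) (mem_normalizer_of_conj_mem fun z hz => E.conj_mem_Z (E.h_mem_B t) hz) _ hw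
  rwa [E.h_conj_u, ht, div_mul_cancel₀ _ x0, mul_zero] at this


/-- Standing hypotheses: G a finite group, S a Sylow p-subgroup, Q a nontrivial large p-subgroup of G contained in S, M a subgroup containing S with the basic property (M ∈ 𝔐_G(S)); Y_M the largest p-reduced normal subgroup of M and M† = M·C_G(Y_M). Let L ∈ 𝔏_G(Y_M) (L ∈ 𝔏_G(Y_M): Y_M ≤ L; O_p(L) is the normal closure in L of Y_M ∩ O_p(L) and normalizes Y_M; L is Y_M-minimal of characteristic p with N_L(Y_M) its unique maximal subgroup over Y_M; and L/O_p(L) ≅ SL₂(q) with q = |Y_M : Y_M ∩ O_p(L)|, or p = 2 and L/O_p(L) is a Suzuki group Sz(q) or dihedral of order 2r, r an odd prime) and A = O_p(L). Then Y_M·A/A is the unique nontrivial elementary abelian normal p-subgroup of N_L(Y_M)/A. -/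
theorem result {G : Type*} [Group G] [Finite G] {p : ℕ} [Fact p.Prime] (S : Sylow p G) (Q : Subgroup G) (hQp : IsPGroup p ↥Q) (hQ1 : Q ≠ ⊥) (hQS : Q ≤ (S : Subgroup G)) (hQ : Cfsg.IsLarge Q) (M : Subgroup G) (hSM : (S : Subgroup G) ≤ M) (hM : Cfsg.IsInFrakM p M) (L : Subgroup G) (hL : Cfsg.IsInFrakL p M L) (NL : Subgroup G) (hNL : NL = L ⊓ Subgroup.normalizer (((Cfsg.largestPReducedOf p M) : Subgroup G) : Set G)) [hn : (((Cfsg.pCoreOf p L)).subgroupOf NL).Normal] : let Ybar : Subgroup (↥NL ⧸ ((Cfsg.pCoreOf p L)).subgroupOf NL) := (((Cfsg.largestPReducedOf p M)).subgroupOf NL).map (QuotientGroup.mk' (((Cfsg.pCoreOf p L)).subgroupOf NL)); Ybar ≠ ⊥ ∧ Ybar.Normal ∧ Cfsg.IsElementaryAbelian p Ybar ∧ ∀ (V : Subgroup (↥NL ⧸ ((Cfsg.pCoreOf p L)).subgroupOf NL)), V.Normal → Cfsg.IsElementaryAbelian p V → V ≠ ⊥ → V = Ybar := by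
  have hp : p.Prime := Fact.out
  obtain ⟨h1, h2, h3, h4, -, ⟨h5, h6⟩, h7⟩ := hL
  have hY := isElemAb_Y (p := p) M
  generalize largestPReducedOf p M = Y at *
  let φ := QuotientGroup.mk' (pCore p L)
  have hk : φ.ker = pCore p L := QuotientGroup.ker_mk' _
  have hN : ∀ x : L, x ∈ 𝐍(Y.subgroupOf L) ↔ (x : G) ∈ 𝐍(Y) := fun x => by
    rw [← subgroupOf_normalizer_eq h1, mem_subgroupOf]
  have hpow : ∀ a ∈ (Y.subgroupOf L).map φ, a ^ p = 1 := by
    rintro _ ⟨a, ha, rfl⟩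
    rw [← map_pow, show a ^ p = 1 from Subtype.ext (hY.2 a ha), map_one]
  have hne : ¬ Y.subgroupOf L ≤ φ.ker := fun e => by
    have e1 : φ.ker = ⊤ := top_le_iff.1 (h4.1.ge.trans (normalClosure_le_normal e))
    refine absurd (le_inf le_rfl ?_) (not_le_of_gt h5)
    intro x hx
    exact h3 (mem_pCore_iff.1 (hk.le (e1.ge (mem_top (⟨x, hx⟩ : L)))))
  have hc : Nat.card ((Y.subgroupOf L).map φ) = (Y ⊓ pCoreOf p L).relIndex Y := by
    rw [← relIndex_ker, hk, ← pCoreOf_subgroupOf, relIndex_subgroupOf h1, inf_relIndex_left]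
  obtain ⟨k, hk'⟩ := (isPGroup_of_pow hpow).exists_card_eq
  have hk0 : k ≠ 0 := fun e => by
    rw [e, pow_zero, card_eq_one, Subgroup.map_eq_bot_iff] at hk'
    exact hne hk'
  have key : Irr ((Y.subgroupOf L).map φ) ∧ ∀ n ∈ 𝐍((Y.subgroupOf L).map φ), n ^ p = 1 →
      n ∈ (Y.subgroupOf L).map φ := by
    rcases h7 with ⟨F, _, _, hF, ⟨e⟩⟩ | ⟨rfl, F, _, _, m, hF, hF', ⟨e⟩⟩ | ⟨rfl, r, hr, hr2, ⟨e⟩⟩
    · rw [← hc, ← Nat.card_eq_fintype_card] at hF
      have : CharP F p := by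
        obtain ⟨q, hq, n, hq', hn⟩ := FiniteField.card' F
        have : q = p := by
          have : q ∣ p ^ k := by
            rw [← hk', ← hF, Nat.card_eq_fintype_card, hn]; exact dvd_pow_self q n.ne_zero
          exact (Nat.prime_dvd_prime_iff_eq hq' hp).1 (hq'.dvd_of_dvd_pow this)
        exact this ▸ hq
      have hi : ¬ p ∣ ((Y.subgroupOf L).map φ).index := fun hd => by
        have a1 := ((Y.subgroupOf L).map φ).card_mul_index
        rw [Nat.card_congr e.toEquiv, CF.Classical.card_SL_two', ← hF] at a1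
        rw [Nat.eq_of_mul_eq_mul_left Nat.card_pos a1, hF, hk'] at hd
        have a2 : p ∣ (p ^ k) ^ 2 := (dvd_pow_self p hk0).trans (dvd_pow_self _ two_ne_zero)
        have a3 := Nat.dvd_sub a2 hd
        rw [Nat.sub_sub_self (Nat.one_le_pow _ _ (pow_pos hp.pos k))] at a3
        exact hp.not_dvd_one a3
      refine ⟨Irr.of_map e (irr_SL (p := p) ((isPGroup_of_pow hpow).map _) ?_ ?_),
        fun n => mem_of_index (isPGroup_of_pow hpow) hi⟩
      · exact (index_map_equiv _ e).symm ▸ hi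
      · rw [card_map_of_injective e.injective, hF]
    · let D := (CF.BN.Suz.lieD F m hF).ofEquiv e
      have : Nat.card ((Y.subgroupOf L).map φ) = Nat.card F := by
        rw [hc, Nat.card_eq_fintype_card, hF']
      exact ⟨irr_sz D hpow this, fun n => sz_ord D hpow this⟩
    · have a1 := ((Y.subgroupOf L).map φ).card_mul_index
      rw [Nat.card_congr e.toEquiv, DihedralGroup.nat_card, hk'] at a1
      have hi : ¬ 2 ∣ ((Y.subgroupOf L).map φ).index := fun hd => by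
        have a2 : 2 * 2 ∣ 2 * r := a1 ▸ mul_dvd_mul (dvd_pow_self 2 hk0) hd
        exact hr2 ((Nat.prime_dvd_prime_iff_eq hp hr).1 (Nat.dvd_of_mul_dvd_mul_left two_pos a2)).symm
      refine ⟨fun W a b _ => ?_, fun n => mem_of_index (isPGroup_of_pow hpow) hi⟩
      have k1 : k = 1 := by
        by_contra k1
        have a2 : 2 * 2 ∣ 2 * r := a1 ▸ (dvd_mul_of_dvd_left
          (by rw [← sq]; exact pow_dvd_pow 2 (by omega)) _)
        exact hr2 ((Nat.prime_dvd_prime_iff_eq hp hr).1 (Nat.dvd_of_mul_dvd_mul_left two_pos a2)).symm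
      refine (eq_of_le_of_card_ge a ?_).ge
      rw [hk', k1]
      exact (one_lt_card_iff_ne_bot W).2 b
  have hmax : ∀ x : L, φ x ∈ 𝐍((Y.subgroupOf L).map φ) → (x : G) ∈ 𝐍(Y) := fun x hx => by
    refine (mem_inf.1 (h6 ((𝐍((Y.subgroupOf L).map φ)).comap φ |>.map L.subtype) ?_
      (lt_of_le_of_ne (map_subtype_le _) fun e => hne ?_) (mem_map_of_mem _ hx))).2
    · intro y hy
      exact ⟨⟨y, h1 hy⟩, le_normalizer (mem_map_of_mem φ hy), rfl⟩
    · have : ((Y.subgroupOf L).map φ).Normal := normalizer_eq_top_iff.1 (eq_top_iff.2 fun y _ => by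
        obtain ⟨y, rfl⟩ := QuotientGroup.mk'_surjective _ y
        obtain ⟨z, hz, e'⟩ := e.ge y.2
        exact (Subtype.ext e' : z = y) ▸ hz)
      exact (Subgroup.map_eq_bot_iff _).1 (le_bot_iff.1 ((le_pCore (isPGroup_of_pow hpow)).trans
        (pCore_quotient_pCore p L).le))
  subst hNL
  intro Yb
  let ψ := QuotientGroup.mk' ((pCoreOf p L).subgroupOf (L ⊓ 𝐍(Y)))
  let ι : ↥(L ⊓ 𝐍(Y)) →* L ⧸ pCore p L := φ.comp (inclusion inf_le_left)
  have br : ∀ x y, ψ x = ψ y ↔ ι x = ι y := fun x y => by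
    simp only [ψ, ι, φ, MonoidHom.comp_apply, QuotientGroup.mk'_apply, QuotientGroup.eq,
      mem_subgroupOf, mem_pCore_iff]
    rfl
  have yl : Y ≤ L ⊓ 𝐍(Y) := le_inf h1 le_normalizer
  have yn : (Y.subgroupOf (L ⊓ 𝐍(Y))).Normal := ⟨fun a ha b =>
    conj_mem_of_mem_normalizer (H := Y) (mem_inf.1 b.2).2 ha⟩
  have nι : ∀ x, ι x ∈ 𝐍((Y.subgroupOf L).map φ) := fun x =>
    le_normalizer_map φ (mem_map_of_mem φ ((hN _).2 (mem_inf.1 x.2).2))
  refine ⟨fun e => hne fun y hy => ?_, yn.map _ (QuotientGroup.mk'_surjective _), ⟨⟨⟨?_⟩⟩, ?_⟩,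
    fun V vn ve v1 => le_antisymm ?_ ?_⟩
  · have : ψ ⟨y, yl hy⟩ = ψ 1 := by
      rw [map_one]; exact mem_bot.1 (e.le (mem_map_of_mem ψ hy))
    have := (br _ _).1 this
    rwa [map_one] at this
  · rintro ⟨_, a, ha, rfl⟩ ⟨_, b, hb, rfl⟩
    apply Subtype.ext
    change ψ a * ψ b = ψ b * ψ a
    rw [← map_mul, ← map_mul]
    have := congrArg Subtype.val (hY.1.is_comm.comm (⟨(a : G), ha⟩ : Y) ⟨b, hb⟩)
    exact congrArg ψ (Subtype.ext this)
  · rintro _ ⟨a, ha, rfl⟩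
    rw [← map_pow, show a ^ p = 1 from Subtype.ext (hY.2 a ha), map_one]
  · intro v hv
    obtain ⟨v, rfl⟩ := QuotientGroup.mk'_surjective _ v
    obtain ⟨y, hy, e⟩ := key.2 _ (nι v) (by
      have := (br (v ^ p) 1).1 (by rw [map_pow, map_one]; exact ve.2 _ hv)
      rwa [map_pow, map_one] at this)
    exact ⟨⟨y, yl hy⟩, hy, (br _ _).2 e⟩
  · have := key.1 ((V.comap ψ).map ι) (by
      rintro _ ⟨v, hv, rfl⟩
      exact key.2 _ (nι v) (by
        have := (br (v ^ p) 1).1 (by rw [map_pow, map_one]; exact ve.2 _ hv)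
        rwa [map_pow, map_one] at this)) (fun e => v1 (eq_bot_iff.2 fun v hv => by
          obtain ⟨v, rfl⟩ := QuotientGroup.mk'_surjective _ v
          have := (br v 1).2 (by rw [map_one]; exact mem_bot.1 (e.le (mem_map_of_mem ι hv)))
          rwa [map_one] at this)) (by
      rintro n hn _ ⟨v, hv, rfl⟩
      obtain ⟨n, rfl⟩ := QuotientGroup.mk'_surjective _ n
      refine ⟨⟨n, n.2, hmax n hn⟩ * v * (⟨n, n.2, hmax n hn⟩ : ↥(L ⊓ 𝐍(Y)))⁻¹, ?_, by
        rw [map_mul, map_mul, map_inv]; rfl⟩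
      rw [SetLike.mem_coe, mem_comap, map_mul, map_mul, map_inv]
      exact vn.conj_mem _ hv _)
    rintro _ ⟨y, hy, rfl⟩
    obtain ⟨v, hv, e⟩ := this (mem_map_of_mem φ (show (⟨y, h1 hy⟩ : L) ∈ _ from hy))
    exact ((br v y).2 e) ▸ hv

end Cfsg.Agent.S2861
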