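import Cfsg.Statements.S2862
import Cfsg.Agent.Loc.FrakM2
-- import your own Cfsg.Agent.* helpers here

set_option autoImplicit false
open Cfsg

namespace Cfsg.Agent.S2862

open Cfsg CF.Loc Subgroup
open scoped commutatorElement


/-- Standing hypotheses: G a finite group, S a Sylow p-subgroup, Q a nontrivial large p-subgroup of G contained in S, M a subgroup containing S with the basic property (M ∈ 𝔐_G(S)); Y_M the largest p-reduced normal subgroup of M and M† = M·C_G(Y_M). Suppose Y_M is char-p-tall and asymmetric in G, H ∈ ℌ_G(O_p(M)), and L is minimal among the subgroups of H containing Y_M with Y_M ≰ O_p(L). Then H = ⟨L, O_p(M)⟩ = ⟨hY_Mh⁻¹, O_p(M)⟩ for every h ∈ L outside N_L(Y_M); L is Y_M-minimal and of characteristic p, with N_L(Y_M) the unique maximal subgroup of L containing Y_M; [V, O^p(L)] ≠ 1 for every noncentral chief factor V/W of H inside O_p(H) (that is, O^p(L) does not act trivially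 on V/W); and the normal closure of O_p(L) ∩ Y_M in L lies in O_p(H). -/
theorem result {G : Type*} [Group G] [Finite G] {p : ℕ} [Fact p.Prime] (S : Sylow p G) (Q : Subgroup G) (hQp : IsPGroup p ↥Q) (hQ1 : Q ≠ ⊥) (hQS : Q ≤ (S : Subgroup G)) (hQ : Cfsg.IsLarge Q) (M : Subgroup G) (hSM : (S : Subgroup G) ≤ M) (hM : Cfsg.IsInFrakM p M) (htall : Cfsg.IsCharPTall p (Cfsg.largestPReducedOf p M)) (hasym : ¬ Cfsg.IsSymmetricIn (Cfsg.largestPReducedOf p M)) (H : Subgroup G) (hH : Cfsg.IsInFrakH p M H) (L : Subgroup G) (hLH : L ≤ H) (hYL : (Cfsg.largestPReducedOf p M) ≤ L) (hYO : ¬ (Cfsg.largestPReducedOf p M) ≤ (Cfsg.pCoreOf p L)) (hmin : ∀ L' : Subgroup G, L' ≤ L → (Cfsg.largestPReducedOf p M) ≤ L' → ¬ (Cfsg.largestPReducedOf p M) ≤ (Cfsg.pCoreOf p L') → L' = L) : (L ⊔ (Cfsg.pCoreOf p M) = H ∧ ∀ h ∈ L, h ∉ Subgroup.normalizer (((Cfsg.largestPReducedOf p M) : Subgroup G) : Set G) → (((Cfsg.largestPReducedOf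 p M) : Subgroup G).map (MulAut.conj (h : G)).toMonoidHom) ⊔ (Cfsg.pCoreOf p M) = H) ∧ (Cfsg.IsMinimalOver (((Cfsg.largestPReducedOf p M)).subgroupOf L) ∧ Subgroup.centralizer (Cfsg.pCore p ↥L : Set ↥L) ≤ Cfsg.pCore p ↥L ∧ L ⊓ Subgroup.normalizer (((Cfsg.largestPReducedOf p M) : Subgroup G) : Set G) < L ∧ ∀ X : Subgroup G, (Cfsg.largestPReducedOf p M) ≤ X → X < L → X ≤ L ⊓ Subgroup.normalizer (((Cfsg.largestPReducedOf p M) : Subgroup G) : Set G)) ∧ (∀ V W' : Subgroup G, V ≤ (Cfsg.pCoreOf p H) → H ≤ Subgroup.normalizer ((V : Subgroup G) : Set G) → H ≤ Subgroup.normalizer ((W' : Subgroup G) : Set G) → W' < V → (∀ Z' : Subgroup G, H ≤ Subgroup.normalizer ((Z' : Subgroup G) : Set G) → W' ≤ Z' → Z' ≤ V → Z' = W' ∨ Z' = V) → ¬ ⁅V, H⁆ ≤ W' → ¬ ⁅V, ((Cfsg.pResidual p ↥L).map (L).subtype)⁆ ≤ W') ∧ (Subgroup.normalClosure (((((Cfsg.pCoreOf p L) ⊓ (Cfsg.largestPReducedOf p M)).subgroupOf L : Subgroup ↥L)) : Set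 ↥L)).map L.subtype ≤ (Cfsg.pCoreOf p H) := by
  have h := fM_of_large hQ hQp hQ1 S hSM hM
  have ha := asym_of_not_symmetric hasym
  have hH' := fH_iff.2 hH
  have hP : WC p 𝐎[p](M) H := (h.wC ha).mono hH'.2.1 le_top
  have hYP : 𝐘[p](M) ≤ 𝐎[p](M) := Y_le_pCoreOf M
  have hPY : 𝐎[p](M) ≤ 𝐂(𝐘[p](M)) := pCoreOf_le_centralizer_Y M
  have hN : H ⊓ 𝐍(𝐎[p](M)) ≤ 𝐍(𝐘[p](M)) := inf_le_right.trans h.normalizer_core_le
  have hLP : L ⊔ 𝐎[p](M) = H := by
    by_contra hne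
    exact hYO ((le_inf hYL (hH'.2.2.2 _ le_sup_right
      (lt_of_le_of_ne (sup_le hLH hH'.2.1) hne))).trans (inf_pCoreOf_le le_sup_left))
  obtain ⟨g, hg, hg'⟩ := exists_not_isPGroup_sup_cj hYL hYO
  have hgen := sup_cj_eq_of_min (isPGroup_Y M) hYL hmin hg hg'
  have hw := wC_of_asym hH'.1 hP hYP hPY hN hLH hg hgen ha
  have hu : UMax 𝐘[p](M) (L ⊓ 𝐍(𝐘[p](M))) L := by
    refine ⟨le_inf hYL le_normalizer, lt_of_le_of_ne inf_le_left fun e => hYO
      (CF.Loc.le_pCoreOf (isPGroup_Y M) hYL (inf_eq_left.1 e)), fun X a b => le_inf b.le ?_⟩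
    have c : 𝐘[p](M) ≤ 𝐎[p](X) := by
      by_contra c
      exact b.ne (hmin X b.le a c)
    exact (le_inf b.le (le_normalizer_pCoreOf p X)).trans
      (hw.normalizer_le (isPGroup_pCoreOf p X) c)
  have hn : ncl 𝐘[p](M) L = L :=
    le_antisymm (ncl_le_of_le hYL) (hgen.ge.trans (sup_le (le_ncl _ _) (cj_le_ncl hg)))
  have w2 : 𝐎[p](H) ≤ 𝐍(𝐘[p](M)) := (h.le_normalizer_core ha (isPGroup_pCoreOf p H)
    (hH'.2.1.trans (le_normalizer_pCoreOf p H))).trans h.normalizer_core_le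
  have d1 : ⁅𝐎[p](H), 𝐘[p](M)⁆ ≤ 𝐘[p](M) := commutator_le_right_of_le_normalizer w2
  obtain ⟨q1, -, -⟩ := quad_pair (hLH.trans (le_normalizer_pCoreOf p H)) hg
    (d1.trans (hYP.trans hPY)) hgen
  refine ⟨⟨hLP, fun l hl hl' => ?_⟩, ⟨(isMinimalOver_subgroupOf_iff hYL).2 ⟨hn, _, hu⟩,
    isCharP_iff.1 ?_, hu.lt, hu.2.2⟩, fun V W' a1 a2 a3 a4 a5 a6 a7 => a6 ?_, ?_⟩
  · refine le_antisymm (sup_le (cj_le_of_mem (hLH hl) hH'.Y_le) hH'.2.1) ?_
    rw [← hLP, ← hu.sup_cj hn hl fun c => hl' c.2]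
    exact sup_le (sup_le (le_sup_of_le_right hYP) le_sup_left) le_sup_right
  · refine hH'.1.of_pCoreOf_le_normalizer hLH (le_normalizer_of_commutator_le le_rfl ?_)
    rw [commutator_comm, ← q1]
    exact sup_le (d1.trans hYL) (cj_le_of_mem hg (d1.trans hYL))
  · have b1 : 𝐑[p](L) ≤ H ⊓ secCent V W' := le_inf ((pResidualOf_le p L).trans hLH)
      (le_secCent_iff.2 ⟨((pResidualOf_le p L).trans hLH).trans a3, a7⟩)
    have b2 : 𝐑[p](L) ⊔ 𝐘[p](M) = L := by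
      have b3 : 𝐑[p](L) ⊔ 𝐘[p](M) ≤ L := sup_le (pResidualOf_le p L) hYL
      exact (sn_of_pResidualOf_le le_sup_left b3).eq_of_ncl_eq
        (le_antisymm (ncl_le_of_le b3) (hn.ge.trans (ncl_mono le_sup_right le_rfl)))
    have b4 : H ≤ (H ⊓ secCent V W') ⊔ 𝐎[p](M) := by
      conv_lhs => rw [← hLP, ← b2]
      exact sup_le (sup_le_sup b1 hYP) le_sup_right
    have b5 : ⁅V, H⁆ ≤ ⁅V, 𝐎[p](M)⁆ ⊔ W' := by
      have n : ⁅V, 𝐎[p](M)⁆ ⊔ W' ≤ V :=
        sup_le (commutator_le_left_of_le_normalizer (hH'.2.1.trans a2)) a4.le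
      have c1 : ⁅V, H ⊓ secCent V W'⁆ ≤ ⁅V, 𝐎[p](M)⁆ ⊔ W' :=
        le_sup_of_le_right ((commutator_mono le_rfl inf_le_right).trans (commutator_secCent_le _ _))
      exact (commutator_mono le_rfl b4).trans (commutator_sup_right_le
        (le_normalizer_of_commutator_le n c1) (le_normalizer_of_commutator_le n le_sup_left)
        c1 le_sup_left)
    rcases a5 (⁅V, H⁆ ⊔ W') (le_normalizer_sup (le_normalizer_commutator a2 le_normalizer) a3)
      le_sup_right (sup_le (commutator_le_left_of_le_normalizer a2) a4.le) with e | e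
    · exact le_sup_left.trans e.le
    · refine absurd (le_of_le_commutator_sup (P := 𝐎[p](H) ⊔ 𝐎[p](M))
        (isPGroup_sup (isPGroup_pCoreOf p H) (isPGroup_pCoreOf p M)
          (hH'.2.1.trans (le_normalizer_pCoreOf p H))) (le_sup_of_le_left a1) le_sup_right
        ((sup_le (pCoreOf_le p H) hH'.2.1).trans a3) (e.ge.trans (sup_le b5 le_sup_right)))
        a4.not_ge
  · rw [map_normalClosure_subgroupOf (inf_le_right.trans hYL)]
    refine ncl_le (inf_le_pCoreOf_of_gen hH'.1 hP hYP hPY hN hLH hg hgen hLP inf_le_right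
      (inf_le_left.trans ?_)) (hLH.trans (le_normalizer_pCoreOf p H))
    exact (hw.cj_of_mem hg).le_normalizer' (isPGroup_pCoreOf p L)
      ((cj_le_of_mem hg hYL).trans (le_normalizer_pCoreOf p L)) (pCoreOf_le p L)

end Cfsg.Agent.S2862
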