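import Cfsg.Statements.S2863
import Cfsg.Agent.PLocal.FrL

set_option autoImplicit false
open Cfsg

namespace Cfsg.Agent.S2863

open Subgroup CF.Loc CF.FrL

/-- Standing hypotheses: G a finite group, S a Sylow p-subgroup, Q a nontrivial large p-subgroup of G contained in S, M a subgroup containing S with the basic property (M ∈ 𝔐_G(S)); Y_M the largest p-reduced normal subgroup of M and M† = M·C_G(Y_M). Let L ∈ 𝔏_G(Y_M) (L ∈ 𝔏_G(Y_M): Y_M ≤ L; O_p(L) is the normal closure in L of Y_M ∩ O_p(L) and normalizes Y_M; L is Y_M-minimal of characteristic p with N_L(Y_M) its unique maximal subgroup over Y_M; and L/O_p(L) ≅ SL₂(q) with q = |Y_M : Y_M ∩ O_p(L)|, or p = 2 and L/O_p(L) is a Suzuki group Sz(q) or dihedral of order 2r, r an odd prime), A = O_p(L), and C = C_{Y_M}(L). Then every element h of L whose order is not a power of p acts without nontrivial fixed points on A/C: for a ∈ A, hah⁻¹a⁻¹ ∈ C implies a ∈ C. -/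
theorem result {G : Type*} [Group G] [Finite G] {p : ℕ} [Fact p.Prime] (S : Sylow p G) (Q : Subgroup G) (hQp : IsPGroup p ↥Q) (hQ1 : Q ≠ ⊥) (hQS : Q ≤ (S : Subgroup G)) (hQ : Cfsg.IsLarge Q) (M : Subgroup G) (hSM : (S : Subgroup G) ≤ M) (hM : Cfsg.IsInFrakM p M) (L : Subgroup G) (hL : Cfsg.IsInFrakL p M L) (h : G) (hh : h ∈ L) (hnp : ¬ ∃ k : ℕ, orderOf h = p ^ k) : ∀ a ∈ (Cfsg.pCoreOf p L), h * a * h⁻¹ * a⁻¹ ∈ (Cfsg.largestPReducedOf p M) ⊓ Subgroup.centralizer ((L : Subgroup G) : Set G) → a ∈ (Cfsg.largestPReducedOf p M) ⊓ Subgroup.centralizer ((L : Subgroup G) : Set G) := by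
  have hp : p.Prime := Fact.out
  obtain ⟨h1, h2, h3, h4, -, ⟨h5, h6⟩, h7⟩ := hL
  have hY := isElemAb_Y (p := p) M
  generalize largestPReducedOf p M = Y at *
  let φ := QuotientGroup.mk' (pCore p L)
  have hk : φ.ker = pCore p L := QuotientGroup.ker_mk' _
  have hn : (Y.subgroupOf L ⊓ center L).Normal := ⟨fun a ha b => by
    rw [mem_center_iff.1 (mem_inf.1 ha).2 b]; simpa using ha⟩
  let π := QuotientGroup.mk' (Y.subgroupOf L ⊓ center L)
  have hN : ∀ x : L, x ∈ 𝐍(Y.subgroupOf L) ↔ (x : G) ∈ 𝐍(Y) := fun x => by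
    rw [← subgroupOf_normalizer_eq h1, mem_subgroupOf]
  have hpow : ∀ a ∈ (Y.subgroupOf L).map φ, a ^ p = 1 := by
    rintro _ ⟨a, ha, rfl⟩
    rw [← map_pow, show a ^ p = 1 from Subtype.ext (hY.2 a ha), map_one]
  have hne : ¬ Y.subgroupOf L ≤ φ.ker := fun e => by
    have e1 : φ.ker = ⊤ := top_le_iff.1 (h4.1.ge.trans (normalClosure_le_normal e))
    refine absurd (le_inf le_rfl ?_) (not_le_of_gt h5)
    intro x hx
    exact h3 (mem_pCore_iff.1 (hk.le (e1.ge (mem_top (⟨x, hx⟩ : L)))))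
  have hc : Nat.card ((Y.subgroupOf L).map φ) = (Y ⊓ pCoreOf p L).relIndex Y := by
    rw [← relIndex_ker, hk, ← pCoreOf_subgroupOf, relIndex_subgroupOf h1, inf_relIndex_left]
  obtain ⟨k, hk'⟩ := (isPGroup_of_pow hpow).exists_card_eq
  have hk0 : k ≠ 0 := fun e => by
    rw [e, pow_zero, card_eq_one, Subgroup.map_eq_bot_iff] at hk'
    exact hne hk'
  have key : Good p (L ⧸ pCore p L) ∧ ∀ n ∈ 𝐍((Y.subgroupOf L).map φ), n ^ p = 1 →
      n ∈ (Y.subgroupOf L).map φ := by
    rcases h7 with ⟨F, _, _, hF, ⟨e⟩⟩ | ⟨rfl, F, _, _, m, hF, hF', ⟨e⟩⟩ | ⟨rfl, r, hr, hr2, ⟨e⟩⟩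
    · rw [← hc, ← Nat.card_eq_fintype_card] at hF
      have : CharP F p := by
        obtain ⟨q, hq, n, hq', hn⟩ := FiniteField.card' F
        have : q = p := by
          have : q ∣ p ^ k := by
            rw [← hk', ← hF, Nat.card_eq_fintype_card, hn]; exact dvd_pow_self q n.ne_zero
          exact (Nat.prime_dvd_prime_iff_eq hq' hp).1 (hq'.dvd_of_dvd_pow this)
        exact this ▸ hq
      refine ⟨(good_SL (F := F)).of_equiv e, fun n => mem_of_index (isPGroup_of_pow hpow) fun hd => ?_⟩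
      have a1 := ((Y.subgroupOf L).map φ).card_mul_index
      rw [Nat.card_congr e.toEquiv, CF.Classical.card_SL_two', ← hF] at a1
      rw [Nat.eq_of_mul_eq_mul_left Nat.card_pos a1, hF, hk'] at hd
      have a2 : p ∣ (p ^ k) ^ 2 := (dvd_pow_self p hk0).trans (dvd_pow_self _ two_ne_zero)
      have a3 := Nat.dvd_sub a2 hd
      rw [Nat.sub_sub_self (Nat.one_le_pow _ _ (pow_pos hp.pos k))] at a3
      exact hp.not_dvd_one a3
    · let D := (CF.BN.Suz.lieD F m hF).ofEquiv e
      exact ⟨good_sz D (by rw [Nat.card_eq_fintype_card, hF]), fun n => sz_ord D hpow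
        (by rw [hc, Nat.card_eq_fintype_card, hF'])⟩
    · refine ⟨(good_dih r).of_equiv e, fun n => mem_of_index (isPGroup_of_pow hpow) fun hd => ?_⟩
      have a1 := ((Y.subgroupOf L).map φ).card_mul_index
      rw [Nat.card_congr e.toEquiv, DihedralGroup.nat_card, hk'] at a1
      have a2 : 2 * 2 ∣ 2 * r := a1 ▸ mul_dvd_mul (dvd_pow_self 2 hk0) hd
      exact hr2 ((Nat.prime_dvd_prime_iff_eq hp hr).1 (Nat.dvd_of_mul_dvd_mul_left two_pos a2)).symm
  have hS : St p φ π (Y.subgroupOf L) :=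
    { surj := QuotientGroup.mk'_surjective _
      kerP := by rw [hk]; exact isPGroup_pCore p L
      core := fun Q _ hQ => le_bot_iff.1 ((le_pCore hQ).trans (pCore_quotient_pCore p L).le)
      comm := fun a ha b hb => by
        have := congrArg Subtype.val (hY.1.is_comm.comm (⟨(b : G), hb⟩ : Y) ⟨a, ha⟩)
        exact Subtype.ext this
      pow := fun a ha => Subtype.ext (hY.2 a ha)
      gen := fun B hB hle => by
        rw [hk, ← pCoreOf_subgroupOf] at hle ⊢
        rw [h2, subgroupOf, comap_map_eq_self_of_injective L.subtype_injective]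
        exact normalClosure_le_normal hle
      norm := fun x hx => (hN x).2 (h3 (mem_pCore_iff.1 (hk.le hx)))
      max := fun X a1 a2 x hx => (hN x).2 (mem_inf.1 (h6 (X.map L.subtype)
        (by rw [← map_subgroupOf_eq_of_le h1]; exact map_mono a1)
        (lt_of_le_of_ne (map_subtype_le X) fun e => a2 (eq_top_iff.2 fun y _ => by
          obtain ⟨z, hz, e'⟩ := e.ge y.2
          exact (Subtype.ext e' : z = y) ▸ hz)) (mem_map_of_mem _ hx))).2
      ne1 := hne
      ord := fun n hn => key.2 _ (le_normalizer_map φ (mem_map_of_mem φ hn))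
      ker := QuotientGroup.ker_mk' _ }
  have hZ : ∀ x : L, π x = 1 ↔ (x : G) ∈ Y ⊓ 𝐂(L) := fun x => by
    rw [← MonoidHom.mem_ker, hS.ker, mem_inf, mem_inf, mem_subgroupOf, mem_center_iff,
      mem_centralizer_iff']
    exact and_congr_right fun _ => ⟨fun a y hy => congrArg Subtype.val (a ⟨y, hy⟩),
      fun a y => Subtype.ext (a y y.2)⟩
  intro a ha hc
  have haL := pCoreOf_le p L ha
  exact (hZ ⟨a, haL⟩).1 (hS.main key.1 (x := ⟨h, hh⟩) (by rwa [orderOf_mk])
    (hk.ge (mem_pCore_iff.2 ha)) (commute_iff.2 ((hZ _).2 hc)))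

end Cfsg.Agent.S2863
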