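import Cfsg.Statements.S2864
import Cfsg.Agent.Loc.FrakM
-- import your own Cfsg.Agent.* helpers here

set_option autoImplicit false
open Cfsg

namespace Cfsg.Agent.S2864

open Cfsg CF.Loc Subgroup
open scoped commutatorElement


/-- Standing hypotheses: G a finite group, S a Sylow p-subgroup, Q a nontrivial large p-subgroup of G contained in S, M a subgroup containing S with the basic property (M ∈ 𝔐_G(S)); Y_M the largest p-reduced normal subgroup of M and M† = M·C_G(Y_M). Let I be a nontrivial normal p-subgroup of M and Y ≤ O_p(M†); let L be a subgroup of G containing Y and A a normal p-subgroup of L with I ≤ A ≤ M. If [Y, A] ≤ [I, A], then Y ≤ O_p(L). -/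
theorem result {G : Type*} [Group G] [Finite G] {p : ℕ} [Fact p.Prime] (S : Sylow p G) (Q : Subgroup G) (hQp : IsPGroup p ↥Q) (hQ1 : Q ≠ ⊥) (hQS : Q ≤ (S : Subgroup G)) (hQ : Cfsg.IsLarge Q) (M : Subgroup G) (hSM : (S : Subgroup G) ≤ M) (hM : Cfsg.IsInFrakM p M) (I : Subgroup G) (hI1 : I ≠ ⊥) (hIp : IsPGroup p ↥I) (hIM : I ≤ M ∧ M ≤ Subgroup.normalizer ((I : Subgroup G) : Set G)) (Y : Subgroup G) (hY : Y ≤ (Cfsg.pCoreOf p (M ⊔ Subgroup.centralizer (((Cfsg.largestPReducedOf p M) : Subgroup G) : Set G)))) (L : Subgroup G) (hYL : Y ≤ L) (A : Subgroup G) (hAp : IsPGroup p ↥A) (hAL : A ≤ L ∧ L ≤ Subgroup.normalizer ((A : Subgroup G) : Set G)) (hIA : I ≤ A) (hAM : A ≤ M) (hc : ⁅Y, A⁆ ≤ ⁅I, A⁆) : Y ≤ (Cfsg.pCoreOf p L) := by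
  have h := fM_of_large hQ hQp hQ1 S hSM hM
  have a1 : ncl Y L ≤ secCent A ⁅A, A⁆ := ncl_le (le_secCent_iff.2
    ⟨le_normalizer_commutator (hYL.trans hAL.2) (hYL.trans hAL.2), by
      rw [commutator_comm]; exact hc.trans (commutator_mono hIA le_rfl)⟩)
    (le_normalizer_secCent hAL.2 (le_normalizer_commutator hAL.2 hAL.2))
  have a2 : ncl Y L ≤ L := ncl_le_of_le hYL
  have a3 := pResidualOf_le_centralizer_of_commutator_le hAp (a2.trans hAL.2)
    (le_secCent_iff.1 a1).2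
  have a4 := (a3.trans (centralizer_le_normalizer_of_le hIA)).trans (h.normalizer_le hIp hI1 hIM.2)
  have a5 : 𝐑[p](ncl Y L) ⊔ Y ≤ ncl Y L := sup_le (pResidualOf_le p _) (le_ncl Y L)
  have a6 : Sn (𝐑[p](ncl Y L) ⊔ Y) L := (sn_of_pResidualOf_le le_sup_left a5).trans
    (Sn.of_normal a2 (le_normalizer_ncl Y L))
  exact ((le_inf le_sup_right hY).trans
    (inf_pCoreOf_le (sup_le a4 (hY.trans (pCoreOf_le p _))))).trans a6.pCoreOf_le

end Cfsg.Agent.S2864
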