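import Cfsg.Statements.S2872
import Cfsg.Agent.Loc.Iso
import Cfsg.Agent.Fgs1.PGroup
-- import your own Cfsg.Agent.* helpers here

set_option autoImplicit false
open Cfsg

namespace Cfsg.Agent.S2872

open Cfsg CF.Loc Subgroup
open scoped commutatorElement

theorem aux {G : Type*} [Group G] [Finite G] (S : Sylow 2 G) (h1 : pResidual 2 G = ⊤) {z : G}
    (hz1 : z ∈ (S : Subgroup G)) (hz : z ∈ 𝐂((S : Subgroup G))) (hz2 : z ^ 2 = 1)
    (h3 : ∀ g ∈ 𝐍((S : Subgroup G)), g * z * g⁻¹ = z) : z ∈ (frattini (S : Subgroup G)).map (S : Subgroup G).subtype := by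
  refine ⟨⟨z, hz1⟩, CF.Fgs1.mem_frattini_iff.2 fun M hM => ?_, rfl⟩
  by_contra hzM
  have h4 : (M.map (S : Subgroup G).subtype).relIndex S = 2 := by
    rw [relIndex, ← comap_subtype, comap_map_eq_self_of_injective (subtype_injective _)]
    exact CF.Fgs1.index_eq_of_isCoatom S.isPGroup' hM
  have h5 : z ∈ commutator G :=
    CF.Invol.mem_commutator_of_mem_sup (p := 2) (mem_sup_left (h1.ge (mem_top z)))
      (orderOf_eq_pow_of_mem S.isPGroup' hz1)
  obtain ⟨g, h5, h6⟩ := extremal_transfer S.not_dvd_index (map_subtype_le M) h4 hz2 h5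
    S.isPGroup' (le_centralizer_singleton_iff.2 hz)
  have h7 := h3 _ (mem_normalizer_of_cj_le h6)
  rw [inv_inv] at h7
  rw [h7] at h5
  obtain ⟨y, hy, e⟩ := h5
  have e' : y = ⟨z, hz1⟩ := Subtype.ext e
  rw [e'] at hy
  exact hzM hy

/-- Let S be a Sylow 2-subgroup of the finite group G. Then G has a proper normal subgroup of 2-power index (O²(G) ≠ G), or Ω₁(Z(S)) is contained in the Frattini subgroup of S, or N_G(S) acts nontrivially on Ω₁(Z(S)) by conjugation. -/
theorem result {G : Type*} [Group G] [Finite G] (S : Sylow 2 G) : Cfsg.pResidual 2 G ≠ ⊤ ∨ Cfsg.omegaOne 2 ((S : Subgroup G) ⊓ Subgroup.centralizer ((S : Subgroup G) : Set G)) ≤ (frattini ↥(S : Subgroup G)).map (S : Subgroup G).subtype ∨ ∃ g ∈ Subgroup.normalizer ((S : Subgroup G) : Set G), ∃ z ∈ Cfsg.omegaOne 2 ((S : Subgroup G) ⊓ Subgroup.centralizer ((S : Subgroup G) : Set G)), g * z * g⁻¹ ≠ z := by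
  by_cases h1 : pResidual 2 G = ⊤
  swap
  · exact Or.inl h1
  refine Or.inr (or_iff_not_imp_right.2 fun h3 z hz => ?_)
  obtain ⟨hzS, hz2⟩ := (mem_omegaOne_iff_of_comm (inf_le_right.trans (centralizer_anti inf_le_left))).1 hz
  refine aux S h1 hzS.1 hzS.2 hz2 fun g hg => ?_
  by_contra e
  exact h3 ⟨g, hg, z, hz, e⟩

end Cfsg.Agent.S2872
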