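import Cfsg.Statements.S2873
import Cfsg.Agent.S0200
import Cfsg.Agent.BG.B10
import Cfsg.Agent.Solv.Cores

set_option autoImplicit false
open Cfsg

namespace Cfsg.Agent.S2873

open Subgroup CF.BG

/-- Let G be a finite group and r an odd prime such that G ⧸ O₂(G) is dihedral of order 2r, and let R be a Sylow r-subgroup of G with C_{O₂(G)}(R) = 1. Then N_G(R) is dihedral of order 2r; for any involution a of N_G(R), every involution of G outside O₂(G) is conjugate to a; and |C_{O₂(G)}(a)|² = |O₂(G)|. -/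
theorem result {G : Type*} [Group G] [Finite G] {r : ℕ} [Fact r.Prime] (hr : r ≠ 2) [hN : (Cfsg.pCore 2 G).Normal] (hquot : Nonempty (G ⧸ Cfsg.pCore 2 G ≃* DihedralGroup r)) (R : Sylow r G) (hC : Cfsg.pCore 2 G ⊓ Subgroup.centralizer ((R : Subgroup G) : Set G) = ⊥) : Nonempty (↥(Subgroup.normalizer ((R : Subgroup G) : Set G)) ≃* DihedralGroup r) ∧ ∀ a : G, a ∈ Subgroup.normalizer ((R : Subgroup G) : Set G) → orderOf a = 2 → (∀ b : G, orderOf b = 2 → b ∉ Cfsg.pCore 2 G → ∃ g : G, g * a * g⁻¹ = b) ∧ Nat.card ↥(Cfsg.pCore 2 G ⊓ Subgroup.centralizer ({a} : Set G)) ^ 2 = Nat.card ↥(Cfsg.pCore 2 G) := by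
  obtain ⟨e⟩ := hquot
  have pr : r.Prime := Fact.out
  haveI := Fact.mk Nat.prime_two
  have p2 := Nat.prime_two
  have pQ : PiGrp {2} (pCore 2 G) := (piGrp_iff_isPGroup p2).2 CF.Solv.pCore_isPGroup
  have mx : ∀ N : Subgroup G, N.Normal → IsPGroup 2 N → N ≤ pCore 2 G := fun N _ h => CF.Solv.le_pCore h
  have hR := syl_sylow_top R
  generalize (R : Subgroup G) = R at *
  generalize pCore 2 G = Q at *
  have nQ := normalIn_top.2 hN
  let π : G →* DihedralGroup r := e.toMonoidHom.comp (QuotientGroup.mk' Q)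
  have kπ : ∀ {g}, π g = 1 ↔ g ∈ Q := by simp [π]
  have iQ : Q.index = 2 * r := by rw [index_eq_card, Nat.card_congr e.toEquiv, DihedralGroup.nat_card]
  have cG := Q.card_mul_index
  have c2 : r.Coprime 2 := (Nat.coprime_primes pr p2).2 hr
  have RQ : R ⊓ Q = ⊥ := by
    exact CF.BG.inf_eq_bot_of_coprime (by rw [hR.pi.card_eq, pQ.card_eq]; exact c2.pow _ _)
  have cR : ♯R = r := by
    have a := relIndex_dvd_of_norm (K := Q) (le_top (a := R)) nQ.norm
    rw [relIndex_of_inf_bot (by rwa [inf_comm]), relIndex_top_right, iQ] at a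
    refine Nat.dvd_antisymm (Nat.Coprime.dvd_of_dvd_mul_left (by rw [hR.pi.card_eq]; exact c2.pow_left _) a) ?_
    refine ((Nat.Prime.dvd_mul pr).1 ?_).resolve_right (hR.not_dvd pr)
    rw [hR.card_mul, card_top, ← cG, iQ]
    exact ⟨♯Q * 2, by ring⟩
  have NQ : Q ⊓ 𝐍 R = ⊥ := (inf_norm_eq_inf_cent (le_top.trans nQ.norm) RQ).trans hC
  have pos := card_pos' Q
  have cN : ♯(𝐍 R) = 2 * r := by
    have nK : (Q ⊔ R).Normal := normal_of_index_eq_two (by
      have := (Q ⊔ R).card_mul_index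
      rw [card_sup_of_inf_bot (.inr (le_top.trans nQ.norm)) (by rwa [inf_comm]), cR, ← cG, iQ, mul_assoc,
        mul_right_inj' pos.ne', mul_comm 2, mul_right_inj' pr.ne_zero] at this
      exact this)
    have := (hR.of_le le_sup_right le_top).syl_frattini_sup (normalIn_top.2 nK)
    rw [top_inf_eq, sup_assoc, sup_eq_right.2 (le_norm_self R)] at this
    have := (SDProd.of_normal nQ this NQ).card
    rwa [card_top, ← cG, iQ, mul_right_inj' pos.ne'] at this
  have inj : Function.Injective (π.comp (𝐍 R).subtype) := (injective_iff_map_eq_one _).2 fun g hg =>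
    Subtype.ext (eq_one_of_mem_bot NQ ⟨kπ.1 hg, g.2⟩)
  let f := MulEquiv.ofBijective _ ((Nat.bijective_iff_injective_and_card _).2
    ⟨inj, by rw [cN, DihedralGroup.nat_card]⟩)
  have cj1 : ∀ z, orderOf z = r → ∃ g, cj g (zpowers z) = R := fun z hz => by
    have : ♯(zpowers z) = r := by rw [Nat.card_zpowers, hz]
    obtain ⟨g, -, l⟩ := hR.syl_cj_le le_top (piGrp_of_card_prime pr this)
    exact ⟨g, eq_of_card_eq l (by rw [card_cj, this, cR])⟩
  have ord : ∀ {y : G}, r ∣ orderOf y → orderOf (y ^ (orderOf y / r)) = r := fun h =>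
    orderOf_pow_orderOf_div (orderOf_pos _).ne' h
  have cq : ∀ y, r ∣ orderOf y → ∀ q ∈ Q, q * y = y * q → q = 1 := fun y h q hq c => by
    obtain ⟨g, hg⟩ := cj1 _ (ord h)
    refine conj_eq_one_iff.1 (eq_one_of_mem_bot hC ⟨hN.conj_mem q hq g, ?_⟩)
    rw [← hg, ← cj_cent, cent_zpowers]
    exact conj_mem_cj.2 (mem_cent1.2 (Commute.pow_right c _))
  refine ⟨⟨f⟩, fun a ha a2 => ⟨fun b b2 hb => ?_, ?_⟩⟩
  · obtain ⟨y, y1, o, hy⟩ := Cfsg.Agent.S0200.result b b2 fun N n p m => hb (mx N n p m)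
    have d : orderOf y ∣ r := by
      have := orderOf_dvd_natCard y
      rw [← cG, iQ, pQ.card_eq, ← mul_assoc, ← pow_succ] at this
      exact ((Nat.coprime_two_right.2 o).pow_right _).dvd_of_dvd_mul_left this
    obtain ⟨g, hg⟩ := cj1 y (((Nat.dvd_prime pr).1 d).resolve_left (by simpa using y1))
    have s : ∀ t ∈ 𝐍 R, orderOf t = 2 → Syl 2 (zpowers t) (𝐍 R) := fun t ht t2 => by
      have c : ♯(zpowers t) = 2 := by rw [Nat.card_zpowers, t2]
      have := card_mul_relIndex (zpowers_le.2 ht)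
      rw [c, cN, mul_right_inj' two_ne_zero] at this
      exact syl_mk p2 (zpowers_le.2 ht) (piGrp_of_card_prime p2 c) (this ▸ p2.coprime_iff_not_dvd.1 c2.symm)
    have b2' : orderOf (g * b * g⁻¹) = 2 := by rw [orderOf_conj', b2]
    obtain ⟨k, -, hk⟩ := (s a ha a2).syl_conj (s (g * b * g⁻¹) (by
      rw [← hg, ← cj_norm]
      exact conj_mem_cj.2 (cj_eq_self.1 (by rw [cj_zpowers, hy, zpowers_inv]))) b2')
    have two : ∀ {H : Subgroup G} {u v : G}, ♯H = 2 → u ∈ H → v ∈ H → u ≠ 1 → v ≠ 1 → u = v :=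
      fun {H u v} c hu hv u1 v1 => by
        obtain ⟨y, -, hy⟩ := (Nat.card_eq_two_iff' (1 : H)).1 c
        exact congrArg Subtype.val ((hy ⟨u, hu⟩ fun e => u1 (congrArg Subtype.val e)).trans
          (hy ⟨v, hv⟩ fun e => v1 (congrArg Subtype.val e)).symm)
    have h := two (by rw [Nat.card_zpowers, b2']) (hk.ge (conj_mem_cj.2 (mem_zpowers a))) (mem_zpowers _)
      (fun e => by rw [conj_eq_one_iff.1 e, orderOf_one] at a2; omega)
      (fun e => by rw [e, orderOf_one] at b2'; omega)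
    exact ⟨g⁻¹ * k, by rw [mul_inv_rev, inv_inv, mul_assoc g⁻¹, mul_assoc g⁻¹, ← mul_assoc _ k⁻¹, h]; group⟩
  obtain ⟨x, hx, x1⟩ := exists_mem_ne_one (ne_bot_of_prime_card (cR ▸ pr))
  have oR : ∀ x ∈ R, x ≠ 1 → orderOf x = r := fun x hx x1 => by
    rw [← Nat.card_zpowers, zpowers_eq_of_prime (cR ▸ pr) hx x1, cR]
  have aa : a * a = 1 := by rw [← pow_two, ← a2, pow_orderOf_eq_one]
  have ai : a⁻¹ = a := inv_eq_of_mul_eq_one_right aa
  obtain ⟨b, hb⟩ : ∃ b, b = x * a * x⁻¹ := ⟨_, rfl⟩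
  have bb : b * b = 1 := by rw [hb, conj_mul, aa]; group
  have wR : a * b ∈ R := by
    have := mul_mem (conj_mem_of_norm ha hx) (inv_mem hx)
    rwa [ai, mul_assoc a, mul_assoc a, ← hb] at this
  have w1 : a * b ≠ 1 := fun h => by
    have c : Commute x a := mul_inv_eq_iff_eq_mul.1 (hb.symm.trans (mul_left_cancel (h.trans aa.symm)))
    haveI : IsCyclic (𝐍 R) := isCyclic_of_orderOf_eq_card ⟨x * a, mul_mem (le_norm_self R hx) ha⟩ (by
      rw [← orderOf_coe, c.orderOf_mul_eq_mul_orderOf_of_coprime (by rwa [a2, oR x hx x1]), a2, oR x hx x1, cN,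
        mul_comm])
    exact DihedralGroup.not_isCyclic pr.ne_one (isCyclic_of_surjective f f.surjective)
  have ow := oR _ wR w1
  have cb : ♯(Q ⊓ 𝐂₁ b : Subgroup G) = ♯(Q ⊓ 𝐂₁ a : Subgroup G) := by
    rw [hb, ← cj_cent1, ← cj_eq_self.2 (nQ.norm (mem_top x)), ← cj_inf, card_cj, cj_eq_self.2 (nQ.norm (mem_top x))]
  have i0 : (Q ⊓ 𝐂₁ a) ⊓ (Q ⊓ 𝐂₁ b) = ⊥ := eq_bot_of_forall fun q hq => cq _ ow.symm.dvd q hq.1.1
    (Commute.mul_right (mem_cent1.1 hq.1.2) (mem_cent1.1 hq.2.2))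
  refine le_antisymm ?_ ?_
  · have := Nat.card_le_card_of_injective (fun p : (Q ⊓ 𝐂₁ a : Subgroup G) × (Q ⊓ 𝐂₁ b : Subgroup G) =>
      (⟨p.1 * p.2, mul_mem p.1.2.1 p.2.2.1⟩ : Q)) fun p q h => by
        have h : p.1.1 * p.2.1 = q.1.1 * q.2.1 := congrArg Subtype.val h
        have e1 : (q.1.1)⁻¹ * p.1.1 = q.2.1 * (p.2.1)⁻¹ := by
          rw [inv_mul_eq_iff_eq_mul, ← mul_assoc, ← h, mul_inv_cancel_right]
        have e2 := eq_one_of_mem_bot i0 (mem_inf.2 ⟨mul_mem (inv_mem q.1.2) p.1.2, e1 ▸ mul_mem q.2.2 (inv_mem p.2.2)⟩)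
        exact Prod.ext (Subtype.ext (inv_mul_eq_one.1 e2).symm) (Subtype.ext (mul_inv_eq_one.1 (e1 ▸ e2)).symm)
    rwa [Nat.card_prod, cb, ← pow_two] at this
  have pc : ∀ (q : Q) t, π (q * t * (q : G)⁻¹) = π t := fun q t => by
    rw [map_mul, map_mul, map_inv, kπ.2 q.2]; group
  have := Nat.card_le_card_of_injective (fun p : (Q ⧸ (𝐂₁ a).subgroupOf Q) × (Q ⧸ (𝐂₁ b).subgroupOf Q) =>
    (⟨p.1.out * a * (p.1.out : G)⁻¹ * (p.2.out * b * (p.2.out : G)⁻¹) * (a * b)⁻¹, kπ.1 (by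
      rw [map_mul, map_mul, pc, pc, ← map_mul, map_inv, mul_inv_cancel])⟩ : Q)) fun p q h => by
      have h := mul_right_cancel (congrArg Subtype.val h)
      have key : ∀ {t : G} {u v : Q ⧸ (𝐂₁ t).subgroupOf Q}, u.out * t * (u.out : G)⁻¹ = v.out * t * (v.out : G)⁻¹ →
          u = v := fun {t u v} k => by
        rw [← u.out_eq', ← v.out_eq', QuotientGroup.eq, mem_subgroupOf, mem_cent1, coe_mul, coe_inv]
        calc _ = (u.out : G)⁻¹ * (v.out * t * (v.out : G)⁻¹) * v.out := by group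
          _ = _ := by rw [← k]; group
      have sq : ∀ {t : G}, t * t = 1 → ∀ g : G, g * t * g⁻¹ * (g * t * g⁻¹) = 1 := fun h g => by
        rw [conj_mul, h]; group
      have m := pc p.1.out a
      have m' := pc q.1.out a
      have n := pc p.2.out b
      have s1 := sq aa p.1.out
      have s2 := sq aa q.1.out
      have s3 := sq bb p.2.out
      have s4 := sq bb q.2.out
      suffices k : _ = _ from Prod.ext (key k) (key (mul_left_cancel (k ▸ h)))
      generalize (p.1.out : G) * a * (p.1.out : G)⁻¹ = s at *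
      generalize (q.1.out : G) * a * (q.1.out : G)⁻¹ = s' at *
      generalize (p.2.out : G) * b * (p.2.out : G)⁻¹ = t at *
      generalize (q.2.out : G) * b * (q.2.out : G)⁻¹ = t' at *
      have iv : ∀ {s t : G}, s * s = 1 → t * t = 1 → s * (s * t) = (s * t)⁻¹ * s := fun a b => by
        rw [mul_inv_rev, inv_eq_of_mul_eq_one_right a, inv_eq_of_mul_eq_one_right b, ← mul_assoc, a, mul_assoc, a,
          one_mul, mul_one]
      have := cq (s * t) (by
        have := orderOf_map_dvd π (s * t)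
        rwa [map_mul, m, n, ← map_mul, show orderOf (π (a * b)) = r from
          (orderOf_injective _ inj ⟨_, le_norm_self R wR⟩).trans ((orderOf_coe _).symm.trans ow)] at this)
        (s * s') (kπ.1 (by rw [map_mul, m, m', ← map_mul, aa, map_one])) (by
          rw [mul_assoc, h, iv s2 s4, ← h, ← mul_assoc, ← mul_assoc, mul_left_inj, mul_inv_eq_iff_eq_mul, mul_assoc,
            iv s1 s3, mul_inv_cancel_left])
      exact mul_left_cancel (s1.trans this.symm)
  rw [Nat.card_prod, ← index_eq_card, ← index_eq_card] at this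
  have e1 := card_inf_mul_relIndex (𝐂₁ a) Q
  have e2 := card_inf_mul_relIndex (𝐂₁ b) Q
  rw [inf_comm] at e1 e2
  rw [cb] at e2
  change (𝐂₁ a).relIndex Q * (𝐂₁ b).relIndex Q ≤ _ at this
  refine Nat.le_of_mul_le_mul_left ?_ pos
  calc ♯Q * ♯Q = (𝐂₁ a).relIndex Q * (𝐂₁ b).relIndex Q * ♯(Q ⊓ 𝐂₁ a : Subgroup G) ^ 2 := by
        rw [← congrArg₂ (· * ·) e1 e2]; ring
    _ ≤ _ := Nat.mul_le_mul_right _ this

end Cfsg.Agent.S2873
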