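import Cfsg.Statements.S2879
import Cfsg.Agent.Even.Extra
import Cfsg.Agent.Invol.QD
import Cfsg.Agent.Invol.DihSylow
import Cfsg.Agent.Transfer.SL23

set_option autoImplicit false
open Cfsg

namespace Cfsg.Agent.S2879
open Subgroup CF.Loc CF.Even
open scoped commutatorElement Pointwise

/-- Let G be a finite solvable group with O(G) = 1 whose Sylow 2-subgroup T is dihedral of order at least 8 or semidihedral, with G ≠ T and Z(T) normal in G. Then G has a normal subgroup isomorphic to SL₂(3). -/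
theorem result {G : Type*} [Group G] [Finite G] (hsol : IsSolvable G) (hO : Cfsg.oddCore G = ⊥) (T : Sylow 2 G) (hT : (∃ n : ℕ, 4 ≤ n ∧ Nonempty (↥(T : Subgroup G) ≃* DihedralGroup n)) ∨ Cfsg.IsQuasiDihedral ↥(T : Subgroup G)) (hne : (T : Subgroup G) ≠ ⊤) (hZ : ((T : Subgroup G) ⊓ Subgroup.centralizer ((T : Subgroup G) : Set G)).Normal) : ∃ U : Subgroup G, U.Normal ∧ Nonempty (↥U ≃* Matrix.SpecialLinearGroup (Fin 2) (ZMod 3)) := by
  obtain ⟨n, k, c, a, b, hn, h⟩ : ∃ n k c a b, 2 ≤ n ∧ CF.Invol.MX (T : Subgroup G) n k c a b := by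
    rcases hT with ⟨m, hm, ⟨e⟩⟩ | hT
    · obtain ⟨n, a, b, e, h⟩ := CF.Invol.exists_dh T.isPGroup' (by omega) e
      refine ⟨n, _, _, a, b, ?_, h⟩
      by_contra hc
      interval_cases n <;> omega
    · obtain ⟨n, a, b, h⟩ := CF.Invol.exists_qd hT
      exact ⟨n, _, _, a, b, by have := h.three_le; omega, h.toMX⟩
  have : Group.IsSolvable G := hsol
  have hC := CF.Solv.centralizer_pCore_le (p := 2) hO
  set Q := pCore 2 G with hQ
  have hQ2 : IsPGroup 2 Q := isPGroup_pCore 2 G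
  have hN : ∀ g : G, g ∈ 𝐍(Q) := fun g => le_normalizer_of_normal' ⊤ Q trivial
  obtain ⟨p, hp, hd⟩ := Nat.exists_prime_and_dvd (index_eq_one.not.2 hne)
  have : Fact p.Prime := ⟨hp⟩
  obtain ⟨g, hg⟩ := exists_prime_orderOf_dvd_card' p (hd.trans (index_dvd_card _))
  have hp2 : p ≠ 2 := by rintro rfl; exact T.not_dvd_index hd
  have ho : Odd (orderOf g) := hg ▸ hp.odd_of_ne_two hp2
  have hgC : g ∉ 𝐂(Q) := fun e => ne_one_of_orderOf_eq hg
    (eq_one_of_coprime_of_mem hQ2 (hC e) (Nat.coprime_two_right.2 ho))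
  rcases h.odd_cases (pCore_le_sylow T) (hN g) ho hgC with ⟨l, hl, e⟩ | ⟨-, l, hl, e⟩
  · exfalso
    rw [h.inf_centralizer_self hn] at hZ
    have hz := h.orderOf_zh
    have cz : g * a (CF.Invol.zh n) * g⁻¹ = a (CF.Invol.zh n) :=
      ((mem_zpowers_invol hz).1 (hZ.conj_mem _ (mem_zpowers _) g)).resolve_left
        (by simpa using ne_one_of_orderOf_eq hz)
    have K := e ▸ h.klein_T hl
    have hzQ : a (CF.Invol.zh n) ∈ Q := e.ge (mem_sup_left (mem_zpowers _))
    refine hgC (CF.Invol.mem_centralizer_of_odd_of_stable (isPGroup_zpowers_of_prime hz)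
      ((centralizer_zpowers _).ge (mem_centralizer_singleton_of_conj cz)) (fun v hv => ?_) ho)
    by_cases v1 : v = 1
    · simp [v1]
    by_cases v2 : v = a (CF.Invol.zh n)
    · simp [v2, cz]
    rcases (CF.Invol.klein_mem_iff K hv hzQ v1 (ne_one_of_orderOf_eq hz) v2).1
      (conj_mem_of_mem_normalizer (hN g) hv) with f | f | f | f
    · exact (v1 (by simpa using f)).elim
    · simp [f]
    · exact (v2 (by simpa using f.trans cz.symm)).elim
    · simp [f]
  · have q8 := e ▸ h.isQ8_Q hn hl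
    have i6 := q8.relIndex_dvd_six
    rw [sup_eq_left.2 hC, normalizer_eq_top, relIndex_top_right] at i6
    have c := Q.card_mul_index
    rw [q8.card] at c
    have h48 : Nat.card G ∣ 8 * 6 := c ▸ Nat.mul_dvd_mul_left 8 i6
    have h3 : p = 3 := by
      have : p ∣ 2 ^ 4 * 3 := (hd.trans (index_dvd_card _)).trans h48
      rcases (Nat.Prime.dvd_mul hp).1 this with f | f
      · exact absurd ((Nat.prime_dvd_prime_iff_eq hp Nat.prime_two).1 (hp.dvd_of_dvd_pow f)) hp2
      · exact (Nat.prime_dvd_prime_iff_eq hp Nat.prime_three).1 f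
    obtain ⟨e⟩ := CF.Transfer.nonempty_equiv_sl23 q8 (hN g) (hg.trans h3) hgC
    refine ⟨_, ?_, ⟨e⟩⟩
    have d := (Q ⊔ zpowers g).card_mul_index
    rw [Nat.card_congr e.toEquiv, CF.Transfer.card_sl23] at d
    rw [← d] at h48
    have : (Q ⊔ zpowers g).index ∣ 2 := Nat.dvd_of_mul_dvd_mul_left (by decide) h48
    rcases (Nat.dvd_prime Nat.prime_two).1 this with f | f
    · rw [index_eq_one.1 f]; infer_instance
    · exact normal_of_index_eq_two f

end Cfsg.Agent.S2879
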