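import Cfsg.Statements.S2880
import Cfsg.Agent.Even.Extra

set_option autoImplicit false
open Cfsg

namespace Cfsg.Agent.S2880
open Subgroup CF.Loc CF.Even
open scoped commutatorElement Pointwise

/-- Let E be an extraspecial 2-group of order 2^(2m+1) of plus type, that is, containing an elementary abelian subgroup of order 2^(m+1) (equivalently, a central product of m dihedral groups of order 8). Then E has exactly 2^(2m) − 2^m elements of order 4. -/
theorem result {E : Type*} [Group E] [Finite E] (m : ℕ) (hm : 1 ≤ m) (hE : Cfsg.IsExtraspecial 2 E) (hcard : Nat.card E = 2 ^ (2 * m + 1)) (hplus : ∃ A : Subgroup E, Cfsg.IsElementaryAbelian 2 A ∧ Nat.card A = 2 ^ (m + 1)) : Nat.card {x : E // orderOf x = 4} = 2 ^ (2 * m) - 2 ^ m := by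
  obtain ⟨A, hA, hc⟩ := hplus
  have hE' := CF.Solv.isExtraspecial_top_iff.2 hE
  obtain ⟨z, X, eZ⟩ := exists_xs hE'
  have cT : Nat.card (⊤ : Subgroup E) = 2 ^ (2 * m + 1) := by rw [card_top, hcard]
  have hzA : z ∈ A := by
    by_contra hz
    have hn : z ∈ 𝐍(A) := centralizer_le_normalizer_of_le le_top X.cent
    have c := CF.Invol.card_sup_zpowers hn (X.zz ▸ A.one_mem) hz
    have d := card_mul_card_centralizer hE' (W := A ⊔ zpowers z) (eZ ▸ le_sup_right) le_top
    have e := card_le_card_of_le (le_inf le_top (isElemAb_le_centralizer (isElemAb_sup hA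
      (CF.Solv.isElementaryAbelian_zpowers (by rw [sq, X.zz]))
      (le_centralizer_comm.1 (zpowers_le.2 (centralizer_anti le_top X.cent))))))
    rw [c, hc, cT] at d; rw [c, hc] at e
    have : 2 ^ (2 * m + 1) = 2 * 2 ^ m * 2 ^ m := by ring
    have h2 : 0 < 2 ^ m := by positivity
    rw [this, pow_succ] at d; rw [pow_succ] at e
    nlinarith
  have hC : 𝐂(A) = A := by
    have d := card_mul_card_centralizer hE' (W := A) (eZ ▸ zpowers_le.2 hzA) le_top
    rw [top_inf_eq, cT, hc] at d
    refine (eq_of_le_of_card_le (isElemAb_le_centralizer hA) (le_of_eq ?_)).symm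
    rw [hc]
    exact Nat.eq_of_mul_eq_mul_left (by positivity) (d.trans (by ring))
  have zc : ∀ x : E, x * z = z * x := fun x => X.zc trivial
  have o4 : ∀ x : E, orderOf x = 4 ↔ x * x = z := fun x => ⟨fun h => (X.sq x trivial).resolve_left
    fun e => absurd (h ▸ orderOf_dvd_of_pow_eq_one (n := 2) (by rwa [sq])) (by decide), fun h => by
      have : orderOf x = 2 ^ (1 + 1) := orderOf_eq_prime_pow (by simpa [sq, h] using X.z_ne) (by
        rw [pow_succ, pow_mul]; simp [sq, h, X.zz])
      simpa using this⟩
  -- an involution of `E \ A` exchanging squares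
  have ex : ∀ x : E ⧸ A, ∃ a ∈ A, x ≠ (1 : E) → x.out * a * x.out⁻¹ = z * a := fun x => by
    by_cases hx : x.out ∈ A
    · refine ⟨1, A.one_mem, fun h => (h ?_).elim⟩
      rw [← x.out_eq', QuotientGroup.eq]; simpa using hx
    · replace hx : x.out ∉ 𝐂(A) := fun h => hx (hC.le h)
      rw [mem_centralizer_iff] at hx
      push Not at hx
      obtain ⟨a, ha, e⟩ := hx
      exact ⟨a, ha, fun _ => (X.conj_cases trivial trivial).resolve_left fun f =>
        e (mul_inv_eq_iff_eq_mul.1 f).symm⟩
  choose a ha hx using ex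
  have aa : ∀ b ∈ A, b * b = 1 := fun b hb => mul_self_of_elemAb hA hb
  have flip : ∀ x : E, x ∉ A → x * a x * (x * a x) = z * (x * x) := fun x h => by
    obtain ⟨b, hb⟩ := QuotientGroup.mk_out_eq_mul A x
    have e := hx x fun e => h (by simpa using inv_mem (QuotientGroup.eq.1 e))
    rw [hb] at e
    have e' : x * a x * x⁻¹ = z * a x := by
      rw [← e, mul_assoc x (b : E), comm_of_elemAb hA b.2 (ha _)]; group
    have e2 : a x * x = z * (x * a x) := by
      calc a x * x = z * (z * a x) * x := by rw [← mul_assoc z, X.zz, one_mul]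
        _ = _ := by rw [← e']; group
    calc _ = x * (a x * x) * a x := by group
      _ = (x * z) * x * (a x * a x) := by rw [e2]; group
      _ = _ := by rw [aa _ (ha _), zc]; group
  have cls : ∀ x : E, ((x * a x : E) : E ⧸ A) = x := fun x =>
    (QuotientGroup.eq.2 (by simpa using ha x)).symm
  classical
  have := Fintype.ofFinite E
  let S := Finset.univ.filter fun x : E => x * x = z
  let T := Finset.univ.filter fun x : E => x ∉ A ∧ x * x = 1
  have nA : ∀ x : E, x * x = z → x ∉ A := fun x h hx => X.z_ne (h ▸ aa x hx)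
  have nA' : ∀ x : E, x ∉ A → x * a x ∉ A := fun x h h' => h (by simpa using mul_mem h' (inv_mem (ha x)))
  have inv : ∀ x : E, x * a x * a ((x * a x : E) : E ⧸ A) = x := fun x => by
    rw [cls, mul_assoc, aa _ (ha _), mul_one]
  have e1 : S.card = T.card := Finset.card_nbij' (fun x => x * a x) (fun x => x * a x)
    (fun x hx => by
      simp only [S, T, Finset.coe_filter, Finset.mem_univ, true_and, Set.mem_setOf_eq] at hx ⊢
      exact ⟨nA' x (nA x hx), by rw [flip x (nA x hx), hx, X.zz]⟩)
    (fun x hx => by
      simp only [S, T, Finset.coe_filter, Finset.mem_univ, true_and, Set.mem_setOf_eq] at hx ⊢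
      rw [flip x hx.1, hx.2, mul_one]) (fun x _ => inv x) fun x _ => inv x
  have e2 : S.card + T.card = (Finset.univ.filter fun x : E => x ∉ A).card := by
    rw [← Finset.card_union_of_disjoint (Finset.disjoint_filter.2 fun x _ h1 h2 =>
      X.z_ne (h1.symm.trans h2.2))]
    congr 1; ext x
    simp only [S, T, Finset.mem_union, Finset.mem_filter, Finset.mem_univ, true_and]
    exact ⟨fun h => h.elim (nA x) And.left, fun h => (X.sq x trivial).symm.imp id fun e => ⟨h, e⟩⟩
  have e3 := Finset.card_filter_add_card_filter_not (s := Finset.univ) fun x : E => x ∈ A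
  rw [Finset.card_univ, ← Nat.card_eq_fintype_card, hcard, ← Fintype.card_subtype,
    ← Nat.card_eq_fintype_card, hc] at e3
  rw [Nat.card_eq_fintype_card, Fintype.card_subtype, Finset.filter_congr fun x _ => o4 x]
  change S.card = _
  rw [pow_succ, pow_succ] at e3
  omega

end Cfsg.Agent.S2880
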