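import Cfsg.Statements.S2881
import Cfsg.Agent.S2880

set_option autoImplicit false
open Cfsg

namespace Cfsg.Agent.S2881
open Subgroup CF.Loc CF.Even
open scoped commutatorElement Pointwise

theorem ord5 : orderOf (2 : ZMod 5) = 4 :=
  orderOf_eq_prime_pow (p := 2) (n := 1) (by decide) (by decide)

/-- Let E be an extraspecial 2-group of order 2^(2m+1) of plus type (containing an elementary abelian subgroup of order 2^(m+1)), and let ω be an automorphism of E of order 5 whose fixed points are exactly the centre of E. Then m is divisible by 4. -/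
theorem result {E : Type*} [Group E] [Finite E] (m : ℕ) (hm : 1 ≤ m) (hE : Cfsg.IsExtraspecial 2 E) (hcard : Nat.card E = 2 ^ (2 * m + 1)) (hplus : ∃ A : Subgroup E, Cfsg.IsElementaryAbelian 2 A ∧ Nat.card A = 2 ^ (m + 1)) (ω : E ≃* E) (hω : orderOf ω = 5) (hfix : ∀ x : E, ω x = x ↔ x ∈ Subgroup.center E) : 4 ∣ m := by
  have h := Cfsg.Agent.S2880.result m hm hE hcard hplus
  have : Fact (Nat.Prime 5) := ⟨by norm_num⟩
  let _ : MulAction (zpowers (show MulAut E from ω)) {x : E // orderOf x = 4} :=
    { smul := fun g x => ⟨g.1 x, by rw [MulEquiv.orderOf_eq, x.2]⟩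
      one_smul := fun _ => rfl
      mul_smul := fun _ _ _ => rfl }
  have hP : IsPGroup 5 (zpowers (show MulAut E from ω)) := isPGroup_zpowers_of_prime hω
  have e := hP.card_modEq_card_fixedPoints {x : E // orderOf x = 4}
  have : IsEmpty (MulAction.fixedPoints (zpowers (show MulAut E from ω)) {x : E // orderOf x = 4}) :=
    ⟨fun x => by
      have a := (hfix x).1 (congrArg Subtype.val (x.2 ⟨_, mem_zpowers _⟩))
      have := Subgroup.orderOf_dvd_natCard _ a
      rw [x.1.2, hE.2] at this; exact absurd this (by decide)⟩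
  rw [h, Nat.card_of_isEmpty, two_mul, pow_add, ← Nat.mul_sub_one] at e
  have d := (Nat.Coprime.pow_right m (by decide : Nat.Coprime 5 2)).dvd_of_dvd_mul_left
    (Nat.modEq_zero_iff_dvd.1 e)
  have f : (2 : ZMod 5) ^ m = 1 := by
    have := (ZMod.natCast_eq_zero_iff _ 5).2 d
    rw [Nat.cast_sub Nat.one_le_two_pow] at this
    simpa [sub_eq_zero] using this
  exact ord5 ▸ orderOf_dvd_of_pow_eq_one f

end Cfsg.Agent.S2881
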