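import Cfsg.Statements.S2911
import Cfsg.Agent.S2872
-- import your own Cfsg.Agent.* helpers here

set_option autoImplicit false
open Cfsg

namespace Cfsg.Agent.S2911

open Cfsg CF.Loc Subgroup
open scoped commutatorElement

abbrev X := Multiplicative (ZMod 2) × DihedralGroup 4

set_option synthInstance.maxSize 2000 in
set_option synthInstance.maxHeartbeats 200000 in
theorem f1 : ∀ x : X, (∀ y, y * x = x * y) → ∀ w : X, (∀ y, y * w = w * y) →
    w = 1 ∨ w = x ∨ (∃ a, a * a = x) ∨ (∃ a, a * a = w) ∨ ∃ a, a * a = w * x := by
  decide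

theorem f2 : ∀ a b : X, a * a = 1 ∨ b * b = 1 ∨ a * a = b * b := by decide

theorem f3 : ∀ x : X, (∀ y, y * x = x * y) → x * x = 1 := by decide

/-- A finite group whose Sylow 2-subgroups are isomorphic to the direct product of a group of order 2 and a dihedral group of order 8 has a subgroup of index two. -/
theorem result {G : Type*} [Group G] [Finite G] (S : Sylow 2 G) (hS : Nonempty (↥(S : Subgroup G) ≃* Multiplicative (ZMod 2) × DihedralGroup 4)) : ∃ H : Subgroup G, H.index = 2 := by
  obtain ⟨e⟩ := hS
  by_contra hc
  push Not at hc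
  rcases Cfsg.Agent.S2872.result S with h | h | ⟨g, hg, z, hz, h⟩
  · exact h (CF.Invol.pResidual_two_eq_top_iff.2 hc)
  · let c : S := e.symm (Multiplicative.ofAdd 1, 1)
    have h1 : (c : G) ∈ omegaOne 2 ((S : Subgroup G) ⊓ 𝐂((S : Subgroup G))) := by
      refine mem_omegaOne ⟨c.2, mem_centralizer_iff'.2 fun s hs => ?_⟩ ?_
      · have : (⟨s, hs⟩ : S) * c = c * ⟨s, hs⟩ := by
          apply e.injective
          rw [map_mul, map_mul, MulEquiv.apply_symm_apply]
          generalize e ⟨s, hs⟩ = y
          revert y; decide
        exact congrArg Subtype.val this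
      · have : c ^ 2 = 1 := by
          apply e.injective
          rw [map_pow, map_one, MulEquiv.apply_symm_apply]
          decide
        exact congrArg Subtype.val this
    obtain ⟨d, hd, h2⟩ := h h1
    have hd : c ∈ frattini (S : Subgroup G) := (Subtype.ext h2 : d = c) ▸ hd
    have hd := CF.Fgs1.mem_frattini_iff.1 hd
    let f : S →* Multiplicative (ZMod 2) := (MonoidHom.fst _ _).comp e.toMonoidHom
    have hf : Function.Surjective f := Prod.fst_surjective.comp e.surjective
    have h3 : f.ker.index = 2 := by
      rw [index_ker, MonoidHom.range_eq_top.2 hf, card_top]; simp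
    have h4 := hd f.ker (CF.Fgs1.isCoatom_of_index_prime (by rw [h3]; exact Nat.prime_two))
    rw [MonoidHom.mem_ker] at h4
    simp only [f, c, MonoidHom.comp_apply, MulEquiv.coe_toMonoidHom, MulEquiv.apply_symm_apply] at h4
    exact absurd h4 (by decide)
  · apply h
    have hz := ((mem_omegaOne_iff_of_comm (inf_le_right.trans (centralizer_anti inf_le_left))).1 hz).1
    obtain ⟨r, hr, s, hs, rfl⟩ := (isSyl_of_le S le_normalizer).exists_residual_mul g hg
    suffices h : 𝐑[2](𝐍((S : Subgroup G))) ≤ 𝐂((S : Subgroup G) ⊓ 𝐂((S : Subgroup G))) by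
      have h1 := conj_eq_of_mem_centralizer (h hr) hz
      have h2 := mem_centralizer_iff'.1 hz.2 s hs
      calc _ = r * (s * z * s⁻¹) * r⁻¹ := by group
        _ = _ := by rw [h2, mul_inv_cancel_right, h1]
    refine pResidualOf_le_iff.2 fun a ha ho => ?_
    have h2 : a ^ 2 ∈ 𝐂((S : Subgroup G) ⊓ 𝐂((S : Subgroup G))) := by
      refine mem_centralizer_of_conj_eq fun w hw => ?_
      let φ : X ≃* X := (e.symm.trans (cact (S : Subgroup G) ⟨a, ha⟩)).trans e
      have key : ∀ x : X, (∀ y, y * x = x * y) → φ (φ x) = x := by
        have k1 : ∀ x : X, φ (x * x) = x * x := fun x => by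
          rcases f2 x (φ x) with h | h | h
          · rw [h, map_one]
          · rw [← map_mul, EmbeddingLike.map_eq_one_iff] at h
            rw [h, map_one]
          · rw [map_mul, h]
        intro x hx
        have hx' : ∀ y, y * φ x = φ x * y := fun y => by
          obtain ⟨y, rfl⟩ := φ.surjective y
          rw [← map_mul, ← map_mul, hx]
        rcases f1 x hx _ hx' with h | h | ⟨b, h⟩ | ⟨b, h⟩ | ⟨b, h⟩
        · rw [EmbeddingLike.map_eq_one_iff] at h
          rw [h, map_one, map_one]
        · rw [h, h]
        · rw [← h, k1, k1]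
        · have : φ x = x := by
            apply φ.injective
            rw [← h, k1]
          rw [this, this]
        · have h1 := k1 b
          rw [h, map_mul, hx (φ x)] at h1
          exact mul_right_cancel h1
      have := key (e ⟨w, hw.1⟩) (fun y => by
        obtain ⟨y, rfl⟩ := e.surjective y
        rw [← map_mul, ← map_mul]
        exact congrArg e (Subtype.ext (mem_centralizer_iff'.1 hw.2 y y.2)))
      simp only [φ, MulEquiv.trans_apply, MulEquiv.symm_apply_apply, EmbeddingLike.apply_eq_iff_eq] at this
      have := congrArg Subtype.val this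
      rw [coe_cact, coe_cact] at this
      have this : a * (a * w * a⁻¹) * a⁻¹ = w := this
      calc a ^ 2 * w * (a ^ 2)⁻¹ = a * (a * w * a⁻¹) * a⁻¹ := by rw [pow_two]; group
        _ = w := this
    exact zpowers_le.2 h2 (mem_zpowers_pow_iff.2 ho.symm)

end Cfsg.Agent.S2911
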