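import Cfsg.Statements.S2932
import Cfsg.Agent.NatL.B

set_option autoImplicit false
open Cfsg

namespace Cfsg.Agent.S2932
open CF.BG Subgroup
open scoped commutatorElement Pointwise

/-- Let p be a prime. Inside a finite ambient group let V be an elementary abelian p-subgroup and G a subgroup normalizing V and acting faithfully on it (G ∩ C(V) = 1), and let L ≤ G act on V as SL₂(F) on its natural module, F a finite field of characteristic p, with L ≅ SL₂(F). If every Sylow p-subgroup of N_G(L) is a Sylow p-subgroup of G, then either L is normal in G, or F has 4 elements and G is isomorphic to the alternating group of degree 7. -/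
theorem result {X : Type*} [Group X] [Finite X] {p : ℕ} [Fact p.Prime] (F : Type) [Field F] [Fintype F] [CharP F p] (V G L : Subgroup X) (hV : Cfsg.IsElementaryAbelian p V) (hGV : G ≤ Subgroup.normalizer (V : Set X)) (hfaith : G ⊓ Subgroup.centralizer (V : Set X) = ⊥) (hLG : L ≤ G) (hnat : Cfsg.IsNaturalSL2Module F V L) (hLiso : Nonempty (↥L ≃* Matrix.SpecialLinearGroup (Fin 2) F)) (hSyl : ∀ S : Sylow p ↥(G ⊓ Subgroup.normalizer (L : Set X)), ∀ P : Sylow p ↥G, Nat.card S = Nat.card P) : (L.subgroupOf G).Normal ∨ (Fintype.card F = 4 ∧ Nonempty (↥G ≃* ↥(alternatingGroup (Fin 7)))) := by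
----
  obtain ⟨-, ρ, ψ, hρ, hk, hψ⟩ := hnat
  let α : G →* MulAut V := (normalizerMonoidHom V).comp (inclusion hGV)
  let _ : DistribMulAction G (Fin 2 → F) :=
    { smul := fun g w => ψ (Additive.ofMul (α g (ψ.symm w).toMul))
      one_smul := fun w => by
        change ψ (Additive.ofMul (α 1 (ψ.symm w).toMul)) = w
        simp
      mul_smul := fun a b w => by
        change ψ (Additive.ofMul (α (a * b) (ψ.symm w).toMul)) = ψ (Additive.ofMul (α a (ψ.symm
          (ψ (Additive.ofMul (α b (ψ.symm w).toMul)))).toMul))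
        simp
      smul_zero := fun a => by
        change ψ (Additive.ofMul (α a (ψ.symm 0).toMul)) = 0
        simp
      smul_add := fun a v w => by
        change ψ (Additive.ofMul (α a (ψ.symm (v + w)).toMul)) = ψ (Additive.ofMul (α a (ψ.symm v).toMul)) +
          ψ (Additive.ofMul (α a (ψ.symm w).toMul))
        simp }
  have sm : ∀ (g : G) (v : V), g • ψ (Additive.ofMul v) = ψ (Additive.ofMul (α g v)) := fun g v => by
    change ψ (Additive.ofMul (α g (ψ.symm (ψ (Additive.ofMul v))).toMul)) = _
    simp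
  have : FaithfulSMul G (Fin 2 → F) := ⟨fun {a b} e => by
    have : (b⁻¹ * a : G).1 ∈ G ⊓ centralizer (V : Set X) := ⟨(b⁻¹ * a).2, fun v hv => by
      have := e (ψ (Additive.ofMul ⟨v, hv⟩))
      rw [← inv_smul_eq_iff, ← mul_smul, sm] at this
      exact (mul_inv_eq_iff_eq_mul.1 (congrArg Subtype.val (ψ.injective this))).symm⟩
    rw [hfaith, mem_bot, OneMemClass.coe_eq_one, inv_mul_eq_one] at this
    exact this.symm⟩
  have i : Function.Injective ρ := (injective_iff_map_eq_one _).2 fun l hl =>
    Subtype.ext (hfaith.le ⟨hLG l.2, hk.le hl⟩)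
  let e := MulEquiv.ofBijective ρ ⟨i, hρ⟩
  let ι := (inclusion hLG).comp e.symm.toMonoidHom
  have nt : CF.NatL.Nt ι := fun l w => by
    obtain ⟨l, rfl⟩ := e.surjective l
    obtain ⟨v, rfl⟩ := ψ.surjective w
    obtain ⟨u, h1, h2⟩ := hψ l v.toMul
    refine (sm _ v.toMul).trans (Eq.trans (congrArg (fun x => ψ (Additive.ofMul x)) (Subtype.ext ?_)) h2)
    rw [h1]
    change ((e.symm (e l) : L) : X) * _ * ((e.symm (e l) : L) : X)⁻¹ = _
    rw [e.symm_apply_apply]
  have r : ι.range = L.subgroupOf G := by
    rw [MonoidHom.range_comp, MonoidHom.range_eq_top_of_surjective _ e.symm.surjective,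
      ← MonoidHom.range_eq_map, inclusion_range]
  obtain ⟨S⟩ : Nonempty (Sylow p ↥(G ⊓ normalizer (L : Set X))) := inferInstance
  obtain ⟨P⟩ : Nonempty (Sylow p G) := inferInstance
  have s := syl_sylow S
  have l := s.le
  have s' : Syl p ((S.1.map (G ⊓ normalizer (L : Set X)).subtype).subgroupOf G) ⊤ :=
    (syl_sylow_top P).of_card le_top (by
      rw [card_subgroupOf' (l.trans inf_le_left), card_map (subtype_injective _), hSyl S P])
  rw [← r]
  exact CF.NatL.main nt s' (r ▸ subgroupOf_norm G (l.trans inf_le_right))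

end Cfsg.Agent.S2932
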