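import Cfsg.Statements.S2933
import Cfsg.Agent.Mx23.Hm
import Cfsg.Agent.S3161

set_option autoImplicit false
open Cfsg

namespace Cfsg.Agent.S2933


/-- Let T be a 2-subgroup of a finite group G, V ≤ Z(T) a four-group, and t, ρ ∈ N_G(V) ∩ N_G(T) elements of order 2 and 3 with t commuting with ρ and with V. If [V, ρ] = V and C_T(t) = V, then T is elementary abelian of order 16, or homocyclic of rank 2 (ℤ/2ⁿ × ℤ/2ⁿ for some n ≥ 1), or isomorphic to a Sylow 2-subgroup of PSL₃(4) or of PSU₃(4). -/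
theorem result {G : Type*} [Group G] [Finite G] (T V : Subgroup G) (hT : IsPGroup 2 ↥T) (hVT : V ≤ T ⊓ Subgroup.centralizer (T : Set G)) (hV : Nat.card ↥V = 4 ∧ ∀ v ∈ V, v ^ 2 = 1) (t ρ : G) (ht : orderOf t = 2) (hρ : orderOf ρ = 3) (htn : t ∈ Subgroup.normalizer (V : Set G) ⊓ Subgroup.normalizer (T : Set G)) (hρn : ρ ∈ Subgroup.normalizer (V : Set G) ⊓ Subgroup.normalizer (T : Set G)) (htρ : t * ρ = ρ * t) (htV : t ∈ Subgroup.centralizer (V : Set G)) (hVρ : ⁅V, Subgroup.zpowers ρ⁆ = V) (hCt : T ⊓ Subgroup.centralizer ({t} : Set G) = V) : (Nat.card ↥T = 16 ∧ ∀ x ∈ T, x ^ 2 = 1) ∨ (∃ n : ℕ, 1 ≤ n ∧ Nonempty (↥T ≃* Multiplicative (ZMod (2 ^ n)) × Multiplicative (ZMod (2 ^ n)))) ∨ (∃ (F : Type) (_ : Field F) (_ : Fintype F), Fintype.card F = 4 ∧ ∀ P : Sylow 2 (Matrix.ProjectiveSpecialLinearGroup (Fin 3) F), Nonempty (↥T ≃* ↥(P : Subgroup (Matrix.ProjectiveSpecialLinearGroup (Fin 3) F)))) ∨ (∃ (F : Type) (_ : Field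 F) (_ : Fintype F), Fintype.card F = 16 ∧ ∀ P : Sylow 2 (Cfsg.PSU 3 F 4), Nonempty (↥T ≃* ↥(P : Subgroup (Cfsg.PSU 3 F 4)))) := by
  classical
  haveI : Fact (Nat.Prime 2) := ⟨Nat.prime_two⟩
  have hVT' : V ≤ T := fun v hv => (Subgroup.mem_inf.1 (hVT hv)).1
  let α : MulAut T := T.normalizerMonoidHom ⟨t, (Subgroup.mem_inf.1 htn).2⟩
  let r : MulAut T := T.normalizerMonoidHom ⟨ρ, (Subgroup.mem_inf.1 hρn).2⟩
  have hα : ∀ x : T, ((α x : T) : G) = t * x * t⁻¹ := fun x => rfl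
  have hr : ∀ x : T, ((r x : T) : G) = ρ * x * ρ⁻¹ := fun x => rfl
  have ht2 : t * t = 1 := by rw [← pow_two, ← ht, pow_orderOf_eq_one]
  have hρ3 : ρ ^ 3 = 1 := by rw [← hρ, pow_orderOf_eq_one]
  have hαα : ∀ x, α (α x) = x := by
    intro x; apply Subtype.ext
    rw [hα, hα]
    calc t * (t * x * t⁻¹) * t⁻¹ = (t * t) * x * (t * t)⁻¹ := by group
      _ = x := by rw [ht2]; simp
  have hc : ∀ x, α (r x) = r (α x) := by
    intro x; apply Subtype.ext
    rw [hα, hr, hr, hα]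
    calc t * (ρ * x * ρ⁻¹) * t⁻¹ = (t * ρ) * x * (t * ρ)⁻¹ := by group
      _ = (ρ * t) * x * (ρ * t)⁻¹ := by rw [htρ]
      _ = _ := by group
  have hVm : ∀ x : T, x ∈ V.subgroupOf T ↔ α x = x := by
    intro x
    rw [Subgroup.mem_subgroupOf, ← hCt, Subgroup.mem_inf, Subgroup.mem_centralizer_singleton_iff,
      Subtype.ext_iff, hα, mul_inv_eq_iff_eq_mul]
    exact ⟨fun h => h.2.symm, fun h => ⟨x.2, h.symm⟩⟩
  have hcard : Nat.card (V.subgroupOf T) = 4 := by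
    rw [Nat.card_congr (Subgroup.subgroupOfEquivOfLe hVT').toEquiv, hV.1]
  have hV2 : ∀ v ∈ V.subgroupOf T, v ^ 2 = 1 := fun v hv => Subtype.ext (hV.2 _ hv)
  have hrV : ∀ v ∈ V.subgroupOf T, r v ∈ V.subgroupOf T := by
    intro v hv
    rw [hVm, hc, (hVm v).1 hv]
  have hr3 : ∀ x, r (r (r x)) = x := by
    intro x; apply Subtype.ext
    rw [hr, hr, hr]
    calc ρ * (ρ * (ρ * x * ρ⁻¹) * ρ⁻¹) * ρ⁻¹ = ρ ^ 3 * x * (ρ ^ 3)⁻¹ := by simp [pow_succ, mul_assoc]
      _ = x := by rw [hρ3]; simp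
  haveI : Fintype (V.subgroupOf T) := Fintype.ofFinite _
  have hfour : ∀ a b c d e : T, a ∈ V.subgroupOf T → b ∈ V.subgroupOf T → c ∈ V.subgroupOf T →
      d ∈ V.subgroupOf T → e ∈ V.subgroupOf T → a ≠ b → a ≠ c → a ≠ d → b ≠ c → b ≠ d → c ≠ d →
      e = a ∨ e = b ∨ e = c ∨ e = d := by
    intro a b c d e ha hb hc' hd he h1 h2 h3 h4 h5 h6
    have hs : ({⟨a, ha⟩, ⟨b, hb⟩, ⟨c, hc'⟩, ⟨d, hd⟩} : Finset (V.subgroupOf T)) = Finset.univ := by
      apply Finset.eq_univ_of_card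
      rw [← Nat.card_eq_fintype_card, hcard, Finset.card_insert_of_notMem, Finset.card_insert_of_notMem,
        Finset.card_insert_of_notMem, Finset.card_singleton]
      · simpa using h6
      · simp [h4, h5]
      · simp [h1, h2, h3]
    have := hs ▸ Finset.mem_univ (⟨e, he⟩ : V.subgroupOf T)
    simpa using this
  have hmove : ∃ w ∈ V.subgroupOf T, r w ≠ w := by
    by_contra hall
    push Not at hall
    have hb : ⁅V, Subgroup.zpowers ρ⁆ = ⊥ := by
      rw [Subgroup.commutator_eq_bot_iff_le_centralizer, Subgroup.le_centralizer_iff,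
        Subgroup.zpowers_le, Subgroup.mem_centralizer_iff]
      intro v hv
      have := congrArg Subtype.val (hall ⟨v, hVT' hv⟩ hv)
      rw [hr] at this
      exact (mul_inv_eq_iff_eq_mul.1 this).symm
    have h4 := hV.1
    rw [← hVρ, hb] at h4
    simp at h4
  obtain ⟨w, hw, hrw⟩ := hmove
  have hw1 : w ≠ 1 := fun e => hrw (by rw [e, map_one])
  have hrw1 : r w ≠ 1 := fun e => hw1 (r.injective (by rw [e, map_one]))
  have hrrw1 : r (r w) ≠ 1 := fun e => hrw1 (r.injective (by rw [e, map_one]))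
  have hrrw : r (r w) ≠ r w := fun e => hrw (r.injective e)
  have hrrw' : r (r w) ≠ w := fun e => hrw (by have := hr3 w; rwa [e] at this)
  have hall : ∀ e ∈ V.subgroupOf T, e = 1 ∨ e = w ∨ e = r w ∨ e = r (r w) := fun e he =>
    hfour 1 w (r w) (r (r w)) e (one_mem _) hw (hrV _ hw) (hrV _ (hrV _ hw)) he hw1.symm hrw1.symm
      hrrw1.symm hrw.symm hrrw'.symm hrrw.symm
  have hfp : ∀ v ∈ V.subgroupOf T, r v = v → v = 1 := by
    intro v hv h
    rcases hall v hv with e | e | e | e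
    · exact e
    · rw [e] at h; exact absurd h hrw
    · rw [e] at h; exact absurd h hrrw
    · rw [e, hr3] at h; exact absurd h.symm hrrw'
  by_cases hab : IsMulCommutative T
  · letI : CommGroup T := { (inferInstance : Group T) with mul_comm := hab.is_comm.comm }
    rcases CF.Mx23.Hm.abel_case (Q := T) hT α r hαα hc _ hVm hcard hV2 hfp with h | h
    · exact Or.inl ⟨h.1, fun x hx => congrArg Subtype.val (h.2 ⟨x, hx⟩)⟩
    · exact Or.inr (Or.inl h)
  · have hVab : ∀ a ∈ V.subgroupOf T, ∀ b : T, a * b = b * a := by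
      intro a ha b
      exact Subtype.ext ((Subgroup.mem_centralizer_iff.1 (Subgroup.mem_inf.1 (hVT ha)).2 b b.2).symm)
    have hα1 : α ≠ 1 := by
      intro e
      exact hab ⟨⟨fun a b => hVab a ((hVm a).2 (by rw [e]; rfl)) b⟩⟩
    have hαo : orderOf α = 2 := orderOf_eq_prime (by rw [pow_two]; ext x; simp [hαα]) hα1
    haveI : Fact (Nat.Prime 3) := ⟨Nat.prime_three⟩
    have hro : orderOf r = 2 ^ 2 - 1 := by
      show orderOf r = 3
      refine orderOf_eq_prime ?_ (fun e => hrw (by rw [e]; rfl))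
      ext x; simp [pow_succ, hr3]
    have hcomm : Commute α r := by ext x; simp [hc]
    have hel : Cfsg.IsElementaryAbelian 2 (V.subgroupOf T) := by
      exact ⟨⟨⟨fun a b => Subtype.ext (hVab _ a.2 _)⟩⟩, hV2⟩
    have htr : ∀ x y : T, x ∈ V.subgroupOf T → y ∈ V.subgroupOf T → x ≠ 1 → y ≠ 1 →
        ∃ k : ℕ, (r ^ k) x = y := by
      intro x y hx hy hx1 hy1
      have key : ∀ z ∈ V.subgroupOf T, z ≠ 1 → ∃ i : ℕ, i < 3 ∧ (r ^ i) w = z := by
        intro z hz hz1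
        rcases hall z hz with e | e | e | e
        · exact absurd e hz1
        · exact ⟨0, by norm_num, by simp [e]⟩
        · exact ⟨1, by norm_num, by simp [e]⟩
        · exact ⟨2, by norm_num, by simp [e, pow_succ]⟩
      obtain ⟨i, hi, rfl⟩ := key x hx hx1
      obtain ⟨j, -, rfl⟩ := key y hy hy1
      refine ⟨j + (3 - i), ?_⟩
      have h3 : r ^ 3 = 1 := by rw [← (show orderOf r = 3 from hro)]; exact pow_orderOf_eq_one r
      rw [← MulAut.mul_apply, ← pow_add, add_assoc, Nat.sub_add_cancel hi.le, pow_add, h3, mul_one]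
    rcases Cfsg.Agent.S3161.result hT hab 2 le_rfl α r hαo hro hcomm _ hVm ⟨hel, hcard⟩ htr with
      ⟨F, i1, i2, hF, S, ⟨e⟩⟩ | ⟨F, i1, i2, hF, S, ⟨e⟩⟩
    · exact Or.inr (Or.inr (Or.inr ⟨F, i1, i2, hF, fun P => ⟨e.trans (Sylow.equiv S P)⟩⟩))
    · exact Or.inr (Or.inr (Or.inl ⟨F, i1, i2, hF, fun P => ⟨e.trans (Sylow.equiv S P)⟩⟩))

end Cfsg.Agent.S2933
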