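import Cfsg.Statements.S2934
import Cfsg.Agent.Xs.B
import Cfsg.Agent.Even.Extra

set_option autoImplicit false
open Cfsg

namespace Cfsg.Agent.S2934


/-- Let p be an odd prime, W a finite 2-group and E a non-cyclic abelian p-subgroup of Aut(W) such that, for every nontrivial e ∈ E, the fixed points of e in W contain at most one involution. Then E has order 9, W is extraspecial of order 2⁵, 2⁷ or 2⁹, and the common fixed points of E in W form exactly the centre Z(W). -/
theorem result {W : Type*} [Group W] [Finite W] (hW : IsPGroup 2 W) {p : ℕ} [Fact p.Prime] (hp : p ≠ 2) (E : Subgroup (MulAut W)) (hE : IsPGroup p ↥E) (hab : IsMulCommutative ↥E) (hnc : ¬ IsCyclic ↥E) (hfix : ∀ e ∈ E, e ≠ 1 → ∀ x y : W, orderOf x = 2 → orderOf y = 2 → e x = x → e y = y → x = y) : Nat.card ↥E = 9 ∧ Cfsg.IsExtraspecial 2 W ∧ (Nat.card W = 2 ^ 5 ∨ Nat.card W = 2 ^ 7 ∨ Nat.card W = 2 ^ 9) ∧ {x : W | ∀ e ∈ E, e x = x} = (Subgroup.center W : Set W) := by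
  open CF.BG CF.Coprime Subgroup SemidirectProduct in
  have p2 := Nat.prime_two
  have h : CF.Xs.OneInv p (sdL E.subtype ⊤) (sdR E.subtype ⊤) := by
    refine ⟨hp, piGrp_of_isPGroup p2 ((isPGroup_sdL_iff _).2 (hW.to_subgroup _)),
      piGrp_of_isPGroup Fact.out ((isPGroup_sdR_iff _).2 (hE.to_subgroup _)),
      Abel.of_comm ((isMulCommutative_sdR_iff _).2 inferInstance),
      fun c => hnc (topEquiv.isCyclic.1 ((isCyclic_sdR_iff _).1 c)), (inv_top _ _).le_normalizer, ?_, ?_⟩
    · rintro _ ⟨a, -, rfl⟩ c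
      have : a = 1 := Subtype.ext (MulEquiv.ext fun x =>
        (inr_mul_inl_eq_iff E.subtype).1 (c (inl x) ((mem_sdL _).2 (mem_top x))).symm)
      rw [this, map_one]
    · rintro _ ⟨a, -, rfl⟩ a1
      by_contra! c
      obtain ⟨A, hA⟩ := exists_elem (n := 2) c
      obtain ⟨X, x⟩ := hA.exists_le (m := 1) (by norm_num)
      obtain ⟨Y, y, ne⟩ := hA.exists_ne X
      obtain ⟨u, u1, hu, rfl⟩ := x.exists_gen
      obtain ⟨v, v1, hv, rfl⟩ := y.exists_gen
      obtain ⟨⟨u, -, rfl⟩, cu⟩ := hA.le (x.le hu)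
      obtain ⟨⟨v, -, rfl⟩, cv⟩ := hA.le (y.le hv)
      have o : ∀ w : W, orderOf (inl w : W ⋊[E.subtype] E) = orderOf w :=
        fun w => orderOf_injective inl inl_injective w
      refine ne (by rw [hfix a a.2 (fun e => a1 (by rw [show a = 1 from Subtype.ext e, map_one])) u v
        (o u ▸ x.ab.orderOf hu u1) (o v ▸ y.ab.orderOf hv v1)
        ((inr_mul_inl_eq_iff E.subtype).1 (mem_cent1.1 cu).symm)
        ((inr_mul_inl_eq_iff E.subtype).1 (mem_cent1.1 cv).symm)])
  have c := h.center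
  rw [sdL_inf_centralizer, sdL_inf_centralizer_sdL] at c
  refine ⟨by rw [← h.card_E.1, card_sdR, card_top], CF.Solv.isExtraspecial_top_iff.1
    (CF.Even.isExtraspecial_of_equiv h.extra (sdLEquiv _ ⊤).symm),
    by simpa only [card_sdL, card_top] using h.card_W, ?_⟩
  have c2 := sdL_injective _ c
  rw [top_inf_eq, top_inf_eq, coe_top, centralizer_univ] at c2
  ext x
  rw [c2, SetLike.mem_coe, mem_fixSub_top]
  exact ⟨fun k a => k a a.2, fun k a ha => k ⟨a, ha⟩⟩

end Cfsg.Agent.S2934
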