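import Mathlib
import Cfsg.Statements.S3017
import Cfsg.Agent.Ab2.Z

set_option autoImplicit false
open Cfsg

namespace Cfsg.Agent.S3017

open Subgroup CF.BG CF.Ab2

universe u

section
variable {G : Type u} [Group G] [Finite G]
variable {A B C H K N P X : Subgroup G} {a b c d e g u v w x y z : G}

structure EC (H X : Subgroup G) : Prop where
  le : H ≤ X
  ab : Abel H
  pi : P2 H
  cl : ∀ g ∈ X, ∃ K, K ≤ X ∧ Od K ∧ H ≤ 𝐍 K ∧ cj g H ≤ H ⊔ K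

def Mem (H X A : Subgroup G) : Prop := ∃ g ∈ X, A = cj g H

def DD (H X : Subgroup G) (d : G) : Prop := d * d = 1 ∧ ∃ A, Mem H X A ∧ d ∈ A

def Rl (u v : G) : Prop := Eo (u * v⁻¹)

theorem Rl.symm (h : Rl u v) : Rl v u := by
  have := PiElt.inv h
  unfold Rl
  simpa using this

theorem Rl.refl (u : G) : Rl u u := by
  unfold Rl
  simpa using piElt_one _

theorem Rl.conj (h : Rl u v) (g : G) : Rl (g * u * g⁻¹) (g * v * g⁻¹) := by
  have := PiElt.conj h g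
  unfold Rl
  convert this using 1
  group

theorem EC.cj' (h : EC H X) (hg : g ∈ X) : EC (cj g H) X := by
  refine ⟨cj_le_of_mem hg h.le, h.ab.map _, h.pi.cj g, fun x hx => ?_⟩
  obtain ⟨K, k1, k2, k3, k4⟩ := h.cl (g⁻¹ * x * g) (X.mul_mem (X.mul_mem (X.inv_mem hg) hx) hg)
  refine ⟨cj g K, cj_le_of_mem hg k1, k2.cj g, by rw [← cj_norm]; exact cj_mono g k3, ?_⟩
  have := cj_mono g k4
  rw [cj_sup, cj_cj] at this
  rw [cj_cj]
  convert this using 2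
  group

theorem mem_self (H X : Subgroup G) : Mem H X H := ⟨1, X.one_mem, by simp⟩

theorem Mem.ec (h : EC H X) (m : Mem H X A) : EC A X := by
  obtain ⟨g, hg, rfl⟩ := m
  exact h.cj' hg

theorem Mem.cj' (m : Mem H X A) (hg : g ∈ X) : Mem H X (cj g A) := by
  obtain ⟨x, hx, rfl⟩ := m
  exact ⟨g * x, X.mul_mem hg hx, cj_cj _ _ _⟩

theorem Mem.pair (h : EC H X) (m : Mem H X A) (m' : Mem H X B) :
    ∃ K, K ≤ X ∧ Od K ∧ A ≤ 𝐍 K ∧ B ≤ A ⊔ K := by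
  have h1 := m.ec h
  obtain ⟨x, hx, rfl⟩ := m
  obtain ⟨y, hy, rfl⟩ := m'
  obtain ⟨K, k1, k2, k3, k4⟩ := h1.cl (y * x⁻¹) (X.mul_mem hy (X.inv_mem hx))
  refine ⟨K, k1, k2, k3, ?_⟩
  rw [cj_cj] at k4
  simpa using k4

theorem syl_sup (p : P2 A) (k : Od K) (n : A ≤ 𝐍 K) : Syl 2 A (A ⊔ K) :=
  ⟨le_sup_left, p, by
    rw [relIndex_sup_norm' (Or.inr n)]
    exact k.relIndex A⟩

theorem hall_sup (p : P2 A) (k : Od K) (n : A ≤ 𝐍 K) : Hall {2}ᶜ K (A ⊔ K) :=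
  ⟨le_sup_right, k, by
    rw [relIndex_sup_norm (Or.inl n)]
    exact (p.relIndex K).compl_compl⟩

theorem odd_mem (p : P2 A) (k : Od K) (n : A ≤ 𝐍 K) (hx : x ∈ A ⊔ K) (o : Eo x) : x ∈ K :=
  (hall_sup p k n).mem_normal (sup_le n le_normalizer) hx o

theorem Mem.mem (h : EC H X) (m : Mem H X A) (m' : Mem H X B) (hy : y ∈ B) (n : y ∈ 𝐍 A) :
    y ∈ A := by
  obtain ⟨K, -, k2, k3, k4⟩ := m.pair h m'
  exact (syl_sup (m.ec h).pi k2 k3).mem_of_norm (k4 hy) n ((m'.ec h).pi.elt hy)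

theorem Mem.norm (h : EC H X) (m : Mem H X A) (l : A ≤ P) (l' : P ≤ X) (p : P2 P) : P ≤ 𝐍 A := by
  have : P ⊓ 𝐍 A = P := by
    refine p.nil.eq_of_inf_norm_le inf_le_left fun s hs => ⟨hs.1, mem_norm_of_cj_le fun y hy => ?_⟩
    refine m.mem h (m.cj' (l' hs.1)) hy ?_
    exact (cj_le_of_norm hs.2 (le_inf l le_normalizer) hy).2
  exact this ▸ inf_le_right

theorem DD.mem (h : EC H X) (k : DD H X d) : d ∈ X := by
  obtain ⟨-, A, m, hd⟩ := k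
  exact (m.ec h).le hd

theorem DD.conj (k : DD H X d) (hg : g ∈ X) : DD H X (g * d * g⁻¹) := by
  obtain ⟨k1, A, m, hd⟩ := k
  refine ⟨?_, cj g A, m.cj' hg, mem_cj_iff.2 ⟨d, hd, rfl⟩⟩
  calc g * d * g⁻¹ * (g * d * g⁻¹) = g * (d * d) * g⁻¹ := by group
    _ = 1 := by rw [k1]; group

theorem DD.e2 (k : DD H X d) : E2 d := piElt_of_pow_eq_one Nat.prime_two (by rw [sq, k.1])

theorem DD.inv (k : DD H X d) : d⁻¹ = d := inv_eq_of_mul_eq_one_right k.1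

/-- an element of `D` commuting with `z ∈ A` is conjugate into `A` inside the centralizer -/
theorem conj_into (h : EC H X) (m : Mem H X A) (hz : z ∈ A) (k : DD H X d) (c : d ∈ 𝐂₁ z) :
    ∃ g ∈ X ⊓ 𝐂₁ z, g * d * g⁻¹ ∈ A := by
  have l : A ≤ X ⊓ 𝐂₁ z := le_inf (m.ec h).le ((m.ec h).ab.trans (cent_le_cent1 hz))
  obtain ⟨S, hS, l'⟩ := exists_syl_le l (m.ec h).pi
  obtain ⟨g, hg, e⟩ := hS.syl_cj_le (K := zpowers d) (zpowers_le_of_mem ⟨k.mem h, c⟩) k.e2.zpowers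
  have e1 : g * d * g⁻¹ ∈ S := e (mem_cj_iff.2 ⟨d, mem_zpowers d, rfl⟩)
  obtain ⟨-, B, m', hB⟩ := k.conj hg.1
  exact ⟨g, hg, m.mem h m' hB (m.norm h l' (hS.le.trans inf_le_left) hS.pi e1)⟩

theorem common (h : EC H X) (k : DD H X d) (k' : DD H X z) (c : d ∈ 𝐂₁ z) :
    ∃ A, Mem H X A ∧ d ∈ A ∧ z ∈ A := by
  obtain ⟨-, A, m, hz⟩ := k'
  obtain ⟨g, hg, e⟩ := conj_into h m hz k c
  refine ⟨cj g⁻¹ A, m.cj' (X.inv_mem hg.1), mem_cj_inv.2 e, mem_cj_inv.2 ?_⟩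
  rw [mem_cent1.1 hg.2, mul_inv_cancel_right]
  exact hz

theorem exists_rel (p : P2 A) (k : Od K) (n : A ≤ 𝐍 K) (hc : c ∈ A ⊔ K) (c2 : c * c = 1) :
    ∃ w ∈ A, w * w = 1 ∧ w * c⁻¹ ∈ K := by
  obtain ⟨w, hw, o, ho, rfl⟩ := (mem_sup_norm n).1 hc
  refine ⟨w, hw, ?_, ?_⟩
  · refine eq_one_of_mem_bot (p.inf_eq_bot k) ⟨A.mul_mem hw hw, ?_⟩
    have e : w * w = (w * o * w⁻¹)⁻¹ * (w * o * (w * o)) * o⁻¹ := by group
    rw [e, c2, mul_one]
    exact K.mul_mem (K.inv_mem ((mem_norm.1 (n hw) o).1 ho)) (K.inv_mem ho)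
  · have e : w * (w * o)⁻¹ = w * o⁻¹ * w⁻¹ := by group
    rw [e]
    exact (mem_norm.1 (n hw) _).1 (K.inv_mem ho)

theorem exists_rl (h : EC H X) (m : Mem H X A) (k : DD H X c) :
    ∃ w ∈ A, w * w = 1 ∧ Rl w c := by
  obtain ⟨c2, B, m', hc⟩ := k
  obtain ⟨K, -, k2, k3, k4⟩ := m.pair h m'
  obtain ⟨w, hw, w2, e⟩ := exists_rel (m.ec h).pi k2 k3 (k4 hc) c2
  exact ⟨w, hw, w2, k2.elt e⟩

theorem rl_mul (h : EC H X) (m : Mem H X A) (m' : Mem H X B) {u' v' : G} (hu : u ∈ A)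
    (hu' : u' ∈ A) (hv : v ∈ B) (hv' : v' ∈ B) (r : Rl u v) (r' : Rl u' v') :
    Rl (u * u') (v * v') := by
  obtain ⟨K, -, k2, k3, k4⟩ := m.pair h m'
  have f : ∀ {s t : G}, s ∈ A → t ∈ B → Rl s t → s * t⁻¹ ∈ K := fun hs ht r =>
    odd_mem (m.ec h).pi k2 k3 (mul_mem (mem_sup_left hs) (inv_mem (k4 ht))) r
  refine k2.elt ?_
  have e : u * u' * (v * v')⁻¹ = u * (u' * v'⁻¹) * u⁻¹ * (u * v⁻¹) := by group
  rw [e]
  exact K.mul_mem ((mem_norm.1 (k3 hu) _).1 (f hu' hv' r')) (f hu hv r)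

theorem rl_uniq (h : EC H X) (m : Mem H X A) (m' : Mem H X B) {u' : G} (hu : u ∈ A)
    (hu' : u' ∈ A) (hv : v ∈ B) (r : Rl u v) (r' : Rl u' v) : u = u' := by
  obtain ⟨K, -, k2, k3, k4⟩ := m.pair h m'
  have f : ∀ {s t : G}, s ∈ A → t ∈ B → Rl s t → s * t⁻¹ ∈ K := fun hs ht r =>
    odd_mem (m.ec h).pi k2 k3 (mul_mem (mem_sup_left hs) (inv_mem (k4 ht))) r
  rw [← mul_inv_eq_one]
  refine eq_one_of_mem_bot ((m.ec h).pi.inf_eq_bot k2) ⟨A.mul_mem hu (A.inv_mem hu'), ?_⟩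
  have e : u * u'⁻¹ = u * v⁻¹ * (u' * v⁻¹)⁻¹ := by group
  rw [e]
  exact K.mul_mem (f hu hv r) (K.inv_mem (f hu' hv r'))

theorem mid (h : EC H X) (k : DD H X a) (k' : DD H X c) :
    ∃ z, DD H X z ∧ a ∈ 𝐂₁ z ∧ c ∈ 𝐂₁ z ∧ Rl (a * z) c := by
  have ai := k.inv
  have ci := k'.inv
  obtain ⟨a2, A, m, ha⟩ := k
  obtain ⟨c2, B, m', hc⟩ := k'
  obtain ⟨K, k1, k2, k3, k4⟩ := m.pair h m'
  have p := (m.ec h).pi
  obtain ⟨w, hw, w2, e⟩ := exists_rel p k2 k3 (k4 hc) c2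
  obtain ⟨z, o, hz, ho, z2, oo, zo⟩ := exists_piPart {2} (a * c)
  have hx : a * c ∈ A ⊔ K := mul_mem (mem_sup_left ha) (k4 hc)
  have hzL : z ∈ A ⊔ K := zpowers_le_of_mem hx hz
  have hoK : o ∈ K := odd_mem p k2 k3 (zpowers_le_of_mem hx ho) oo
  have czo : z * o = o * z := (abel_zpowers _).mul_comm hz ho
  have x2 : a * c * (a * c) ∈ K := by
    have u2 : a * w * (a * w) = 1 := by
      calc a * w * (a * w) = a * (w * a) * w := by group
        _ = a * (a * w) * w := by rw [(m.ec h).ab.mul_comm hw ha]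
        _ = (a * a) * (w * w) := by group
        _ = 1 := by rw [a2, w2, mul_one]
    have wi : w⁻¹ = w := inv_eq_of_mul_eq_one_right w2
    rw [ci] at e
    have e1 : a * c = a * w * (w * c) := by rw [mul_assoc, ← mul_assoc w, w2, one_mul]
    have e2 : a * w * (w * c) * (a * w * (w * c)) =
        (a * w * (w * c) * (a * w)⁻¹) * (a * w * (a * w)) * (w * c) := by group
    rw [e1, e2, u2, mul_one]
    exact K.mul_mem ((mem_norm.1 (k3 (A.mul_mem ha hw)) _).1 e) e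
  have zz : z * z = 1 := by
    refine PiElt.eq_one (z2.mul z2 rfl) (k2.elt ?_)
    have : z * z = (z * o * (z * o)) * (o * o)⁻¹ := by
      calc z * z = z * z * o * o * (o * o)⁻¹ := by group
        _ = z * (z * o) * o * (o * o)⁻¹ := by group
        _ = z * (o * z) * o * (o * o)⁻¹ := by rw [czo]
        _ = _ := by group
    rw [this, zo]
    exact K.mul_mem x2 (K.inv_mem (K.mul_mem hoK hoK))
  have az : a * z = z * a := by
    obtain ⟨n, rfl⟩ := hz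
    have e1 : a * (a * c) * a⁻¹ = (a * c)⁻¹ := by
      rw [mul_inv_rev, ai, ci, ← mul_assoc, a2, one_mul]
    have e2 : a * (a * c) ^ n * a⁻¹ = ((a * c) ^ n)⁻¹ := by
      rw [← conj_zpow, e1, inv_zpow]
    rw [inv_eq_of_mul_eq_one_right zz] at e2
    exact mul_inv_eq_iff_eq_mul.1 e2
  have xz : a * c * z = z * (a * c) := (abel_zpowers _).mul_comm (mem_zpowers _) hz
  have cz : c * z = z * c := by
    apply mul_left_cancel (a := a)
    rw [← mul_assoc, xz, ← mul_assoc, ← mul_assoc, az]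
  refine ⟨z, ⟨zz, ?_⟩, mem_cent1.2 az, mem_cent1.2 cz, ?_⟩
  · obtain ⟨g, hg, e⟩ := (syl_sup p k2 k3).syl_le_cj (K := zpowers z) (zpowers_le_of_mem hzL)
      z2.zpowers
    exact ⟨cj g A, m.cj' (sup_le (m.ec h).le k1 hg), e (mem_zpowers z)⟩
  · unfold Rl
    rw [ci, az, mul_assoc, ← zo, ← mul_assoc, zz, one_mul]
    exact oo

theorem EC.mono (h : EC H X) (l : H ≤ C) (l' : C ≤ X) : EC H C := by
  refine ⟨l, h.ab, h.pi, fun g hg => ?_⟩
  obtain ⟨K, k1, k2, k3, k4⟩ := h.cl g (l' hg)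
  refine ⟨K ⊓ C, inf_le_right, k2.inf_left, norm_inf k3 (l.trans le_normalizer), ?_⟩
  rw [← sup_inf_left l (Or.inl k3)]
  exact le_inf k4 (cj_le_of_mem hg l)

theorem EC.qt' (h : EC H X) (n : X ≤ 𝐍 N) : EC (qt N H) (qt N X) := by
  refine ⟨qt_mono N h.le, h.ab.qt N, h.pi.qt N, fun g hg => ?_⟩
  obtain ⟨x, hx, hn, rfl⟩ := mem_qt.1 hg
  obtain ⟨K, k1, k2, k3, k4⟩ := h.cl x hx
  refine ⟨qt N K, qt_mono N k1, k2.qt N, qt_norm N k3, ?_⟩
  rw [← qt_cj hn, ← qt_sup (h.le.trans n) (k1.trans n)]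
  exact qt_mono N k4

theorem rl_trans (h : EC H X)
    (ih : ∀ A, Mem H X A → ∀ z ∈ A, z ≠ 1 → X ⊓ 𝐂₁ z ≤ 𝐍 (A ⊔ 𝒪 (X ⊓ 𝐂₁ z)))
    (ka : DD H X a) (kb : DD H X b) (kc : DD H X c) (r : Rl a b) (r' : Rl b c) : Rl a c := by
  obtain ⟨z, kz, az, cz, rz⟩ := mid h ka kc
  by_cases z1 : z = 1
  · simpa [z1] using rz
  obtain ⟨y, ky, byy, zy, ry⟩ := mid h kb kz
  obtain ⟨B, mB, hb, hy⟩ := common h kb ky byy
  have key : ∀ {s : G}, DD H X s → s ∈ 𝐂₁ z → Rl s b → DD H X (s * z) ∧ Rl (s * z) y := by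
    intro s ks sz rs
    obtain ⟨A, mA, hs, hz⟩ := common h ks kz sz
    obtain ⟨w, hw, w2, rw'⟩ := exists_rl h mA ky
    have r1 := rl_mul h mA mB hz hw (B.mul_mem hb hy) hy ry.symm rw'
    rw [mul_assoc, ky.1, mul_one] at r1
    have e := rl_uniq h mA mB hs (A.mul_mem hz hw) hb rs r1
    have e' : s * z = w := by
      rw [e, (mA.ec h).ab.mul_comm hz hw, mul_assoc, kz.1, mul_one]
    rw [e']
    exact ⟨⟨w2, A, mA, hw⟩, rw'⟩
  obtain ⟨d1, r1⟩ := key ka az r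
  obtain ⟨d2, r2⟩ := key kc cz r'.symm
  obtain ⟨-, A, mA, hz⟩ := id kz
  have n := ih A mA z hz z1
  set C := X ⊓ 𝐂₁ z with hC
  have l : A ≤ C := le_inf (mA.ec h).le ((mA.ec h).ab.trans (cent_le_cent1 hz))
  have nO : A ≤ 𝐍 (𝒪 C) := l.trans (O_normal _ _).norm
  have f : ∀ {s : G}, DD H X s → s ∈ 𝐂₁ z → s ∈ A ⊔ 𝒪 C := by
    intro s ks sz
    obtain ⟨g, hg, e⟩ := conj_into h mA hz ks sz
    exact (mem_norm.1 (n hg) s).2 (mem_sup_left e)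
  have m1 := f d1 (mul_mem az (self_mem_cent1 z))
  have m2 := f d2 (mul_mem cz (self_mem_cent1 z))
  have m3 := f ky (mem_cent1_comm.1 zy)
  have o1 := odd_mem (mA.ec h).pi (O_pi _ _) nO (mul_mem m1 (inv_mem m3)) r1
  have o2 := odd_mem (mA.ec h).pi (O_pi _ _) nO (mul_mem m2 (inv_mem m3)) r2
  refine (O_pi {2}ᶜ C).elt ?_
  have e : a * c⁻¹ = a * z * y⁻¹ * (c * z * y⁻¹)⁻¹ := by group
  rw [e]
  exact mul_mem o1 (inv_mem o2)

theorem exists_normal (h : EC H X) (h0 : 𝒪 X = ⊥) (h1 : H ≠ ⊥)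
    (tr : ∀ a b c, DD H X a → DD H X b → DD H X c → Rl a b → Rl b c → Rl a c) :
    ∃ N, N ≤ H ∧ N ≠ ⊥ ∧ X ≤ 𝐍 N := by
  let K : Subgroup G :=
    { carrier := {g | g ∈ X ∧ ∀ d, DD H X d → Rl d (g * d * g⁻¹)}
      one_mem' := ⟨X.one_mem, fun d _ => by simpa using Rl.refl d⟩
      mul_mem' := by
        rintro s t ⟨hs, hs'⟩ ⟨ht, ht'⟩
        refine ⟨X.mul_mem hs ht, fun d kd => ?_⟩
        have e : s * t * d * (s * t)⁻¹ = s * (t * d * t⁻¹) * s⁻¹ := by group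
        rw [e]
        exact tr _ _ _ kd (kd.conj ht) ((kd.conj ht).conj hs) (ht' d kd) (hs' _ (kd.conj ht))
      inv_mem' := by
        rintro s ⟨hs, hs'⟩
        refine ⟨X.inv_mem hs, fun d kd => ?_⟩
        have := (hs' _ (kd.conj (X.inv_mem hs))).symm
        simpa [mul_assoc] using this }
  have hK : ∀ {g}, g ∈ K ↔ g ∈ X ∧ ∀ d, DD H X d → Rl d (g * d * g⁻¹) := Iff.rfl
  have nK : K ⊴ X := by
    refine ⟨fun g hg => hg.1, le_norm_of_cj_le fun x hx g hg => ?_⟩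
    obtain ⟨s, hs, rfl⟩ := mem_cj_iff.1 hg
    refine hK.2 ⟨X.mul_mem (X.mul_mem hx hs.1) (X.inv_mem hx), fun d kd => ?_⟩
    have := (hs.2 _ (kd.conj (X.inv_mem hx))).conj x
    convert this using 1 <;> group
  have hHK : H ≤ K := by
    intro s hs
    refine hK.2 ⟨h.le hs, fun d kd => ?_⟩
    obtain ⟨w, hw, w2, r⟩ := exists_rl h (mem_self H X) kd
    have r' := r.conj s
    rw [h.ab.mul_comm hs hw, mul_inv_cancel_right] at r'
    exact tr _ _ _ kd ⟨w2, H, mem_self H X, hw⟩ (kd.conj (h.le hs)) r.symm r'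
  obtain ⟨a, ha, oa⟩ := exists_mem_orderOf_eq Nat.prime_two (h.pi.dvd_card h1)
  have ka : DD H X a := ⟨by rw [← sq, ← oa, pow_orderOf_eq_one], H, mem_self H X, ha⟩
  obtain ⟨S, hS, l⟩ := exists_syl_le hHK h.pi
  have hO : 𝒪 K = ⊥ := le_bot_iff.1 (h0 ▸ O_le_O_of_normal nK _)
  have ca : a ∈ 𝐂 K := zstar_cent hO hS (l ha) fun g hg e => by
    have := PiElt.eq_one (hS.pi.elt (S.mul_mem (l ha) (S.inv_mem e))) (hg.2 a ka)
    exact (mul_inv_eq_one.1 this).symm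
  have hm : ∀ g ∈ X, g * a * g⁻¹ ∈ H := by
    intro g hg
    obtain ⟨-, B, m, hB⟩ := ka.conj hg
    refine (mem_self H X).mem h m hB (centralizer_le_normalizer _ (centralizer_le hHK ?_))
    exact (mem_norm.1 (norm_cent (nK.norm) hg) a).1 ca
  refine ⟨closure {y | ∃ g ∈ X, y = g * a * g⁻¹}, ?_, ?_, ?_⟩
  · rw [closure_le]
    rintro _ ⟨g, hg, rfl⟩
    exact hm g hg
  · refine ne_bot_of_mem (subset_closure ⟨1, X.one_mem, by simp⟩) (x := a) fun e => ?_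
    rw [e, orderOf_one] at oa
    exact absurd oa (by decide)
  · refine le_norm_of_cj_le fun x hx => ?_
    rw [cj_le_iff, closure_le]
    rintro _ ⟨g, hg, rfl⟩
    exact mem_cj_inv.2 (subset_closure ⟨x * g, X.mul_mem hx hg, by group⟩)

theorem norm_of_qt (h : EC H X) (h0 : 𝒪 X = ⊥) (l : N ≤ H) (n : X ≤ 𝐍 N)
    (k : qt N X ≤ 𝐍 (qt N H ⊔ 𝒪 (qt N X))) : X ≤ 𝐍 H := by
  have nX : N ⊴ X := ⟨l.trans h.le, n⟩
  set Y := qp N (𝒪 (qt N X)) with hY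
  have nY : Y ⊴ X := (O_normal _ _).qp_of_qt nX
  have n1 : X ≤ 𝐍 (H ⊔ Y) := by
    have := norm_qp n k
    rwa [qp_sup, qp_qt (h.le.trans n), sup_eq_right.2 l] at this
  have hN : Syl 2 N (Y ⊓ 𝐂 N) := by
    have : Syl 2 N Y := ⟨le_qp _, h.pi.le l, by rw [relIndex_qp]; exact O_pi _ _⟩
    exact this.of_le (le_inf (le_qp _) (h.ab.mono l)) inf_le_left
  have nW : Y ⊓ 𝐂 N ⊴ X := ⟨inf_le_left.trans nY.le, norm_inf_cent nY.norm n⟩
  have e := (hN.dprod_of_cent inf_le_right).sup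
  have hO : 𝒪 (Y ⊓ 𝐂 N) = ⊥ := le_bot_iff.1 (h0 ▸ O_le_O_of_normal nW _)
  rw [hO, sup_bot_eq] at e
  refine le_norm_of_cj_le fun g hg => ?_
  have c1 : cj g H ≤ 𝐂 N := by
    refine (h.cj' hg).ab.trans (centralizer_le ?_)
    rw [← cj_of_norm (n hg)]
    exact cj_mono g l
  have c2 : cj g H ≤ (H ⊔ Y) ⊓ 𝐂 N := le_inf (cj_le_of_norm (n1 hg) le_sup_left) c1
  rw [sup_inf_left (h.ab.trans (centralizer_le l)) (Or.inl (h.le.trans nY.norm)), ← e,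
    sup_eq_left.2 l] at c2
  exact c2

end

theorem main (n : ℕ) : ∀ {G : Type u} [Group G] [Finite G] (H X : Subgroup G), ♯X = n → EC H X →
    X ≤ 𝐍 (H ⊔ 𝒪 X) := by
  induction n using Nat.strong_induction_on with
  | _ n ih =>
  intro G _ _ H X hn h
  by_cases h0 : 𝒪 X = ⊥
  swap
  · have nO : 𝒪 X ⊴ X := O_normal _ _
    have := ih _ (hn ▸ card_qt_lt nO h0) _ _ rfl (h.qt' nO.norm)
    rw [O_qt_O, sup_bot_eq] at this
    rw [sup_comm]
    exact norm_sup_of_qt (h.le.trans nO.norm) nO.norm this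
  rw [h0, sup_bot_eq]
  have step : ∀ A, EC A X → ∀ N, N ≤ A → N ≠ ⊥ → X ≤ 𝐍 N → X ≤ 𝐍 A := fun A hA N l N1 nN =>
    norm_of_qt hA h0 l nN (ih _ (hn ▸ card_qt_lt ⟨l.trans hA.le, nN⟩ N1) _ _ rfl (hA.qt' nN))
  by_cases h1 : H = ⊥
  · rw [h1, normalizer_eq_top]; exact le_top
  obtain ⟨N, l, N1, nN⟩ := exists_normal h h0 h1 fun a b c ka kb kc =>
    rl_trans h (fun A m z hz z1 => by
      by_cases e : X ≤ 𝐂₁ z
      · rw [inf_eq_left.2 e, h0, sup_bot_eq]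
        refine step A (m.ec h) (zpowers z) (zpowers_le_of_mem hz) (by simpa using z1) ?_
        exact norm_of_le_center (zpowers_le_of_mem (le_cent1_iff.1 e))
      · exact ih _ (hn ▸ card_lt (inf_lt_left.2 e)) _ _ rfl ((m.ec h).mono
          (le_inf (m.ec h).le ((m.ec h).ab.trans (cent_le_cent1 hz))) inf_le_left)) ka kb kc
  exact step H h N l N1 nN


/-- Let G be a finite group and H an abelian 2-subgroup of G that is extremely closed (for every g, the subgroup generated by H and g H g⁻¹ meets N_G(H) exactly in H). Then G = N_G(H) O(G), where O(G) is the largest normal subgroup of odd order. For H of order 2 this is Glauberman's Z*-statement. -/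
theorem result {G : Type*} [Group G] [Finite G] (H : Subgroup G) (hH2 : IsPGroup 2 H) (hHab : IsMulCommutative H) (hcl : Cfsg.IsExtremelyClosed H) : Subgroup.normalizer (H : Set G) ⊔ Cfsg.oddCore G = ⊤ := by
  have p : P2 H := piGrp_of_isPGroup Nat.prime_two hH2
  have a : Abel H := Abel.of_comm hHab
  have h : EC H ⊤ := by
    refine ⟨le_top, a, p, fun g _ => ?_⟩
    have e : (H ⊔ cj g H) ⊓ 𝐍 H = H := hcl g
    have s : Syl 2 H (H ⊔ cj g H) := syl_of_syl_norm le_sup_left (by rw [e]; exact Hall.refl p)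
    have d := (s.burnside (by rw [e]; exact a)).sdprod s
    exact ⟨_, le_top, O_pi _ _, d.norm, le_sup_right.trans (by rw [sup_comm H (𝐎 _ _), d.sup])⟩
  have n := main _ H ⊤ rfl h
  have e := (syl_sup p (O_pi _ ⊤) (le_top.trans (O_normal _ _).norm)).syl_frattini_sup
    ⟨le_top, n⟩
  rw [O_top, ← CF.Solv.pPrimeCore_eq_piCore Nat.prime_two] at e
  rw [eq_top_iff, ← e]
  exact sup_le (sup_le (le_sup_of_le_left le_normalizer) le_sup_right)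
    (le_sup_of_le_left inf_le_right)

end Cfsg.Agent.S3017
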