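import Cfsg.Statements.S3038
import Cfsg.Agent.PLocal.IsoR2
import Cfsg.Agent.S3049
import Cfsg.Agent.Loc.Iso

set_option autoImplicit false
open Cfsg

namespace Cfsg.Agent.S3038

open Subgroup CF.BG CF.BG2 CF.Loc

/-- Let G be a finite group and p an odd prime with O_{p'}(G) = 1. Suppose that G has p-rank at most 2 and that some element x of order p is isolated in G and not central. Then F*(G) is a non-abelian simple group, and for every Sylow p-subgroup P of F*(G), either no conjugate of x lies in P and P is cyclic, or some conjugate of x lies in P and either P is extraspecial of order p³ and exponent p, or p = 3 and P has order 3^{2k+1} for some k ≥ 2 and is of maximal class (nilpotency class 2k). Since O_{p'}(G) = 1, such an x is not central modulo O_{p'}(G): the hypotheses describe a counterexample to the Z*_p statement in p-rank at most 2, and the conclusion records the structure it would have. -/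
theorem result {G : Type*} [Group G] [Finite G] {p : ℕ} [Fact p.Prime] (hp : p ≠ 2) (hcore : Cfsg.pPrimeCore p G = ⊥)
    (hrank : Cfsg.PRankLE p 2 G) (x : G) (hx : orderOf x = p) (hiso : Cfsg.IsIsolated x) (hnc : x ∉ Subgroup.center G) :
    IsSimpleGroup ↥(Cfsg.generalizedFittingSubgroup G) ∧ ¬ IsMulCommutative ↥(Cfsg.generalizedFittingSubgroup G) ∧
    ∀ P : Sylow p ↥(Cfsg.generalizedFittingSubgroup G),
      ((∀ g : G, g * x * g⁻¹ ∉ ((P : Subgroup ↥(Cfsg.generalizedFittingSubgroup G)).map (Cfsg.generalizedFittingSubgroup G).subtype)) ∧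
          IsCyclic ↥(P : Subgroup ↥(Cfsg.generalizedFittingSubgroup G))) ∨
      ((∃ g : G, g * x * g⁻¹ ∈ ((P : Subgroup ↥(Cfsg.generalizedFittingSubgroup G)).map (Cfsg.generalizedFittingSubgroup G).subtype)) ∧
        ((Cfsg.IsExtraspecial p ↥(P : Subgroup ↥(Cfsg.generalizedFittingSubgroup G)) ∧
            Nat.card (P : Subgroup ↥(Cfsg.generalizedFittingSubgroup G)) = p ^ 3 ∧
            ∀ y ∈ (P : Subgroup ↥(Cfsg.generalizedFittingSubgroup G)), y ^ p = 1) ∨
         (p = 3 ∧ ∃ k : ℕ, 2 ≤ k ∧ Nat.card (P : Subgroup ↥(Cfsg.generalizedFittingSubgroup G)) = 3 ^ (2 * k + 1) ∧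
            ∃ _ : Group.IsNilpotent ↥(P : Subgroup ↥(Cfsg.generalizedFittingSubgroup G)),
              Group.nilpotencyClass ↥(P : Subgroup ↥(Cfsg.generalizedFittingSubgroup G)) = 2 * k))) := by
  have hq : p.Prime := Fact.out
  obtain ⟨hs, hna⟩ := Cfsg.Agent.S3049.result hp hcore hrank x hx hiso hnc
  refine ⟨hs, hna, fun P => ?_⟩
  have nK : (Cfsg.generalizedFittingSubgroup G).Normal := inferInstance
  generalize Cfsg.generalizedFittingSubgroup G = K at *
  have rk := (pRankLE_top_iff hq).1 hrank
  have sP := syl_sylow P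
  by_cases h : ∃ g : G, g * x * g⁻¹ ∈ (P : Subgroup K).map K.subtype
  · refine Or.inr ⟨h, ?_⟩
    obtain ⟨g, w, hw, e⟩ := h
    have hi : Cfsg.IsIsolated w := by
      have := iso_subgroup (iso_conj hiso g) (H := K) (e ▸ w.2)
      convert this
      exact e
    have hK : commutator K = ⊤ := by
      rcases hs.eq_bot_or_eq_top_of_normal (commutator K) inferInstance with e | e
      · exact absurd ((commutator_eq_bot_iff_center_eq_top K).1 e) fun e => hna
          ⟨⟨fun a b => (Subgroup.mem_center_iff.1 (e ▸ mem_top b) a)⟩⟩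
      · exact e
    refine CF.IsoR2.main hp hK P ?_ hw ?_ (iso_normalizer_le hi P.isPGroup' hw)
    · rw [← pRank_map p _ K.subtype_injective]
      exact (pRank_mono p le_top).trans rk
    · rw [← orderOf_injective K.subtype K.subtype_injective, e, orderOf_conj', hx]
  · push Not at h
    refine Or.inl ⟨h, ?_⟩
    have xp : x ^ p = 1 := hx ▸ pow_orderOf_eq_one x
    have kx : PiGrp {p} (zpowers x) := (piElt_of_pow_eq_one hq xp).zpowers
    obtain ⟨S, hS, xS⟩ := exists_syl_le (le_top : zpowers x ≤ ⊤) kx
    have sQ := hS.inf_normal (normalIn_top.2 nK)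
    obtain ⟨g, hg, e⟩ := sQ.syl_conj sP
    have hX := elem_zpowers hq (xS (mem_zpowers x)) hx
    have c := iso_mem_centralizer hiso hS.pi.isPGroup (xS (mem_zpowers x))
    refine (cyc_map_iff K.subtype_injective).1 ?_
    rw [e]
    refine Cyc.map (cyc_of_pRank_le_one hq hp sQ.pi ?_) _
    by_contra l
    obtain ⟨E, hE⟩ := exists_elem (show 2 ≤ pRank p (S ⊓ K) by omega)
    have := ((hE.mono inf_le_left).sup_one hX ((zpowers_le.2 c).trans (cent_anti
      (hE.le.trans inf_le_left))) fun hh => h g (e ▸ conj_mem_cj.2 (hE.le (hh (mem_zpowers x))))).top.le_pRank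
    omega

end Cfsg.Agent.S3038
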