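import Cfsg.Statements.S3107
import Cfsg.Agent.HSo.Y2
-- import your own Cfsg.Agent.* helpers here

set_option autoImplicit false
open Cfsg

namespace Cfsg.Agent.S3107

/-- Let G be a finite group whose generalized Fitting subgroup F*(G) is a non-abelian simple group of sectional 2-rank at least 5. Let t be an involution of G with centralizer C, and write Q for C modulo its largest normal subgroup of odd order and L for the layer of Q. Suppose L is isomorphic to the projective special linear group of dimension 2 over a field with q elements, q ≡ 7 or 9 mod 16, or to the alternating group of degree 7, and suppose the centralizer of L in Q is generated by the image of t. Then one of the following holds: L is the projective special linear group of dimension 2 over the field with 9 elements, G = F*(G), and G is isomorphic to the Higman–Sims group; L is that group over the field with 9 elements, t lies outside F*(G), and F*(G) is isomorphic to the projective symplectic group of dimension 4 over the field with 4 elements, the projective special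 linear group of dimension 5 over the field with 2 elements, or the projective special unitary group PSU₅(2) (q = 2, realised over the field with 4 elements); or L is the alternating group of degree 7, t lies outside F*(G), G is generated by F*(G) and t, and F*(G) is isomorphic to the Held group. -/
theorem result {G : Type*} [Group G] [Finite G]
    (hF : IsSimpleGroup ↥(Cfsg.generalizedFittingSubgroup G)) (hF' : ¬ IsMulCommutative ↥(Cfsg.generalizedFittingSubgroup G))
    (h5 : ¬ Cfsg.SectionalPRankLE 2 4 ↥(Cfsg.generalizedFittingSubgroup G))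
    (t : G) (ht : orderOf t = 2) (tc : ↥(Subgroup.centralizer ({t} : Set G))) (htc : (tc : G) = t)
    (hL : (∃ (F : Type) (_ : Field F) (_ : Fintype F), (Fintype.card F % 16 = 7 ∨ Fintype.card F % 16 = 9) ∧
        Nonempty (↥(Cfsg.layer (↥(Subgroup.centralizer ({t} : Set G)) ⧸ Cfsg.oddCore ↥(Subgroup.centralizer ({t} : Set G)))) ≃* Matrix.ProjectiveSpecialLinearGroup (Fin 2) F)) ∨
      Nonempty (↥(Cfsg.layer (↥(Subgroup.centralizer ({t} : Set G)) ⧸ Cfsg.oddCore ↥(Subgroup.centralizer ({t} : Set G)))) ≃* ↥(alternatingGroup (Fin 7))))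
    (hCL : Subgroup.centralizer ((Cfsg.layer (↥(Subgroup.centralizer ({t} : Set G)) ⧸ Cfsg.oddCore ↥(Subgroup.centralizer ({t} : Set G))) : Subgroup (↥(Subgroup.centralizer ({t} : Set G)) ⧸ Cfsg.oddCore ↥(Subgroup.centralizer ({t} : Set G)))) : Set (↥(Subgroup.centralizer ({t} : Set G)) ⧸ Cfsg.oddCore ↥(Subgroup.centralizer ({t} : Set G)))) =
      Subgroup.zpowers (QuotientGroup.mk tc : (↥(Subgroup.centralizer ({t} : Set G)) ⧸ Cfsg.oddCore ↥(Subgroup.centralizer ({t} : Set G))))) :
    ((∃ (F : Type) (_ : Field F) (_ : Fintype F), Fintype.card F = 9 ∧ Nonempty (↥(Cfsg.layer (↥(Subgroup.centralizer ({t} : Set G)) ⧸ Cfsg.oddCore ↥(Subgroup.centralizer ({t} : Set G)))) ≃* Matrix.ProjectiveSpecialLinearGroup (Fin 2) F)) ∧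
        Cfsg.generalizedFittingSubgroup G = ⊤ ∧ Cfsg.Spor.IsoHS G) ∨
      ((∃ (F : Type) (_ : Field F) (_ : Fintype F), Fintype.card F = 9 ∧ Nonempty (↥(Cfsg.layer (↥(Subgroup.centralizer ({t} : Set G)) ⧸ Cfsg.oddCore ↥(Subgroup.centralizer ({t} : Set G)))) ≃* Matrix.ProjectiveSpecialLinearGroup (Fin 2) F)) ∧
        t ∉ Cfsg.generalizedFittingSubgroup G ∧
        ((∃ (F : Type) (_ : Field F) (_ : Fintype F), Fintype.card F = 4 ∧
            (Nonempty (↥(Cfsg.generalizedFittingSubgroup G) ≃* Cfsg.PSp 2 F) ∨ Nonempty (↥(Cfsg.generalizedFittingSubgroup G) ≃* Cfsg.PSU 5 F 2))) ∨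
          (∃ (F : Type) (_ : Field F) (_ : Fintype F), Fintype.card F = 2 ∧
            Nonempty (↥(Cfsg.generalizedFittingSubgroup G) ≃* Matrix.ProjectiveSpecialLinearGroup (Fin 5) F)))) ∨
      (Nonempty (↥(Cfsg.layer (↥(Subgroup.centralizer ({t} : Set G)) ⧸ Cfsg.oddCore ↥(Subgroup.centralizer ({t} : Set G)))) ≃* ↥(alternatingGroup (Fin 7))) ∧
        t ∉ Cfsg.generalizedFittingSubgroup G ∧ Cfsg.generalizedFittingSubgroup G ⊔ Subgroup.zpowers t = ⊤ ∧
        Cfsg.Spor.IsoHe ↥(Cfsg.generalizedFittingSubgroup G)) := by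
  exact CF.HSo.s3107 CF.HSo.mainAll CF.HSo.heT CF.HSo.l5O hF hF' h5 t ht tc htc hL hCL

end Cfsg.Agent.S3107
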