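import Cfsg.Statements.S3138
import Cfsg.Agent.Gu.R
import Cfsg.Agent.Gu.F
import Cfsg.Agent.Gu.D1
import Cfsg.Agent.Gu.I
import Cfsg.Agent.Gu.N
import Cfsg.Agent.Gu.J1
import Cfsg.Agent.Gu.U
import Cfsg.Agent.Gu.V
import Cfsg.Agent.Gu.W

set_option autoImplicit false
open Cfsg

namespace CF.Gu
universe u
variable {G : Type u} [Group G] [Finite G] {ι : LL →* G} {t : G} {Y : Subgroup G}

theorem Sm.main (s : Sm Y ι t) (H : Hy ι t) {F : Type*} [Field F] [Fintype F] (hF : Fintype.card F = 4) :
    SectionalPRankLE 2 4 Y ∨ Fus ι t ∧ (Nonempty (Y ≃* Matrix.ProjectiveSpecialLinearGroup (Fin 4) F) ∨ U5 Y ι t) := by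
  by_cases a : II ι t
  · obtain ⟨Γ, _, _, f, ι', t', L⟩ := H.lf
    obtain ⟨y, d | d | d⟩ := L.hz.d2 (L.ii a)
    exacts [(L.du s d).elim, .inr ⟨a.imp fun _ => And.right, .inl (L.w8 s d hF)⟩, .inr ⟨a.imp fun _ => And.right, .inr (L.w4 s d)⟩]
  · refine .inl (s.exit H a ?_)
    by_cases F : Fus ι t
    · exact (em _).elim H.caseI1 (H.caseI0 F a)
    · exact H.caseN F

end CF.Gu

namespace Cfsg.Agent.S3138

/-- Let G be a finite group with a standard subgroup L isomorphic to the projective special unitary group of dimension 4 with parameter 2 (realised over the field with 4 elements; the group of order 25920), and suppose the centralizer of L in G has cyclic Sylow 2-subgroups. Write X for the normal closure of L in G. Then one of the following holds: X modulo its largest normal odd-order subgroup is a non-abelian simple group of sectional 2-rank at most 4; X is isomorphic to the projective special linear group of dimension 4 over the field with 4 elements, or to L × L; or L·C_G(L) has index 2 in N_G(L) (the full automorphism group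 of L is induced) and for every 2-central involution z of L (an involution central in some Sylow 2-subgroup of L) the centralizer C_G(z) has a quasisimple subgroup K containing z, with O₂(K) cyclic of order 4, commuting elementwise with the largest normal odd-order subgroup of C_G(z), and such that either K modulo its largest normal odd-order subgroup is isomorphic to the special unitary group of dimension 4 with parameter 3 (realised over the field with 9 elements), or K modulo its centre has Sylow 2-subgroups isomorphic to those of the projective special linear group of dimension 6 over some field whose order is 3 mod 4. -/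
theorem result {G : Type*} [Group G] [Finite G] (L : Subgroup G) (hL : Cfsg.IsStandardSubgroup L)
    {F : Type*} [Field F] [Fintype F] (hF : Fintype.card F = 4) (hLX : Nonempty (↥L ≃* Cfsg.PSU 4 F 2))
    (hR : ∀ R : Sylow 2 ↥(Subgroup.centralizer (L : Set G)), IsCyclic ↥(R : Subgroup ↥(Subgroup.centralizer (L : Set G)))) :
    (IsSimpleGroup (↥(Subgroup.normalClosure (L : Set G)) ⧸ Cfsg.oddCore ↥(Subgroup.normalClosure (L : Set G))) ∧
        ¬ IsMulCommutative (↥(Subgroup.normalClosure (L : Set G)) ⧸ Cfsg.oddCore ↥(Subgroup.normalClosure (L : Set G))) ∧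
        Cfsg.SectionalPRankLE 2 4 (↥(Subgroup.normalClosure (L : Set G)) ⧸ Cfsg.oddCore ↥(Subgroup.normalClosure (L : Set G)))) ∨
      Nonempty (↥(Subgroup.normalClosure (L : Set G)) ≃* Matrix.ProjectiveSpecialLinearGroup (Fin 4) F) ∨
      Nonempty (↥(Subgroup.normalClosure (L : Set G)) ≃* ↥L × ↥L) ∨
      ((L ⊔ Subgroup.centralizer (L : Set G)).relIndex (Subgroup.normalizer (L : Set G)) = 2 ∧
        ∀ z : ↥L, Cfsg.IsTwoCentralInvolution z → ∃ K : Subgroup G, K ≤ Subgroup.centralizer ({(z : G)} : Set G) ∧
          Cfsg.IsQuasisimple ↥K ∧ (z : G) ∈ K ∧ IsCyclic ↥(Cfsg.pCore 2 ↥K) ∧ Nat.card ↥(Cfsg.pCore 2 ↥K) = 4 ∧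
          ((∃ (E : Type) (_ : Field E) (_ : Fintype E), Fintype.card E = 9 ∧ Nonempty ((↥K ⧸ Cfsg.oddCore ↥K) ≃* ↥(Cfsg.SU 4 E 3))) ∨
            (∃ (E : Type) (_ : Field E) (_ : Fintype E), Fintype.card E % 4 = 3 ∧
              ∃ (S : Sylow 2 (↥K ⧸ Subgroup.center ↥K)) (T : Sylow 2 (Matrix.ProjectiveSpecialLinearGroup (Fin 6) E)),
                Nonempty (↥(S : Subgroup (↥K ⧸ Subgroup.center ↥K)) ≃* ↥(T : Subgroup (Matrix.ProjectiveSpecialLinearGroup (Fin 6) E))))) ∧
          ⁅K, Cfsg.centralizerPPrimeCore 2 (z : G)⁆ = ⊥) := by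
  refine (CF.Gu.red hF (fun s i c => s.main (s.front i c) hF) L hL hLX hR).imp_right (.imp_right (.imp_right (.imp_right
    fun k z c => ?_)))
  obtain ⟨K, a, b, c, d, e, f, g⟩ := k z c
  exact ⟨K, a, b, c, d, e, .inl f, g⟩

end Cfsg.Agent.S3138
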