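import Cfsg.Statements.S3160
import Cfsg.Agent.HSq.H
import Cfsg.Agent.HSq.E
import Cfsg.Agent.HSo.Y2

set_option autoImplicit false
open Cfsg

namespace Cfsg.Agent.S3160

/-- Let G be a finite group with no nontrivial normal subgroup of odd order and A a standard subgroup of G whose centre has odd order and whose Sylow 2-subgroups are dihedral of order 8. Write X for the normal closure of A in G. Then one of the following holds: A is normal in G and has trivial centre; X is the generalized Fitting subgroup of G, is isomorphic to A × A, and A has trivial centre; A is an alternating group of degree n = 6 or 7 and X is the alternating group of degree n + 4; X is the generalized Fitting subgroup of G and is a non-abelian simple group of sectional 2-rank at most 4; A is the triple cover of the alternating group of degree 7 (centre of order 3), X is the derived subgroup of G, and G is isomorphic to the automorphism group of the Held group; A is the alternating group of degree 6, X is the derived subgroup of G, and either X is isomorphic to the symplectic group of dimension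 4 over the field with 4 elements and has trivial centralizer in G, or G is isomorphic to the automorphism group of the special linear group of dimension 5 over the field with 2 elements or of the projective special unitary group of dimension 5 with parameter 2; or A is the alternating group of degree 6 and X is the generalized Fitting subgroup of G and is isomorphic to the Higman–Sims group. -/
theorem result {G : Type*} [Group G] [Finite G] (hO : Cfsg.oddCore G = ⊥) (A : Subgroup G) (hA : Cfsg.IsStandardSubgroup A)
    (hZ : Odd (Nat.card ↥(Subgroup.center ↥A))) (hD : ∀ S : Sylow 2 ↥A, Nonempty (↥(S : Subgroup ↥A) ≃* DihedralGroup 4)) :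
    (A.Normal ∧ Subgroup.center ↥A = ⊥) ∨
      (Subgroup.normalClosure (A : Set G) = Cfsg.generalizedFittingSubgroup G ∧ Nonempty (↥(Subgroup.normalClosure (A : Set G)) ≃* ↥A × ↥A) ∧ Subgroup.center ↥A = ⊥) ∨
      (∃ n : ℕ, (n = 6 ∨ n = 7) ∧ Nonempty (↥A ≃* ↥(alternatingGroup (Fin n))) ∧ Nonempty (↥(Subgroup.normalClosure (A : Set G)) ≃* ↥(alternatingGroup (Fin (n + 4))))) ∨
      (Subgroup.normalClosure (A : Set G) = Cfsg.generalizedFittingSubgroup G ∧ IsSimpleGroup ↥(Subgroup.normalClosure (A : Set G)) ∧ ¬ IsMulCommutative ↥(Subgroup.normalClosure (A : Set G)) ∧ Cfsg.SectionalPRankLE 2 4 ↥(Subgroup.normalClosure (A : Set G))) ∨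
      (Nat.card ↥(Subgroup.center ↥A) = 3 ∧ Nonempty ((↥A ⧸ Subgroup.center ↥A) ≃* ↥(alternatingGroup (Fin 7))) ∧
        Subgroup.normalClosure (A : Set G) = commutator G ∧ Nonempty (G ≃* MulAut Cfsg.Spor.He)) ∨
      (Nonempty (↥A ≃* ↥(alternatingGroup (Fin 6))) ∧ Subgroup.normalClosure (A : Set G) = commutator G ∧
        ((∃ (F : Type) (_ : Field F) (_ : Fintype F), Fintype.card F = 4 ∧
            ((Nonempty (↥(commutator G) ≃* Cfsg.PSp 2 F) ∧ Subgroup.centralizer ((commutator G : Subgroup G) : Set G) = ⊥) ∨ Nonempty (G ≃* MulAut (Cfsg.PSU 5 F 2)))) ∨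
          (∃ (F : Type) (_ : Field F) (_ : Fintype F), Fintype.card F = 2 ∧ Nonempty (G ≃* MulAut (Matrix.ProjectiveSpecialLinearGroup (Fin 5) F))))) ∨
      (Nonempty (↥A ≃* ↥(alternatingGroup (Fin 6))) ∧ Subgroup.normalClosure (A : Set G) = Cfsg.generalizedFittingSubgroup G ∧ Cfsg.Spor.IsoHS ↥(Subgroup.normalClosure (A : Set G))) := by
  rcases CF.HSq.red hO A hA hZ hD with h | h | ⟨e, s, n, c, h | ⟨t, t2, t1, k⟩⟩
  · exact .inl h
  · exact .inr (.inl h)
  · exact .inr (.inr (.inr (.inl ⟨e, s, n, CF.HSo.sec h⟩)))
  by_cases h : CF.GH2.SR (Subgroup.normalClosure (A : Set G))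
  · exact .inr (.inr (.inr (.inl ⟨e, s, n, CF.HSo.sec h⟩)))
  exact .inr (.inr (.inr (.inr ((CF.HSq.two CF.HSo.mainAll CF.HSq.het3 c hA hZ hD Subgroup.le_normalClosure h t2 t1 k).imp_right
    (Or.imp_right fun p => ⟨p.1, e, p.2⟩)))))

end Cfsg.Agent.S3160
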