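import Cfsg.Statements.S3206
import Cfsg.Agent.Ab2.L2
import Cfsg.Agent.S4593

set_option autoImplicit false
open Cfsg

namespace Cfsg.Agent.S3206

open CF.BG

open CF.Ab2 CF.GW CF.Sig Subgroup
open scoped commutatorElement

theorem cover {G L : Type*} [Group G] [Finite G] [Group L] [Finite L] (ns : NS (⊤ : Subgroup G))
    {S : Subgroup G} (hS : Syl 2 S ⊤) (ab : Abel S) (c8 : ♯S = 8) {t : G} (ht : t ∈ S) (i : Iv t)
    {N : Subgroup G} (n : ⁅N, N⁆ = N) (nt : N ≤ 𝐂₁ t) (e : S ≤ zpowers t ⊔ N)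
    (π : L →* G) (hπ : Function.Surjective π) (hL : commutator L = ⊤) (hZ : π.ker ≤ center L)
    (k : P2 π.ker) : π.ker = ⊥ := by
  have zc : ∀ H : Subgroup L, π.ker ≤ 𝐂 H := fun H z hz h _ => mem_center_iff.1 (hZ hz) h
  have kT : π.ker ≤ S.comap π := ker_le_comap π S
  have hT : Syl 2 (S.comap π) ⊤ := ⟨le_top, k.of_relIndex (by
      rw [← MonoidHom.comap_bot, relIndex_comap, map_comap_eq_self_of_surjective hπ, relIndex_bot_left]
      exact hS.pi), by
    have := hS.idx
    rwa [relIndex_top_right, ← index_comap_of_surjective _ hπ, ← relIndex_top_right] at this⟩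
  obtain ⟨t, rfl⟩ := hπ t
  have c1 : ⁅N.comap π, zpowers t⁆ ≤ π.ker := by
    rw [← Subgroup.map_eq_bot_iff, map_commutator, map_comap_eq_self_of_surjective hπ,
      MonoidHom.map_zpowers, comm_zp_eq_bot]
    exact nt
  have c2 : ⁅⁅N.comap π, N.comap π⁆, zpowers t⁆ = ⊥ := le_bot_iff.1 (three_subgroup
    (by simp) (by simp) (by simp) (comm_eq_bot.2 (c1.trans (zc _))).le
    (comm_eq_bot.2 ((commutator_comm _ _).le.trans (c1.trans (zc _)))).le)
  have c3 : N.comap π ≤ ⁅N.comap π, N.comap π⁆ ⊔ π.ker := by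
    rw [← comap_map_eq, map_commutator, map_comap_eq_self_of_surjective hπ, n]
  have tz : t ∈ 𝐙 (S.comap π) := by
    refine mi ht (le_cent1_iff.1 ((comap_mono e).trans ?_))
    rw [← MonoidHom.map_zpowers, ← map_comap_eq_self_of_surjective hπ N, ← Subgroup.map_sup,
      comap_map_eq]
    exact sup_le (sup_le (zpowers_le.2 (self_mem_cent1 t)) (c3.trans (sup_le (comm_zp_eq_bot.1 c2)
      (cent_zpowers t ▸ zc _)))) (cent_zpowers t ▸ zc _)
  obtain ⟨g, -, g1, g2⟩ := ns.exists_conj hS ht i.ne_one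
  obtain ⟨g, hg, g3⟩ := burnside_fusion hS (ab ht) (mem_top g) (ab g1)
  rw [← g3] at g1 g2
  obtain ⟨g, rfl⟩ := hπ g
  have ng : g ∈ 𝐍 (S.comap π) := mem_norm_of fun y hy => by
    rw [mem_comap, map_mul, map_mul, map_inv]; exact conj_mem_of_norm hg.2 hy
  have f : FP (π t) (π g * π t * (π g)⁻¹) := ⟨i, i.conj _, ab.mul_comm ht g1, g2.symm⟩
  have l : V4 (π t) (π g * π t * (π g)⁻¹) ≤ (𝐙 (S.comap π)).map π := V4_le.2
    ⟨mem_map_of_mem π tz, by
      simpa using mem_map_of_mem π (conj_mem_of_norm (norm_center _ ng) tz)⟩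
  have lS := V4_le.2 ⟨ht, g1⟩
  obtain ⟨s, hs, s1⟩ := SetLike.not_le_iff_exists.1 fun k => by
    have := card_le (H := S) k
    rw [f.card] at this; omega
  have e2 := eq_of_lt_of_card hS.pi (left_lt_sup.2 fun k => s1 (k (mem_zpowers s)))
    (sup_le lS (zpowers_le.2 hs)) (by rw [f.card, c8])
  obtain ⟨s, rfl⟩ := hπ s
  have aT : Abel (S.comap π) := by
    refine abel_of_cyc_qt le_rfl ((cyc_qt_iff (center_normal _).norm).2 ⟨s, hs, ?_⟩)
    refine (comap_mono (e2.ge.trans (sup_le_sup_right l _))).trans ?_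
    rw [← MonoidHom.map_zpowers, ← Subgroup.map_sup, comap_map_eq]
    exact sup_le le_rfl ((le_inf kT (zc _)).trans le_sup_left)
  exact eq_bot_of_forall fun z hz => eq_one_of_abel_syl hT aT (kT hz) (zc _ hz)
    (hL ▸ mem_top z : z ∈ commutator L)


/-- Let G be a non-abelian finite simple group with abelian Sylow 2-subgroups, and let t be an involution of G whose centralizer is a maximal subgroup of G and is the direct product of the subgroup generated by t with a subgroup E having a normal subgroup isomorphic to PSL(2, q), q odd and greater than 3, with trivial centralizer in E. Then every finite perfect group having a central 2-subgroup with quotient isomorphic to G has that central subgroup trivial (G has no nontrivial perfect central extension by a 2-group), and every automorphism of G of 2-power order that fixes every element of some Sylow 2-subgroup of G is inner. -/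
theorem result {G : Type*} [Group G] [Finite G] [IsSimpleGroup G]
    (hG : ¬ IsMulCommutative G) (hab : ∀ S : Sylow 2 G, IsMulCommutative ↥(S : Subgroup G))
    (t : G) (ht : orderOf t = 2) (hmax : IsCoatom (Subgroup.centralizer ({t} : Set G)))
    (E : Subgroup G) (hE : Cfsg.IsInternalDirectProduct (Subgroup.zpowers t) E (Subgroup.centralizer ({t} : Set G)))
    {F : Type*} [Field F] [Fintype F] (hFo : Odd (Fintype.card F)) (hF3 : 3 < Fintype.card F)
    (N : Subgroup ↥E) [N.Normal] (hN : Nonempty (↥N ≃* Matrix.ProjectiveSpecialLinearGroup (Fin 2) F))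
    (hNc : Subgroup.centralizer (N : Set ↥E) = ⊥) :
    (∀ (L : Type) (_ : Group L) (_ : Finite L) (Z : Subgroup L) (_ : Z.Normal), commutator L = ⊤ → Z ≤ Subgroup.center L →
        IsPGroup 2 ↥Z → Nonempty (L ⧸ Z ≃* G) → Z = ⊥) ∧
    (∀ (φ : G ≃* G) (k : ℕ), φ ^ (2 ^ k) = 1 → (∃ S : Sylow 2 G, ∀ s ∈ (S : Subgroup G), φ s = s) →
        ∃ g : G, ∀ x : G, φ x = g * x * g⁻¹) := by
  haveI : Fact (Nat.Prime 2) := ⟨p2⟩
  have ns := ns_top hG
  constructor
  · intro L _ _ Z _ hL hZ k ⟨e⟩
    have kz : (e.toMonoidHom.comp (QuotientGroup.mk' Z)).ker = Z := by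
      rw [← MonoidHom.comap_ker, (MonoidHom.ker_eq_bot_iff _).2 e.injective, MonoidHom.comap_bot,
        QuotientGroup.ker_mk']
    obtain ⟨S, hS, l⟩ := exists_syl_le (le_top : zpowers t ≤ ⊤) (Iv.piGrp ht)
    have tS := l (mem_zpowers t)
    have ab : Abel S := by
      obtain ⟨S, rfl⟩ := hS.exists_sylow_top
      exact .of_comm (hab S)
    obtain ⟨e1⟩ := hN
    have q : L2q (N.map E.subtype) := l2q_of_iso (two_ne_zero_of_odd hFo)
      (by rwa [Nat.card_eq_fintype_card]) ((N.equivMapOfInjective _ E.subtype_injective).symm.trans e1)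
    have nE : N.map E.subtype ⊴ E := normal_iff_map_subtype.1 ‹_›
    have d : DProd (zpowers t) E (𝐂₁ t) := ⟨fun b hb a ha => hE.2.2.1 a ha b hb, hE.2.2.2.2, hE.2.2.2.1⟩
    have lS : S ≤ 𝐂₁ t := ab.trans (cent_le_cent1 tS)
    have h1 := ((hS.of_le lS le_top).inf_normal d.normal_right)
    have h2 := h1.inf_normal nE
    have l2 : S ⊓ E ≤ N.map E.subtype := fun s hs => by
      have := inner_abel q.ns.O h2 (ab.mono (inf_le_left.trans inf_le_left)) (nE.norm hs.2)
        (hS.pi.elt hs.1) (cent_anti (inf_le_left.trans inf_le_left) (ab hs.1))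
      have := mi this (mi2 hs)
      have e := map_inf_cent (A := ⊤) (H := N) E.subtype_injective
      rw [map_top_subtype, top_inf_eq, hNc, Subgroup.map_bot] at e
      rwa [sup_inf_left nE.le (.inr (cent_le_norm _)), inf_comm, ← e, sup_bot_eq] at this
    rw [inf_eq_left.2 l2] at h2
    have d2 := d.inf_of_left_le l
    rw [inf_eq_right.2 lS] at d2
    rw [← kz]
    refine cover ns hS ab ?_ tS ht q.ns.perf (nE.le.trans d.right_le) ?_ _
      (e.surjective.comp (QuotientGroup.mk'_surjective Z)) hL (kz.symm ▸ hZ)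
      (kz.symm ▸ piGrp_of_isPGroup p2 k)
    · rw [← d2.card, Iv.card ht, inf_comm, q.card_syl h2 (ab.mono inf_le_left)]
    · exact d2.sup.ge.trans (sup_le_sup_left ((inf_comm _ _).le.trans l2) _)
  · rintro φ k h ⟨S, hS⟩
    refine Cfsg.Agent.S4593.result ?_ ((pPrimeCore_eq p2).trans ns.O) S (hab S) φ ?_ hS
    · rw [← ns.center, top_inf_eq, coe_top, centralizer_univ]
    · obtain ⟨j, -, e⟩ := (Nat.dvd_prime_pow p2).1 (orderOf_dvd_of_pow_eq_one h)
      exact ⟨j, e⟩

end Cfsg.Agent.S3206
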