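import Cfsg.Statements.S3211
import Cfsg.Agent.CIT.Few3

set_option autoImplicit false
open Cfsg

namespace Cfsg.Agent.S3211

open CF.Classical CF.BG Subgroup MatrixGroups in
theorem sl_four {F : Type*} [Field F] [Fintype F] (o : Odd (Fintype.card F)) :
    ∃ N, (∀ x : SL(2, F), x * x = -1 → ∃ k w, k ^ N = -1 ∧ w * x * w⁻¹ = x⁻¹ ∧ w * k * w⁻¹ = k⁻¹ ∧
      w * w = -1 ∧ k * x = x * k) ∧ ∀ x l : SL(2, F), x * x = -1 →
        (l * x * l⁻¹ = x ∨ l * x * l⁻¹ = -x) → l ^ N = 1 ∨ l ^ N = -1 := by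
  have o' : Odd (Nat.card F) := Nat.card_eq_fintype_card (α := F) ▸ o
  have h2 := two_ne_zero_of_odd_card o'
  obtain ⟨p, _, a, hp, hF⟩ := FiniteField.card' F
  haveI := Fact.mk hp
  have n1 := neg_one_ne_one_SL2 h2
  have o4 : ∀ x : SL(2, F), x * x = -1 → orderOf x = 4 := fun x h =>
    orderOf_eq_prime_pow (p := 2) (n := 1) (by rwa [pow_one, sq, h]) (by
      rw [show 2 ^ (1 + 1) = 2 * 2 from rfl, pow_mul, sq x, h]; simp)
  have ss : ∀ x : SL(2, F), x * x = -1 → IsSS (Matrix.SpecialLinearGroup.toGL x) := fun x h =>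
    isSS_of_not_dvd p fun d => by
      have : 2 ∣ p := by rw [o4 x h] at d; omega
      exact o.not_two_dvd_nat (this.trans (hF ▸ dvd_pow_self p a.pos.ne'))
  obtain ⟨N, N2, hN⟩ : ∃ N, 2 ∣ N ∧ ∀ x : SL(2, F), x * x = -1 → ♯(𝐂₁ x) = 2 * N := by
    have k : ∀ x : SL(2, F), x * x = -1 → 4 ∣ ♯(𝐂₁ x) ∧
        (♯(𝐂₁ x) = Nat.card F + 1 ∨ ♯(𝐂₁ x) = Nat.card F - 1) := fun x h =>
      ⟨o4 x h ▸ orderOf_dvd_card' (self_mem_cent1 x), nsT1_toGL x ▸ (ss x h).cases.imp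
        (fun h => h.card_nsT1) fun ⟨_, _, l, k⟩ => k.card_nsT1_split l⟩
    obtain ⟨j, hj⟩ := o'
    obtain ⟨i, rfl | rfl⟩ := j.even_or_odd'
    · exact ⟨2 * i, by omega, fun x h => by have := k x h; omega⟩
    · exact ⟨2 * i + 2, by omega, fun x h => by have := k x h; omega⟩
  have inv : ∀ x : SL(2, F), x * x = -1 → x⁻¹ = -x := fun x h =>
    inv_eq_of_mul_eq_one_right (by rw [mul_neg, h, neg_neg])
  have W : ∀ x l : SL(2, F), x * x = -1 → l * x * l⁻¹ = x⁻¹ → l * l = -1 := fun x l h e =>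
    (ss x h).mul_self_eq_neg_one h2 (((ss x h).mem_normalizer_iff (self_mem_cent1 x) le_rfl).2
      (Or.inr e)) fun c => (ss x h).inv_ne (by rw [← e, mem_cent1.1 c, mul_inv_cancel_right])
  refine ⟨N, fun x h => ?_, fun x l h e => (SL2_mul_self_eq_one_iff h2).1 ?_⟩
  · obtain ⟨k, hk⟩ := Cyc.exists_gen (H := 𝐂₁ x) (nsT1_toGL x ▸ (ss x h).isCyclic_nsT1)
    obtain ⟨w, hw⟩ := (ss x h).exists_conj_eq_inv
    have m : k ∈ 𝐂₁ x := hk ▸ mem_zpowers k
    have ok : orderOf k = 2 * N := by rw [← Nat.card_zpowers, hk, hN x h]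
    have := orderOf_pos k
    refine ⟨k, w, ((SL2_mul_self_eq_one_iff h2).1 (by
      rw [← pow_add, ← two_mul, ← ok, pow_orderOf_eq_one])).resolve_left
      (pow_ne_one_of_lt_orderOf (by omega) (by omega)), hw, (ss x h).conj_eq_inv hw m, W x w h hw,
      mem_cent1.1 m⟩
  · rw [← pow_add, ← two_mul]
    rcases e with e | e
    · exact orderOf_dvd_iff_pow_eq_one.1 (hN x h ▸ orderOf_dvd_card'
        (mem_cent1.2 (mul_inv_eq_iff_eq_mul.1 e)))
    · exact orderOf_dvd_iff_pow_eq_one.1 (o4 l (W x l h (e.trans (inv x h).symm)) ▸ by omega)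

/-- Let G be a finite group with subgroups L₁ ≅ SL₂(q₁) and L₂ ≅ SL₂(q₂), q₁ and q₂ odd prime powers, which commute elementwise and meet in ⟨j⟩ for an involution j, and suppose L₁L₂ has index 2 in C_G(j). If some n ∈ C_G(j) with n² = j interchanges L₁ and L₂ under conjugation (so that C_G(j) = L₁L₂⟨n⟩), then G = C_G(j)O(G). -/
theorem result {G : Type*} [Group G] [Finite G]
    {F₁ : Type*} [Field F₁] [Fintype F₁] {F₂ : Type*} [Field F₂] [Fintype F₂]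
    (hF₁ : Odd (Fintype.card F₁)) (hF₂ : Odd (Fintype.card F₂)) (L₁ L₂ : Subgroup G)
    (e₁ : ↥L₁ ≃* Matrix.SpecialLinearGroup (Fin 2) F₁) (e₂ : ↥L₂ ≃* Matrix.SpecialLinearGroup (Fin 2) F₂)
    (hc : ∀ x ∈ L₁, ∀ y ∈ L₂, x * y = y * x) (j : G) (hj : orderOf j = 2) (hm : L₁ ⊓ L₂ = Subgroup.zpowers j)
    (hle : L₁ ⊔ L₂ ≤ Subgroup.centralizer ({j} : Set G)) (hi : (L₁ ⊔ L₂).relIndex (Subgroup.centralizer ({j} : Set G)) = 2) (n : G) (hn : n ∈ Subgroup.centralizer ({j} : Set G))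
    (hn2 : n ^ 2 = j) (hswap : L₁.map (MulAut.conj n).toMonoidHom = L₂) :
    Subgroup.centralizer ({j} : Set G) ⊔ Cfsg.oddCore G = ⊤ := by
  open CF.BG CF.Invol CF.Bender CF.CIT CF.Classical Subgroup MatrixGroups in
  obtain ⟨N, A, B⟩ := sl_four hF₁
  have h2 := two_ne_zero_of_odd_card (F := F₁) (Nat.card_eq_fintype_card (α := F₁) ▸ hF₁)
  obtain ⟨φ, iφ, rfl⟩ : ∃ φ : SL(2, F₁) →* G, Function.Injective φ ∧ L₁ = φ.range :=
    ⟨L₁.subtype.comp e₁.symm, L₁.subtype_injective.comp e₁.symm.injective, by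
      rw [MonoidHom.range_comp, MonoidHom.range_eq_top.2 e₁.symm.surjective, map_top_subtype]⟩
  obtain ⟨ψ, hψ⟩ : ∃ ψ : SL(2, F₁) →* G, ∀ a, ψ a = n * φ a * n⁻¹ :=
    ⟨(MulAut.conj n).toMonoidHom.comp φ, fun _ => rfl⟩
  obtain rfl : L₂ = ψ.range := by
    rw [← hswap, ← MonoidHom.range_comp]
    exact congrArg _ (MonoidHom.ext fun a => (hψ a).symm)
  have iψ : Function.Injective ψ := fun a b h => iφ (by simpa [hψ] using h)
  have jj := mul_self_of_orderOf hj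
  have j1 := ne_one_of_orderOf hj
  have Z : ∀ x, x ∈ zpowers j → x = 1 ∨ x = j := fun x hx => or_iff_not_imp_left.2 fun x1 =>
    CF.Fgs3.Cyc.invol_unique (cyc_zpowers j) hx (mem_zpowers j) (((Nat.dvd_prime Nat.prime_two).1
      (hj ▸ orderOf_dvd_of_mem_zpowers hx)).resolve_left (mt orderOf_eq_one_iff.1 x1)) hj
  have c : ∀ a b, φ a * ψ b = ψ b * φ a := fun a b => hc _ ⟨a, rfl⟩ _ ⟨b, rfl⟩
  have jφ : φ (-1) = j := by
    obtain ⟨a, rfl⟩ := (hm.ge (mem_zpowers j)).1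
    rw [← map_mul, ← φ.map_one, iφ.eq_iff, SL2_mul_self_eq_one_iff h2] at jj
    rcases jj with rfl | rfl
    exacts [absurd φ.map_one j1, rfl]
  have nj := mem_cent1.1 hn
  have jψ : ψ (-1) = j := by rw [hψ, jφ, nj, mul_inv_cancel_right]
  have I : ∀ a b, φ a * ψ b = 1 → a = 1 ∧ b = 1 ∨ a = -1 ∧ b = -1 := fun a b h => by
    have e := eq_inv_of_mul_eq_one_left h
    rcases Z _ (hm.le ⟨⟨a, rfl⟩, ⟨b⁻¹, by rw [e, map_inv]⟩⟩) with k | k
    · rw [k, one_mul] at h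
      exact Or.inl ⟨iφ (k.trans φ.map_one.symm), iψ (h.trans ψ.map_one.symm)⟩
    · rw [k] at h
      exact Or.inr ⟨iφ (k.trans jφ.symm), iψ (mul_left_cancel (h.trans jj.symm) |>.trans jψ.symm)⟩
  have M : ∀ a b a' b', φ a * ψ b * (φ a' * ψ b') = φ (a * a') * ψ (b * b') := fun a b a' b' => by
    rw [map_mul, map_mul, mul_assoc, ← mul_assoc (ψ b), ← c]; group
  have D : ∀ y ∈ φ.range ⊔ ψ.range, ∃ a b, y = φ a * ψ b := fun y hy => by
    obtain ⟨_, ⟨a, rfl⟩, _, ⟨b, rfl⟩, rfl⟩ := (mem_sup_norm (norm_of_cent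
      fun x hx y hy => (hc x hx y hy).symm)).1 hy
    exact ⟨a, b, rfl⟩
  have Cj : ∀ a b, φ a * ψ b * j = j * (φ a * ψ b) := fun a b =>
    mem_cent1.1 (hle (mul_mem (mem_sup_left ⟨a, rfl⟩) (mem_sup_right ⟨b, rfl⟩)))
  have nψ : ∀ b, n * ψ b * n⁻¹ = φ b := fun b => by
    have := Cj b 1
    rw [map_one, mul_one] at this
    rw [hψ]
    calc _ = n ^ 2 * φ b * (n ^ 2)⁻¹ := by rw [sq]; group
      _ = _ := by rw [hn2, ← this, mul_inv_cancel_right]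
  have nL : n ∉ φ.range ⊔ ψ.range := fun h => by
    obtain ⟨a, b, rfl⟩ := D n h
    have : ∀ x, ψ x = φ (a * x * a⁻¹) := fun x => by
      rw [hψ, map_mul, map_mul, map_inv, mul_assoc (φ a), ← c]; group
    have k : ∀ x : SL(2, F₁), x = 1 ∨ x = -1 := fun x => (I (a * x * a⁻¹) x⁻¹ (by
      rw [← this, ← map_mul, mul_inv_cancel, map_one])).imp (fun h => inv_eq_one.1 h.2) fun h => by
        rw [← inv_inv x, h.2]; simp
    rcases k (sl2 1 1 0 1 (by simp)) with l | l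
    · simp [one_eq_sl2, sl2_eq_sl2_iff] at l
    · simp [neg_one_eq_sl2, sl2_eq_sl2_iff] at l
  have V : ∀ y, y * j = j * y → y * y = 1 → ∃ a b, y = φ a * ψ b := fun y hy yy => D y (by
    by_contra k
    obtain ⟨a, b, e⟩ := D _ (idx2_of_dvd hi.dvd y (mem_cent1.2 hy) n⁻¹ (inv_mem hn) k
      fun h => nL (inv_mem_iff.1 h))
    obtain rfl := mul_inv_eq_iff_eq_mul.1 e
    have : φ (a * b * -1) * ψ (b * a) = 1 := by
      rw [← yy, map_mul φ _ (-1), jφ, mul_assoc, ← mem_cent1.1 (hle (mem_sup_right ⟨b * a, rfl⟩)),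
        ← mul_assoc, ← M, c b a, ← hn2, hψ a, ← nψ b, sq]
      group
    have n1 := neg_one_ne_one_SL2 h2
    rcases I _ _ this with ⟨k1, k2⟩ | ⟨k1, k2⟩
    · rw [mul_eq_one_comm.1 k2, one_mul] at k1; exact n1 k1
    · rw [mul_neg_one, neg_inj, mul_eq_one_comm, k2] at k1; exact n1 k1)
  have U : ∀ u, u * j = j * u → orderOf u = 2 → u ≠ j → ∃ a b, u = φ a * ψ b ∧ a * a = -1 ∧
      b * b = -1 := fun u hu o ne => by
    obtain ⟨a, b, rfl⟩ := V u hu (mul_self_of_orderOf o)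
    refine ⟨a, b, rfl, (I _ _ (M a b a b ▸ mul_self_of_orderOf o)).resolve_left fun ⟨k1, k2⟩ => ?_⟩
    rw [SL2_mul_self_eq_one_iff h2] at k1 k2
    rcases k1 with rfl | rfl <;> rcases k2 with rfl | rfl <;> simp [jφ, jψ, jj] at o ne
  refine (sup_comm _ _).trans (isolated_sup_centralizer ⟨hj, fun g hg => by_contra fun ne => ?_⟩)
  obtain ⟨a, b, e, ha, hb⟩ := U _ hg.eq.symm ((CF.BG.orderOf_conj' g j).trans hj) ne
  obtain ⟨k, w, k1, k2, k3, k4, k5⟩ := A a ha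
  obtain ⟨-, v, -, l2, -, l4, -⟩ := A b hb
  have inv : ∀ x : SL(2, F₁), x * x = -1 → x⁻¹ = -x := fun x h =>
    inv_eq_of_mul_eq_one_right (by rw [mul_neg, h, neg_neg])
  have T : ∀ y, y * (g * j * g⁻¹) = g * j * g⁻¹ * y → y * y = 1 → ∃ a b, g⁻¹ * y * g = φ a * ψ b :=
    fun y h1 h2 => V _ (by
      calc _ = g⁻¹ * (y * (g * j * g⁻¹)) * g := by group
        _ = _ := by rw [h1]; group) (by
      calc _ = g⁻¹ * (y * y) * g := by group
        _ = _ := by rw [h2]; group)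
  have neg : ∀ a b, φ (-a) * ψ (-b) = φ a * ψ b := fun a b => by
    rw [← mul_neg_one a, ← mul_neg_one b, ← M, jφ, jψ, jj, mul_one]
  have wa := mul_inv_eq_iff_eq_mul.1 (k2.trans (inv a ha))
  have vb := mul_inv_eq_iff_eq_mul.1 (l2.trans (inv b hb))
  obtain ⟨a1, b1, e1⟩ := T (φ w * ψ v) (by rw [e, M, M, wa, vb, neg_mul, neg_mul, neg])
    (by rw [M, k4, l4, jφ, jψ, jj])
  obtain ⟨a2, b2, e2⟩ := T (φ (k * w) * ψ v) (by
      rw [e, M, M, mul_assoc, wa, vb, neg_mul, neg_mul, mul_neg, neg, ← mul_assoc k, k5, mul_assoc a])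
    (by rw [M, l4, jψ, show k * w * (k * w) = k * (w * k * w⁻¹) * (w * w) by group, k3, k4,
      mul_inv_cancel, one_mul, jφ, jj])
  have e3 : g⁻¹ * φ k * g = φ (a2 * a1⁻¹) * ψ (b2 * b1⁻¹) := by
    rw [← M, ← e2, map_inv, map_inv, ← mul_inv_rev, ← c, ← e1, map_mul]; group
  have ne' : g⁻¹ * j * g ≠ j := fun h => ne (by
    conv_lhs => rw [← h]
    group)
  obtain ⟨a', b', e', ha', hb'⟩ := U (g⁻¹ * j * g) (by
      calc _ = g⁻¹ * (j * (g * j * g⁻¹)) * g := by group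
        _ = _ := by rw [hg.eq]; group) ((CF.Invol.orderOf_conj' g j).trans hj) ne'
  generalize a2 * a1⁻¹ = x at e3
  generalize b2 * b1⁻¹ = y at e3
  have cm : φ (x * a' * x⁻¹ * a'⁻¹) * ψ (y * b' * y⁻¹ * b'⁻¹) = 1 := by
    have := Cj k 1
    rw [map_one, mul_one] at this
    rw [← M, ← M, ← M, ← e3, ← e', map_inv, map_inv, map_inv, map_inv, ← mul_inv_rev, ← mul_inv_rev,
      ← c, ← c, ← e3, ← e']
    calc _ = g⁻¹ * (φ k * j * (φ k)⁻¹ * j⁻¹) * g := by group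
      _ = _ := by rw [this]; group
  have cs := I _ _ cm
  rw [mul_inv_eq_one, mul_inv_eq_one, mul_inv_eq_iff_eq_mul (c := (-1 : SL(2, F₁))),
    mul_inv_eq_iff_eq_mul (c := (-1 : SL(2, F₁))), neg_one_mul, neg_one_mul] at cs
  have p : (g⁻¹ * φ k * g) ^ N = g⁻¹ * j * g := by
    rw [← jφ, ← k1, map_pow]
    simpa using conj_pow (a := g⁻¹) (b := φ k) (i := N)
  rw [e3, Commute.mul_pow (c x y), ← map_pow, ← map_pow] at p
  have o := (CF.Invol.orderOf_conj' g j).trans hj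
  rcases B a' x ha' (cs.imp And.left And.left) with l | l <;>
    rcases B b' y hb' (cs.imp And.right And.right) with l' | l' <;> rw [l, l'] at p <;>
    rw [← p] at o ne' <;> simp [jφ, jψ, jj] at o ne'

end Cfsg.Agent.S3211
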