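import Cfsg.Statements.S3222
import Cfsg.Agent.Char.IC1

set_option autoImplicit false
open Cfsg

namespace Cfsg.Agent.S3222

open CF CF.Char Subgroup

theorem aux1 : Nat.card (Subgroup.centralizer ({CF.Char.IC.z0} : Set _)) = 2 ^ 4 := by
  simp only [Subgroup.mem_centralizer_singleton_iff, Nat.card_eq_fintype_card, Fintype.card_subtype]
  decide +kernel

open CF.Char in
theorem aux2 : ∀ a b : IC.X48, a * IC.z0 = IC.z0 * a → b * IC.z0 = IC.z0 * b →
    a * b * a⁻¹ * b⁻¹ = 1 ∨ a * b * a⁻¹ * b⁻¹ = IC.z0 := by decide +kernel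

/-- Let G be a finite group of even order such that (1) some involution t lying in the centre of a Sylow 2-subgroup of G has C_G(t) ≅ Z₂ × S₄, and (2) every Sylow 2-subgroup S of G satisfies C_G(S′) = S, where S′ is the derived subgroup of S. Then G = C_G(t) if G is solvable, and G ≅ S₆ otherwise. -/
theorem result {G : Type*} [Group G] [Finite G] (hev : Even (Nat.card G))
    (t : G) (ht : orderOf t = 2) (T : Sylow 2 G) (htT : t ∈ (T : Subgroup G)) (htc : ∀ s ∈ (T : Subgroup G), s * t = t * s)
    (e : ↥(Subgroup.centralizer ({t} : Set G)) ≃* (Multiplicative (ZMod 2) × Equiv.Perm (Fin 4)))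
    (h2 : ∀ S : Sylow 2 G, Subgroup.centralizer ((⁅(S : Subgroup G), (S : Subgroup G)⁆ : Subgroup G) : Set G) = (S : Subgroup G)) :
    (Group.IsSolvable G → Subgroup.centralizer ({t} : Set G) = ⊤) ∧
      (¬ Group.IsSolvable G → Nonempty (G ≃* Equiv.Perm (Fin 6))) := by
  obtain ⟨f, c, h, rfl⟩ := IC.exists_cm e
  obtain rfl : c = IC.c0 := ((by decide +kernel : ∀ c : IC.X48, (∀ x, x * c = c * x) → c = 1 ∨ c = IC.c0) c
    h.comm).resolve_left (by rintro rfl; simp at ht)
  haveI := Fact.mk Nat.prime_two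
  have c16 : Nat.card ((centralizer {IC.z0}).map f) = 2 ^ 4 := by
    rw [card_map_of_injective h.inj]
    exact aux1
  have c48 : Nat.card (centralizer ({f IC.c0} : Set G)) = 48 := by simp [h.card, Fintype.card_perm, Nat.factorial]
  have hl : (centralizer {IC.z0}).map f ≤ centralizer {f IC.c0} := h.range_eq ▸ map_le_range _ _
  have hT : ¬ 2 ∣ ((centralizer {IC.z0}).map f).index := by
    have h1 := Transfer.card_mul_relIndex hl
    rw [c16, c48] at h1
    rw [← relIndex_mul_index hl, Nat.prime_two.dvd_mul, not_or]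
    exact ⟨by omega, fun e => T.not_dvd_index (e.trans (index_dvd_of_le fun s hs =>
      mem_centralizer_singleton_iff.2 (htc s hs)))⟩
  have hz : ∀ g, g * f IC.z0 = f IC.z0 * g → ∃ x, f x = g := fun g hg => by
    refine map_le_range _ _ ((h2 ((IsPGroup.of_card c16).toSylow hT)).le fun x hx => ?_)
    rw [IsPGroup.toSylow_coe, ← map_commutator] at hx
    obtain ⟨y, hy, rfl⟩ := hx
    have : y ∈ zpowers IC.z0 := (commutator_le.2 fun a ha b hb => by
      rcases aux2 a b (mem_centralizer_singleton_iff.1 ha)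
        (mem_centralizer_singleton_iff.1 hb) with e | e <;> rw [commutatorElement_def, e]
      exacts [one_mem _, mem_zpowers _]) hy
    obtain ⟨i, rfl⟩ := mem_zpowers_iff.1 this
    rw [map_zpow]
    exact ((show Commute g _ from hg).zpow_right i).symm
  rcases IC.main48 h hz hT with e1 | ⟨⟨e1⟩⟩
  · refine ⟨fun _ => e1, fun hs => absurd ?_ hs⟩
    have := Perm.isSolvable_perm (X := Fin 4) (by simp)
    exact solvable_of_surjective (f := f) (MonoidHom.range_eq_top.1 (h.range_eq.trans e1))
  · exact ⟨fun hs => absurd (solvable_of_surjective (f := e1.toMonoidHom) e1.surjective)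
      (Equiv.Perm.not_isSolvable _ (by simp; norm_num)), fun _ => ⟨e1⟩⟩

end Cfsg.Agent.S3222
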