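import Cfsg.Statements.S3244
import Cfsg.Agent.Loc.JC6
import Cfsg.Agent.Loc.FrakM
import Cfsg.Agent.S1296
import Cfsg.Agent.Sig.SftE
import Cfsg.Agent.GW.Main
import Cfsg.Agent.ABG.B2
import Cfsg.Agent.Invol.StrEmb
import Cfsg.Agent.Char.ZStarCor

set_option autoImplicit false
open Cfsg

namespace Cfsg.Agent.S3244

open Subgroup CF.Loc CF.PLocal

variable {G : Type*} [Group G] [Finite G]

/-- If a Sylow subgroup of a maximal `2`-local lies in no other one, then two maximal `2`-locals
meet in a group of odd order. -/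
theorem uniq (h : ∀ L M T : Subgroup G, IsMaximalTwoLocal L → IsMaximalTwoLocal M → IsSyl 2 T L →
    T ≤ M → L = M) (X : Subgroup G) : IsPGroup 2 X → X ≠ ⊥ → ∀ L M : Subgroup G,
    IsMaximalTwoLocal L → IsMaximalTwoLocal M → X ≤ L → X ≤ M → L = M := by
  induction X using WellFoundedGT.induction with | _ X ih
  intro a b L M l m c d
  obtain ⟨K, k, n⟩ := exists_maxLocal_ge a b
  have key : ∀ L, IsMaximalTwoLocal L → X ≤ L → L = K := fun L l c => by
    obtain ⟨T, t, e⟩ := exists_isSyl_ge a c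
    rcases e.eq_or_lt with rfl | e
    · exact h L K X l k t (le_normalizer.trans n)
    · have := lt_inf_normalizer t.isPGroup e
      exact ih _ this (t.isPGroup.to_le inf_le_left) (ne_bot_of_gt this) L K l k
        (inf_le_left.trans t.le) (inf_le_right.trans n)
  rw [key L l c, key M m d]

theorem cyc {M : Subgroup G} (h : IsCyclic (center (pCore 2 M))) :
    UniqP 2 (𝐎[2](M) ⊓ 𝐂(𝐎[2](M))) := by
  have h1 := isCyclic_of_surjective _ ((pCore 2 M).subtype.subgroupMap_surjective (center _))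
  have h2 := isCyclic_of_surjective _ (M.subtype.subgroupMap_surjective
    ((center (pCore 2 M)).map (pCore 2 M).subtype))
  refine (uniqP_of_isCyclic h2).of_le ?_
  rw [CF.Sig.map_center_subtype, map_inf _ _ _ M.subtype_injective, centralizer_map_subtype]
  exact le_inf inf_le_left (inf_le_inf_right _ (pCoreOf_le 2 M))

/-- Say that a finite group G is of characteristic 2 type in the early sense when a Sylow 2-subgroup S of G has a self-centralizing normal subgroup of rank at least 3, S normalizes no nontrivial subgroup of odd order, and every 2-local subgroup of G is 2-constrained. If G is a non-abelian simple group of characteristic 2 type in this sense, then for some maximal 2-local subgroup M of G the centre of O₂(M) is not cyclic. -/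
theorem result {G : Type*} [Group G] [Finite G] [IsSimpleGroup G]
    (hG : ¬ IsMulCommutative G) (S : Sylow 2 G) (A : Subgroup G) (hA : Cfsg.IsSCN (S : Subgroup G) A) (hA3 : ¬ Cfsg.PRankLE 2 2 ↥A)
    (hinv : ∀ X : Subgroup G, Odd (Nat.card ↥X) → (S : Subgroup G) ≤ Subgroup.normalizer (X : Set G) → X = ⊥)
    (hcon : ∀ T : Subgroup G, IsPGroup 2 ↥T → T ≠ ⊥ → Cfsg.IsPConstrained 2 ↥(Subgroup.normalizer (T : Set G))) :
    ∃ M : Subgroup G, Cfsg.IsMaximalTwoLocal M ∧ ¬ IsCyclic ↥(Subgroup.center ↥(Cfsg.pCore 2 ↥M)) := by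
  by_contra! hc
  have ns : ¬ Group.IsSolvable G := fun s => hG ⟨⟨IsSimpleGroup.comm_iff_isSolvable.2 s⟩⟩
  have ev : Even (Nat.card G) := Nat.not_odd_iff_even.1 fun o => ns (CF.Hyp.isSolvable_of_odd o)
  have pf := CF.ABGc.commutator_eq_top_of_simple hG
  simp only [PRankLE, not_forall, not_le] at hA3
  obtain ⟨E, e1, e2, e3⟩ := hA3
  have ea : IsElementaryAbelian 2 (E.map A.subtype) := isElemAb_map _ ⟨e1, e2⟩
  rw [← card_map_of_injective A.subtype_injective] at e3
  have ch := ((Cfsg.Agent.S1296.result ev (fun N n i => ?_)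
    (CF.Char.oddCore_eq_bot_of_simple ev)).resolve_left fun r => (r _ ea.1 ea.2).not_gt e3).resolve_left
    fun ⟨t, ht, k⟩ => ?_
  rotate_left
  · have := (CF.GW.commutator_le_of_index_two i).trans_lt
      (lt_top_iff_ne_top.2 fun e => by simp [e] at i)
    exact this.ne pf
  · have := hcon _ (isPGroup_zpowers_of_orderOf (k := 1) ht) (by rintro h; simp_all)
    rw [CF.Sig.norm_zpowers_two ht, CF.Sig.isPConstrained_iff_pLayer_eq_bot,
      CF.Sig.pLayer_eq_bot_iff] at this
    exact CF.Sig.hasComponent_iff_layer_ne_bot.1 k this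
  have key : ∀ L T : Subgroup G, IsMaximalTwoLocal L → IsSyl 2 T L → 𝐙(T) = 𝐕(L) ∧ 𝐍(𝐕(L)) = L ∧
      ∃ z, orderOf z = 2 ∧ 𝐕(L) = zpowers z := fun L T l t => by
    have o := twoLocal_O_ne_bot l.1
    have c : IsCharP 2 L := by
      obtain ⟨Q, a, b, rfl⟩ := l.1
      exact isCharP_iff.2 (ch.2 Q a b)
    have t0 : T ≠ ⊥ := fun e => o (eq_bot_iff.2 (e ▸ t.pCoreOf_le))
    have p := isElemAb_isPGroup (isElemAb_omegaOneCenter 2 T)
    obtain ⟨z, hz, oz⟩ := exists_orderOf_eq_of_isPGroup p (omegaOneCenter_ne_bot t.isPGroup t0)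
    have le := c.omegaOneCenter_le t
    have e : 𝐕(L) = zpowers z := (cyc (hc L l)).omegaOne_eq (CF.Loc.omegaOne_le _ _ (le hz)) oz
    exact ⟨le_antisymm le (e ▸ zpowers_le.2 hz), maxLocal_normalizer_le l
      (isElemAb_isPGroup (isElemAb_omegaOneCenter 2 _))
      (omegaOneCenter_ne_bot (isPGroup_pCoreOf 2 L) o) ((le_normalizer_pCoreOf 2 L).trans
      (normalizer_le_normalizer_omegaOneCenter 2 _)), z, oz, e⟩
  have u := uniq (G := G) fun L M T l m t le => by
    obtain ⟨a, b, -⟩ := key L T l t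
    have n : 𝐍(T) ≤ L := b ▸ a ▸ normalizer_le_normalizer_omegaOneCenter 2 T
    have s : IsSyl 2 T ⊤ := isSyl_of_normalizer (t.mono (le_inf le_top le_normalizer)
      (inf_le_right.trans n))
    obtain ⟨c, d, -⟩ := key M T m (s.mono le le_top)
    rw [← b, ← a, c, d]
  have s0 : (S : Subgroup G) ≠ ⊥ := (isSyl_top S).ne_bot_iff.2 (by simpa using ev.two_dvd)
  obtain ⟨M, m, n⟩ := exists_maxLocal_ge S.2 s0
  have s := isSyl_of_le S (le_normalizer.trans n)
  obtain ⟨a, b, z, oz, e⟩ := key M S m s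
  rw [e, CF.Sig.norm_zpowers_two oz] at b
  have zM : z ∈ M := b ▸ mem_centralizer_singleton_iff.2 rfl
  have se : IsStronglyEmbedded M := se_iff_SE.2 ⟨fun e => ?_, even_iff_two_dvd.2 (s.ne_bot_iff.1 s0),
    se_of_normalizer s s0 fun X x1 x2 => ?_⟩
  · have : E.map A.subtype ≤ zpowers z := fun x hx => by
      by_cases x1 : x = 1
      · exact x1 ▸ one_mem _
      obtain ⟨g, hg, rfl⟩ := CF.Invol.se_exists_conj_mem se zM oz
        (s.le (hA.1 (map_subtype_le E hx))) (orderOf_eq_prime (ea.2 x hx) x1)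
      rw [mem_centralizer_singleton_iff.1 (b.ge hg), mul_inv_cancel_right]
      exact mem_zpowers z
    have := Subgroup.card_le_of_le this
    rw [Nat.card_zpowers, oz] at this
    omega
  · have o := twoLocal_O_ne_bot m.1
    have : (𝐎[2](M)).Normal := normal_of_top_le_normalizer (e ▸ le_normalizer_pCoreOf 2 M)
    have p := isPGroup_pCoreOf 2 M
    rw [this.eq_bot_or_eq_top.resolve_left o] at p
    have := (p.of_equiv topEquiv).isNilpotent
    exact ns inferInstance
  · obtain ⟨K, k, n⟩ := exists_maxLocal_ge (S.2.to_le x1) x2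
    exact u X (S.2.to_le x1) x2 K M k m (le_normalizer.trans n) (x1.trans s.le) ▸ n

end Cfsg.Agent.S3244
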