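import Cfsg.Statements.S3374
import Cfsg.Agent.Classical.SL25
import Cfsg.Agent.Classical.RegVec
import Cfsg.Agent.Fgs2.FrobComp

set_option autoImplicit false
open Cfsg

namespace Cfsg.Agent.S3374

instance instFactEleven : Fact (Nat.Prime 11) := ⟨by norm_num⟩

/-- The certificate. -/
def tab : ℕ := nat_lit 0x20000000b00000001000600010021000500000009000000230003000a00070002000f0004000600060002001000020000000500020011000a0006000a000000530007000600080002001300090007000900020014000800070004000100360006000600020002000b0001000100060002001700000006000500020018000600010008000200190004000100060002001a0003000100060001001a0005000200040000004600020001000800000052000a00080006000100100008000500070002001f00090008000900020020000700080006000000090001000600060001004f00010008000900020023000a000700030001007800070000000a0002002500040002000800000039000600030007000100630005000300040000005100030000000800010013000900060007000000690008000600080002002b00020007000600020021000000040008000000130002000900070000001f0001000900080000002b000600020003000200300004000700090001002000050001000700010066000300020003000000500000000300020001000b0008000800050001005c000a00090004000200360009000900010001000100070003000900010055000100070008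000200390003000800060002003a00020008000400000036000000090005000100180006000400040002003d00050004000300010041000a000100090000005b0008000200090000006700090001000300020041000700010005000200370004000900020001004d0004000a000a000100250002000a000a00020045000300090004000200460001000a0003000000410006000700060002004800050007000500020049000000020005000100110009000300070001006200080003000a0001002f000a0004000400010007000700020003000100500002000200060002004f00010002000300020050000300030004000200510000000800080002005200080009000a000200530006000a00020000004d0007000400090001001400050009000800020056000a00020009000200570009000200020002004d0004000800070000000f0009000400080002005a0003000500090002005b0002000500050002005c0008000000080002005d0006000800090002005e00050008000900000057000700090004000200600004000000080001005d00010004000700020062000a0003000500000003000000070008000100560004000300060000001a0002000300070002006600030006000900020067000100030005000200680009000a000700020069000600090005000100370008000a0007000000620007000a0004000100600005000a00050000006f00000005000700020063000a000500050002006f000500050008000000190003000400070001007700020004000a000100440004000500040000003d000100050005000000490009000000060001003a00070005000a0002007600080001000700020077000600000003000200780000000a000100000001000a000a000100020001000a000000050000001800050006000500020003000700070003000000300008000400070002000500020006000600000048000900050004000200070003000700040000006000040004000600020009000600050000000000000001000000000000000000000000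

theorem tab_ok : CF.Classical.RegVec.chk 11 tab [(0, 10, 1, 10), (0, 3, 7, 7), (10, 0, 0, 10)] = true := by decide +kernel


/-- SL(2,5) occurs as a Frobenius complement: there is a finite group L with a subgroup H isomorphic to SL(2,5) which is a non-trivial proper subgroup meeting each conjugate gHg⁻¹ with g outside H trivially. -/
theorem result :
    ∃ (L : Type) (_ : Group L) (_ : Finite L) (H : Subgroup L),
      Cfsg.IsFrobeniusComplement H ∧ Nonempty (H ≃* Matrix.SpecialLinearGroup (Fin 2) (ZMod 5)) := by
  open CF.Classical CF.Classical.RegVec Matrix in
  let X : GL (Fin 2) (ZMod 11) := ⟨gm 11 (0, 10, 1, 10), gm 11 (0, 10, 1, 10) ^ 2, by decide +kernel, by decide +kernel⟩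
  let Y : GL (Fin 2) (ZMod 11) := ⟨gm 11 (0, 3, 7, 7), gm 11 (0, 3, 7, 7) ^ 4, by decide +kernel, by decide +kernel⟩
  let Z : GL (Fin 2) (ZMod 11) := ⟨gm 11 (10, 0, 0, 10), gm 11 (10, 0, 0, 10), by decide +kernel, by decide +kernel⟩
  obtain ⟨h1, h2⟩ := main (S := {X, Y, Z}) tab_ok
    (by rintro s (rfl | rfl | rfl); exacts [⟨_, by simp, rfl⟩, ⟨_, by simp, rfl⟩, ⟨_, by simp, rfl⟩])
    (by
      intro g hg
      simp only [List.mem_cons, List.not_mem_nil, or_false] at hg
      rcases hg with rfl | rfl | rfl
      exacts [⟨X, by simp, rfl⟩, ⟨Y, by simp, rfl⟩, ⟨Z, by simp, rfl⟩])
  let f := PresentedGroup.toGroup (lift_sl25Rels (x := X) (y := Y) (z := Z)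
    (Units.ext (by decide +kernel)) (Units.ext (by decide +kernel)) (Units.ext (by decide +kernel))
    (Units.ext (by decide +kernel)) (Units.ext (by decide +kernel)) (Units.ext (by decide +kernel)))
  have hf : f.range = Subgroup.closure {X, Y, Z} := by
    refine le_antisymm ?_ ((Subgroup.closure_le _).2 ?_)
    · rintro _ ⟨g, rfl⟩
      refine PresentedGroup.generated_by _ (Subgroup.comap f (Subgroup.closure {X, Y, Z}))
        (fun j => Subgroup.mem_comap.2 (Subgroup.subset_closure ?_)) g
      rw [PresentedGroup.toGroup.of]
      fin_cases j <;> simp
    · rintro _ (rfl | rfl | rfl)
      exacts [⟨PresentedGroup.of 0, PresentedGroup.toGroup.of _⟩,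
        ⟨PresentedGroup.of 1, PresentedGroup.toGroup.of _⟩,
        ⟨PresentedGroup.of 2, PresentedGroup.toGroup.of _⟩]
  obtain ⟨_, hc⟩ := card_sl25Rels
  obtain ⟨e⟩ := equiv_sl25Rels
  rw [← hf] at h1 h2
  have e' := MulEquiv.ofBijective f.rangeRestrict
    (f.rangeRestrict_surjective.bijective_of_nat_card_le (hc.trans h1.ge))
  have : Nontrivial f.range := Finite.one_lt_card_iff_nontrivial.1 (by rw [h1]; norm_num)
  obtain ⟨L, _, _, H, hH, ⟨e''⟩, -⟩ := CF.Fgs2.exists_frobenius_of_distrib.{0} f.range (Fin 2 → ZMod 11)
    fun c hc v hv => by
      by_contra h0
      exact hc ((h2 v v h0 h0).unique hv (by simp))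
  exact ⟨L, _, ‹_›, H, hH, ⟨e''.symm.trans (e'.symm.trans e)⟩⟩

end Cfsg.Agent.S3374
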