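import Cfsg.Statements.S3718
import Cfsg.Agent.CIT.Few

set_option autoImplicit false
open Cfsg

namespace Cfsg.Agent.S3718

/-- Let G be a finite simple group whose set of element orders contains at most one composite number (at most one element order that is neither 1 nor a prime). Then G is cyclic of prime order, or isomorphic to PSL₂(q) for q ∈ {5, 7, 8, 9, 11, 13, 16}, to PSL₃(4), to the Suzuki group Sz(8), to PSL₂(3ⁿ) with (3ⁿ − 1)/2 and (3ⁿ + 1)/4 both prime, or to PSL₂(2ⁿ) with 2ⁿ − 1 and (2ⁿ + 1)/3 both prime. -/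
theorem result {G : Type*} [Group G] [Finite G] [IsSimpleGroup G]
    (h1 : {n : ℕ | n ∈ Set.range (orderOf : G → ℕ) ∧ 1 < n ∧ ¬ n.Prime}.Subsingleton) :
    (Nat.card G).Prime ∨
    (∃ (F : Type) (_ : Field F) (_ : Fintype F), (Fintype.card F = 5 ∨ Fintype.card F = 7 ∨ Fintype.card F = 8 ∨ Fintype.card F = 9 ∨
        Fintype.card F = 11 ∨ Fintype.card F = 13 ∨ Fintype.card F = 16) ∧ Nonempty (G ≃* Matrix.ProjectiveSpecialLinearGroup (Fin 2) F)) ∨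
    (∃ (F : Type) (_ : Field F) (_ : Fintype F), Fintype.card F = 4 ∧ Nonempty (G ≃* Matrix.ProjectiveSpecialLinearGroup (Fin 3) F)) ∨
    (∃ (F : Type) (_ : Field F) (_ : Fintype F), Fintype.card F = 8 ∧ Nonempty (G ≃* ↥(Cfsg.Lie.Sz F 4))) ∨
    (∃ (F : Type) (_ : Field F) (_ : Fintype F), ∃ n r s : ℕ, r.Prime ∧ s.Prime ∧ 3 ^ n - 1 = 2 * r ∧ 3 ^ n + 1 = 4 * s ∧
        Fintype.card F = 3 ^ n ∧ Nonempty (G ≃* Matrix.ProjectiveSpecialLinearGroup (Fin 2) F)) ∨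
    (∃ (F : Type) (_ : Field F) (_ : Fintype F), ∃ n r : ℕ, (2 ^ n - 1).Prime ∧ r.Prime ∧ 2 ^ n + 1 = 3 * r ∧
        Fintype.card F = 2 ^ n ∧ Nonempty (G ≃* Matrix.ProjectiveSpecialLinearGroup (Fin 2) F)) := by
  open CF.BG CF.Invol CF.Bender CF.CIT CF.Classical Subgroup in
  by_cases nc : IsMulCommutative G
  · letI : CommGroup G := { (inferInstance : Group G) with mul_comm := nc.1.1 }
    exact Or.inl IsSimpleGroup.prime_card
  have h : OneC G := h1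
  have ns := not_sol_of_simple nc
  have key : L2e G ∨ Cfsg.Lie.IsoSuzuki G ∨ L34 G ∨ L2o G ∨ ∃ (F : Type) (_ : Field F) (_ : Fintype F),
      QAb (Fintype.card F) ∧ Nonempty (G ≃* Matrix.ProjectiveSpecialLinearGroup (Fin 2) F) := by
    by_cases c : ∀ r : ℕ, r.Prime → r ≠ 2 → ∀ g : G, orderOf g ≠ 2 * r
    · exact ((isCIT_of_no_edge c).simple nc).imp_right (Or.imp_right (Or.imp_right Or.inl))
    push Not at c
    obtain ⟨r, hr, r2, g, hg⟩ := c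
    have k : ∀ p : ℕ, p.Prime → ∀ g : G, orderOf g = 2 * p → p = r := fun p hp x hx => by
      have := hp.two_le
      have := hr.two_le
      have := h.eq ⟨x, hx⟩ ⟨g, hg⟩ (by omega) (by omega) (Nat.not_prime_mul (by omega) hp.ne_one)
        (Nat.not_prime_mul (by omega) hr.ne_one)
      omega
    exact Or.inr (Or.inr (Or.inr (Or.inr (ab_simple (fun x hx => r2 (k 2 Nat.prime_two x hx).symm)
      (fun p hp _ => k p hp) ns))))
  have ev : L2e G → _ := fun ⟨F, _, _, n, h1, h2, ⟨e⟩⟩ => show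
      (∃ (F : Type) (_ : Field F) (_ : Fintype F), (Fintype.card F = 5 ∨ Fintype.card F = 16) ∧
        Nonempty (G ≃* Matrix.ProjectiveSpecialLinearGroup (Fin 2) F)) ∨
      (∃ (F : Type) (_ : Field F) (_ : Fintype F), ∃ n r : ℕ, (2 ^ n - 1).Prime ∧ r.Prime ∧
        2 ^ n + 1 = 3 * r ∧ Fintype.card F = 2 ^ n ∧
        Nonempty (G ≃* Matrix.ProjectiveSpecialLinearGroup (Fin 2) F)) by
    rcases (h.of_equiv e).even h1 h2 with rfl | rfl | ⟨r, k1, k2, k3⟩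
    · haveI := Fact.mk Nat.prime_five
      obtain ⟨a⟩ := PSL2_four_equiv (F := F) (Nat.card_eq_fintype_card.trans h2)
      obtain ⟨b⟩ := PSL2_five_equiv (F := ZMod 5) (by simp)
      exact Or.inl ⟨ZMod 5, _, inferInstance, Or.inl (by simp), ⟨(e.trans a).trans b.symm⟩⟩
    · exact Or.inl ⟨F, _, _, Or.inr h2, ⟨e⟩⟩
    · exact Or.inr ⟨F, _, _, n, r, k1, k2, k3, h2, ⟨e⟩⟩
  have ev' := fun l => (ev l).elim (fun ⟨F, i, j, k, e⟩ => Or.inl (⟨F, i, j, by omega, e⟩ :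
      ∃ (F : Type) (_ : Field F) (_ : Fintype F), (Fintype.card F = 5 ∨ Fintype.card F = 7 ∨
        Fintype.card F = 8 ∨ Fintype.card F = 9 ∨ Fintype.card F = 11 ∨ Fintype.card F = 13 ∨
        Fintype.card F = 16) ∧ Nonempty (G ≃* Matrix.ProjectiveSpecialLinearGroup (Fin 2) F))) Or.inr
  right
  rcases key with l | ⟨F, _, _, m, h1, h2, ⟨e⟩⟩ | l | ⟨F, _, _, h1, ⟨e⟩⟩ |
    ⟨F, _, _, ⟨h1, h2⟩ | ⟨n, h1, h2⟩, ⟨e⟩⟩
  · exact (ev' l).imp_right fun k => Or.inr (Or.inr (Or.inr k))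
  · obtain rfl := (h.of_equiv e).sz h1 h2
    exact Or.inr (Or.inr (Or.inl ⟨F, _, _, h2, ⟨e⟩⟩))
  · exact Or.inr (Or.inl l)
  · exact Or.inl ⟨F, _, _, by have := (h.of_equiv e).oddQ h1; omega, ⟨e⟩⟩
  · rcases (h.of_equiv e).odd h2 h1 with k | ⟨n, r, s, k1, k2, k3, k4, k5⟩
    · exact Or.inl ⟨F, _, _, by omega, ⟨e⟩⟩
    · exact Or.inr (Or.inr (Or.inr (Or.inl ⟨F, _, _, n, r, s, k1, k2, k3, k4, k5, ⟨e⟩⟩)))
  · exact (ev' ⟨F, _, _, n, h1, h2, ⟨e⟩⟩).imp_right fun k => Or.inr (Or.inr (Or.inr k))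

end Cfsg.Agent.S3718
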