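import Mathlib
import Cfsg.Agent.S3718
import Cfsg.Statements.S3406

set_option autoImplicit false
open Cfsg

namespace Cfsg.Agent.S3406

open scoped MatrixGroups in
theorem four_psl3 {F : Type*} [Field F] (h2 : (2 : F) = 0) : ∃ g : PSL(3, F), orderOf g = 4 := by
  let u : SL(3, F) := ⟨!![1, 1, 0; 0, 1, 1; 0, 0, 1], by simp [Matrix.det_fin_three]⟩
  have e : (u ^ 2).1 = !![1, 0, 1; 0, 1, 0; 0, 0, 1] := by
    rw [sq, Matrix.SpecialLinearGroup.coe_mul]
    simp [u, Matrix.mul_fin_three, one_add_one_eq_two, h2]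
  refine ⟨QuotientGroup.mk u, orderOf_eq_prime_pow (p := 2) (n := 1) (fun k => ?_) ?_⟩
  · rw [← QuotientGroup.mk_pow, QuotientGroup.eq_one_iff, Matrix.SpecialLinearGroup.mem_center_iff] at k
    obtain ⟨r, -, k⟩ := k
    have := congrFun (congrFun (k.trans e) 0) 2
    simp at this
  · rw [← QuotientGroup.mk_pow, show u ^ 2 ^ (1 + 1) = 1 from Subtype.ext (by
      rw [show 2 ^ (1 + 1) = 2 * 2 from rfl, pow_mul, sq (u ^ 2), Matrix.SpecialLinearGroup.coe_mul, e]
      simp [Matrix.mul_fin_three, one_add_one_eq_two, h2, Matrix.one_fin_three])]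
    rfl

open CF.CIT CF.Classical CF.BG in

/-- A non-abelian finite simple group on whose elements the full automorphism group has at most five orbits is isomorphic to the alternating group of degree 5 or 6, to PSL(2, 7) or to PSL(2, 8). -/
theorem result {G : Type*} [Group G] [Finite G] [IsSimpleGroup G] (hG : ¬ IsMulCommutative G)
    (h5 : Nat.card (MulAction.orbitRel.Quotient (MulAut G) G) ≤ 5) :
    Nonempty (G ≃* ↥(alternatingGroup (Fin 5))) ∨ Nonempty (G ≃* ↥(alternatingGroup (Fin 6))) ∨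
      (∃ (F : Type) (_ : Field F) (_ : Fintype F), (Fintype.card F = 7 ∨ Fintype.card F = 8) ∧
        Nonempty (G ≃* Matrix.ProjectiveSpecialLinearGroup (Fin 2) F)) := by
  have six : ∀ l : List ℕ, l.Nodup → (∀ n ∈ l, ∃ g : G, orderOf g = n) → l.length ≤ 5 := fun l h1 h2 => by
    let f : MulAction.orbitRel.Quotient (MulAut G) G → ℕ := Quotient.lift orderOf (by
      rintro _ b ⟨φ, rfl⟩; exact MulEquiv.orderOf_eq φ b)
    have : (l.toFinset : Set ℕ) ⊆ f '' Set.univ := fun n hn =>
      (h2 n (by simpa using hn)).elim fun g hg => ⟨Quotient.mk _ g, trivial, hg⟩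
    have := (Set.ncard_le_ncard this (Set.toFinite _)).trans (Set.ncard_image_le (Set.toFinite _))
    rw [Set.ncard_coe_finset, List.toFinset_card_of_nodup h1, Set.ncard_univ] at this
    omega
  replace six : ∀ {a b c d e : ℕ}, [1, a, b, c, d, e].Nodup → (∃ g : G, orderOf g = a) →
      (∃ g : G, orderOf g = b) → (∃ g : G, orderOf g = c) → (∃ g : G, orderOf g = d) →
      (∃ g : G, orderOf g = e) → False := fun h h1 h2 h3 h4 h5 => by
    simpa using six _ h (by simp [h1, h2, h3, h4, h5])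
  have pr : ∀ p : ℕ, p.Prime → p ∣ Nat.card G → ∃ g : G, orderOf g = p := fun p hp d =>
    @exists_prime_orderOf_dvd_card' G _ _ p ⟨hp⟩ d
  have tr : ∀ {H : Type} [Group H] (e : G ≃* H) {n}, (∃ y : H, orderOf y = n) → ∃ g : G, orderOf g = n :=
    fun e _ ⟨y, hy⟩ => ⟨e.symm y, by rw [MulEquiv.orderOf_eq, hy]⟩
  have h1 : {n : ℕ | n ∈ Set.range (orderOf : G → ℕ) ∧ 1 < n ∧ ¬ n.Prime}.Subsingleton := by
    rintro a ⟨a1, a2, a3⟩ b ⟨b1, b2, b3⟩
    by_contra ab
    obtain ⟨s, hs, hc⟩ := Finset.exists_subset_card_eq (s := (Nat.card G).primeFactors) (n := 3) (by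
      by_contra k
      exact not_sol_of_simple hG (CF.Fgs3.sol_top_iff.2 (CF.Char.isSolvable_of_card_primeFactors_le_two (by omega))))
    obtain ⟨p, q, r, pq, pr', qr, rfl⟩ := Finset.card_eq_three.1 hc
    have hp := Nat.mem_primeFactors.1 (hs (show p ∈ _ by simp))
    have hq := Nat.mem_primeFactors.1 (hs (show q ∈ _ by simp))
    have hr := Nat.mem_primeFactors.1 (hs (show r ∈ _ by simp))
    have n : ∀ {p a : ℕ}, p.Prime → ¬ a.Prime → a ≠ p := fun h h' e => h' (e ▸ h)
    exact six (by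
      simp [a2.ne, b2.ne, ab, pq, pr', qr, n hp.1 a3, n hq.1 a3, n hr.1 a3, n hp.1 b3, n hq.1 b3,
        n hr.1 b3, hp.1.one_lt.ne, hq.1.one_lt.ne, hr.1.one_lt.ne]) a1 b1 (pr p hp.1 hp.2.1)
      (pr q hq.1 hq.2.1) (pr r hr.1 hr.2.1)
  have four : ∀ {n a b c : ℕ}, Nat.card G = n → (∃ g : G, orderOf g = c) → 2 ∣ n → 3 ∣ n → a ∣ n → b ∣ n →
      a.Prime → b.Prime → [1, 2, 3, a, b, c].Nodup → False := fun e h h2 h3 ha hb pa pb k =>
    six k (pr 2 Nat.prime_two (e ▸ h2)) (pr 3 Nat.prime_three (e ▸ h3)) (pr _ pa (e ▸ ha))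
      (pr _ pb (e ▸ hb)) h
  rcases Cfsg.Agent.S3718.result h1 with k | ⟨F, _, _, k, ⟨e⟩⟩ | ⟨F, _, _, k, ⟨e⟩⟩ | ⟨F, _, _, k, ⟨e⟩⟩ |
    ⟨F, _, _, n, r, s, hr, hs, e1, e2, k, ⟨e⟩⟩ | ⟨F, _, _, n, r, hm, hr, e1, k, ⟨e⟩⟩
  · have := Fact.mk k
    have := isCyclic_of_prime_card (α := G) (p := Nat.card G) rfl
    exact (hG inferInstance).elim
  · rcases k with k | k | k | k | k | k | k
    · exact .inl ((PSL2_five_equiv (Nat.card_eq_fintype_card.trans k)).map e.trans)
    · exact .inr (.inr ⟨F, _, _, .inl k, ⟨e⟩⟩)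
    · exact .inr (.inr ⟨F, _, _, .inr k, ⟨e⟩⟩)
    · exact .inr (.inl ((PSL2_nine_equiv (Nat.card_eq_fintype_card.trans k)).map e.trans))
    · exact (four (a := 5) (b := 11) (card_of_psl e k (n := 660)) (tr e (exists_order_odd (m := 6)
        (k ▸ by decide) (.inr (by rw [k])))) (by norm_num) (by norm_num) (by norm_num) (by norm_num)
        (by norm_num) (by norm_num) (by decide)).elim
    · exact (four (a := 7) (b := 13) (card_of_psl e k (n := 1092)) (tr e (exists_order_odd (m := 6)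
        (k ▸ by decide) (.inl (by rw [k])))) (by norm_num) (by norm_num) (by norm_num) (by norm_num)
        (by norm_num) (by norm_num) (by decide)).elim
    · exact (four (a := 5) (b := 17) (card_of_psl e k (n := 4080)) (tr e (exists_order_even (n := 4)
        (by norm_num) k (.inl rfl))) (by norm_num) (by norm_num) (by norm_num) (by norm_num)
        (by norm_num) (by norm_num) (by decide)).elim
  · exact (four (a := 5) (b := 7) (L34.card ⟨F, _, _, k, ⟨e⟩⟩) (tr e (four_psl3 (two_eq_zero_of_even_card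
      (by rw [Nat.card_eq_fintype_card, k]; decide)))) (by norm_num) (by norm_num) (by norm_num)
      (by norm_num) (by norm_num) (by norm_num) (by decide)).elim
  · have c := (Nat.card_congr e.toEquiv).trans (card_sz (m := 1) k)
    exact (six (by decide) (pr 2 (by norm_num) (by rw [c]; norm_num)) (pr 5 (by norm_num)
      (by rw [c]; norm_num)) (pr 7 (by norm_num) (by rw [c]; norm_num)) (pr 13 (by norm_num)
      (by rw [c]; norm_num)) (tr e (exists_four_sz (m := 1) k))).elim
  · have h0 : n ≠ 0 := by rintro rfl; omega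
    have h3 : 3 ∣ 3 ^ n := dvd_pow_self 3 h0
    have o : Odd (Fintype.card F) := k ▸ Odd.pow (by decide)
    have c := card_psl_odd o
    rw [← Nat.card_congr e.toEquiv, k] at c
    obtain ⟨g', hg'⟩ := tr e (exists_order_odd (m := r) o (.inl (by omega)))
    obtain ⟨g, hg⟩ := tr e (exists_order_odd (m := 2 * s) o (.inr (by omega)))
    have := hr.two_le
    have := hs.two_le
    have := three_pow_mod n
    have : r ≠ 2 * s := fun e => Nat.not_prime_mul (by omega) (by omega) (e ▸ hr)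
    exact (four rfl ⟨g, hg⟩ ((Dvd.intro _ hg.symm).trans (orderOf_dvd_natCard g))
      ((Nat.Coprime.dvd_mul_left (by decide)).1 (c ▸ h3.mul_right _)) (hg' ▸ orderOf_dvd_natCard g')
      ((Dvd.intro_left _ hg.symm).trans (orderOf_dvd_natCard g)) hr hs (by simp; omega)).elim
  · have h0 : n ≠ 0 := by rintro rfl; exact Nat.not_prime_zero hm
    have h2 : 2 ∣ 2 ^ n := dvd_pow_self 2 h0
    by_cases r3 : r = 3
    · exact .inr (.inr ⟨F, _, _, .inr (by omega), ⟨e⟩⟩)
    have c := (Nat.card_congr e.toEquiv).trans (card_psl_even (by omega) k)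
    obtain ⟨g', hg'⟩ := tr e (exists_order_even (by omega) k (.inl rfl))
    obtain ⟨g, hg⟩ := tr e (exists_order_even (by omega) k (.inr e1.symm))
    have := hr.two_le
    exact (four rfl ⟨g, hg⟩ (c ▸ h2.mul_right _) ((Dvd.intro _ hg.symm).trans (orderOf_dvd_natCard g))
      ((Dvd.intro_left _ hg.symm).trans (orderOf_dvd_natCard g)) (hg' ▸ orderOf_dvd_natCard g') hr hm
      (by simp; omega)).elim

end Cfsg.Agent.S3406
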