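import Cfsg.Statements.S3421
import Cfsg.Agent.CIT.Few3

set_option autoImplicit false
open Cfsg

namespace Cfsg.Agent.S3421

/-- Let F be a finite field with more than 3 elements. A finite group G is isomorphic to PSL(2, F) if and only if G has the same set of element orders and the same order as PSL(2, F). -/
theorem result {G : Type*} [Group G] [Finite G] {F : Type*} [Field F] [Fintype F] (hF : 3 < Fintype.card F) :
    Nonempty (G ≃* Matrix.ProjectiveSpecialLinearGroup (Fin 2) F) ↔
      (Set.range (orderOf : G → ℕ) = Set.range (orderOf : Matrix.ProjectiveSpecialLinearGroup (Fin 2) F → ℕ) ∧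
        Nat.card G = Nat.card (Matrix.ProjectiveSpecialLinearGroup (Fin 2) F)) := by
  open CF.BG CF.Invol CF.Bender CF.CIT CF.Classical Subgroup in
  refine ⟨fun ⟨e⟩ => ⟨Set.ext fun n => ⟨fun ⟨g, h⟩ => ⟨e g, (e.orderOf_eq g).trans h⟩,
    fun ⟨g, h⟩ => ⟨e.symm g, (e.symm.orderOf_eq g).trans h⟩⟩, Nat.card_congr e.toEquiv⟩,
    fun ⟨hs, hc⟩ => ?_⟩
  rcases (Fintype.card F).even_or_odd with e | o
  · obtain ⟨n, hn⟩ := card_pow_of_dvd Nat.prime_two e.two_dvd
    exact recog_even (by rcases n with _ | _ | n <;> omega) hn hc hs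
  · exact recog_odd o hF hc hs

end Cfsg.Agent.S3421
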