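import Cfsg.Statements.S3501
import Cfsg.Agent.Perm.ONS
import Cfsg.Agent.Perm.Regular

set_option autoImplicit false
open Cfsg

namespace Cfsg.Agent.S3501

open CF.Perm MulAction Subgroup

/-- Let a finite group G act faithfully and primitively on a finite set Ω with at least two points, and suppose G is not almost simple (it has no non-abelian simple normal subgroup with trivial centralizer). Then the derangements of G form a single conjugacy class if and only if G is sharply 2-transitive (2-transitive, and no non-identity element fixes two points). -/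
theorem result {G : Type*} [Group G] [Finite G] {Ω : Type*} [Fintype Ω] [MulAction G Ω] [FaithfulSMul G Ω] (hΩ : 2 ≤ Fintype.card Ω) (hprim : MulAction.IsPreprimitive G Ω) (hnas : ¬ ∃ T : Subgroup G, T.Normal ∧ IsSimpleGroup T ∧ ¬ IsMulCommutative T ∧ Subgroup.centralizer (T : Set G) = ⊥) :
    Nat.card {c : ConjClasses G // ∃ g : G, ConjClasses.mk g = c ∧ ∀ ω : Ω, g • ω ≠ ω} = 1 ↔ (MulAction.IsMultiplyPretransitive G Ω 2 ∧ ∀ g : G, g ≠ 1 → ∀ a b : Ω, a ≠ b → g • a = a → g • b ≠ b) := by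
  have := Fintype.one_lt_card_iff_nontrivial.1 hΩ
  obtain ⟨a⟩ : Nonempty Ω := inferInstance
  rw [Nat.card_eq_one_iff_unique]
  refine ⟨fun ⟨h1, _⟩ => ?_, fun ⟨h1, h2⟩ => ?_⟩
  swap
  · obtain ⟨K, hK, h3, h4, h5, -⟩ := sharp2_kernel h1 (sharp_two_iff.2 fun a b e g h3 h4 =>
      by_contra fun k => h2 g k a b e h3 h4)
    have n : ∀ g : G, (∀ a : Ω, g • a ≠ a) → g ≠ 1 := fun g hg e => hg a (by simp [e])
    obtain ⟨b, hb⟩ := exists_ne a
    obtain ⟨x, rfl⟩ := exists_smul_eq K a b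
    refine ⟨⟨?_⟩, ⟨_, x, rfl, ((h5 x).1 x.2).resolve_left fun e => hb (by simp [Subgroup.smul_def, e])⟩⟩
    rintro ⟨_, x, rfl, hx⟩ ⟨_, y, rfl, hy⟩
    obtain ⟨g, -, e⟩ := conj_of_regular_normal h1 K a (h4 a) ((h5 x).2 (.inr hx)) ((h5 y).2 (.inr hy))
      (n x hx) (n y hy)
    exact Subtype.ext (ConjClasses.mk_eq_mk_iff_isConj.2 (isConj_iff.2 ⟨g, e⟩))
  have c : ∀ x y : G, (∀ a : Ω, x • a ≠ a) → (∀ a : Ω, y • a ≠ a) → ∃ g, g * x * g⁻¹ = y := fun x y hx hy =>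
    isConj_iff.1 (ConjClasses.mk_eq_mk_iff_isConj.1 (congrArg Subtype.val (h1.elim ⟨_, x, rfl, hx⟩ ⟨_, y, rfl, hy⟩)))
  rcases prim_cases G Ω with ⟨N, r, -, hN, h2, h3, h4, h5⟩ | h | ⟨N, T, h2, h3⟩ | ⟨N, T, T', h2, h3, h4, x, h5, h6⟩
  · have r := fun a => (stabilizer_subgroup_eq_bot_iff N a).1 (h5 a)
    have d : ∀ x ∈ N, x ≠ 1 → ∀ a : Ω, x • a ≠ a := fun x hx e a k => e (r a x hx k)
    refine ⟨twoTrans_of_stabilizer a fun b c' hb hc => ?_, fun g hg a b hab h6 h7 => ?_⟩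
    · obtain ⟨⟨x, hx⟩, rfl⟩ := exists_smul_eq N a b
      obtain ⟨⟨y, hy⟩, rfl⟩ := exists_smul_eq N a c'
      obtain ⟨g, e⟩ := c x y (d x hx fun e => hb (by simp [e])) (d y hy fun e => hc (by simp [e]))
      obtain ⟨⟨n, hn⟩, e'⟩ := exists_smul_eq N a (g • a)
      refine ⟨n⁻¹ * g, by rw [mul_smul, ← e']; simp, ?_⟩
      change (n⁻¹ * g) • x • a = y • a
      rw [smul_smul, mul_assoc, mul_inv_eq_iff_eq_mul.1 e, mul_smul, mul_smul, ← e', Subgroup.mk_smul,
        ← mul_smul y, show y * n = n * y from congrArg Subtype.val (h3.1.is_comm.comm ⟨y, hy⟩ ⟨n, hn⟩), mul_smul,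
        inv_smul_smul]
    obtain ⟨⟨x, hx⟩, rfl⟩ := exists_smul_eq N a b
    let f : N → N := fun m => ⟨m * (g * m⁻¹ * g⁻¹), mul_mem m.2 (hN.conj_mem _ (inv_mem m.2) g)⟩
    have h8 : g⁻¹ • a = a := inv_smul_eq_iff.2 h6.symm
    obtain ⟨n, hn⟩ := not_forall.1 (mt Finite.injective_iff_surjective.2 fun e => hab (by
      rw [e (show f ⟨x, hx⟩ = f 1 from Subtype.ext ((eq_of_smul_eq_of_regular (h5 (x • a)) (f _).2 (f _).2 (by
        have h9 : g⁻¹ • x • a = x • a := inv_smul_eq_iff.2 h7.symm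
        have h7 : g • x • a = x • a := h7
        simp [f, mul_smul, h9, h6, h7])))), one_smul]))
    obtain ⟨y, hy⟩ := (ne_bot_iff_exists_ne_one.1 h2)
    obtain ⟨k, e⟩ := c y (n * g) (d y y.2 (by simpa using hy)) fun b e => hn (by
      obtain ⟨m, rfl⟩ := exists_smul_eq N a b
      refine ⟨m, Subtype.ext (eq_of_smul_eq_of_regular (h5 (g • m.1 • a)) (f _).2 n.2 ?_)⟩
      rw [← mul_smul n.1, show (n * g) • m.1 • a = m.1 • a from e]
      simp [f, mul_smul, h6])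
    exact hg (r a g ((N.mul_mem_cancel_left n.2).1 (e ▸ hN.conj_mem _ y.2 k)) h6)
  · exact (hnas h).elim
  · obtain ⟨p, hp, -, -, x, hx, rfl⟩ := h2.exists_prime 0 0
    obtain ⟨q, hq, e, -, y, hy, rfl⟩ := h2.exists_prime (orderOf x) 0
    obtain ⟨g, rfl⟩ := c x y (h3 x hx (by rintro rfl; simp [Nat.not_prime_one] at hp))
      (h3 y hy (by rintro rfl; simp [Nat.not_prime_one] at hq))
    exact (e (MulEquiv.orderOf_eq (MulAut.conj g) x)).elim
  · obtain ⟨y, hy⟩ := (ne_bot_iff_exists_ne_one.1 h3.ne_bot)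
    obtain ⟨g, e⟩ := c (x * 1) (x * y) (h6 1 (one_mem _)) (h6 y (h4 y.2))
    rw [mul_one] at e
    rcases h2.conj_mem_or g with k | k
    · exact (hy (Subtype.ext (h2.eq_one ((T.mul_mem_cancel_left h5).1 (e ▸ (mem_normalizer_iff.1 k x).1 h5))
        (h4 y.2)))).elim
    · exact (h6 1 (one_mem _) a (by
        simp [h2.eq_one h5 ((Subgroup.mul_mem_cancel_right _ (h4 y.2)).1 (e ▸ k x h5))])).elim

end Cfsg.Agent.S3501
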