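import Cfsg.Statements.S3520
import Cfsg.Agent.Perm.ONS
import Cfsg.Agent.Perm.Regular

set_option autoImplicit false
open Cfsg

namespace Cfsg.Agent.S3520

open CF.Perm Subgroup MulAction

theorem order_eq {G : Type*} [Group G] {N T T' : Subgroup G} (hT : Soc N T) (hT' : Soc N T')
    (h : T' ≤ centralizer (T : Set G)) {x y z : G} (hx : x ∈ T) (h1 : x ≠ 1) (hy : y ∈ T')
    (hz : z ∈ T') (e : IsConj (x * y) (x * z)) : orderOf y = orderOf z := by
  obtain ⟨g, hg⟩ := isConj_iff.1 e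
  have h2 : g * x * g⁻¹ * (g * y * g⁻¹) = x * z := by rw [← hg]; group
  have ho : ∀ a, orderOf (g * a * g⁻¹) = orderOf a := (MulAut.conj g).orderOf_eq
  have key : ∀ a b, a ∈ T → b ∈ centralizer (T : Set G) → a * b = x * z → a = x ∧ b = z := by
    intro a b ha hb e
    have h3 : x⁻¹ * a = z * b⁻¹ := by rw [inv_mul_eq_iff_eq_mul, ← mul_assoc, ← e]; simp
    have h4 := hT.eq_one (mul_mem (inv_mem hx) ha) (h3 ▸ mul_mem (h hz) (inv_mem hb))
    exact ⟨(inv_mul_eq_one.1 h4).symm, (mul_inv_eq_one.1 (h3.symm.trans h4)).symm⟩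
  rcases hT.conj_mem_or g with h3 | h3
  · refine (ho y).symm.trans (congrArg _ (key _ _ ((h3 x).1 hx) (fun t ht => ?_) h2).2)
    simpa [mul_assoc] using congrArg (g * · * g⁻¹) (h hy _ ((inv_mem h3 t).1 ht))
  rcases hT.eq_or_le (hT'.conj g) with h4 | h4
  · have h5 := key _ _ (h4.le ⟨y, hy, rfl⟩) (h3 x hx) ((h3 x hx _ (h4.le ⟨y, hy, rfl⟩)).trans h2)
    exact (ho y).symm.trans ((congrArg _ h5.1).trans ((ho x).symm.trans (congrArg _ h5.2)))
  · exact absurd (key 1 _ (one_mem _) (mul_mem (h3 x hx) (h4 ⟨y, hy, rfl⟩))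
      ((one_mul _).trans h2)).1 h1.symm

/-- Let a finite group G act faithfully and primitively on a finite set Ω with at least two points, suppose G is not almost simple (no non-abelian simple normal subgroup with trivial centralizer), and suppose the derangements of G form exactly two conjugacy classes. Then either Ω has 3 points and G has order 3; or G has a non-trivial abelian normal subgroup N acting regularly, every non-identity element of G fixes at most one point (so, when n > 3, G is a Frobenius group with kernel N), the number n of points is odd and a point stabilizer has order (n − 1)/2; or G is 2-transitive with a non-trivial abelian regular normal subgroup and some non-identity element fixes at least two points (a non-Frobenius 2-transitive affine group). -/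
theorem result {G : Type*} [Group G] [Finite G] {Ω : Type*} [Fintype Ω] [MulAction G Ω] [FaithfulSMul G Ω] (hΩ : 2 ≤ Fintype.card Ω) (hprim : MulAction.IsPreprimitive G Ω) (hnas : ¬ ∃ T : Subgroup G, T.Normal ∧ IsSimpleGroup T ∧ ¬ IsMulCommutative T ∧ Subgroup.centralizer (T : Set G) = ⊥)
    (hκ : Nat.card {c : ConjClasses G // ∃ g : G, ConjClasses.mk g = c ∧ ∀ ω : Ω, g • ω ≠ ω} = 2) (α : Ω) :
    (Fintype.card Ω = 3 ∧ Nat.card G = 3) ∨
    ((∃ N : Subgroup G, N.Normal ∧ N ≠ ⊥ ∧ IsMulCommutative N ∧ ∀ ω : Ω, MulAction.stabilizer N ω = ⊥) ∧ (∀ g : G, g ≠ 1 → Nat.card (MulAction.fixedBy Ω g) ≤ 1) ∧ ¬ 2 ∣ Fintype.card Ω ∧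
        2 * Nat.card (MulAction.stabilizer G α) = Fintype.card Ω - 1) ∨
    ((∃ N : Subgroup G, N.Normal ∧ N ≠ ⊥ ∧ IsMulCommutative N ∧ ∀ ω : Ω, MulAction.stabilizer N ω = ⊥) ∧ MulAction.IsMultiplyPretransitive G Ω 2 ∧ ∃ g : G, g ≠ 1 ∧ 2 ≤ Nat.card (MulAction.fixedBy Ω g)) := by
  classical
  have := Fintype.one_lt_card_iff_nontrivial.1 hΩ
  have h3 : ∀ x y z : G, (∀ ω : Ω, x • ω ≠ ω) → (∀ ω : Ω, y • ω ≠ ω) → (∀ ω : Ω, z • ω ≠ ω) →
      IsConj x y ∨ IsConj x z ∨ IsConj y z := fun x y z hx hy hz => by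
    obtain ⟨a, b, -, h⟩ := Nat.card_eq_two_iff.1 hκ
    have := fun x hx => h.ge (Set.mem_univ ⟨ConjClasses.mk x, x, rfl, hx⟩)
    have h1 := this x hx; have h2 := this y hy; have h3 := this z hz
    simp only [Set.mem_insert_iff, Set.mem_singleton_iff, Subtype.ext_iff] at h1 h2 h3
    simp only [← ConjClasses.mk_eq_mk_iff_isConj]
    grind
  have ho : ∀ {x y : G}, IsConj x y → orderOf x = orderOf y := fun h => by
    obtain ⟨g, rfl⟩ := isConj_iff.1 h
    exact ((MulAut.conj g).orderOf_eq _).symm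
  rcases prim_cases G Ω with ⟨N, r, -, hN, h1, h2, h4, h5⟩ | h | ⟨N, T, hT, h⟩ |
    ⟨N, T, T', hT, hT', h1, x, hx, h⟩
  rotate_left
  · exact absurd h hnas
  · obtain ⟨p, hp, -, -, x, hx, rfl⟩ := hT.exists_prime 0 0
    obtain ⟨q, hq, h1, -, y, hy, rfl⟩ := hT.exists_prime (orderOf x) 0
    obtain ⟨r, hr, h2, h4, z, hz, rfl⟩ := hT.exists_prime (orderOf x) (orderOf y)
    have := fun x (hx : x ∈ T) (hp : (orderOf x).Prime) => h x hx fun e => by simp [e, Nat.not_prime_one] at hp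
    rcases h3 x y z (this x hx hp) (this y hy hq) (this z hz hr) with e | e | e <;>
      simp [ho e] at h1 h2 h4
  · obtain ⟨q, hq, -, -, y, hy, rfl⟩ := hT'.exists_prime 0 0
    obtain ⟨r, hr, h2, -, z, hz, rfl⟩ := hT'.exists_prime (orderOf y) 0
    have h4 : x ≠ 1 := fun e => h 1 (one_mem _) α (by simp [e])
    rcases h3 _ _ _ (h 1 (one_mem _)) (h y (h1 hy)) (h z (h1 hz)) with e | e | e
    · simp [← order_eq hT hT' h1 hx h4 (one_mem _) hy e, Nat.not_prime_one] at hq
    · simp [← order_eq hT hT' h1 hx h4 (one_mem _) hz e, Nat.not_prime_one] at hr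
    · simp [order_eq hT hT' h1 hx h4 hy hz e] at h2
  have := Fintype.ofFinite G
  have h6 := fun a => (stabilizer_subgroup_eq_bot_iff N a).1 (h5 a)
  have h7 := card_eq_of_regular N α (h5 α)
  have h8 : ∑ g with g ∉ N, Nat.card (fixedBy Ω g) = ∑ g with g ∉ N, 1 := by
    have e := sum_card_fixedBy_of_trans (G := G) (Ω := Ω)
    rw [Nat.card_eq_fintype_card, ← Finset.card_univ, Finset.card_eq_sum_ones,
      ← Finset.sum_filter_add_sum_filter_not _ (· ∈ N),
      ← Finset.sum_filter_add_sum_filter_not _ (· ∈ N) (fun _ => 1), Finset.sum_eq_single 1 (fun g hg h => by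
        have : IsEmpty (fixedBy Ω g) := ⟨fun a => h (h6 a g (by simpa using hg) a.2)⟩
        simp) (by simp), fixedBy_one_eq_univ, Nat.card_congr (Equiv.Set.univ _), ← h7,
      ← Finset.card_eq_sum_ones, Nat.card_eq_fintype_card, Fintype.card_subtype] at e
    exact Nat.add_left_cancel e
  have h9 : ∀ g : G, ∃ h ∈ stabilizer G α, ∀ x ∈ N, g * x * g⁻¹ = h * x * h⁻¹ := fun g => by
    obtain ⟨n, hn⟩ := exists_smul_eq N α (g⁻¹ • α)
    refine ⟨g * n, by rw [mem_stabilizer_iff, mul_smul]; exact smul_eq_iff_eq_inv_smul g |>.2 hn,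
      fun x hx => ?_⟩
    rw [mul_assoc g n, show (n : G) * x = x * n from congrArg Subtype.val
      (h2.1.is_comm.comm n ⟨x, hx⟩)]
    group
  by_cases h10 : ∀ g : G, (∀ ω : Ω, g • ω ≠ ω) → g ∈ N
  · have h11 : ∀ g : G, g ≠ 1 → Nat.card (fixedBy Ω g) ≤ 1 := fun g hg => by
      by_cases e : g ∈ N
      · have : IsEmpty (fixedBy Ω g) := ⟨fun a => hg (h6 a g e a.2)⟩
        simp
      · refine ((Finset.sum_eq_sum_iff_of_le fun g hg => ?_).1 h8.symm g (by simpa using e)).ge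
        obtain ⟨a, ha⟩ := not_forall.1 fun h => (Finset.mem_filter.1 hg).2 (h10 g h)
        have : Nonempty (fixedBy Ω g) := ⟨⟨a, not_not.1 ha⟩⟩
        exact Nat.card_pos
    have h12 : 2 * Nat.card (stabilizer G α) = Fintype.card Ω - 1 := by
      choose f hf hf' using fun c : {c : ConjClasses G // ∃ g : G, ConjClasses.mk g = c ∧
        ∀ ω : Ω, g • ω ≠ ω} => c.2
      rw [← hκ, ← Nat.card_prod, ← Set.card_ne_eq α, ← Nat.card_eq_fintype_card]
      refine Nat.card_eq_of_bijective (fun x => ⟨x.2 • f x.1 • α, fun e => hf' x.1 α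
        (by rw [smul_eq_iff_eq_inv_smul] at e; exact e.trans x.2⁻¹.2)⟩) ⟨?_, fun ⟨b, hb⟩ => ?_⟩
      · rintro ⟨c, ⟨h, hh⟩⟩ ⟨d, ⟨k, hk⟩⟩ e
        have e1 : h • f c • α = k • f d • α := congrArg Subtype.val e
        have e2 : h * f c * h⁻¹ = k * f d * k⁻¹ := eq_of_smul_eq_of_regular (h5 α)
          (hN.conj_mem _ (h10 _ (hf' c)) _) (hN.conj_mem _ (h10 _ (hf' d)) _) (by
            rw [mul_smul, mul_smul, mul_smul, mul_smul, inv_mem hh, inv_mem hk, e1])
        obtain rfl : c = d := Subtype.ext (by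
          rw [← hf, ← hf, ConjClasses.mk_eq_mk_iff_isConj]
          exact (isConj_iff.2 ⟨h, e2⟩).trans (isConj_iff.2 ⟨k, rfl⟩).symm)
        refine Prod.ext rfl (Subtype.ext (inv_mul_eq_one.1 (by_contra fun e3 => hf' c α ?_)).symm)
        exact congrArg Subtype.val ((Finite.card_le_one_iff_subsingleton.1 (h11 _ e3)).elim
          ⟨f c • α, by rw [mem_fixedBy, mul_smul, e1, inv_smul_smul]⟩ ⟨α, mul_mem (inv_mem hk) hh⟩)
      · obtain ⟨⟨n, hn⟩, rfl⟩ := exists_smul_eq N α b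
        let c : {c : ConjClasses G // ∃ g : G, ConjClasses.mk g = c ∧ ∀ ω : Ω, g • ω ≠ ω} :=
          ⟨_, n, rfl, fun ω e => hb (by simp [h6 ω n hn e])⟩
        obtain ⟨g, hg⟩ := isConj_iff.1 (ConjClasses.mk_eq_mk_iff_isConj.1 (hf c))
        obtain ⟨h, hh, e⟩ := h9 g
        refine ⟨(c, ⟨h, hh⟩), Subtype.ext ?_⟩
        change h • f c • α = n • α
        rw [← hg, e _ (h10 _ (hf' c)), mul_smul, mul_smul, inv_mem hh]
    exact .inr (.inl ⟨⟨N, hN, h1, h2.1, h5⟩, h11, by omega, h12⟩)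
  push Not at h10
  obtain ⟨x, hx, hx'⟩ := h10
  refine .inr (.inr ⟨⟨N, hN, h1, h2.1, h5⟩, ?_, by_contra fun h => ?_⟩)
  · refine twoTrans_of_stabilizer α fun b c hb hc => ?_
    obtain ⟨⟨n, hn⟩, rfl⟩ := exists_smul_eq N α b
    obtain ⟨⟨m, hm⟩, rfl⟩ := exists_smul_eq N α c
    rcases h3 x n m hx (fun ω e => hb (by simp [h6 ω n hn e])) (fun ω e => hc (by simp [h6 ω m hm e]))
      with e | e | e
    · obtain ⟨g, rfl⟩ := isConj_iff.1 e.symm
      exact absurd (hN.conj_mem _ hn g) hx'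
    · obtain ⟨g, rfl⟩ := isConj_iff.1 e.symm
      exact absurd (hN.conj_mem _ hm g) hx'
    obtain ⟨g, rfl⟩ := isConj_iff.1 e
    obtain ⟨h, hh, e⟩ := h9 g
    refine ⟨h, hh, ?_⟩
    change h • n • α = (g * n * g⁻¹) • α
    rw [e _ hn, mul_smul, mul_smul, inv_mem hh]
  · push Not at h
    refine (Finset.sum_lt_sum (fun g hg => Nat.le_of_lt_succ (h g fun e => ?_))
      ⟨x, by simpa using hx', ?_⟩).ne h8
    · simp [e] at hg
    · have : IsEmpty (fixedBy Ω x) := ⟨fun a => hx a a.2⟩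
      simp

end Cfsg.Agent.S3520
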