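import Cfsg.Statements.S3554
import Cfsg.Agent.Recog.Basic
import Cfsg.Agent.Solv.CyclicMax

set_option autoImplicit false
open Cfsg

namespace Cfsg.Agent.S3554

/-- Let G act faithfully and transitively on a finite set and suppose G has a non-trivial cyclic normal subgroup. Then some element of G of prime order fixes no point. -/
theorem result {G Ω : Type*} [Group G] [Finite G] [MulAction G Ω] [FaithfulSMul G Ω] [Finite Ω]
    (htrans : MulAction.IsPretransitive G Ω) (C : Subgroup G) (hC : C.Normal) (hC1 : C ≠ ⊥) (hcyc : IsCyclic ↥C) :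
    ∃ g : G, (orderOf g).Prime ∧ ∀ ω : Ω, g • ω ≠ ω := by
  obtain ⟨p, hp, hd⟩ := Nat.exists_prime_and_dvd (mt Subgroup.card_eq_one.1 hC1)
  have := Fact.mk hp
  obtain ⟨g, hg⟩ := exists_prime_orderOf_dvd_card' p hd
  refine ⟨g, by rwa [Subgroup.orderOf_coe, hg], fun ω e => ?_⟩
  have := CF.Recog.normal_eq_bot (CF.Solv.normal_of_le_cyclic (Subgroup.zpowers_le.2 g.2)) (a := ω)
    (Subgroup.zpowers_le.2 e)
  rw [Subgroup.zpowers_eq_bot, OneMemClass.coe_eq_one] at this
  exact hp.one_lt.ne (by rw [← hg, this, orderOf_one])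

end Cfsg.Agent.S3554
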