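import Cfsg.Statements.S3555
import Cfsg.Agent.Recog.Derang
import Cfsg.Agent.Coprime.Frobenius

set_option autoImplicit false
open Cfsg

namespace Cfsg.Agent.S3555

open MulAction Finset in
theorem aux {G Ω : Type*} [Group G] [Fintype G] [MulAction G Ω] [Finite Ω] :
    ∑ g : G, Nat.card (fixedBy Ω (g * g)) ≤ ∑ g : G, Nat.card (fixedBy Ω g) ^ 2 := by
  classical
  have := Fintype.ofFinite Ω
  have e1 : ∀ g : G, Nat.card (fixedBy Ω (g * g)) =
      ∑ x : Ω × Ω, if g • x.1 = x.2 ∧ g • x.2 = x.1 then 1 else 0 := fun g => by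
    rw [sum_boole, Nat.cast_id, ← Fintype.card_subtype, ← Nat.card_eq_fintype_card]
    exact Nat.card_congr ⟨fun x => ⟨(x, g • x.1), rfl, (mul_smul _ _ _).symm.trans x.2⟩,
      fun x => ⟨x.1.1, (mul_smul _ _ _).trans (x.2.1 ▸ x.2.2)⟩, fun _ => rfl,
      fun x => Subtype.ext (Prod.ext rfl x.2.1)⟩
  have e2 : ∀ g : G, Nat.card (fixedBy Ω g) ^ 2 = ∑ x : Ω × Ω, if g • x = x then 1 else 0 := fun g => by
    rw [pow_two, ← CF.Recog.card_fixedBy_prod, sum_boole, Nat.cast_id, ← Fintype.card_subtype,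
      ← Nat.card_eq_fintype_card]; rfl
  simp only [e1, e2]
  rw [sum_comm, sum_comm (f := fun (g : G) (x : Ω × Ω) => if g • x = x then 1 else 0)]
  refine sum_le_sum fun x _ => ?_
  rw [sum_boole, sum_boole, Nat.cast_id, Nat.cast_id]
  rcases ({g : G | g • x.1 = x.2 ∧ g • x.2 = x.1} : Finset G).eq_empty_or_nonempty with h | ⟨g, hg⟩
  · simp [h]
  refine card_le_card_of_injOn (g * ·) (fun y hy => ?_) (mul_right_injective g).injOn
  simp only [coe_filter, mem_filter, mem_univ, true_and, Set.mem_ofPred_eq] at *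
  exact Prod.ext (by simp [mul_smul, hy.1, hg.2]) (by simp [mul_smul, hy.2, hg.1])

/-- Let G act faithfully and transitively on a finite set and suppose every element of G fixing no point is an involution. Then either G is an elementary abelian 2-group, or G is a Frobenius group whose Frobenius kernel is an elementary abelian 2-group: G has a Frobenius complement H, and the elements lying in no conjugate of H, together with the identity, pairwise commute and square to the identity. -/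
theorem result {G Ω : Type*} [Group G] [Finite G] [MulAction G Ω] [FaithfulSMul G Ω] [Finite Ω]
    (htrans : MulAction.IsPretransitive G Ω) (hinv : ∀ g : G, (∀ ω : Ω, g • ω ≠ ω) → orderOf g = 2) :
    (IsMulCommutative G ∧ ∀ g : G, g ^ 2 = 1) ∨
    (∃ H : Subgroup G, Cfsg.IsFrobeniusComplement H ∧
      (∀ x ∈ Cfsg.frobeniusKernel H, x ^ 2 = 1) ∧
      ∀ x ∈ Cfsg.frobeniusKernel H, ∀ y ∈ Cfsg.frobeniusKernel H, x * y = y * x) := by
  classical
  have := Fintype.ofFinite G
  have : Nonempty Ω := by_contra fun h => by simpa using hinv 1 fun ω => (h ⟨ω⟩).elim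
  have a := CF.Recog.sum_fix (G := G) (Ω := Ω)
  rw [CF.Recog.card_orbits_eq_one, one_mul, Nat.card_eq_fintype_card, Fintype.card,
    Finset.card_eq_sum_ones] at a
  have l : ∀ g : G, Nat.card (MulAction.fixedBy Ω g) ≤ Nat.card Ω := fun g =>
    Nat.card_le_card_of_injective _ Subtype.val_injective
  have z : ∀ g : G, (∀ ω : Ω, g • ω ≠ ω) → g ^ 2 = 1 := fun g h => hinv g h ▸ pow_orderOf_eq_one g
  let f : G → ℤ := fun g => Nat.card (MulAction.fixedBy Ω g)
  have k : ∀ g ∈ (Finset.univ : Finset G), 0 ≤ f (g * g) - f g ∧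
      (f (g * g) - f g) + (f g - 1) * (Nat.card Ω - f g) ≥ 0 ∧ (f g ≠ 0 →
        0 ≤ (f g - 1) * (Nat.card Ω - f g)) := fun g _ => by
    have h1 : f g ≤ f (g * g) := Int.ofNat_le.2 (Nat.card_mono (Set.toFinite _) fun x hx => by
      rw [MulAction.mem_fixedBy, mul_smul, hx, hx])
    have h2 : f g ≠ 0 → 0 ≤ (f g - 1) * (Nat.card Ω - f g) := fun h =>
      mul_nonneg (by simp only [f] at *; omega) (sub_nonneg.2 (Int.ofNat_le.2 (l g)))
    refine ⟨sub_nonneg.2 h1, ?_, h2⟩
    by_cases h : f g = 0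
    · have := z g (CF.Recog.card_fixedBy_eq_zero.1 (Int.natCast_eq_zero.1 h))
      rw [← pow_two, this, h]
      simp [f]
    · exact add_nonneg (sub_nonneg.2 h1) (h2 h)
  have s := (Finset.sum_eq_zero_iff_of_nonneg fun g hg => (k g hg).2.1).1 (le_antisymm (by
    have b : ∑ g, f (g * g) ≤ ∑ g, f g ^ 2 := by simp only [f]; exact_mod_cast aux
    have a' : ∑ g, f g = ∑ _g : G, 1 := by simp only [f]; exact_mod_cast a
    have : ∀ g, f (g * g) - f g + (f g - 1) * (Nat.card Ω - f g) =
      f (g * g) - f g ^ 2 + Nat.card Ω * (f g - 1) := fun g => by ring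
    simp only [this, Finset.sum_add_distrib, Finset.sum_sub_distrib, ← Finset.mul_sum, a']
    linarith) (Finset.sum_nonneg fun g hg => (k g hg).2.1))
  have r : ∀ (g : G) (a b : Ω), a ≠ b → g • a = a → g • b = b → g = 1 := fun g a b h1 h2 h3 => by
    have : Nontrivial (MulAction.fixedBy Ω g) := ⟨⟨a, h2⟩, ⟨b, h3⟩, fun e => h1 (congrArg Subtype.val e)⟩
    have h4 : (1 : ℤ) < f g := Int.ofNat_lt.2 Finite.one_lt_card
    obtain ⟨k1, -, k2⟩ := k g (Finset.mem_univ g)
    have := (mul_eq_zero.1 (le_antisymm (by linarith [s g (Finset.mem_univ g)]) (k2 (by omega)))).resolve_left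
      (by omega)
    exact CF.Recog.eq_one_of_smul_eq fun x : Ω => (Set.eq_of_subset_of_ncard_le (Set.subset_univ
      (MulAction.fixedBy Ω g)) (by rw [Set.ncard_univ]; exact Int.ofNat_le.1 (sub_eq_zero.1 this).le)).ge trivial
  obtain ⟨α⟩ := this
  have c : ∀ x : G, (∀ g : G, g * x * g⁻¹ ∉ MulAction.stabilizer G α) → x ^ 2 = 1 := fun x h =>
    z x fun ω e => by
      obtain ⟨g, rfl⟩ := MulAction.exists_smul_eq G α ω
      exact h g⁻¹ (by simpa using CF.Recog.mem_stab_smul.1 e)
  by_cases h1 : MulAction.stabilizer G α = ⊥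
  · have : ∀ g : G, g ^ 2 = 1 := fun x => (eq_or_ne x 1).elim (by rintro rfl; simp) fun e =>
      c x fun g hg => e (by simpa [h1] using hg)
    exact .inl ⟨⟨⟨fun x y => Commute.of_orderOf_dvd_two (fun g => orderOf_dvd_of_pow_eq_one (this g)) x y⟩⟩, this⟩
  have F : IsFrobeniusComplement (MulAction.stabilizer G α) :=
    CF.Coprime.isFrobeniusComplement_iff.2 ⟨h1, fun e => h1 (CF.Recog.normal_eq_bot (e ▸ inferInstance) le_rfl),
      fun g x h2 h3 h4 => by_contra fun h5 => h3 (r x α (g⁻¹ • α)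
        (fun e => h5 (inv_smul_eq_iff.1 e.symm).symm) h2 (CF.Recog.mem_stab_smul.2 (by simpa using h4)))⟩
  have q : ∀ x ∈ frobeniusKernel (MulAction.stabilizer G α), x ^ 2 = 1 := fun x hx =>
    (CF.Coprime.mem_frobeniusKernel_iff.1 hx).elim (by rintro rfl; simp) (c x)
  obtain ⟨K, hK, -⟩ := CF.Coprime.frob_exists_kernel F
  refine .inr ⟨_, F, q, ?_⟩
  rw [← hK] at q ⊢
  have := (CF.Perm.elementary_two_of_sq q).1
  exact fun x hx y hy => setLike_mul_comm hx hy

end Cfsg.Agent.S3555
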