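import Cfsg.Statements.S3556
import Cfsg.Agent.Perm.ONS

set_option autoImplicit false
open Cfsg

namespace Cfsg.Agent.S3556

/-- Let G act faithfully and primitively on a finite set with at least two points, and suppose that for some fixed prime p every element of G fixing no point has order a power of p. Then G is of affine type (it has a regular normal subgroup that is an elementary abelian r-group for some prime r) or almost simple (it has a non-abelian simple normal subgroup with trivial centralizer). -/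
theorem result {G Ω : Type*} [Group G] [Finite G] [MulAction G Ω] [FaithfulSMul G Ω] [Finite Ω]
    (hprim : MulAction.IsPreprimitive G Ω) (hΩ : 2 ≤ Nat.card Ω) (p : ℕ) (hp : p.Prime)
    (hder : ∀ g : G, (∀ ω : Ω, g • ω ≠ ω) → ∃ k : ℕ, orderOf g = p ^ k) :
    (∃ (N : Subgroup G) (r : ℕ), r.Prime ∧ N.Normal ∧ Cfsg.IsElementaryAbelian r N ∧
      MulAction.IsPretransitive N Ω ∧ ∀ a : Ω, MulAction.stabilizer N a = ⊥) ∨
    (∃ T : Subgroup G, T.Normal ∧ IsSimpleGroup ↥T ∧ ¬ IsMulCommutative ↥T ∧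
      Subgroup.centralizer (T : Set G) = ⊥) := by
  have := Finite.one_lt_card_iff_nontrivial.1 hΩ
  rcases CF.Perm.prim_cases G Ω with ⟨N, r, h1, h2, -, h⟩ | h | ⟨N, T, hT, h⟩ | ⟨N, T, T', hT, hT', h1, x, hx, h⟩
  · exact .inl ⟨N, r, h1, h2, h⟩
  · exact .inr h
  · obtain ⟨r, hr, h1, -, t, ht, rfl⟩ := hT.exists_prime p p
    obtain ⟨k, hk⟩ := hder t (h t ht fun e => by simp [e, Nat.not_prime_one] at hr)
    exact absurd ((Nat.prime_dvd_prime_iff_eq hr hp).1 (hr.dvd_of_dvd_pow hk.dvd)) h1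
  · obtain ⟨r, hr, h2, -, t, ht, rfl⟩ := hT'.exists_prime p p
    obtain ⟨k, hk⟩ := hder _ (h t (h1 ht))
    have h3 := hk ▸ pow_orderOf_eq_one (x * t)
    rw [Commute.mul_pow (h1 ht x hx), ← eq_inv_iff_mul_eq_one] at h3
    rw [hT.eq_one (pow_mem hx _) (h3 ▸ inv_mem (pow_mem (h1 ht) _)), eq_comm, inv_eq_one] at h3
    exact absurd ((Nat.prime_dvd_prime_iff_eq hr hp).1
      (hr.dvd_of_dvd_pow (orderOf_dvd_of_pow_eq_one h3))) h2

end Cfsg.Agent.S3556
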