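import Cfsg.Statements.S3557
import Cfsg.Agent.Perm.Basic
import Cfsg.Agent.Invol.Closure

set_option autoImplicit false
open Cfsg

namespace Cfsg.Agent.S3557

open MulAction Subgroup

variable {E Ω : Type*} [Group E] [Finite E] [MulAction E Ω] {p : ℕ} [hp : Fact p.Prime]

theorem normal_of (hE : IsPGroup p E) {H : Subgroup E} (h : H.index = p) : H.Normal := by
  obtain ⟨n, hn⟩ := hE.exists_card_eq
  refine normal_of_index_eq_minFac_card (by
    rw [h, hn, hp.out.pow_minFac]
    rintro rfl
    exact hp.out.ne_one (Nat.dvd_one.1 (h ▸ H.index_dvd_card.trans hn.dvd)))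

omit [Finite E] in
theorem relIndex_smul {N : Subgroup E} [N.Normal] (g : E) (x : Ω) :
    (stabilizer E (g • x)).relIndex N = (stabilizer E x).relIndex N := by
  rw [stabilizer_smul_eq_stabilizer_map_conj, ← relIndex_map_map_of_injective (stabilizer E x) N
    (f := (MulAut.conj g).toMonoidHom) (MulEquiv.injective _),
    show N.map (MulAut.conj g).toMonoidHom = N from Subgroup.Normal.map_conj_eq N g]

theorem lemB (hE : IsPGroup p E) (h : ∀ x : Ω, (stabilizer E x).index = p) :
    ∃ σ : Equiv.Perm Ω, σ ^ p = 1 ∧ (∀ x, σ x ≠ x) ∧ ∀ a b, ∃ g : E, σ a = g • a ∧ σ b = g • b := by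
  have n := fun x => normal_of hE (h x)
  have c := fun x => CF.Invol.isCoatom_of_index_prime (h x ▸ hp.out : (stabilizer E x).index.Prime)
  have : ∀ H : Subgroup E, ∃ e, H ≠ ⊤ → e ∉ H := fun H => by
    by_contra! k; exact (k 1).1 (eq_top_iff.2 fun e _ => (k e).2)
  choose e he using this
  have s : ∀ (g : E) (x : Ω), stabilizer E (g • x) = stabilizer E x := fun g x => by
    rw [stabilizer_smul_eq_stabilizer_map_conj]; exact Subgroup.Normal.map_conj_eq _ g
  let σ : Equiv.Perm Ω := ⟨fun x => e (stabilizer E x) • x, fun x => (e (stabilizer E x))⁻¹ • x,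
    fun x => by simp [s], fun x => by simp [s]⟩
  have k : ∀ (m : ℕ) x, (σ ^ m) x = e (stabilizer E x) ^ m • x := fun m => by
    induction m with
    | zero => simp
    | succ m ih => intro x; rw [pow_succ', Equiv.Perm.mul_apply, ih, pow_succ', mul_smul]; simp [σ, s]
  refine ⟨σ, Equiv.ext fun x => (k p x).trans (h x ▸ (stabilizer E x).pow_index_mem _),
    fun x => he _ (c x).1, fun a b => ?_⟩
  by_cases ab : stabilizer E a = stabilizer E b
  · exact ⟨_, rfl, ab ▸ rfl⟩
  obtain ⟨u, hu, v, hv, h1⟩ := mem_sup_of_normal_left.1 (((c a).sup_eq_top_of_ne (c b) ab).ge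
    (mem_top ((e (stabilizer E a))⁻¹ * e (stabilizer E b))))
  refine ⟨e (stabilizer E a) * u, by rw [mul_smul, hu]; rfl, ?_⟩
  rw [← mem_stabilizer_iff.1 hv, smul_smul, mul_assoc, h1, mem_stabilizer_iff.1 hv]; simp [σ]

theorem lemA (hE : IsPGroup p E) (h : ∀ x : Ω, (stabilizer E x).index = p ^ 2) (a b : Ω) :
    ∃ N : Subgroup E, N.Normal ∧ (stabilizer E a).relIndex N = p ∧ (stabilizer E b).relIndex N = p := by
  have M : ∀ x : Ω, ∃ M : Subgroup E, M.index = p ∧ (stabilizer E x).relIndex M = p ∧ stabilizer E x ≤ M :=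
    fun x => by
    obtain ⟨n, hn⟩ := (hE.to_subgroup (stabilizer E x)).exists_card_eq
    have h1 := (stabilizer E x).card_mul_index
    rw [hn, h] at h1
    obtain ⟨M, h2, h3⟩ := Sylow.exists_subgroup_card_pow_prime_le p (m := n + 1) ⟨p, by rw [← h1]; ring⟩ _ hn
      (by omega)
    have h4 := M.card_mul_index
    rw [h2, ← h1, pow_succ, sq, mul_assoc, Nat.mul_right_inj (pow_pos hp.out.pos _).ne',
      Nat.mul_right_inj hp.out.ne_zero] at h4
    have h5 := relIndex_mul_index h3
    rw [h, h4, sq, Nat.mul_left_inj hp.out.ne_zero] at h5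
    exact ⟨M, h4, h5, h3⟩
  have k : ∀ (x : Ω) (A B : Subgroup E), A.index = p → B.index = p → (stabilizer E x).relIndex A = p →
      (stabilizer E x).relIndex (A ⊓ B) = p ∨ (stabilizer E x).relIndex B = p := fun x A B hA hB h1 => by
    have := normal_of hE hA
    have := normal_of hE hB
    by_cases h2 : A ⊓ B ≤ stabilizer E x
    · right
      have h3 := (hA ▸ relIndex_dvd_index_of_normal A B : A.relIndex B ∣ p)
      rw [← inf_relIndex_right] at h3
      refine ((Nat.dvd_prime hp.out).1 ((relIndex_dvd_of_le_left B h2).trans h3)).resolve_left fun e => ?_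
      have := index_dvd_of_le (relIndex_eq_one.1 e)
      rw [h, hB, sq] at this
      exact hp.out.ne_one (Nat.dvd_one.1 ((Nat.mul_dvd_mul_iff_left hp.out.pos).1 (by rwa [mul_one])))
    · left
      obtain ⟨n, hn⟩ := (hE.to_subgroup (A ⊓ B)).index ((stabilizer E x).subgroupOf _)
      have h3 := relIndex_le_of_le_right (H := stabilizer E x) (inf_le_left : A ⊓ B ≤ A) (h1 ▸ hp.out.ne_zero)
      change relIndex _ _ = _ at hn
      rw [h1, hn, ← pow_one p, ← pow_mul, one_mul, Nat.pow_le_pow_iff_right hp.out.one_lt] at h3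
      interval_cases n
      · exact (h2 (relIndex_eq_one.1 hn)).elim
      · rw [hn, pow_one]
  obtain ⟨A, a1, a2, -⟩ := M a
  obtain ⟨B, b1, b2, -⟩ := M b
  have := normal_of hE a1
  have := normal_of hE b1
  rcases k a A B a1 b1 a2 with h1 | h1
  · rcases k b B A b1 a1 b2 with h2 | h2
    exacts [⟨A ⊓ B, inferInstance, h1, inf_comm A B ▸ h2⟩, ⟨A, inferInstance, a2, h2⟩]
  · exact ⟨B, this, h1, b2⟩

/-- Let G act faithfully and transitively on a finite set with 2p² points, p a prime, and suppose G is 2-closed: every permutation of the set which, on each ordered pair of points, agrees with some element of G, is itself induced by an element of G. Then some element of G of prime order fixes no point. -/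
theorem result {G Ω : Type*} [Group G] [Finite G] [MulAction G Ω] [FaithfulSMul G Ω] [Finite Ω]
    (htrans : MulAction.IsPretransitive G Ω) (p : ℕ) (hp : p.Prime) (hcard : Nat.card Ω = 2 * p ^ 2)
    (hcl : ∀ σ : Equiv.Perm Ω, (∀ a b : Ω, ∃ g : G, σ a = g • a ∧ σ b = g • b) → ∃ g : G, ∀ a : Ω, σ a = g • a) :
    ∃ g : G, (orderOf g).Prime ∧ ∀ ω : Ω, g • ω ≠ ω := by
  have := Fact.mk hp
  obtain ⟨P⟩ : Nonempty (Sylow p G) := inferInstance
  have p0 := pow_pos hp.pos 2
  obtain ⟨a⟩ : Nonempty Ω := (Nat.card_pos_iff.1 (by omega)).1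
  by_cases p2 : p = 2
  · subst p2
    have := CF.Perm.sylow_isPretransitive (f := 3) hcard P
    have := Finite.one_lt_card_iff_nontrivial.1 (show 1 < Nat.card Ω by omega)
    obtain ⟨b, hb⟩ := exists_ne a
    obtain ⟨g, rfl⟩ := exists_smul_eq (P : Subgroup G) a b
    have : Nontrivial (P : Subgroup G) := nontrivial_of_ne g 1 (by rintro rfl; simp at hb)
    have := P.isPGroup'.center_nontrivial
    obtain ⟨n, h0, hn⟩ := (P.isPGroup'.to_subgroup (center _)).nontrivial_iff_card.1 this
    obtain ⟨z, hz⟩ := exists_prime_orderOf_dvd_card' 2 (hn ▸ dvd_pow_self 2 h0.ne')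
    refine ⟨z.1.1, by rwa [orderOf_coe, orderOf_coe, hz], fun w hw => ?_⟩
    obtain rfl : z = 1 := Subtype.ext (eq_of_smul_eq_smul (α := Ω) fun x => by
      obtain ⟨y, rfl⟩ := exists_smul_eq (P : Subgroup G) w x
      rw [smul_smul, ← mem_center_iff.1 z.2, mul_smul, show z.1 • w = w from hw]; simp)
    simp at hz
  have h : ∀ x : Ω, Nat.card (orbit (P : Subgroup G) x) = p ^ 2 := fun x => by
    have h0 := Nat.card_le_card_of_injective _ (Subtype.val_injective (p := (· ∈ orbit (P : Subgroup G) x)))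
    change Nat.card (orbit _ _) ≤ _ at h0
    obtain ⟨n, hn⟩ := P.isPGroup'.card_orbit x
    have h2 := relIndex_mul_index (inf_le_left : stabilizer G x ⊓ P ≤ _)
    have h3 := relIndex_mul_index (inf_le_right : stabilizer G x ⊓ P ≤ _)
    rw [index_stabilizer_of_transitive, hcard, ← h3, inf_relIndex_right, ← CF.Perm.card_orbit_subgroup, hn] at h2
    have h4 := (Nat.pow_dvd_pow_iff_le_right hp.one_lt).1 (((hp.coprime_iff_not_dvd.2 P.not_dvd_index).pow_left
      2).dvd_of_dvd_mul_right (h2 ▸ (Dvd.intro_left 2 rfl).mul_left _))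
    rw [hn, hcard] at h0
    rw [hn, h4.antisymm' (by
      by_contra! h5
      have := (Nat.pow_le_pow_right hp.pos h5).trans h0
      rw [pow_succ', Nat.mul_le_mul_right_iff p0] at this
      have := hp.two_le; omega)]
  obtain ⟨b, hb⟩ : ∃ b, b ∉ orbit (P : Subgroup G) a := by
    by_contra! k
    have := h a
    rw [Set.eq_univ_of_forall k, Nat.card_univ] at this; omega
  obtain ⟨N, hN, h1, h2⟩ := lemA P.isPGroup' (fun x => (CF.Perm.card_orbit_eq_index x).symm.trans (h x)) a b
  have u : orbit (P : Subgroup G) a ∪ orbit (P : Subgroup G) b = Set.univ := by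
    rw [Set.eq_univ_iff_ncard, Set.ncard_union_eq ((orbit.eq_or_disjoint a b).resolve_left fun e =>
      hb (e ▸ mem_orbit_self b)), ← Nat.card_coe_set_eq, ← Nat.card_coe_set_eq, h, h, hcard, two_mul]
  obtain ⟨σ, s1, s2, s3⟩ := lemB (Ω := Ω) (P.isPGroup'.to_subgroup N) fun x => by
    rcases u.ge (Set.mem_univ x) with ⟨g, rfl⟩ | ⟨g, rfl⟩
    exacts [(relIndex_smul g a).trans h1, (relIndex_smul g b).trans h2]
  obtain ⟨g, hg⟩ := hcl σ fun a b => (s3 a b).elim fun g h => ⟨g.1.1, h⟩
  have e : toPermHom G Ω g = σ := Equiv.ext fun x => (hg x).symm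
  refine ⟨g, ?_, fun x => hg x ▸ s2 x⟩
  rw [← orderOf_injective (toPermHom G Ω) toPerm_injective, e, orderOf_eq_prime s1 fun k => s2 a (k ▸ rfl)]
  exact hp

end Cfsg.Agent.S3557
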