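import Cfsg.Statements.S3579
import Cfsg.Agent.El.M
import Cfsg.Agent.El.K2
import Cfsg.Agent.El.U3
import Cfsg.Agent.El.B2b
import Cfsg.Agent.El.C1
import Cfsg.Agent.El.C2a
import Cfsg.Agent.El.C2b
import Cfsg.Agent.El.C3
import Cfsg.Agent.El.C4
import Cfsg.Agent.El.C5

set_option autoImplicit false
open Cfsg

namespace Cfsg.Agent.S3579

section
open MulAction Subgroup CF.El
variable {G Ω : Type*} [Group G] [Finite G] [MulAction G Ω] [Finite Ω] {p q : ℕ}

theorem caseA (h : Hy G Ω p q) (P : Sylow p G)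
    (hA : ∀ ω : Ω, (stabilizer G ω).relIndex (P : Subgroup G) = p) : False := by
  have hne : Nonempty Ω := by
    have := h.pp.pos; have := h.pq.pos
    exact (Nat.card_pos_iff.1 (by rw [h.card]; positivity)).1
  obtain ⟨δ⟩ := hne
  have e : EA p (P : Subgroup G) := ea_of_orb h P.2 fun ω => (hA ω).dvd
  exact K2 h P (P : Subgroup G) le_rfl e hA ⟨δ, hA δ⟩ (fun _ hg => hg) (fun _ _ hg => hg)

theorem caseC {x : G} {γ : Ω} (c : CY G Ω p q x γ) : False := by
  obtain ⟨τ, r⟩ := C1 c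
  have hY := C2b c (C2a c r)
  rcases C3 c r with ⟨M, hM, hv, hn⟩ | h2
  · exact hn (C4 c hY M hv)
  · exact C5 c r hY h2

theorem caseB {P : Sylow p G} {V : Subgroup G} {γ : Ω} (b : B1 G Ω p q P V γ) : False := by
  have h := b.toHy
  have hin : ∀ W : Subgroup G, W ≤ (P : Subgroup G) → EA p W →
      W.relIndex (P : Subgroup G) ∣ p ^ 2 → W ≤ V := fun W hW e hi => by
    by_contra hn
    exact b.exp (U3 h.pp h.p5 (P : Subgroup G) V W P.2 b.VP hW b.iV hi b.ea e hn)
  by_cases hB : ∃ δ : Ω, V ≤ stabilizer G δ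
  · obtain ⟨δ, hδ⟩ := hB
    have b2 := b.b2 hin hδ
    by_cases hU : V ⊓ stabilizer G γ = ⊥
    · obtain ⟨x, c⟩ := b2.cy hU
      exact caseC c
    · exact B2b b2 hU
  · have horb : ∀ ω : Ω, (stabilizer G ω).relIndex V = p := fun ω =>
      ((Nat.dvd_prime h.pp).1 (b.dvd ω)).resolve_left fun e => hB ⟨ω, relIndex_eq_one.1 e⟩
    obtain ⟨δ, hδ⟩ : ∃ δ : Ω, δ ∉ orbit (P : Subgroup G) γ := by
      obtain ⟨h1, h2⟩ := h.lt2 ((ncard_orbit _ _).trans b.iγ)
      have h3 := h.pp.pos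
      exact Set.nonempty_of_ncard_ne_zero (s := (orbit (P : Subgroup G) γ)ᶜ) (by nlinarith)
    have i1 : V.relIndex (P : Subgroup G) ∣ p ^ 2 := by
      have := b.iV
      exact ⟨p, by rw [this, pow_two]⟩
    refine K2 h P V b.VP b.ea horb ⟨δ, h.short P b.iγ hδ⟩
      (conj_mem_of hin b.VP b.ea i1) fun g ω hg v hv e => ?_
    have i2 : (stabilizer G ω ⊓ V).relIndex (P : Subgroup G) ∣ p ^ 2 := by
      have h1 := relIndex_mul_relIndex (stabilizer G ω ⊓ V) V (P : Subgroup G) inf_le_right b.VP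
      rw [inf_relIndex_right, horb, b.iV] at h1
      exact dvd_of_eq (h1.symm.trans (pow_two p).symm)
    have e2 : EA p (stabilizer G ω ⊓ V) :=
      ⟨fun a ha c hc => b.ea.1 a ha.2 c hc.2, fun a ha => b.ea.2 a ha.2⟩
    exact conj_mem_of hin (inf_le_right.trans b.VP) e2 i2 g (fun w hw => hg w hw.2 hw.1) v ⟨e, hv⟩

theorem main (h : Hy G Ω p q) : False := by
  have := Fact.mk h.pp
  obtain ⟨P⟩ : Nonempty (Sylow p G) := inferInstance
  by_cases hA : ∀ ω : Ω, (stabilizer G ω).relIndex (P : Subgroup G) = p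
  · exact caseA h P hA
  obtain ⟨γ, hγ⟩ := not_forall.1 hA
  obtain ⟨V, b⟩ := h.exB1 P ((h.orb P γ).resolve_left hγ)
  exact caseB b

end

/-- Let G act faithfully and transitively on a finite set with 2pq points, where p and q are distinct odd primes. Then G contains an element of prime order fixing no point (G is not elusive). -/
theorem result {G Ω : Type*} [Group G] [Finite G] [MulAction G Ω] [FaithfulSMul G Ω] [Finite Ω]
    (htrans : MulAction.IsPretransitive G Ω) (p q : ℕ) (hp : p.Prime) (hq : q.Prime) (hp2 : p ≠ 2) (hq2 : q ≠ 2)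
    (hpq : p ≠ q) (hcard : Nat.card Ω = 2 * p * q) :
    ∃ g : G, (orderOf g).Prime ∧ ∀ ω : Ω, g • ω ≠ ω := by
  by_contra! hn
  have fa : ∀ g : G, (∀ ω : Ω, g • ω = ω) → g = 1 := fun g hg =>
    FaithfulSMul.eq_of_smul_eq_smul (α := Ω) fun ω => by rw [hg, one_smul]
  have := hp.two_le; have := hq.two_le
  rcases lt_or_gt_of_ne hpq with h | h
  · exact main (p := q) (q := p) ⟨fa, htrans, hq, hp, by omega, h, by rw [hcard]; ring, hn⟩
  · exact main ⟨fa, htrans, hp, hq, by omega, h, hcard, hn⟩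

end Cfsg.Agent.S3579
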