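import Cfsg.Statements.S4775
import Cfsg.Agent.BN.SzTable

set_option autoImplicit false
open Cfsg

namespace Cfsg.Agent.S4775

/-- Let F be a finite field with q = 2^(2m+1) ≥ 8 elements and let S be isomorphic to the Suzuki group over F. Then the vertices of the character degree graph of S are 2 and the primes dividing (q − 1)(q² + 1); the primes dividing (q − 1)(q² + 1) are pairwise adjacent, and 2 is adjacent exactly to the primes dividing q − 1. -/
theorem result (F : Type*) [Field F] [Fintype F] (m : ℕ) (hm : 1 ≤ m) (q : ℕ) (hq : Fintype.card F = q) (hqm : q = 2 ^ (2 * m + 1)) {S : Type*} [Group S] [Finite S] (hS : Nonempty (S ≃* ↥(Cfsg.Lie.Sz F (2 ^ (m + 1))))) : Cfsg.degreePrimes S = {r : ℕ | r.Prime ∧ (r = 2 ∨ r ∣ (q - 1) * (q ^ 2 + 1))} ∧ ∀ r s : ℕ, (Cfsg.degreeGraph S).Adj r s ↔ (r ≠ s ∧ r.Prime ∧ s.Prime ∧ ((r ∣ (q - 1) * (q ^ 2 + 1) ∧ s ∣ (q - 1) * (q ^ 2 + 1)) ∨ (r = 2 ∧ s ∣ q - 1) ∨ (s = 2 ∧ r ∣ q -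 1))) := by
  obtain ⟨e⟩ := hS
  have hF := hq.trans hqm
  set D := (CF.BN.Suz.lieD F m hF).ofEquiv e
  have h8 := CF.BN.Suz.eight_le_card hm hF
  have hF' := hF
  rw [← Nat.card_eq_fintype_card] at hF' h8 hq
  have hr := CF.BN.Suz.sq_two_pow hF'
  have := Fintype.ofFinite S
  obtain ⟨P⟩ := D.nonempty_table hr h8
  have h2 : P.d = 2 ^ m := by have := P.hrd; omega
  have key : ∀ n, n ∈ Cfsg.charDegrees S ↔ ∃ χ, IsIrrCharacter S χ ∧ χ 1 = n := fun n => by
    constructor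
    · rintro ⟨χ, rfl⟩
      obtain ⟨k, -, hk⟩ := CF.Char.irr_one_eq_nat χ.2
      exact ⟨χ, χ.2, by simp [Cfsg.charDegree, hk]⟩
    · rintro ⟨χ, hχ, h⟩
      exact ⟨⟨χ, hχ⟩, by simp [Cfsg.charDegree, h]⟩
  obtain ⟨hab, -, -⟩ := CF.BN.Suz.tori_arith (CF.BN.Suz.titsOfCard F m hF).even_card hr h8
  simp only [P.degree_iff, h2, hq] at key hab
  generalize q + 2 ^ (m + 1) + 1 = a at *
  generalize q - 2 ^ (m + 1) + 1 = b at *
  have two : ∀ p k, p.Prime → p ∣ 2 ^ k → p = 2 := fun p k hp h =>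
    (Nat.prime_dvd_prime_iff_eq hp Nat.prime_two).1 (hp.dvd_of_dvd_pow h)
  have d1 : (q - 1) * a ∣ (q - 1) * (q ^ 2 + 1) := hab ▸ Nat.mul_dvd_mul_left _ (Dvd.intro _ rfl)
  have d2 : (q - 1) * b ∣ (q - 1) * (q ^ 2 + 1) := hab ▸ Nat.mul_dvd_mul_left _ (Dvd.intro_left _ rfl)
  have d3 : 2 ∣ 2 ^ m := dvd_pow_self 2 (by omega)
  constructor
  · ext p
    simp only [Cfsg.degreePrimes, key, Set.mem_ofPred_eq]
    refine and_congr_right fun hp => ⟨?_, ?_⟩
    · rintro ⟨_, rfl | rfl | rfl | rfl | rfl | rfl, h⟩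
      · exact absurd (Nat.dvd_one.1 h) hp.ne_one
      · exact Or.inl (two p _ hp (hqm ▸ hp.dvd_of_dvd_pow h))
      · rcases (Nat.Prime.dvd_mul hp).1 h with h | h
        · exact Or.inr (h.mul_right _)
        · exact Or.inl (two p _ hp h)
      · exact Or.inr (h.mul_left _)
      · exact Or.inr (h.trans d2)
      · exact Or.inr (h.trans d1)
    · rintro (rfl | h)
      · exact ⟨_, Or.inr (Or.inr (Or.inl rfl)), d3.mul_left _⟩
      · rcases (Nat.Prime.dvd_mul hp).1 h with h | h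
        · exact ⟨_, Or.inr (Or.inr (Or.inl rfl)), h.mul_right _⟩
        · exact ⟨_, Or.inr (Or.inr (Or.inr (Or.inl rfl))), h⟩
  · intro r s
    simp only [Cfsg.degreeGraph, key]
    refine and_congr_right fun hrs => and_congr_right fun hr => and_congr_right fun hs => ⟨?_, ?_⟩
    · rintro ⟨n, hn, h⟩
      have h1 : r ∣ n := (Dvd.intro _ rfl).trans h
      have h2 : s ∣ n := (Dvd.intro_left _ rfl).trans h
      rcases hn with rfl | rfl | rfl | rfl | rfl | rfl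
      · exact absurd (Nat.dvd_one.1 h1) hr.ne_one
      · exact absurd ((two r _ hr (hqm ▸ hr.dvd_of_dvd_pow h1)).trans
          (two s _ hs (hqm ▸ hs.dvd_of_dvd_pow h2)).symm) hrs
      · rcases (Nat.Prime.dvd_mul hr).1 h1 with h1 | h1 <;>
          rcases (Nat.Prime.dvd_mul hs).1 h2 with h2 | h2
        · exact Or.inl ⟨h1.mul_right _, h2.mul_right _⟩
        · exact Or.inr (Or.inr ⟨two s _ hs h2, h1⟩)
        · exact Or.inr (Or.inl ⟨two r _ hr h1, h2⟩)
        · exact absurd ((two r _ hr h1).trans (two s _ hs h2).symm) hrs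
      · exact Or.inl ⟨h1.mul_left _, h2.mul_left _⟩
      · exact Or.inl ⟨h1.trans d2, h2.trans d2⟩
      · exact Or.inl ⟨h1.trans d1, h2.trans d1⟩
    · have c : ∀ {n}, r ∣ n → s ∣ n → r * s ∣ n := fun h h' =>
        ((Nat.coprime_primes hr hs).2 hrs).mul_dvd_of_dvd_of_dvd h h'
      rintro (⟨h1, h2⟩ | ⟨rfl, h⟩ | ⟨rfl, h⟩)
      · rcases (Nat.Prime.dvd_mul hr).1 h1 with h1 | h1 <;>
          rcases (Nat.Prime.dvd_mul hs).1 h2 with h2 | h2
        · exact ⟨_, Or.inr (Or.inr (Or.inl rfl)), c (h1.mul_right _) (h2.mul_right _)⟩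
        · rcases (Nat.Prime.dvd_mul hs).1 (hab ▸ h2) with h2 | h2
          · exact ⟨_, Or.inr (Or.inr (Or.inr (Or.inr (Or.inr rfl)))),
              c (h1.mul_right _) (h2.mul_left _)⟩
          · exact ⟨_, Or.inr (Or.inr (Or.inr (Or.inr (Or.inl rfl)))),
              c (h1.mul_right _) (h2.mul_left _)⟩
        · rcases (Nat.Prime.dvd_mul hr).1 (hab ▸ h1) with h1 | h1
          · exact ⟨_, Or.inr (Or.inr (Or.inr (Or.inr (Or.inr rfl)))),
              c (h1.mul_left _) (h2.mul_right _)⟩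
          · exact ⟨_, Or.inr (Or.inr (Or.inr (Or.inr (Or.inl rfl)))),
              c (h1.mul_left _) (h2.mul_right _)⟩
        · exact ⟨_, Or.inr (Or.inr (Or.inr (Or.inl rfl))), c h1 h2⟩
      · exact ⟨_, Or.inr (Or.inr (Or.inl rfl)), c (d3.mul_left _) (h.mul_right _)⟩
      · exact ⟨_, Or.inr (Or.inr (Or.inl rfl)), c (h.mul_right _) (d3.mul_left _)⟩

end Cfsg.Agent.S4775
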