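import Mathlib
import Cfsg.Agent.Fgs2.MaxPow
import Cfsg.Statements.S3806

set_option autoImplicit false
open Cfsg

namespace Cfsg.Agent.S3806

open CF.Fgs2 Subgroup in
theorem aux {S : Type*} [Group S] [Finite S] {p n : ℕ} [hp : Fact p.Prime] (h : MaxC p n S) {k : ℕ}
    (hk : 1 ≤ k) (hsr : Cfsg.SectionalPRankLE p k S) (hpk : k + 2 ≤ p) (hn : 2 * k + 1 ≤ n) : False := by
  have key : ∀ (H N : Subgroup S) [N.Normal], ⁅H, H⁆ ≤ N → (∀ x ∈ H, x ^ p ∈ N) → N.relIndex H ≤ p ^ k := by
    intro H N _ h1 h2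
    have := hsr H (N.subgroupOf H) ⊤ ⟨⟨by
      rintro ⟨a, _⟩ ⟨b, _⟩
      obtain ⟨a, rfl⟩ := QuotientGroup.mk_surjective a
      obtain ⟨b, rfl⟩ := QuotientGroup.mk_surjective b
      apply Subtype.ext
      show ((a * b : H) : H ⧸ N.subgroupOf H) = ((b * a : H) : H ⧸ N.subgroupOf H)
      rw [QuotientGroup.eq, mem_subgroupOf]
      have := h1 (commutator_mem_commutator (H.inv_mem b.2) (H.inv_mem a.2))
      convert this using 1
      simp [commutatorElement_def, mul_assoc]⟩⟩ (by
      intro a _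
      obtain ⟨a, rfl⟩ := QuotientGroup.mk_surjective a
      rw [← QuotientGroup.mk_pow, QuotientGroup.eq_one_iff, mem_subgroupOf]
      exact h2 a a.2)
    rwa [card_top] at this
  have hp1 := hp.out.one_lt
  rcases Nat.eq_or_lt_of_le hk with rfl | hk2
  · have := key ⊤ (LC S 1) le_rfl fun x _ => h.pow_mem_one x
    rw [relIndex_top_right, h.index le_rfl (by omega)] at this
    have := (Nat.pow_le_pow_iff_right hp1).1 this
    omega
  · obtain ⟨j, rfl⟩ : ∃ j, k = j + 1 := ⟨k - 1, by omega⟩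
    obtain ⟨x, hx, hx'⟩ : ∃ x ∈ LC S j, x ∉ LC S (j + 1) := by
      by_contra hc; push Not at hc
      haveI := h.nil
      exact (lcs_succ_lt (h.ne_bot_iff.2 (show j ≤ n - 2 by omega))).not_ge hc
    have b0 : ⁅LC S j, LC S j⁆ ≤ LC S (j + 1 + j + 1) := by
      rw [← h.sup_eq (by omega) hx hx']
      exact comm_sup_zpowers_le (fun y hy => comm_mem_LC hy hx)
        ((commutator_lcs_lcs ⊤ _ _).trans (LC_anti (by omega)))
    have h1 := key (LC S j) _ b0 fun x hx => LC_anti (by omega) (h.pow_mem_LC (by omega) x hx)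
    have h2 := relIndex_mul_index (LC_anti (G := S) (show j ≤ j + 1 + j + 1 by omega))
    rw [h.index (by omega) (by omega), h.index (by omega) (by omega),
      show j + 1 + j + 1 + 1 = (j + 2) + (j + 1) by omega, pow_add p (j + 2)] at h2
    rw [Nat.eq_of_mul_eq_mul_right (by positivity) h2] at h1
    have := (Nat.pow_le_pow_iff_right hp1).1 h1
    omega

/-- Let p be a prime and S a finite p-group of order pⁿ (n ≥ 2) of maximal nilpotency class n − 1 whose sectional p-rank is exactly k (every section has p-rank at most k, and some section has p-rank k). If p ≥ k + 2 then the order of S is at most p^(2k). -/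
theorem result {S : Type*} [Group S] [Finite S] (p : ℕ) [Fact p.Prime] (hS : IsPGroup p S) [Group.IsNilpotent S]
    (n : ℕ) (hn : 2 ≤ n) (hcard : Nat.card S = p ^ n) (hmax : Group.nilpotencyClass S = n - 1)
    (k : ℕ) (hk : 1 ≤ k) (hsr : Cfsg.SectionalPRankLE p k S ∧ ¬ Cfsg.SectionalPRankLE p (k - 1) S)
    (hpk : k + 2 ≤ p) : Nat.card S ≤ p ^ (2 * k) := by
  rw [hcard]
  apply Nat.pow_le_pow_right (Fact.out : p.Prime).pos
  by_contra hc
  exact aux ⟨hcard, by omega, (CF.Fgs2.nilpotencyClass_eq_iff hcard hn).1 hmax⟩ hk hsr.1 hpk (by omega)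

end Cfsg.Agent.S3806
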