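import Mathlib
import Cfsg.Statements.S3807
import Cfsg.Agent.Fgs1.Extra

set_option autoImplicit false
open Cfsg

namespace Cfsg.Agent.S3807

open CF.Fgs1

/-- Let S be a non-abelian finite p-group with an abelian subgroup A of index p. Then [S : Z(S)] = p·#[S,S], and either [S,S] has order p, S/Z(S) is elementary abelian of order p², and S has exactly p + 1 abelian subgroups of index p; or [S,S] has order at least p² and A is the only abelian subgroup of index p in S. -/
theorem result {S : Type*} [Group S] [Finite S] (p : ℕ) [Fact p.Prime] (hS : IsPGroup p S) (hna : ¬ IsMulCommutative S)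
    (A : Subgroup S) (hA : IsMulCommutative ↥A) (hAi : A.index = p) :
    (Subgroup.center S).index = p * Nat.card (commutator S) ∧
      ((Nat.card (commutator S) = p ∧ Cfsg.IsElementaryAbelian p (⊤ : Subgroup (S ⧸ Subgroup.center S)) ∧
          Nat.card (S ⧸ Subgroup.center S) = p ^ 2 ∧
          Nat.card {B : Subgroup S // IsMulCommutative ↥B ∧ B.index = p} = p + 1) ∨
        (p ^ 2 ≤ Nat.card (commutator S) ∧ ∀ B : Subgroup S, IsMulCommutative ↥B → B.index = p → B = A)) := by
  have hp : p.Prime := Fact.out
  have h1 := index_center_eq hS hna hA hAi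
  refine ⟨h1, ?_⟩
  have hne : commutator S ≠ ⊥ := fun h => hna ((commutator_eq_bot_iff S).1 h)
  obtain ⟨k, hk⟩ := IsPGroup.iff_card.1 (hS.to_subgroup (commutator S))
  have hk0 : k ≠ 0 := by
    rintro rfl
    exact hne (Subgroup.card_eq_one.1 hk)
  by_cases hk1 : k = 1
  · left
    rw [hk1, pow_one] at hk
    rw [hk, ← sq] at h1
    have hnc : ¬ IsCyclic (S ⧸ Subgroup.center S) := fun hc =>
      hna ⟨⟨commutative_of_cyclic_center_quotient (QuotientGroup.mk' (Subgroup.center S))
        (QuotientGroup.ker_mk' _).le⟩⟩
    have hexp := pow_eq_one_of_not_isCyclic h1 hnc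
    have hcomm := IsPGroup.isMulCommutative_of_card_eq_prime_sq (p := p) h1
    refine ⟨hk, ⟨inferInstance, fun a _ => hexp a⟩, h1, ?_⟩
    rw [← card_subgroups_of_elem_sq hexp h1]
    have hidx : ∀ H : Subgroup (S ⧸ Subgroup.center S), Nat.card H = p ↔ H.index = p := by
      intro H
      have h2 := H.card_mul_index
      rw [show Nat.card (S ⧸ Subgroup.center S) = p * p by rw [← sq]; exact h1] at h2
      constructor
      · intro h
        rw [h] at h2
        exact Nat.eq_of_mul_eq_mul_left hp.pos h2
      · intro h
        rw [h] at h2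
        exact Nat.eq_of_mul_eq_mul_right hp.pos h2
    refine Nat.card_congr
      { toFun := fun B => ⟨B.1.map (QuotientGroup.mk' _), ?_⟩
        invFun := fun H => ⟨H.1.comap (QuotientGroup.mk' _), ?_, ?_⟩
        left_inv := fun B => Subtype.ext ?_
        right_inv := fun H => Subtype.ext ?_ }
    · rw [hidx, Subgroup.index_map_eq _ (QuotientGroup.mk'_surjective _), B.2.2]
      rw [QuotientGroup.ker_mk']
      exact center_le_of_index_prime hna B.2.1 (B.2.2.symm ▸ hp)
    · have hle : Subgroup.center S ≤ H.1.comap (QuotientGroup.mk' _) :=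
        (QuotientGroup.ker_mk' _).ge.trans (Subgroup.ker_le_comap _ _)
      refine isMulCommutative_of_relIndex_prime hle (Subgroup.center_le_centralizer _) ?_
      have h2 := card_mul_relIndex hle
      rw [card_comap_mk', H.2] at h2
      rw [Nat.eq_of_mul_eq_mul_left Nat.card_pos h2]
      exact hp
    · rw [Subgroup.index_comap_of_surjective _ (QuotientGroup.mk'_surjective _), ← hidx, H.2]
    · apply Subgroup.comap_map_eq_self
      rw [QuotientGroup.ker_mk']
      exact center_le_of_index_prime hna B.2.1 (B.2.2.symm ▸ hp)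
    · exact Subgroup.map_comap_eq_self_of_surjective (QuotientGroup.mk'_surjective _) _
  · right
    have h2 : p ^ 2 ≤ Nat.card (commutator S) := hk ▸ Nat.pow_le_pow_right hp.pos (by omega)
    refine ⟨h2, fun B hB hBi => ?_⟩
    by_contra hne
    have hnle : ¬ B ≤ A := fun h =>
      hne ((isCoatom_of_index_prime (hBi ▸ hp)).le_iff.1 h |>.resolve_left
        (isCoatom_of_index_prime (hAi ▸ hp)).1).symm
    obtain ⟨x, hxB, hxA⟩ := SetLike.not_le_iff_exists.1 hnle
    have h3 : A ⊓ B ≤ Subgroup.center S := by
      rw [← inf_centralizer_eq_center hna hA (hAi ▸ hp) hxA]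
      exact inf_le_inf_left _ fun b hb =>
        Subgroup.mem_centralizer_singleton_iff.2 (comm_of_mem hB hb hxB)
    have h4 := Subgroup.index_antitone h3
    have h5 := Subgroup.index_inf_le (H := A) (K := B)
    rw [hAi, hBi] at h5
    rw [h1] at h4
    have h6 : p * p ^ 2 ≤ p * p := (Nat.mul_le_mul_left p h2).trans (h4.trans h5)
    have := hp.two_le
    nlinarith

end Cfsg.Agent.S3807
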