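import Mathlib
import Cfsg.Statements.S3808
import Cfsg.Agent.Fgs1.Extra

set_option autoImplicit false
open Cfsg

namespace Cfsg.Agent.S3808

open CF.Fgs1

/-- Let S be a finite p-group with an extraspecial subgroup Q of index p. Then either Z(S) = Z(Q), or S = Q·Z(S) and Z(S) has order p². -/
theorem result {S : Type*} [Group S] [Finite S] (p : ℕ) [Fact p.Prime] (hS : IsPGroup p S) (Q : Subgroup S) (hQ : Cfsg.IsExtraspecial p ↥Q) (hQi : Q.index = p) :
    Subgroup.center S = (Subgroup.center ↥Q).map Q.subtype ∨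
      (Q ⊔ Subgroup.center S = ⊤ ∧ Nat.card (Subgroup.center S) = p ^ 2) := by
  have hp : p.Prime := Fact.out
  have := normal_of_index_eq hS hQi
  have hZ : Nat.card ((Subgroup.center Q).map Q.subtype) = p := by
    rw [Subgroup.card_map_of_injective Q.subtype_injective, hQ.2]
  have h1 := le_center_of_card_prime hS hZ
  have h2 : Q ⊓ Subgroup.center S = (Subgroup.center Q).map Q.subtype :=
    le_antisymm (fun z hz => ⟨⟨z, hz.1⟩, Subgroup.mem_center_iff.2 fun g =>
      Subtype.ext (Subgroup.mem_center_iff.1 hz.2 g), rfl⟩) (le_inf (Subgroup.map_subtype_le _) h1)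
  rcases eq_or_eq_top_of_index_prime (hQi ▸ hp) (le_sup_left : Q ≤ Q ⊔ Subgroup.center S) with h | h
  · left
    rw [← h2, inf_eq_right.2 (sup_eq_left.1 h)]
  · right
    refine ⟨h, ?_⟩
    have h3 := card_sup_of_normal Q (Subgroup.center S)
    rw [h2, hZ, h, Subgroup.card_top, ← Q.card_mul_index, hQi] at h3
    apply Nat.eq_of_mul_eq_mul_left (card_pos' Q)
    rw [h3]
    ring

end Cfsg.Agent.S3808
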