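import Mathlib
import Cfsg.Statements.S3809
import Cfsg.Agent.Fgs1.Extra

set_option autoImplicit false
open Cfsg

namespace Cfsg.Agent.S3809

open CF.Fgs1

/-- Let S be a finite p-group with an extraspecial subgroup of index p. Then S has order p^(2+2n) for some n ≥ 1, derived length at most 3, and exponent dividing p³. -/
theorem result {S : Type*} [Group S] [Finite S] (p : ℕ) [Fact p.Prime] (hS : IsPGroup p S) (Q : Subgroup S) (hQ : Cfsg.IsExtraspecial p ↥Q) (hQi : Q.index = p) :
    (∃ n : ℕ, 1 ≤ n ∧ Nat.card S = p ^ (2 + 2 * n)) ∧ derivedSeries S 3 = ⊥ ∧ ∀ x : S, x ^ (p ^ 3) = 1 := by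
  have hp : p.Prime := Fact.out
  have := normal_of_index_eq hS hQi
  obtain ⟨n, hn, hc⟩ := card_of_extraspecial hQ
  refine ⟨⟨n, hn, ?_⟩, ?_, fun x => ?_⟩
  · rw [← Q.card_mul_index, hc, hQi]
    ring
  · have h1 : derivedSeries S 1 ≤ Q := commutator_le_of_index_prime (hQi ▸ hp)
    have h2 : derivedSeries S 2 ≤ (Subgroup.center Q).map Q.subtype := by
      rw [← hQ.1.2.2, Subgroup.map_subtype_commutator]
      exact Subgroup.commutator_mono h1 h1
    rw [eq_bot_iff]
    refine (Subgroup.commutator_mono h2 h2).trans (le_of_eq ?_)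
    rw [Subgroup.commutator_self_eq_bot_iff]
    infer_instance
  · have h1 := pow_mem_frattini hQ.1.1 ⟨x ^ p, pow_mem_of_index hQi x⟩
    rw [hQ.1.2.1] at h1
    have h2 := pow_card_eq_one' (x := (⟨_, h1⟩ : Subgroup.center Q))
    rw [hQ.2] at h2
    have h3 : ((x ^ p) ^ p) ^ p = 1 := congrArg (fun y : Subgroup.center Q => ((y : Q) : S)) h2
    rw [← h3, ← pow_mul, ← pow_mul]
    congr 1
    ring

end Cfsg.Agent.S3809
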