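import Mathlib
import Cfsg.Statements.S3810
import Cfsg.Agent.Fgs1.Extra

set_option autoImplicit false
open Cfsg

namespace Cfsg.Agent.S3810

open CF.Fgs1

/-- Let S be a finite p-group with an extraspecial subgroup of index p. Then S has an abelian subgroup of index p if and only if S has order p⁴. -/
theorem result {S : Type*} [Group S] [Finite S] (p : ℕ) [Fact p.Prime] (hS : IsPGroup p S) (Q : Subgroup S) (hQ : Cfsg.IsExtraspecial p ↥Q) (hQi : Q.index = p) :
    (∃ A : Subgroup S, IsMulCommutative ↥A ∧ A.index = p) ↔ Nat.card S = p ^ 4 := by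
  have hp : p.Prime := Fact.out
  refine ⟨?_, exists_abelian_of_card_pow_four⟩
  rintro ⟨A, hA, hAi⟩
  have := normal_of_index_eq hS hAi
  have hna := not_isMulCommutative_of_extraspecial hQ
  have h1 : (A.subgroupOf Q).index = p := by
    have := Subgroup.relIndex_dvd_index_of_normal A Q
    rw [hAi] at this
    refine ((Nat.dvd_prime hp).1 this).resolve_left fun h => hna ?_
    exact isMulCommutative_of_le hA (Subgroup.relIndex_eq_one.1 h)
  have h2 := index_center_eq hQ.1.1 hna (A := A.subgroupOf Q) inferInstance h1
  rw [hQ.1.2.2, hQ.2] at h2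
  rw [← Q.card_mul_index, ← (Subgroup.center Q).card_mul_index, h2, hQ.2, hQi]
  ring

end Cfsg.Agent.S3810
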