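import Mathlib
import Cfsg.Agent.BG.B11
import Cfsg.Agent.Fgs3.SqFree
import Cfsg.Agent.Fgs2.MaxPow
import Cfsg.Statements.S3811

set_option autoImplicit false
open Cfsg

namespace Cfsg.Agent.S3811

open Subgroup CF.BG
open scoped commutatorElement

universe u

/-- normalizer tower -/
def tw {G : Type*} [Group G] (P E : Subgroup G) : ℕ → Subgroup G
  | 0 => E
  | j + 1 => P ⊓ 𝐍 (tw P E j)

structure Soft {G : Type*} [Group G] (p : ℕ) (P E : Subgroup G) : Prop where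
  hp : p.Prime
  pi : PiGrp {p} P
  le : E ≤ P
  ab : Abel E
  sc : P ⊓ 𝐂 E ≤ E
  idx : E.relIndex (P ⊓ 𝐍 E) = p

def Good {G : Type*} [Group G] (p : ℕ) (P E : Subgroup G) (i : ℕ) : Prop :=
  ∀ j < i, (tw P E j).relIndex (tw P E (j + 1)) = p

variable {G : Type u} [Group G] [Finite G] {p : ℕ} {P E : Subgroup G}

theorem eq_or_eq (hp : p.Prime) {A B K : Subgroup G} (h : A.relIndex B = p) (a : A ≤ K) (b : K ≤ B) :
    K = A ∨ K = B := by
  have := relIndex_mul_relIndex A K B a b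
  rw [h] at this
  rcases (Nat.dvd_prime hp).1 (Dvd.intro _ this) with e | e
  · exact Or.inl (le_antisymm (relIndex_eq_one.1 e) a)
  · rw [e] at this
    exact Or.inr (le_antisymm b (relIndex_eq_one.1 (Nat.eq_of_mul_eq_mul_left hp.pos (this.trans (mul_one p).symm))))

theorem der_le_of_idx (hp : p.Prime) {A B : Subgroup G} (h : A.relIndex B = p) (n : A ⊴ B) : ⁅B, B⁆ ≤ A :=
  (abel_qt_iff n.norm).1 (cyc_of_prime (by rwa [card_qt n.norm, h])).abel

theorem exists_central_mod {N V H : Subgroup G} (h : Nil H) (hN : N ⊴ H) (hV : V ⊴ H) (l : ¬ V ≤ N) :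
    ∃ v ∈ V, v ∉ N ∧ ∀ g ∈ H, ⁅v, g⁆ ∈ N := by
  obtain ⟨z, hz, z1⟩ := exists_mem_ne_one ((h.qt N).inf_cent_ne_bot (hV.qt N)
    fun e => l ((qt_eq_bot (hV.le.trans hN.norm)).1 e))
  obtain ⟨v, hv, n, rfl⟩ := mem_qt.1 hz.1
  refine ⟨v, hv, fun e => z1 (qe_of_mem e), fun g hg => ?_⟩
  have hg' := hN.norm hg
  rw [← qe_eq_one (by
    rw [commutatorElement_def]; exact mul_mem (mul_mem (mul_mem n hg') (inv_mem n)) (inv_mem hg')), qe_comm n hg',
    commutatorElement_eq_one_iff_mul_comm]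
  exact (mem_cent.1 hz.2 _ (qe_mem_qt hg hg')).symm

namespace Soft

variable (h : Soft p P E)
include h

theorem tw_le (j : ℕ) : tw P E j ≤ P := by
  cases j with
  | zero => exact h.le
  | succ j => exact inf_le_left

theorem nrm (j : ℕ) : tw P E j ⊴ tw P E (j + 1) := ⟨le_inf (h.tw_le j) (le_norm_self _), inf_le_right⟩

theorem mono : Monotone (tw P E) := monotone_nat_of_le_succ fun j => (h.nrm j).le

theorem lt_succ {j : ℕ} (e : tw P E j ≠ P) : tw P E j < tw P E (j + 1) :=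
  lt_of_le_of_ne (h.nrm j).le fun e' => e (h.pi.nil.eq_of_inf_norm_le (h.tw_le j) e'.ge)

theorem succ_le {j : ℕ} (g : (tw P E j).relIndex (tw P E (j + 1)) = p) {K : Subgroup G} (a : tw P E j < K)
    (b : K ≤ P) : tw P E (j + 1) ≤ K := by
  rcases eq_or_eq h.hp g (K := K ⊓ 𝐍 (tw P E j)) (le_inf a.le (le_norm_self _)) (inf_le_inf_right _ b) with e | e
  · exact absurd ((h.pi.le b).nil.eq_of_inf_norm_le a.le e.le) a.ne
  · exact e.ge.trans inf_le_left

theorem chain {i : ℕ} (g : Good p P E i) {K : Subgroup G} (a : E ≤ K) (b : K ≤ P) :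
    (∃ j < i, K = tw P E j) ∨ tw P E i ≤ K := by
  induction i with
  | zero => exact Or.inr a
  | succ i ih =>
    rcases ih fun j hj => g j (by omega) with ⟨j, hj, e⟩ | e
    · exact Or.inl ⟨j, by omega, e⟩
    · rcases eq_or_lt_of_le e with e | e
      · exact Or.inl ⟨i, by omega, e.symm⟩
      · exact Or.inr (h.succ_le (g i (by omega)) e b)

theorem card {i : ℕ} (g : Good p P E i) : ♯(tw P E i) = ♯E * p ^ i := by
  induction i with
  | zero => simp [tw]
  | succ i ih =>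
    rw [← card_mul_relIndex (h.nrm i).le, g i (by omega), ih fun j hj => g j (by omega), pow_succ, mul_assoc]

theorem good_one : Good p P E 1 := fun j hj => by obtain rfl : j = 0 := by omega
                                                  exact h.idx

theorem conj {i : ℕ} (g : Good p P E (i + 1)) {x : G} (hx : x ∈ tw P E (i + 2)) (hx' : x ∉ tw P E (i + 1)) :
    cj x (tw P E i) ⊴ tw P E (i + 1) ∧ (cj x (tw P E i)).relIndex (tw P E (i + 1)) = p ∧ ¬ E ≤ cj x (tw P E i) := by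
  have e : cj x (tw P E (i + 1)) = tw P E (i + 1) := cj_eq_self.2 hx.2
  have n : cj x (tw P E i) ⊴ tw P E (i + 1) := e ▸ (h.nrm i).map _
  have r : (cj x (tw P E i)).relIndex (tw P E (i + 1)) = p := by
    conv_lhs => rw [← e]
    rw [relIndex_cj, g i (by omega)]
  refine ⟨n, r, fun l => ?_⟩
  rcases h.chain (i := i) (fun j hj => g j (by omega)) l (n.le.trans (h.tw_le _)) with ⟨j, hj, e'⟩ | e'
  · have := congrArg (fun H : Subgroup G => ♯H) e'
    simp only [card_cj] at this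
    rw [h.card fun j hj => g j (by omega), h.card fun j hj => g j (by omega)] at this
    have := Nat.pow_right_injective h.hp.two_le (Nat.eq_of_mul_eq_mul_left (card_pos' _) this)
    omega
  · exact hx' ⟨hx.1, cj_eq_self.1 (eq_of_card_eq e' (card_cj _ _).symm).symm⟩

theorem cent1 {a : G} (ha : a ∈ E) (h1 : a ∉ 𝐂 (tw P E 1)) : P ⊓ 𝐂₁ a = E := by
  rcases h.chain h.good_one (K := P ⊓ 𝐂₁ a) (le_inf h.le (le_cent1_iff.2 (h.ab ha))) inf_le_left with ⟨j, hj, e⟩ | e
  · obtain rfl : j = 0 := by omega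
    exact e
  · exact absurd (le_cent1_iff.1 (e.trans inf_le_right)) h1

theorem not_le_cent : ¬ E ≤ 𝐂 (tw P E 1) := fun l => by
  have := h.idx
  have e : E.relIndex (P ⊓ 𝐍 E) = 1 := relIndex_eq_one.2 ((le_inf inf_le_left (cent_symm l)).trans h.sc)
  exact h.hp.one_lt.ne (e.symm.trans this)

theorem one (e : tw P E 1 ≠ P) : ♯⁅tw P E 1, tw P E 1⁆ = p ∧ Good p P E 2 := by
  obtain ⟨x, hx, hx'⟩ := SetLike.exists_of_lt (h.lt_succ e)
  obtain ⟨n, r, l⟩ := h.conj h.good_one hx hx'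
  change cj x E ⊴ tw P E 1 at n
  change (cj x E).relIndex (tw P E 1) = p at r
  change ¬ E ≤ cj x E at l
  have n0 : E ⊴ tw P E 1 := h.nrm 0
  have aB : Abel (cj x E) := h.ab.map _
  have s : cj x E ⊔ E = tw P E 1 :=
    (eq_or_eq h.hp r le_sup_left (sup_le n.le n0.le)).resolve_left fun e => l (e ▸ le_sup_right)
  have r1 : (cj x E ⊓ E).relIndex E = p := by
    rw [inf_relIndex_right, ← relIndex_sup_norm' (Or.inl (n0.le.trans n.norm)), s, r]
  have c : cj x E ⊓ E ≤ 𝐂 (tw P E 1) := s ▸ le_cent_sup (inf_le_left.trans aB) (inf_le_right.trans h.ab)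
  have zE : 𝐙 (tw P E 1) ≤ E := (inf_le_inf (h.tw_le 1) (cent_anti n0.le)).trans h.sc
  have z : 𝐙 (tw P E 1) = cj x E ⊓ E :=
    (eq_or_eq h.hp r1 (le_inf (inf_le_right.trans n0.le) c) zE).resolve_right
      fun e => h.not_le_cent (e.ge.trans inf_le_right)
  have r2 : (𝐙 (tw P E 1)).relIndex (tw P E 1) = p * p := by
    rw [← relIndex_mul_relIndex _ E _ zE n0.le, z, r1]; congr 1; exact h.idx
  have k1 := h.pi.le (h.tw_le 1)
  refine ⟨?_, ?_⟩
  · refine ((Nat.dvd_prime h.hp).1 (CF.Fgs3.card_der_dvd_of_class h.hp k1 fun y hy => ?_)).resolve_left fun e =>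
      h.not_le_cent (n0.le.trans (der_eq_bot.1 (card_eq_one'.1 e)))
    by_cases hy' : y ∈ 𝐂 (tw P E 1)
    · rw [relIndex_eq_one.2 (le_cent1_iff.2 hy')]; exact one_dvd _
    · have l1 : 𝐙 (tw P E 1) < tw P E 1 ⊓ 𝐂₁ y :=
        lt_of_le_of_ne (inf_le_inf_left _ (cent_le_cent1 hy)) fun e => hy' (e.ge ⟨hy, self_mem_cent1 y⟩).2
      have e0 := relIndex_mul_relIndex _ _ _ l1.le (inf_le_left : tw P E 1 ⊓ 𝐂₁ y ≤ _)
      obtain ⟨k, hk⟩ := ((k1.le (inf_le_left : tw P E 1 ⊓ 𝐂₁ y ≤ _)).relIndex (𝐙 (tw P E 1))).exists_pow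
        (relIndex_ne_zero' _ _)
      obtain ⟨m, hm⟩ : p ∣ (𝐙 (tw P E 1)).relIndex (tw P E 1 ⊓ 𝐂₁ y) := by
        rw [hk]
        refine dvd_pow_self _ fun k0 => l1.not_ge (relIndex_eq_one.1 (by rw [hk, k0, pow_zero]))
      rw [r2, hm, inf_relIndex_left, mul_assoc] at e0
      exact Dvd.intro_left _ (Nat.eq_of_mul_eq_mul_left h.hp.pos e0)
  · intro j hj
    rcases j with _ | j
    · exact h.idx
    obtain rfl : j = 0 := by omega
    set Z := 𝐙 (tw P E 1) with hZ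
    have nZ : tw P E 2 ≤ 𝐍 Z := inf_le_right.trans (norm_center _)
    have l12 : tw P E 1 ≤ tw P E 2 := (h.nrm 1).le
    have nZ1 := l12.trans nZ
    have e1 : Elem p 1 (qt Z E) (qt Z (tw P E 1)) :=
      elem_one h.hp (qt_mono _ n0.le) (by rw [card_qt (n0.le.trans nZ1), z, r1])
    have e2 : Elem p 1 (qt Z (cj x E)) (qt Z (tw P E 1)) :=
      elem_one h.hp (qt_mono _ n.le) (by
        rw [qt_cj (nZ hx), card_cj]; exact e1.card_one)
    have d : ⁅tw P E 1, tw P E 1⁆ ≤ Z := z ▸ le_inf (der_le_of_idx h.hp r n) (der_le_of_idx h.hp h.idx n0)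
    have ab : Abel (qt Z (tw P E 1)) := (abel_qt_iff nZ1).2 d
    have e3 := e2.sup_one e1 (ab.cent e1.le e2.le) (by
      rwa [qt_le_qt_iff' (n0.le.trans nZ1) (z ▸ inf_le_left)])
    rw [← qt_sup (n.le.trans nZ1) (n0.le.trans nZ1), s] at e3
    have d2 := e3.relIndex_cent_dvd_two ((h.pi.le (h.tw_le 2)).qt Z) (qt_norm _ inf_le_right)
    have e4 : qt Z (tw P E 2) ⊓ 𝐂 (qt Z (tw P E 1)) = qt Z (tw P E 1) := by
      refine le_antisymm ?_ (le_inf (qt_mono _ l12) ab)
      intro y hy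
      obtain ⟨y, hy1, hy2, rfl⟩ := mem_qt.1 hy.1
      refine qe_mem_qt ⟨hy1.1, ?_⟩ hy2
      have : ⁅zpowers y, tw P E 1⁆ ≤ Z := by
        rw [← qt_cent_iff (zpowers_le.2 hy2) nZ1, qt_zpowers hy2, zpowers_le]; exact hy.2
      exact norm_of_comm_le' ((commutator_mono le_rfl n0.le).trans (this.trans zE)) (mem_zpowers y)
    rw [← inf_relIndex_left, e4, relIndex_qt inf_le_left nZ] at d2
    exact ((Nat.dvd_prime h.hp).1 d2).resolve_left fun e' => (h.lt_succ e).not_ge (relIndex_eq_one.1 e')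

theorem key {i : ℕ} (g : Good p P E (i + 2)) (e : tw P E (i + 2) ≠ P)
    (ih : ⁅tw P E 1, tw P E 1⁆ ≤ 𝐂 (tw P E (i + 1))) : ⁅tw P E 1, tw P E 1⁆ ≤ 𝐂 (tw P E (i + 2)) := by
  obtain ⟨x, hx, hx'⟩ := SetLike.exists_of_lt (h.lt_succ e)
  obtain ⟨n, r, l⟩ := h.conj g hx hx'
  have ex : cj x (tw P E (i + 2)) = tw P E (i + 2) := cj_eq_self.2 hx.2
  have cW := (h.one fun e' => e (le_antisymm (h.tw_le _) (e'.ge.trans (h.mono (by omega))))).1
  have n0 := h.nrm (i + 1)
  have r0 := g (i + 1) (by omega)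
  have EA : E ≤ tw P E (i + 1) := h.mono (Nat.zero_le _)
  have l1 : tw P E 1 ≤ tw P E (i + 2) := h.mono (by omega)
  have HP := h.tw_le (i + 2)
  set A := tw P E (i + 1)
  set B := cj x A with hB
  set H := tw P E (i + 2)
  set W := ⁅tw P E 1, tw P E 1⁆ with hW
  have dD : ⁅H, H⁆ ≤ B ⊓ A := le_inf (der_le_of_idx h.hp r n) (der_le_of_idx h.hp r0 n0)
  obtain ⟨a, aE, aB, aC⟩ : ∃ a ∈ E, a ∉ B ∧ a ∉ 𝐂 (tw P E 1) := by
    by_contra hc
    push Not at hc
    have := CF.Fgs2.eq_top_of_union (A := (𝐂 (tw P E 1)).subgroupOf E) (B := B.subgroupOf E)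
      (fun y => (em ((y : G) ∈ B)).elim Or.inr fun hy => Or.inl (hc y y.2 hy))
      fun e => l (subgroupOf_eq_top.1 e)
    exact h.not_le_cent (subgroupOf_eq_top.1 this)
  have ca := h.cent1 aE aC
  have sH : B ⊔ zpowers a = H :=
    (eq_or_eq h.hp r le_sup_left (sup_le n.le (zpowers_le.2 (n0.le (EA aE))))).resolve_left
      fun e => aB (e ▸ mem_sup_right (mem_zpowers a))
  have sA : (B ⊓ A) ⊔ zpowers a = A := by
    rw [← sup_inf_right (zpowers_le.2 (EA aE)) (Or.inr (zpowers_le.2 (n.norm (n0.le (EA aE))))), sH,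
      inf_eq_right.2 n0.le]
  have nD : B ⊓ A ⊴ H := n.inf n0
  have nV : 𝐙 (B ⊓ A) ⊴ H := nD.char inf_le_left (norm_center _)
  by_cases c : 𝐙 (B ⊓ A) ≤ 𝐂 A
  · have h1 : cj x W ≤ 𝐂 B := by rw [hB, ← cj_cent]; exact cj_mono _ ih
    have h2 : cj x W ≤ B ⊓ A := by
      refine le_trans ?_ dD
      rw [← ex, ← cj_comm]; exact cj_mono _ (der_mono l1)
    have h3 : cj x W ≤ 𝐂 H := by
      rw [← sH]
      exact le_cent_sup h1 (((le_inf h2 (h1.trans (cent_anti inf_le_left))).trans c).trans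
        (cent_anti (zpowers_le.2 (EA aE))))
    rwa [← ex, ← cj_cent, cj_le_cj] at h3
  obtain ⟨v, hv, hv', hc⟩ := exists_central_mod (h.pi.le HP).nil (N := 𝐙 (B ⊓ A) ⊓ 𝐂 A)
    ⟨inf_le_left.trans nV.le, norm_inf_cent nV.norm n0.norm⟩ nV fun e => c (e.trans inf_le_right)
  have aH := n0.le (EA aE)
  have u1 : ⁅v, a⁆ ≠ 1 := fun e => hv' ⟨hv, by
    rw [← sA, cent_sup, cent_zpowers]
    exact ⟨hv.2, mem_cent1.2 (commutatorElement_eq_one_iff_mul_comm.1 e)⟩⟩
  have uE : ⁅v, a⁆ ∈ E := ca ▸ ⟨HP (nV.le (hc a aH).1), cent_le_cent1 (EA aE) (hc a aH).2⟩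
  have vP : v ∈ P := HP (nV.le hv)
  have v1 : v ∈ tw P E 1 := by
    refine ⟨vP, cj_eq_self.1 (eq_of_card_eq ?_ (card_cj _ _).symm).symm⟩
    show E ≤ cj v E
    have e1 : cj v E = P ⊓ 𝐂₁ (v * a * v⁻¹) := by
      rw [← ca, cj_inf, cj_cent1, cj_eq_self.2 (le_norm_self P vP)]
    rw [e1]
    refine le_inf h.le (le_cent1_iff.2 (h.ab ?_))
    simpa [commutatorElement_def] using E.mul_mem uE aE
  have uW : ⁅v, a⁆ ∈ W := commutator_mem_commutator v1 ((h.nrm 0).le aE)
  rw [← zpowers_eq_of_prime (cW ▸ h.hp) uW u1, zpowers_le, mem_cent]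
  intro y hy
  have c1 := hc y⁻¹⁻¹ (inv_mem (inv_mem hy))
  rw [inv_inv] at c1
  have c2 : ⁅y, a⁆ ∈ B ⊓ A := dD (commutator_mem_commutator hy aH)
  have e1 : y * v * y⁻¹ = ⁅v, y⁆⁻¹ * v := by simp only [commutatorElement_def]; group
  have e2 : y * a * y⁻¹ = ⁅y, a⁆ * a := by simp only [commutatorElement_def]; group
  have e3 : y * ⁅v, a⁆ * y⁻¹ = ⁅y * v * y⁻¹, y * a * y⁻¹⁆ := by simp only [commutatorElement_def]; group
  have k1 : Commute (⁅y, a⁆ * a) ⁅v, y⁆ := mem_cent.1 c1.2 _ (mul_mem c2.2 (EA aE))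
  have k2 : Commute ⁅y, a⁆ v := mem_cent.1 hv.2 _ c2
  have k3 : Commute ⁅v, a⁆ ⁅v, y⁆ := mem_cent.1 c1.2 _ (EA uE)
  have k4 : Commute ⁅y, a⁆ ⁅v, a⁆ := mem_cent.1 (hc a aH).1.2 _ c2
  rw [← mul_inv_eq_iff_eq_mul, e3, e1, e2]
  set w := ⁅v, y⁆
  set d := ⁅y, a⁆
  have e4 : ⁅v, d * a⁆ = ⁅v, a⁆ := by
    have : ⁅v, d * a⁆ = ⁅v, d⁆ * (d * ⁅v, a⁆ * d⁻¹) := by simp only [commutatorElement_def]; group
    rw [this, commutatorElement_eq_one_iff_commute.2 k2.symm, k4.eq]; group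
  have : ⁅w⁻¹ * v, d * a⁆ = w⁻¹ * ⁅v, d * a⁆ * w * ⁅w⁻¹, d * a⁆ := by simp only [commutatorElement_def]; group
  rw [this, e4, commutatorElement_eq_one_iff_commute.2 k1.symm.inv_left, mul_assoc w⁻¹, k3.eq]; group

end Soft

theorem main (i : ℕ) : ∀ {G : Type u} [Group G] [Finite G] {P E : Subgroup G}, Soft p P E → tw P E i ≠ P →
    Good p P E (i + 1) ∧ (tw P E i).lowerCentralSeries (i + 1) = ⊥ ∧
      ⁅tw P E 1, tw P E 1⁆ ≤ 𝐂 (tw P E i) ⊔ (if i = 0 then ⊤ else ⊥) := by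
  induction i with
  | zero =>
    intro G _ _ P E h _
    exact ⟨h.good_one, der_eq_bot.2 h.ab, by simp⟩
  | succ i ih =>
    intro G _ _ P E h e
    have e' : tw P E i ≠ P := fun e' => e (le_antisymm (h.tw_le _) (e'.ge.trans (h.nrm i).le))
    obtain ⟨g, -, c⟩ := ih h e'
    have e1 : tw P E 1 ≠ P := fun e' => e (le_antisymm (h.tw_le _) (e'.ge.trans (h.mono (by omega))))
    obtain ⟨cW, g2⟩ := h.one e1
    have c' : ⁅tw P E 1, tw P E 1⁆ ≤ 𝐂 (tw P E (i + 1)) := by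
      rcases i with _ | i
      · exact (h.pi.le (h.tw_le 1)).cent_of_prime h.hp cW (der_normal _).norm
      · exact h.key g e (by simpa using c)
    set Z := 𝐙 (tw P E (i + 1)) with hZ
    have nZ : tw P E (i + 2) ≤ 𝐍 Z := inf_le_right.trans (norm_center _)
    have nZ' : ∀ j ≤ i + 2, tw P E j ≤ 𝐍 Z := fun j hj => (h.mono hj).trans nZ
    have zE : Z ≤ E := (inf_le_inf (h.tw_le _) (cent_anti (h.mono (Nat.zero_le _)))).trans h.sc
    have zj : ∀ j, Z ≤ tw P E j := fun j => zE.trans (h.mono (Nat.zero_le _))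
    have tq : ∀ j ≤ i + 1, tw (qt Z (tw P E (i + 2))) (qt Z (tw P E 1)) j = qt Z (tw P E (j + 1)) := by
      intro j hj
      induction j with
      | zero => rfl
      | succ j ihj =>
        show _ ⊓ 𝐍 _ = _
        rw [ihj (by omega), ← qt_inf_norm_eq ⟨zj _, nZ' _ (by omega)⟩]
        congr 1
        exact le_antisymm (inf_le_inf_right _ (h.tw_le _)) (le_inf (h.mono (by omega)) inf_le_right)
    have s : Soft p (qt Z (tw P E (i + 2))) (qt Z (tw P E 1)) := by
      refine ⟨h.hp, (h.pi.le (h.tw_le _)).qt Z, qt_mono _ (h.mono (by omega)),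
        (abel_qt_iff (nZ' 1 (by omega))).2 (le_inf ((der_le _).trans (h.mono (by omega))) c'), ?_, ?_⟩
      · intro y hy
        obtain ⟨y, hy1, hy2, rfl⟩ := mem_qt.1 hy.1
        refine qe_mem_qt ⟨h.tw_le _ hy1, ?_⟩ hy2
        have : ⁅zpowers y, tw P E 1⁆ ≤ Z := by
          rw [← qt_cent_iff (zpowers_le.2 hy2) (nZ' 1 (by omega)), qt_zpowers hy2, zpowers_le]; exact hy.2
        exact norm_of_comm_le' ((commutator_mono le_rfl (h.nrm 0).le).trans (this.trans zE)) (mem_zpowers y)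
      · have := tq 1 (by omega)
        change _ ⊓ 𝐍 (qt Z (tw P E 1)) = _ at this
        rw [this, relIndex_qt (zj _) (nZ' _ (by omega))]
        exact g2 1 (by omega)
    obtain ⟨a1, a2, -⟩ := ih s (by
      rw [tq i (by omega), Ne, qt_inj ⟨zj _, nZ' _ (by omega)⟩ ⟨zj _, nZ⟩]
      exact (h.lt_succ e).ne)
    refine ⟨fun j hj => ?_, ?_, le_sup_of_le_left c'⟩
    · rcases Nat.lt_succ_iff_lt_or_eq.1 hj with hj | rfl
      · exact g j hj
      · have := a1 i (by omega)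
        rwa [tq i (by omega), tq (i + 1) le_rfl, relIndex_qt (zj _) nZ] at this
    · rw [tq i (by omega), ← qt_lcs (nZ' _ (by omega)),
        qt_eq_bot ((lcs_le_self _ _).trans (nZ' _ (by omega)))] at a2
      exact comm_eq_bot.2 (a2.trans inf_le_right)

theorem Soft.lower (h : Soft p P E) {i : ℕ} (g : Good p P E i) : (tw P E i).lowerCentralSeries i ≠ ⊥ := by
  intro e
  rcases i with _ | i
  · change E = ⊥ at e
    exact h.not_le_cent (e ▸ bot_le)
  have key : ∀ j ≤ i, (tw P E (i + 1)).lowerCentralSeries (i - j) ≤ tw P E j := by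
    intro j hj
    induction j with
    | zero =>
      exact (le_inf ((lcs_le_self _ _).trans (h.tw_le _))
        ((comm_eq_bot.1 e).trans (cent_anti (h.mono (Nat.zero_le _))))).trans h.sc
    | succ j ih =>
      refine le_inf ((lcs_le_self _ _).trans (h.tw_le _)) (norm_of_comm_le' ?_)
      have := ih (by omega)
      rw [show i - j = i - (j + 1) + 1 by omega] at this
      exact (commutator_mono le_rfl (h.mono (by omega))).trans this
  have := key i le_rfl
  rw [Nat.sub_self] at this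
  exact h.hp.one_lt.ne ((relIndex_eq_one.2 this).symm.trans (g i (by omega)))

theorem Soft.exists_eq (h : Soft p P E) {K : Subgroup G} (a : E ≤ K) (b : K ≤ P) : ∃ j, K = tw P E j := by
  obtain ⟨L, -, ⟨⟨j, rfl⟩, l⟩, m⟩ := exists_maximal (P := fun L => (∃ j, L = tw P E j) ∧ L ≤ K) (H := E) ⟨⟨0, rfl⟩, a⟩
  refine ⟨j, (eq_of_le_of_not_lt l fun lt => ?_).symm⟩
  have e : tw P E j ≠ P := fun e => lt.not_ge (b.trans e.ge)
  exact (h.lt_succ e).ne' (m _ ⟨⟨j + 1, rfl⟩, h.succ_le ((main j h e).1 j (by omega)) lt b⟩ (h.nrm j).le)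

/-- Let P be a finite p-group and E an abelian subgroup of P that contains its centralizer, has index p in its normalizer, and has index at least p² in P. Then the subgroups of P containing E are totally ordered by inclusion, each proper one has index p in its normalizer (so they form the normalizer tower of E, with all steps of index p), and the i-th member of the tower above E has nilpotency class i + 1 whenever it is a proper subgroup of P. -/
theorem result {P : Type*} [Group P] [Finite P] (p : ℕ) [Fact p.Prime] (hP : IsPGroup p P)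
    (E : Subgroup P) (hEab : IsMulCommutative ↥E) (hC : Subgroup.centralizer (E : Set P) ≤ E)
    (hN : (E.subgroupOf (Subgroup.normalizer (E : Set P))).index = p) (hidx : p ^ 2 ≤ E.index) :
    (∀ K L : Subgroup P, E ≤ K → E ≤ L → K ≤ L ∨ L ≤ K) ∧
      (∀ K : Subgroup P, E ≤ K → K ≠ ⊤ → (K.subgroupOf (Subgroup.normalizer (K : Set P))).index = p) ∧
      ∀ (i : ℕ) (K : Subgroup P) [Group.IsNilpotent ↥K], E ≤ K → K ≠ ⊤ → K.index * p ^ i = E.index →
        Group.nilpotencyClass ↥K = i + 1 := by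
  have hp : p.Prime := Fact.out
  have h : Soft p ⊤ E := ⟨hp, piGrp_of_isPGroup hp (hP.to_subgroup ⊤), le_top, Abel.of_comm hEab,
    inf_le_right.trans hC, by rw [top_inf_eq]; exact hN⟩
  refine ⟨fun K L a b => ?_, fun K a e => ?_, fun i K _ a e c => ?_⟩
  · obtain ⟨i, rfl⟩ := h.exists_eq a le_top
    obtain ⟨j, rfl⟩ := h.exists_eq b le_top
    exact (le_total i j).imp (fun l => h.mono l) fun l => h.mono l
  · obtain ⟨i, rfl⟩ := h.exists_eq a le_top
    have := (main i h e).1 i (by omega)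
    change relIndex _ (⊤ ⊓ _) = p at this
    rwa [top_inf_eq] at this
  · obtain ⟨j, rfl⟩ := h.exists_eq a le_top
    obtain ⟨g, c1, -⟩ := main j h e
    have g' : Good p ⊤ E j := fun k hk => g k (by omega)
    have e1 := card_mul_relIndex a
    rw [h.card g'] at e1
    have e2 := relIndex_mul_index a
    rw [Nat.eq_of_mul_eq_mul_left (card_pos' _) e1, ← c, mul_comm] at e2
    obtain rfl : j = i := Nat.pow_right_injective hp.two_le
      (Nat.eq_of_mul_eq_mul_left (Nat.pos_of_ne_zero index_ne_zero_of_finite) e2)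
    have f : ∀ n, (⊤ : Subgroup (tw ⊤ E j)).lowerCentralSeries n = ⊥ ↔ (tw ⊤ E j).lowerCentralSeries n = ⊥ := by
      intro n
      rw [← top_subtype_lowerCentralSeries (tw ⊤ E j) n, map_eq_bot_iff_of_injective _ (subtype_injective _)]
    have h1 := Subgroup.lowerCentralSeries_eq_bot_iff_nilpotencyClass_le.1 ((f _).2 c1)
    have h2 := mt (fun l => (f _).1 (Subgroup.lowerCentralSeries_eq_bot_iff_nilpotencyClass_le.2 l)) (h.lower g')
    omega

end Cfsg.Agent.S3811
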