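import Mathlib
import Cfsg.Statements.S3814
import Cfsg.Agent.Fgs1.NT3

set_option autoImplicit false
open Cfsg

namespace Cfsg.Agent.S3814


/-- A criterion for nonsolvability from element orders: let G be a finite group and σ a set of at least four primes such that for all distinct p, q ∈ σ the product pq is the order of some element of G, while for all pairwise distinct p, q, r ∈ σ no element of G has order pqr. Then G is not solvable. -/
theorem result {G : Type*} [Group G] [Finite G]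
    (σ : Finset ℕ) (hσ : 4 ≤ σ.card) (hprime : ∀ p ∈ σ, p.Prime)
    (h2 : ∀ p ∈ σ, ∀ q ∈ σ, p ≠ q → ∃ g : G, orderOf g = p * q)
    (h3 : ∀ p ∈ σ, ∀ q ∈ σ, ∀ r ∈ σ, p ≠ q → q ≠ r → p ≠ r → ∀ g : G, orderOf g ≠ p * q * r) :
    ¬ Group.IsSolvable G := by
  intro hs
  obtain ⟨τ, hτ, c⟩ := Finset.exists_subset_card_eq hσ
  obtain ⟨p, q, r, s, pq, pr, ps, qr, qs, rs, rfl⟩ := Finset.card_eq_four.1 c
  have m : ∀ a ∈ ({p, q, r, s} : Set ℕ), a ∈ σ := fun a ha => hτ (by simpa using ha)
  have e : ∀ a ∈ ({p, q, r, s} : Set ℕ), ∀ b ∈ ({p, q, r, s} : Set ℕ), a ≠ b →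
      CF.NT.Edge a b (⊤ : Subgroup G) := fun a ha b hb ab =>
    let ⟨g, o⟩ := h2 a (m a ha) b (m b hb) ab
    CF.NT.edge_of_orderOf (hprime a (m a ha)) (hprime b (m b hb)) (x := g) trivial o.symm.dvd
  obtain ⟨g, -, a, ha, b, hb, c, hc, ab, ac, bc, o⟩ := CF.NT.four (M := (⊤ : Subgroup G))
    inferInstance pq pr ps qr qs rs (e p (by simp) q (by simp) pq) (e p (by simp) r (by simp) pr)
    (e p (by simp) s (by simp) ps) (e q (by simp) r (by simp) qr) (e q (by simp) s (by simp) qs)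
    (e r (by simp) s (by simp) rs)
  exact h3 a (m a ha) b (m b hb) c (m c hc) ab bc ac g o

end Cfsg.Agent.S3814
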