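import Cfsg.Statements.S3865
import Cfsg.Agent.PLocal.McS

set_option autoImplicit false
open Cfsg

namespace Cfsg.Agent.S3865

open Subgroup CF.BG CF.BG2 CF.Blk

/-- Let G be a finite group whose Sylow p-subgroup P has order p ^ n with n ≥ 2 and nilpotency class n - 1 (maximal class), whose largest normal subgroup of order prime to p is trivial, and which has no proper normal subgroup of index prime to p. Then either some x ∈ P has a centralizer in G whose order has p-part p ^ 2, or G is quasisimple with centre of order at most p. -/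
theorem result {G : Type*} [Group G] [Finite G] (p : ℕ) [Fact p.Prime] (P : Sylow p G) (n : ℕ) (hP : Nat.card P = p ^ n) (hn : 2 ≤ n) (hmax : Group.nilpotencyClass ↥(P : Subgroup G) = n - 1) (hcore : Cfsg.pPrimeCore p G = ⊥) (hres : ∀ N : Subgroup G, N.Normal → (N.index).Coprime p → N = ⊤) : (∃ x ∈ (P : Subgroup G), (Nat.card (Subgroup.centralizer ({x} : Set G))).factorization p = 2) ∨ (Cfsg.IsQuasisimple G ∧ Nat.card (Subgroup.center G) ≤ p) := by
  have hp : p.Prime := Fact.out
  have s := syl_sylow_top P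
  have l : logn p (♯(P : Subgroup G)) = n := by rw [hP, logn_pow hp]
  by_cases h : ∃ x ∈ (P : Subgroup G), logn p (♯(𝐂₁ x)) ≤ 2
  · obtain ⟨x, hx, h⟩ := h
    refine Or.inl ⟨x, hx, le_antisymm h ?_⟩
    have h1 := CF.Fgs2.sq_dvd_card_centralizer P.isPGroup' (hP ▸ pow_dvd_pow p hn) ⟨x, hx⟩
    refine (pow_dvd_iff_le_logn hp (card_ne_zero' (𝐂₁ x))).1 (h1.trans ?_)
    rw [← card_map_of_injective (P : Subgroup G).subtype_injective]
    refine card_dvd_of_le ?_
    rintro _ ⟨y, hy, rfl⟩
    exact mem_centralizer_singleton_iff.2 (congrArg Subtype.val (mem_centralizer_singleton_iff.1 hy))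
  refine Or.inr (CF.McS.main hp s ⟨?_, ?_⟩ ((pPrimeCore_eq hp).symm.trans hcore) hres fun x hx e => h ⟨x, hx, e⟩)
  · by_contra e
    refine h ⟨1, one_mem _, (logn_card_le le_top).trans ?_⟩
    rw [← s.logn_eq rfl]; omega
  · rw [l, ← top_subtype_lowerCentralSeries, Ne, map_eq_bot_iff_of_injective _ (P : Subgroup G).subtype_injective]
    exact (CF.Fgs2.nilpotencyClass_eq_iff hP hn).1 hmax

end Cfsg.Agent.S3865
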