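import Cfsg.Statements.S3868
import Cfsg.Agent.SolvStr.MinClosed

set_option autoImplicit false
open Cfsg

namespace Cfsg.Agent.S3868

/-- Structure of the non-simple minimal non-p-closed groups. Call a finite group p-closed when its Sylow p-subgroups are normal, and minimal non-p-closed when it is not p-closed but every proper subgroup and every proper quotient is. If such a group G is not simple, then there is a prime q ≠ p such that G has order p · q^e, where e is the multiplicative order of q modulo p, and G has a normal subgroup A of order q^e that is elementary abelian and is a minimal normal subgroup of G (so G is the semidirect product of A by a group of order p acting irreducibly). -/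
theorem result {G : Type*} [Group G] [Finite G] {p : ℕ} [Fact p.Prime]
    (hnc : ¬ Cfsg.IsPClosed p G) (hsub : ∀ H : Subgroup G, H ≠ ⊤ → Cfsg.IsPClosed p ↥H)
    (hquo : ∀ (N : Subgroup G) [N.Normal], N ≠ ⊥ → Cfsg.IsPClosed p (G ⧸ N)) (hns : ¬ IsSimpleGroup G) :
    ∃ q : ℕ, q.Prime ∧ q ≠ p ∧ Nat.card G = p * q ^ orderOf (q : ZMod p) ∧
      ∃ A : Subgroup G, A.Normal ∧ Nat.card ↥A = q ^ orderOf (q : ZMod p) ∧ Cfsg.IsElementaryAbelian q A ∧
        ∀ B : Subgroup G, B.Normal → B ≤ A → B = ⊥ ∨ B = A := by
  open Subgroup CF.Solv CF.SolvStr CF.Transfer in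
  have hp : p.Prime := Fact.out
  obtain ⟨P⟩ : Nonempty (Sylow p G) := inferInstance
  have hPn : ¬ (P : Subgroup G).Normal := fun h => hnc (isPClosed_of_normal P h)
  have hq : ∀ (N : Subgroup G) [N.Normal], N ≠ ⊥ → ((P : Subgroup G) ⊔ N).Normal := by
    intro N _ hN
    rw [← comap_map_mk']
    exact (hquo N hN (P.mapSurjective (QuotientGroup.mk'_surjective N))).comap _
  have h0 : pCore p G = ⊥ := by
    by_contra h
    have := hq _ h
    rw [sup_eq_left.2 (pCore_le_sylow P)] at this
    exact hPn this
  have h1 : ∀ N : Subgroup G, N.Normal → N ≠ ⊤ → (Nat.card N).Coprime p := by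
    intro N hN hN'
    obtain ⟨Q⟩ : Nonempty (Sylow p N) := inferInstance
    have := hsub N hN' Q
    have h2 : (Q : Subgroup N).map N.subtype = ⊥ := by
      rw [eq_bot_iff, ← h0, ← pCore_eq_of_normal_sylow Q, map_pCore_of_normal]
      exact inf_le_left
    exact (hp.coprime_iff_not_dvd.2 ((isSylowIn_map_sylow Q).eq_bot_iff.1 h2)).symm
  have : Nontrivial G := by
    by_contra h
    rw [not_nontrivial_iff_subsingleton] at h
    exact hPn (by rw [Subsingleton.elim (P : Subgroup G) ⊤]; infer_instance)
  obtain ⟨N, hN, hN0, hN1⟩ : ∃ N : Subgroup G, N.Normal ∧ N ≠ ⊥ ∧ N ≠ ⊤ := by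
    by_contra h
    push Not at h
    exact hns ⟨fun N hN => or_iff_not_imp_left.2 (h N hN)⟩
  obtain ⟨A, hA, hAN⟩ := exists_isMinNormal_le N hN0
  have := hA.1
  have hA' : A ≠ ⊤ := fun e => hN1 (top_le_iff.1 (e ▸ hAN))
  refine min_closed_core P hPn h1 hA ?_ hA' fun _ H hH hPH => ?_
  · have h2 : (P : Subgroup G) ⊔ A = ⊤ := by
      by_contra h
      have h3 := inf_eq_bot_of_isPGroup_of_coprime P.isPGroup' (h1 _ (hq A hA.2.1) h)
      rw [inf_eq_left.2 le_sup_left] at h3
      exact hPn (by rw [h3]; infer_instance)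
    refine P.isPGroup'.of_surjective ((QuotientGroup.mk' A).comp (P : Subgroup G).subtype) ?_
    rw [← MonoidHom.range_eq_top, ← MonoidHom.map_range, range_subtype, ← top_le_iff,
      ← map_top_of_surjective _ (QuotientGroup.mk'_surjective A), map_mk'_le_map_mk'_iff, h2]
  · exact (normal_subgroupOf_iff_le_normalizer hPH).1 (hsub H hH (P.subtype hPH))

end Cfsg.Agent.S3868
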