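import Cfsg.Statements.S3869
import Cfsg.Agent.SolvStr.MinClosed

set_option autoImplicit false
open Cfsg

namespace Cfsg.Agent.S3869

/-- Let p and q be distinct primes and G a finite non-abelian group with a normal elementary abelian q-subgroup A that is a minimal normal subgroup of G and has index p. Then A has order q^e with e the multiplicative order of q modulo p, and G is minimal non-p-closed: its Sylow p-subgroups are not normal, while in every proper subgroup and in every proper quotient of G the Sylow p-subgroups are normal. -/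
theorem result {G : Type*} [Group G] [Finite G] {p q : ℕ} [Fact p.Prime] (hq : q.Prime) (hpq : q ≠ p)
    (hna : ¬ IsMulCommutative G) (A : Subgroup G) [A.Normal] (hA : Cfsg.IsElementaryAbelian q A) (hidx : A.index = p)
    (hmin : ∀ B : Subgroup G, B.Normal → B ≤ A → B = ⊥ ∨ B = A) :
    Nat.card ↥A = q ^ orderOf (q : ZMod p) ∧ ¬ Cfsg.IsPClosed p G ∧ (∀ H : Subgroup G, H ≠ ⊤ → Cfsg.IsPClosed p ↥H) ∧
      ∀ (N : Subgroup G) [N.Normal], N ≠ ⊥ → Cfsg.IsPClosed p (G ⧸ N) := by
  open Subgroup CF.Solv CF.SolvStr CF.Transfer in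
  have hp : p.Prime := Fact.out
  have := Fact.mk hq
  have := hA.1
  have hAq := isElementaryAbelian_isPGroup hA
  have hAc : (Nat.card A).Coprime p :=
    coprime_card_of_isPGroup hAq ((Nat.coprime_primes hp hq).2 hpq.symm)
  have hPA : ∀ P : Subgroup G, IsPGroup p P → P ⊓ A = ⊥ := fun P hP =>
    inf_eq_bot_of_isPGroup_of_coprime hP hAc
  have hsup : ∀ P : Subgroup G, IsPGroup p P → P ≠ ⊥ → P ⊔ A = ⊤ := fun P hP h0 => by
    rw [sup_comm]
    exact CF.Solv.sup_eq_top_of_isCoatom (isCoatom_of_index_prime' (hidx ▸ hp)) fun h =>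
      h0 (by rw [← hPA P hP, inf_eq_left.2 h])
  obtain ⟨P⟩ : Nonempty (Sylow p G) := inferInstance
  have hP0 : (P : Subgroup G) ≠ ⊥ := fun e => P.not_dvd_index (by
    rw [e, index_bot, ← hidx]; exact A.index_dvd_card)
  have hP : Nat.card P = p :=
    (index_eq_card_of_inf_sup (hPA _ P.isPGroup') (hsup _ P.isPGroup' hP0)).symm.trans hidx
  have hc : ¬ (P : Subgroup G) ≤ centralizer (A : Set G) := fun h => hna
    (isMulCommutative_of_index_prime (M := A) (fun a ha => by
      have : (⊤ : Subgroup G) ≤ centralizer {a} := by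
        rw [← hsup _ P.isPGroup' hP0]
        exact sup_le (h.trans (centralizer_le (by simpa using ha)))
          ((le_centralizer A).trans (centralizer_le (by simpa using ha)))
      exact mem_center_iff.2 fun g => (this (mem_top g) a rfl).symm) (hidx ▸ hp))
  have hnorm : ∀ P W : Subgroup G, IsPGroup p P → P ≠ ⊥ → W ≤ A → P ≤ normalizer (W : Set G) →
      W = ⊥ ∨ W = A := fun P W hP h0 hW hn => hmin W
    (normal_of_sup_eq_top (hsup P hP h0) hn fun a ha => centralizer_le_normalizer _ fun w hw =>
      mul_comm_of_mem (hW hw) ha) hW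
  refine ⟨card_eq_pow_orderOf hq hA hP le_normalizer_of_normal
    (fun W => hnorm P W P.isPGroup' hP0) hc, fun h => ?_, fun H hH => ?_, fun N _ hN => ?_⟩
  · have := h P
    exact hc (le_centralizer_of_inf_eq_bot (hPA _ P.isPGroup'))
  · by_cases hd : p ∣ Nat.card H
    swap
    · exact isPClosed_of_not_dvd hd
    obtain ⟨S, hS⟩ := exists_isSylowIn p H
    have hS0 : S ≠ ⊥ := fun e => hS.eq_bot_iff.1 e hd
    have h1 : H = S ⊔ A ⊓ H := by
      rw [← sup_inf_assoc A hS.le, hsup S hS.isPGroup hS0, top_inf_eq]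
    rcases hnorm S (A ⊓ H) hS.isPGroup hS0 inf_le_left (CF.Coprime.le_normalizer_inf
      le_normalizer_of_normal (hS.le.trans le_normalizer)) with h | h
    · rw [h, sup_bot_eq] at h1
      exact isPClosed_of_isPGroup (h1 ▸ hS.isPGroup)
    · rw [h, hsup S hS.isPGroup hS0] at h1
      exact absurd h1 hH
  · rcases hmin (A ⊓ N) inferInstance inf_le_left with h | h
    · have h1 : N ⊔ A = ⊤ := by
        rw [sup_comm]
        exact CF.Solv.sup_eq_top_of_isCoatom (isCoatom_of_index_prime' (hidx ▸ hp)) fun h' =>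
          hN (by rw [← h, inf_eq_right.2 h'])
      refine isPClosed_of_not_dvd ?_
      change ¬ p ∣ N.index
      rw [index_eq_card_of_inf_sup h (sup_comm N A ▸ h1)]
      exact hp.coprime_iff_not_dvd.1 hAc.symm
    · have h1 : N.index ∣ p := hidx ▸ index_dvd_of_le (inf_eq_left.1 h)
      obtain ⟨k, -, hk⟩ := (Nat.dvd_prime_pow hp (m := 1)).1 (h1.trans (pow_one p).symm.dvd)
      exact isPClosed_of_isPGroup (IsPGroup.of_card hk)

end Cfsg.Agent.S3869
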