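import Mathlib
import Cfsg.Statements.S3870
import Cfsg.Agent.Solv.Basic
import Cfsg.Agent.Solv.Nilpotent

set_option autoImplicit false
open Cfsg

namespace Cfsg.Agent.S3870


/-- Let G be a finite simple group whose Sylow p-subgroups are not normal but such that every proper subgroup of G has a normal Sylow p-subgroup. Then any two distinct Sylow p-subgroups of G intersect trivially, and for every Sylow p-subgroup P the normalizer of every non-identity subgroup of P lies in the normalizer of P. -/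
theorem result {G : Type*} [Group G] [Finite G] [IsSimpleGroup G] {p : ℕ} [Fact p.Prime]
    (hnc : ¬ Cfsg.IsPClosed p G) (hsub : ∀ H : Subgroup G, H ≠ ⊤ → Cfsg.IsPClosed p ↥H) :
    (∀ P Q : Sylow p G, P ≠ Q → (P : Subgroup G) ⊓ (Q : Subgroup G) = ⊥) ∧
      ∀ (P : Sylow p G) (R : Subgroup G), R ≤ P → R ≠ ⊥ →
        Subgroup.normalizer (R : Set G) ≤ Subgroup.normalizer ((P : Subgroup G) : Set G) := by
  have key : ∀ (R : Subgroup G), R ≠ ⊥ → IsPGroup p R → Subgroup.normalizer (R : Set G) ≠ ⊤ := by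
    intro R h0 hR h
    rcases (Subgroup.normalizer_eq_top_iff.mp h).eq_bot_or_eq_top with h | h
    · exact h0 h
    · apply hnc
      intro P
      have : (P : Subgroup G) = ⊤ := by
        rw [← h]; exact (P.is_maximal' hR (h ▸ le_top)).symm
      rw [this]; infer_instance
  -- in a proper subgroup all `p`-subgroups lie in one `p`-subgroup normalized by it
  have key2 : ∀ H : Subgroup G, H ≠ ⊤ → ∃ Q : Subgroup G, IsPGroup p Q ∧
      H ≤ Subgroup.normalizer (Q : Set G) ∧ Q ≤ H ∧ ∀ A : Subgroup G, IsPGroup p A → A ⊓ H ≤ Q := by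
    intro H hH
    obtain ⟨S⟩ : Nonempty (Sylow p H) := inferInstance
    haveI := hsub H hH S
    refine ⟨(S : Subgroup H).map H.subtype, S.isPGroup'.map _,
      (CF.Solv.normal_map_subtype_iff _).mp this, Subgroup.map_subtype_le _, fun A hA => ?_⟩
    obtain ⟨T, hT⟩ := (hA.comap_subtype (K := H)).exists_le_sylow
    haveI := Sylow.unique_of_normal S this
    rw [Subsingleton.elim T S] at hT
    rw [← Subgroup.subgroupOf_map_subtype]
    exact Subgroup.map_mono hT
  have hTI : ∀ P Q : Sylow p G, P ≠ Q → (P : Subgroup G) ⊓ (Q : Subgroup G) = ⊥ := by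
    by_contra hne
    push Not at hne
    obtain ⟨D, ⟨P, Q, hPQ, rfl, hD⟩, hmax⟩ := Set.Finite.exists_maximal
      (s := {D : Subgroup G | ∃ P Q : Sylow p G, P ≠ Q ∧ D = (P : Subgroup G) ⊓ (Q : Subgroup G) ∧ D ≠ ⊥})
      (Set.toFinite _) (by obtain ⟨P, Q, h1, h2⟩ := hne; exact ⟨_, P, Q, h1, rfl, h2⟩)
    set D := (P : Subgroup G) ⊓ (Q : Subgroup G) with hDdef
    obtain ⟨S, hS, -, hSH, hS2⟩ := key2 _ (key D hD (P.isPGroup'.to_inf_left))
    obtain ⟨T, hT⟩ := hS.exists_le_sylow
    have hlt : ∀ X : Sylow p G, D < X → X = T := by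
      intro X hX
      by_contra hXT
      haveI := X.isPGroup'.isNilpotent
      have h1 := CF.Solv.lt_inf_normalizer_of_isNilpotent hX
      have h2 : (X : Subgroup G) ⊓ Subgroup.normalizer (D : Set G) ≤ (X : Subgroup G) ⊓ T :=
        le_inf inf_le_left ((hS2 _ X.isPGroup').trans hT)
      have h3 : D < (X : Subgroup G) ⊓ T := lt_of_lt_of_le h1 h2
      exact h3.not_ge (hmax ⟨X, T, hXT, rfl, fun h => hD (le_bot_iff.mp (h ▸ h3.le))⟩ h3.le)
    have hP : D < P := lt_of_le_of_ne inf_le_left fun h =>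
      hPQ (Sylow.ext (P.is_maximal' Q.isPGroup' (inf_eq_left.mp h)).symm)
    have hQ : D < Q := lt_of_le_of_ne inf_le_right fun h =>
      hPQ (Sylow.ext (Q.is_maximal' P.isPGroup' (inf_eq_right.mp h)))
    exact hPQ ((hlt P hP).trans (hlt Q hQ).symm)
  refine ⟨hTI, fun P R hR h0 g hg => ?_⟩
  refine Sylow.smul_eq_iff_mem_normalizer.mp ?_
  by_contra hne
  apply h0
  rw [eq_bot_iff, ← hTI _ _ hne]
  refine le_inf ?_ hR
  rw [Sylow.coe_subgroup_smul]
  intro x hx
  rw [CF.Solv.mem_conj_smul_iff]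
  exact hR (by simpa using (Subgroup.mem_normalizer_iff.mp (Subgroup.inv_mem _ hg) x).mp hx)

end Cfsg.Agent.S3870
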