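import Mathlib
import Cfsg.Agent.Fgs2.Regular
import Cfsg.Agent.Fgs2.MaxClass
import Cfsg.Agent.BG.B2
import Cfsg.Statements.S3872

set_option autoImplicit false
open Cfsg

namespace Cfsg.Agent.S3872

open Subgroup CF.Fgs2

theorem closed_iff {G : Type*} [Group G] {p : ℕ} :
    (∃ H : Subgroup G, (H : Set G) = {g : G | g ^ p = 1}) ↔ ∀ x y : G, x ^ p = 1 → y ^ p = 1 → (x * y) ^ p = 1 := by
  constructor
  · rintro ⟨H, hH⟩ x y hx hy
    have h : ∀ z, z ∈ H ↔ z ^ p = 1 := fun z => by rw [← SetLike.mem_coe, hH]; rfl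
    exact (h _).1 (mul_mem ((h _).2 hx) ((h _).2 hy))
  · intro h
    exact ⟨{ carrier := {g | g ^ p = 1}, one_mem' := one_pow _, mul_mem' := fun ha hb => h _ _ ha hb
             inv_mem' := fun {a} ha => by change a⁻¹ ^ p = 1; rw [inv_pow, ha, inv_one] }, rfl⟩

/-- Say that a finite group is p-exponent closed when its elements of order dividing p form a subgroup. Let G be a finite p-group that is not p-exponent closed, but all of whose proper subgroups and proper quotients are. Then G is generated by two elements, has nilpotency class at least p, has exponent p², has cyclic center, and has order at least p^(p+1). -/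
theorem result {G : Type*} [Group G] [Finite G] {p : ℕ} [Fact p.Prime] (hG : IsPGroup p G)
    (hnc : ¬ (∃ H : Subgroup G, (H : Set G) = {g : G | g ^ p = 1})) (hsub : ∀ K : Subgroup G, K ≠ ⊤ → (∃ H : Subgroup ↥K, (H : Set ↥K) = {g : ↥K | g ^ p = 1}))
    (hquo : ∀ (N : Subgroup G) [N.Normal], N ≠ ⊥ → (∃ H : Subgroup (G ⧸ N), (H : Set (G ⧸ N)) = {g : (G ⧸ N) | g ^ p = 1})) :
    (∃ x y : G, Subgroup.closure ({x, y} : Set G) = ⊤) ∧ (⊤ : Subgroup G).lowerCentralSeries (p - 1) ≠ ⊥ ∧
      Monoid.exponent G = p ^ 2 ∧ IsCyclic ↥(Subgroup.center G) ∧ p ^ (p + 1) ≤ Nat.card G := by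
  have hp : p.Prime := Fact.out
  rw [closed_iff] at hnc
  push Not at hnc
  obtain ⟨x, y, hx, hy, hxy⟩ := hnc
  have hgen : closure ({x, y} : Set G) = ⊤ := by
    by_contra h
    exact hxy (congrArg Subtype.val (closed_iff.1 (hsub _ h) ⟨x, subset_closure (by simp)⟩
      ⟨y, subset_closure (by simp)⟩ (Subtype.ext hx) (Subtype.ext hy)))
  have hcl : (⊤ : Subgroup G).lowerCentralSeries (p - 1) ≠ ⊥ := fun h =>
    hxy (reg1_omega_mul G hG (reg1_of_class_lt hp h) x y hx hy)
  have hq : ∀ (N : Subgroup G) [N.Normal], N ≠ ⊥ → ∀ g : G, g ^ p ∈ N := by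
    intro N _ hN g
    obtain ⟨H, hH⟩ := hquo N hN
    have h : ∀ z, z ∈ H ↔ z ^ p = 1 := fun z => by rw [← SetLike.mem_coe, hH]; rfl
    have : (⊤ : Subgroup G) ≤ H.comap (QuotientGroup.mk' N) := by
      rw [← hgen, closure_le]
      rintro _ (rfl | rfl)
      · exact (h _).2 (by rw [← map_pow, hx, map_one])
      · exact (h _).2 (by rw [← map_pow, hy, map_one])
    have := (h _).1 (this (mem_top g))
    rwa [← map_pow, QuotientGroup.mk'_apply, QuotientGroup.eq_one_iff] at this
  have hz : ∀ z ∈ center G, z ^ p = 1 → z ≠ 1 → ∀ g : G, g ^ p ∈ zpowers z := by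
    intro z hz _ h1 g
    have : (zpowers z).Normal := ⟨fun n hn g => by
      rwa [mem_center_iff.1 (zpowers_le.2 hz hn) g, mul_inv_cancel_right]⟩
    exact hq _ (by simpa using h1) g
  have : Nontrivial G := ⟨⟨_, _, hxy⟩⟩
  refine ⟨⟨x, y, hgen⟩, hcl, ?_, ?_, ?_⟩
  · have := hG.center_nontrivial
    obtain ⟨z, hz'⟩ := exists_prime_orderOf_dvd_card' (G := center G) p
      (((hG.to_subgroup _).card_eq_or_dvd).resolve_left Finite.one_lt_card.ne')
    have z1 : (z : G) ^ p = 1 := by rw [← Subgroup.coe_pow, ← hz', pow_orderOf_eq_one]; rfl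
    have z2 : (z : G) ≠ 1 := fun h => by
      rw [show z = 1 from Subtype.ext h, orderOf_one] at hz'; exact hp.one_lt.ne hz'
    have h1 : Monoid.exponent G ∣ p ^ 2 := Monoid.exponent_dvd_of_forall_pow_eq_one fun g => by
      obtain ⟨i, hi⟩ := hz z z.2 z1 z2 g
      rw [sq, pow_mul, ← hi, ← zpow_natCast, ← zpow_mul, mul_comm, zpow_mul, zpow_natCast, z1, one_zpow]
    obtain ⟨i, hi, h⟩ := (Nat.dvd_prime_pow hp).1 h1
    obtain rfl | h2 := hi.eq_or_lt
    · exact h
    · exact absurd (orderOf_dvd_iff_pow_eq_one.1 ((Monoid.order_dvd_exponent _).trans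
        (h ▸ (pow_dvd_pow p (by omega : i ≤ 1)).trans (by simp)))) hxy
  · have : ∀ a b : center G, a ^ p = 1 → b ^ p = 1 → a ≠ 1 → b ∈ zpowers a := by
      intro a b ha hb h1
      by_cases h2 : b = 1
      · exact h2 ▸ one_mem _
      have ha' : (a : G) ^ p = 1 := by simpa using congrArg Subtype.val ha
      have hb' : (b : G) ^ p = 1 := by simpa using congrArg Subtype.val hb
      have h1' : (a : G) ≠ 1 := fun h => h1 (Subtype.ext h)
      have h2' : (b : G) ≠ 1 := fun h => h2 (Subtype.ext h)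
      have e1 := CF.BG.zpowers_eq_of_prime (by rwa [Nat.card_zpowers, orderOf_eq_prime ha' h1']) (hz a a.2 ha' h1' (x * y)) hxy
      have e2 := CF.BG.zpowers_eq_of_prime (by rwa [Nat.card_zpowers, orderOf_eq_prime hb' h2']) (hz b b.2 hb' h2' (x * y)) hxy
      obtain ⟨i, hi⟩ : (b : G) ∈ zpowers (a : G) := by rw [← e1, e2]; exact mem_zpowers _
      exact ⟨i, Subtype.ext (by simpa using hi)⟩
    rcases CF.Solv.isCyclic_or_quaternion (hG.to_subgroup _) this with h | ⟨-, n, hn, ⟨e⟩⟩
    · exact h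
    · exfalso
      have := congrArg e (show e.symm (.a 1) * e.symm (.xa 0) = e.symm (.xa 0) * e.symm (.a 1) from
        Subtype.ext (mem_center_iff.1 (e.symm (.xa 0)).2 _))
      simp only [map_mul, MulEquiv.apply_symm_apply, QuaternionGroup.a_mul_xa, QuaternionGroup.xa_mul_a,
        QuaternionGroup.xa.injEq] at this
      have h2 : ((2 : ℕ) : ZMod (2 * 2 ^ n)) = 0 := by push_cast; linear_combination -this
      rw [ZMod.natCast_eq_zero_iff] at h2
      have := Nat.le_of_dvd (by norm_num) h2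
      have : 2 ^ 1 ≤ 2 ^ n := Nat.pow_le_pow_right (by norm_num) hn
      omega
  · obtain ⟨k, hk⟩ : ∃ k, p = k + 2 := ⟨p - 2, by have := hp.two_le; omega⟩
    have h1 := pow_dvd_index_lcs hG (not_isCyclic_of_lcs_ne_bot (r := k) (by rwa [hk] at hcl)) (r := 0) (Or.inl rfl)
    have h2 := pow_dvd_card_lcs hG (r := 1) (k := k) (by rw [hk] at hcl; rwa [add_comm])
    have h3 := mul_dvd_mul h2 h1
    rw [card_mul_index, ← pow_add] at h3
    exact le_trans (by rw [hk]) (Nat.le_of_dvd Nat.card_pos h3)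

end Cfsg.Agent.S3872
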