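import Cfsg.Statements.S3873
import Cfsg.Agent.SolvStr.MinClosed

set_option autoImplicit false
open Cfsg

namespace Cfsg.Agent.S3873

open Subgroup CF.Solv CF.SolvStr CF.Transfer in
theorem ex_sub {G : Type*} [Group G] {p : ℕ} {K : Subgroup G}
    (h : ∃ H : Subgroup K, (H : Set K) = {g : K | g ^ p = 1}) :
    ∃ W : Subgroup G, ∀ g, g ∈ W ↔ g ∈ K ∧ g ^ p = 1 := by
  obtain ⟨H, hH⟩ := h
  refine ⟨H.map K.subtype, fun g => ⟨?_, fun h => ⟨⟨g, h.1⟩, ?_, rfl⟩⟩⟩
  · rintro ⟨x, hx, rfl⟩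
    rw [hH] at hx
    exact ⟨x.2, congrArg Subtype.val hx⟩
  · rw [hH]; exact Subtype.ext h.2

theorem ex_normal {G : Type*} [Group G] {p : ℕ} {K W : Subgroup G}
    (h : ∀ g, g ∈ W ↔ g ∈ K ∧ g ^ p = 1) {x : G} (hx : x ∈ Subgroup.normalizer (K : Set G)) :
    ∀ g ∈ W, x * g * x⁻¹ ∈ W := fun g hg => by
  rw [h] at hg ⊢
  exact ⟨CF.Transfer.conj_mem_of_mem_normalizer hx hg.1, by rw [conj_pow, hg.2]; simp⟩


/-- Say that a finite group is p-exponent closed when its elements of order dividing p form a subgroup. Let G be a finite group that is not p-exponent closed, but all of whose proper subgroups and proper quotients are, and suppose G is neither simple nor a p-group. Then there is a prime q ≠ p such that G has order p · q^e, where e is the multiplicative order of q modulo p, and G has a normal elementary abelian subgroup of order q^e that is a minimal normal subgroup of G. -/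
theorem result {G : Type*} [Group G] [Finite G] {p : ℕ} [Fact p.Prime]
    (hnc : ¬ (∃ H : Subgroup G, (H : Set G) = {g : G | g ^ p = 1})) (hsub : ∀ K : Subgroup G, K ≠ ⊤ → (∃ H : Subgroup ↥K, (H : Set ↥K) = {g : ↥K | g ^ p = 1}))
    (hquo : ∀ (N : Subgroup G) [N.Normal], N ≠ ⊥ → (∃ H : Subgroup (G ⧸ N), (H : Set (G ⧸ N)) = {g : (G ⧸ N) | g ^ p = 1}))
    (hns : ¬ IsSimpleGroup G) (hnp : ¬ IsPGroup p G) :
    ∃ q : ℕ, q.Prime ∧ q ≠ p ∧ Nat.card G = p * q ^ orderOf (q : ZMod p) ∧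
      ∃ A : Subgroup G, A.Normal ∧ Nat.card ↥A = q ^ orderOf (q : ZMod p) ∧ Cfsg.IsElementaryAbelian q A ∧
        ∀ B : Subgroup G, B.Normal → B ≤ A → B = ⊥ ∨ B = A := by
  open Subgroup CF.Solv CF.SolvStr CF.Transfer in
  have hp : p.Prime := Fact.out
  have hq : ∀ (N : Subgroup G) [N.Normal], N ≠ ⊥ → ∃ W : Subgroup G, W.Normal ∧
      IsPGroup p (W.map (QuotientGroup.mk' N)) ∧ N ≤ W ∧ ∀ g : G, g ^ p = 1 → g ∈ W := by
    intro N _ hN
    obtain ⟨H, hH⟩ := hquo N hN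
    have h1 : ∀ g, g ∈ H ↔ g ∈ (⊤ : Subgroup (G ⧸ N)) ∧ g ^ p = 1 := fun g => by
      rw [← SetLike.mem_coe, hH]; simp
    have : H.Normal := ⟨fun g hg x => ex_normal h1 (le_normalizer (mem_top x)) g hg⟩
    refine ⟨H.comap (QuotientGroup.mk' N), inferInstance, ?_, le_comap_mk' _ _, fun g hg => ?_⟩
    · rw [map_comap_mk']
      exact isPGroup_of_forall_pow_eq_one fun x hx => ((h1 x).1 hx).2
    · rw [mem_comap, h1, ← map_pow, hg, map_one]; simp
  have hW : ∀ W : Subgroup G, (∀ g : G, g ^ p = 1 → g ∈ W) → W = ⊤ := by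
    intro W h
    by_contra hne
    obtain ⟨V, hV⟩ := ex_sub (hsub W hne)
    refine hnc ⟨V, ?_⟩
    ext g
    rw [SetLike.mem_coe, hV]
    exact ⟨fun h => h.2, fun h' => ⟨h g h', h'⟩⟩
  have hq' : ∀ (N : Subgroup G) [N.Normal], N ≠ ⊥ → IsPGroup p (G ⧸ N) := by
    intro N _ hN
    obtain ⟨W, -, h1, -, h2⟩ := hq N hN
    rw [hW W h2, map_top_of_surjective _ (QuotientGroup.mk'_surjective N)] at h1
    exact h1.of_equiv topEquiv
  have h0 : pCore p G = ⊥ := by
    by_contra h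
    have := (pCore_eq_top_iff.2 (hq' _ h)).symm.trans pCore_quotient_pCore
    rw [← map_top_of_surjective _ (QuotientGroup.mk'_surjective _), map_mk'_eq_bot_iff,
      top_le_iff] at this
    exact hnp (pCore_eq_top_iff.1 this)
  have h1 : ∀ N : Subgroup G, N.Normal → N ≠ ⊤ → (Nat.card N).Coprime p := by
    intro N hN hN'
    obtain ⟨V, hV⟩ := ex_sub (hsub N hN')
    have : V.Normal := ⟨fun g hg x => ex_normal hV (le_normalizer_of_normal (mem_top x)) g hg⟩
    have h2 := le_pCore (isPGroup_of_forall_pow_eq_one (N := V) fun x hx => ((hV x).1 hx).2)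
    refine (hp.coprime_iff_not_dvd.2 fun hd => ?_).symm
    obtain ⟨x, hx⟩ := exists_prime_orderOf_dvd_card' p hd
    have h3 := h2 ((hV x).2 ⟨x.2, by rw [← hx, ← coe_pow, pow_orderOf_eq_one, coe_one]⟩)
    rw [h0, mem_bot, OneMemClass.coe_eq_one] at h3
    rw [h3, orderOf_one] at hx
    exact hp.one_lt.ne hx
  obtain ⟨P⟩ : Nonempty (Sylow p G) := inferInstance
  have : Nontrivial G := by
    by_contra h
    rw [not_nontrivial_iff_subsingleton] at h
    exact hnp (IsPGroup.of_card (n := 0) (by simp))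
  obtain ⟨N, hN, hN0, hN1⟩ : ∃ N : Subgroup G, N.Normal ∧ N ≠ ⊥ ∧ N ≠ ⊤ := by
    by_contra h
    push Not at h
    exact hns ⟨fun N hN => or_iff_not_imp_left.2 (h N hN)⟩
  have hPn : ¬ (P : Subgroup G).Normal := fun h => by
    have h2 : (P : Subgroup G) = ⊥ := by rw [← pCore_eq_of_normal_sylow P, h0]
    have : Nontrivial (G ⧸ N) := QuotientGroup.nontrivial_iff.2 hN1
    refine P.not_dvd_index ?_
    rw [h2, index_bot]
    exact ((hq' N hN0).card_eq_or_dvd.resolve_left Finite.one_lt_card.ne').trans N.index_dvd_card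
  obtain ⟨A, hA, hAN⟩ := exists_isMinNormal_le N hN0
  have := hA.1
  have hA' : A ≠ ⊤ := fun e => hN1 (top_le_iff.1 (e ▸ hAN))
  refine min_closed_core P hPn h1 hA (hq' A hA.2.1) hA' fun hP H hH hPH => ?_
  obtain ⟨V, hV⟩ := ex_sub (hsub H hH)
  have h2 : V = P := P.3 (isPGroup_of_forall_pow_eq_one fun x hx => ((hV x).1 hx).2)
    fun x hx => (hV x).2 ⟨hPH hx, orderOf_dvd_iff_pow_eq_one.1
      (hP ▸ (P : Subgroup G).orderOf_dvd_natCard hx)⟩
  intro x hx
  rw [← h2]
  exact mem_normalizer_of_cj_le (cj_le_iff_forall.2 (ex_normal hV (le_normalizer hx)))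

end Cfsg.Agent.S3873
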