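import Cfsg.Statements.S3875
import Cfsg.Agent.Fgs3.SylProd
import Cfsg.Agent.Small.Br5

set_option autoImplicit false
open Cfsg

namespace Cfsg.Agent.S3875

open CF.Fgs3 Subgroup CF.BG

theorem not_closed_iff {p : ℕ} [Fact p.Prime] {H : Type*} [Group H] [Finite H] :
    Cfsg.IsPClosed p H ↔ Nat.card (Sylow p H) = 1 := by
  obtain ⟨P⟩ : Nonempty (Sylow p H) := inferInstance
  constructor
  · intro h
    have := h P
    rw [card_sylow_top P, index_eq_one, normalizer_eq_top]
  · intro h Q
    rw [card_sylow_top Q, index_eq_one] at h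
    exact normalizer_eq_top_iff.1 h

theorem dvd_of_ne_one {p : ℕ} [hp : Fact p.Prime] {H : Type*} [Group H] [Finite H]
    (h : Nat.card (Sylow p H) ≠ 1) : p ∣ Nat.card H := by
  by_contra h1
  refine h (not_closed_iff.1 fun P => ?_)
  have : (P : Subgroup H) = ⊥ := ((syl_sylow_top P).syl_eq_bot_iff hp.out).2 (by rwa [card_top'])
  rw [this]
  infer_instance

theorem simple_bound {p : ℕ} [hp : Fact p.Prime] (hp2 : p ≠ 2) {S : Type*} [Group S] [Finite S]
    (hS : IsSimpleGroup S) (h : Nat.card (Sylow p S) ≠ 1) : p * (p ^ 2 - 1) / 2 ≤ Nat.card S := by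
  by_contra hlt
  rw [not_le] at hlt
  have hd := dvd_of_ne_one h
  have hnc : ¬ IsMulCommutative S := fun hc =>
    h (not_closed_iff.1 fun P => normal_of_isMulCommutative _)
  obtain ⟨P, hP⟩ : ∃ P : Sylow p S, ¬ (P : Subgroup S).Normal := by
    by_contra h'
    refine h (not_closed_iff.1 fun P => ?_)
    by_contra h''
    exact h' ⟨P, h''⟩
  have h3 : Nat.card S < p ^ 3 := by
    have : p * (p ^ 2 - 1) ≤ p ^ 3 := by
      rw [show p ^ 3 = p * p ^ 2 by ring]
      exact Nat.mul_le_mul_left _ (Nat.sub_le _ _)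
    omega
  have hc := CF.Small.concl_of_lt (CF.Small.commutator_eq_top hnc) hd h3 P hP (by
    intro N hN h2
    rcases hN.eq_bot_or_eq_top with rfl | rfl
    · simp at h2
    · rw [card_top, ] at h2
      rw [h2] at hd
      exact hp2 ((Nat.prime_dvd_prime_iff_eq hp.out Nat.prime_two).1 hd))
  rcases hc.psl with ⟨F, _, _, h1, h4, ⟨e⟩⟩ | ⟨m, F, _, _, h1, h2, h4, ⟨e⟩⟩
  · have h5 := CF.Classical.card_PSL_two' (F := F)
    rw [Nat.card_eq_fintype_card (α := F), h1, ← Nat.card_congr e.toEquiv] at h5
    have h6 := Nat.mul_le_mul_right (Nat.card S) (Nat.gcd_le_left (p - 1) two_pos)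
    omega
  · have h5 := CF.Classical.card_PSL_two' (F := F)
    rw [Nat.card_eq_fintype_card (α := F), h1, ← Nat.card_congr e.toEquiv] at h5
    have hm : m ≠ 0 := by rintro rfl; omega
    have h6 : Nat.gcd 2 (2 ^ m - 1) = 1 := by
      refine Nat.coprime_two_left.2 ?_
      have : Even (2 ^ m) := (Nat.even_pow.2 ⟨even_two, hm⟩)
      exact Nat.Even.sub_odd (Nat.one_le_two_pow) this odd_one
    rw [h6, one_mul] at h5
    have h7 : 4 ≤ 2 ^ m := by
      have := hp.out.eq_two_or_odd
      omega
    generalize 2 ^ m = q at *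
    obtain ⟨k, rfl⟩ := Nat.exists_eq_add_of_le h7
    rw [h5, h2, show (4 + k) ^ 2 - 1 = k ^ 2 + 8 * k + 15 from
      Nat.sub_eq_of_eq_add (by ring), show (4 + k + 1) ^ 2 - 1 = k ^ 2 + 10 * k + 24 from
      Nat.sub_eq_of_eq_add (by ring)] at hlt
    have h8 := Nat.div_mul_le_self ((4 + k + 1) * (k ^ 2 + 10 * k + 24)) 2
    nlinarith

theorem exists_affine {p m : ℕ} [hp : Fact p.Prime] (hm : IsPrimePow m) (hm1 : m % p = 1) :
    ∃ (H : Type) (_ : Group H) (_ : Finite H), Nat.card H = p * m ∧ ¬ Cfsg.IsPClosed p H := by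
  obtain ⟨r, k, hr, hk, rfl⟩ := (isPrimePow_nat_iff m).1 hm
  have : Fact r.Prime := ⟨hr⟩
  let F := GaloisField r k
  have hF : Nat.card F = r ^ k := GaloisField.card r k hk.ne'
  have hF' : Nat.card (Multiplicative F) = r ^ k := hF
  have hd : p ∣ Nat.card Fˣ := by
    rw [Nat.card_units, hF]
    exact ⟨r ^ k / p, by have := Nat.div_add_mod (r ^ k) p; omega⟩
  obtain ⟨ζ, hζ⟩ := exists_prime_orderOf_dvd_card' p hd
  let φ : zpowers ζ →* MulAut (Multiplicative F) :=
    { toFun := fun c => AddEquiv.toMultiplicative (DistribMulAction.toAddEquiv F (c : Fˣ))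
      map_one' := by ext; simp
      map_mul' := fun a b => by ext; simp [mul_smul] }
  have hfin : Finite (Multiplicative F ⋊[φ] zpowers ζ) :=
    Finite.of_equiv _ SemidirectProduct.equivProd.symm
  refine ⟨Multiplicative F ⋊[φ] zpowers ζ, inferInstance, hfin, ?_, fun h => ?_⟩
  · rw [SemidirectProduct.card, Nat.card_zpowers, hζ, hF', mul_comm]
  · let g : Multiplicative F ⋊[φ] zpowers ζ := SemidirectProduct.inr ⟨ζ, mem_zpowers ζ⟩
    have hg : g ^ p ^ 1 = 1 := by
      rw [pow_one, ← map_pow, show (⟨ζ, mem_zpowers ζ⟩ : zpowers ζ) ^ p = 1 from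
        Subtype.ext (by simp [← hζ]), map_one]
    obtain ⟨P, hP⟩ := CF.Small.exists_mem_sylow hg
    have hn := h P
    let v : Multiplicative F := Multiplicative.ofAdd 1
    have h1 : SemidirectProduct.inl v * g * (SemidirectProduct.inl v)⁻¹ * g⁻¹ ∈
        (P : Subgroup _) := mul_mem (hn.conj_mem g hP _) (inv_mem hP)
    have h2 : SemidirectProduct.inl v * g * (SemidirectProduct.inl v)⁻¹ * g⁻¹ =
        SemidirectProduct.inl (Multiplicative.ofAdd (1 - (ζ : F))) := by
      ext
      · simp [g, v, φ, sub_eq_add_neg, Units.smul_def]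
      · simp [g, sub_eq_add_neg]
    rw [h2] at h1
    obtain ⟨j, hj⟩ := P.isPGroup' ⟨_, h1⟩
    have h3 : (Multiplicative.ofAdd (1 - (ζ : F))) ^ p ^ j = 1 := by
      apply SemidirectProduct.inl_injective (φ := φ)
      rw [map_pow, map_one]
      exact congrArg Subtype.val hj
    have h4 : orderOf (Multiplicative.ofAdd (1 - (ζ : F))) ∣ r ^ k := by
      rw [← hF']
      exact orderOf_dvd_natCard _
    have h5 : (p ^ j).Coprime (r ^ k) := by
      refine Nat.Coprime.pow_left _ ((Nat.Prime.coprime_iff_not_dvd hp.out).2 fun h => ?_)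
      rw [Nat.mod_eq_zero_of_dvd h] at hm1
      omega
    have h6 := CF.Fgs2.eq_one_of_orderOf_dvd_coprime (orderOf_dvd_of_pow_eq_one h3) h4 h5
    have h7 : ζ = 1 := by
      have : (1 : F) - ζ = 0 := h6
      exact Units.ext (sub_eq_zero.1 this).symm
    rw [h7, orderOf_one] at hζ
    exact (Fact.out : p.Prime).one_lt.ne hζ

/-- Let p be an odd prime and let m be the least prime power congruent to 1 modulo p. Then the least order of a finite group whose Sylow p-subgroups are not normal is the smaller of p · m and p(p² − 1)/2: every finite group whose Sylow p-subgroups are not normal has at least that order, and some group of exactly that order has non-normal Sylow p-subgroups. -/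
theorem result (p : ℕ) [Fact p.Prime] (hp : p ≠ 2) (m : ℕ) (hm : IsPrimePow m) (hm1 : m % p = 1)
    (hleast : ∀ k : ℕ, IsPrimePow k → k % p = 1 → m ≤ k) :
    (∀ (H : Type) [Group H] [Finite H], ¬ Cfsg.IsPClosed p H → min (p * m) (p * (p ^ 2 - 1) / 2) ≤ Nat.card H) ∧
      ∃ (H : Type) (_ : Group H) (_ : Finite H), Nat.card H = min (p * m) (p * (p ^ 2 - 1) / 2) ∧ ¬ Cfsg.IsPClosed p H := by
  have hpp : p.Prime := Fact.out
  constructor
  · intro H _ _ hH
    by_contra hlt
    rw [not_le, lt_min_iff] at hlt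
    have h := sylow_prod_induction (p := p) (fun n => n = 1 ∨ m ≤ n) (Or.inl rfl) ?_
      (fun k h1 h2 => Or.inr (hleast k h1 h2)) H ?_
    · rcases h with h | h
      · exact hH (not_closed_iff.2 h)
      · obtain ⟨P⟩ : Nonempty (Sylow p H) := inferInstance
        have h1 := CF.Small.card_sylow_mul_card_normalizer P
        have h2 : p ∣ Nat.card (normalizer ((P : Subgroup H) : Set H)) :=
          ((syl_sylow_top P).prime_dvd hpp rfl (by
            rw [card_top']; exact dvd_of_ne_one fun h => hH (not_closed_iff.2 h))).trans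
            (card_dvd (le_norm_self _))
        have h3 := Nat.le_of_dvd Nat.card_pos h2
        have h4 := Nat.mul_le_mul h h3
        rw [h1, mul_comm] at h4
        omega
    · have h0 := hm.pos
      rintro a b (rfl | ha) (rfl | hb)
      · exact Or.inl rfl
      · exact Or.inr (by omega)
      · exact Or.inr (by omega)
      · exact Or.inr (by nlinarith)
    · intro S _ _ hS hle
      left
      by_contra h
      have := simple_bound hp hS h
      omega
  · rcases le_or_gt (p * m) (p * (p ^ 2 - 1) / 2) with h | h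
    · rw [min_eq_left h]
      exact exists_affine hm hm1
    · rw [min_eq_right h.le]
      have h4 : 4 ≤ p := by
        by_contra h4
        have h2 := hpp.two_le
        obtain rfl : p = 3 := by omega
        have := hleast 4 ⟨2, 2, Nat.prime_two.prime, two_pos, rfl⟩ rfl
        omega
      have hs := CF.Classical.isSimpleGroup_PSL2 (F := ZMod p) (by rwa [Nat.card_zmod])
      have h5 := CF.Classical.card_PSL_two' (F := ZMod p)
      have h6 : Nat.gcd 2 (p - 1) = 2 :=
        Nat.gcd_eq_left (even_iff_two_dvd.1 (hpp.even_sub_one hp))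
      rw [Nat.card_zmod, h6] at h5
      refine ⟨Matrix.ProjectiveSpecialLinearGroup (Fin 2) (ZMod p), inferInstance, inferInstance,
        by omega, fun hc => ?_⟩
      have hd : p ∣ Nat.card (Matrix.ProjectiveSpecialLinearGroup (Fin 2) (ZMod p)) :=
        ((Nat.coprime_primes hpp Nat.prime_two).2 hp).dvd_of_dvd_mul_left
          (h5 ▸ Dvd.intro _ rfl)
      have h7 := CF.Small.one_lt_card_sylow (p := p) (CF.Small.not_comm_of_not_prime fun h8 => ?_) hd
      · rw [not_closed_iff.1 hc] at h7
        omega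
      · have h9 := (Nat.prime_dvd_prime_iff_eq hpp h8).1 hd
        rw [← h9, mul_comm] at h5
        have h10 := Nat.eq_of_mul_eq_mul_left hpp.pos h5
        have : 16 ≤ p ^ 2 := by nlinarith
        omega

end Cfsg.Agent.S3875
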