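import Mathlib
import Cfsg.Statements.S3889

set_option autoImplicit false
open Cfsg

namespace Cfsg.Agent.S3889


/-- A finite abelian group that is the union of a family of proper subgroups any two of which intersect trivially is elementary abelian: its exponent is a prime. -/
theorem result {G : Type*} [CommGroup G] [Finite G] (𝓑 : Set (Subgroup G)) (hprop : ∀ B ∈ 𝓑, B ≠ ⊤)
    (hcov : ∀ g : G, ∃ B ∈ 𝓑, g ∈ B) (hdisj : ∀ B ∈ 𝓑, ∀ C ∈ 𝓑, B ≠ C → B ⊓ C = ⊥) :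
    (Monoid.exponent G).Prime := by
  have key : ∀ B ∈ 𝓑, ∀ x ∈ B, x ≠ 1 → ∀ y, y ∉ B → orderOf x ∣ orderOf y := by
    intro B hB x hx hx1 y hy
    obtain ⟨D, hD, hxy⟩ := hcov (x * y)
    have hDB : D ≠ B := by
      rintro rfl
      exact hy ((D.mul_mem_cancel_left hx).1 hxy)
    have h1 : x ^ orderOf y ∈ D ⊓ B := by
      refine ⟨?_, B.pow_mem hx _⟩
      have := D.pow_mem hxy (orderOf y)
      rwa [mul_pow, pow_orderOf_eq_one, mul_one] at this
    rw [hdisj D hD B hB hDB, Subgroup.mem_bot] at h1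
    exact orderOf_dvd_of_pow_eq_one h1
  have key2 : ∀ B ∈ 𝓑, ∀ x ∈ B, x ≠ 1 → ∀ y, y ∉ B → orderOf x = orderOf y := by
    intro B hB x hx hx1 y hy
    obtain ⟨C, hC, hyC⟩ := hcov y
    refine Nat.dvd_antisymm (key B hB x hx hx1 y hy) (key C hC y hyC ?_ x ?_)
    · rintro rfl; exact hy B.one_mem
    · intro hxC
      have hne : B ≠ C := by rintro rfl; exact hy hyC
      have : x ∈ B ⊓ C := ⟨hx, hxC⟩
      rw [hdisj B hB C hC hne, Subgroup.mem_bot] at this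
      exact hx1 this
  have hex : ∀ B ∈ 𝓑, ∃ y, y ∉ B := fun B hB => by
    by_contra hc
    push Not at hc
    exact hprop B hB (eq_top_iff.2 fun y _ => hc y)
  obtain ⟨B₀, hB₀, -⟩ := hcov 1
  obtain ⟨x₀, hx₀⟩ := hex B₀ hB₀
  have hx₀1 : x₀ ≠ 1 := by rintro rfl; exact hx₀ B₀.one_mem
  haveI : Nontrivial G := ⟨⟨x₀, 1, hx₀1⟩⟩
  obtain ⟨p, hp, hpd⟩ := Nat.exists_prime_and_dvd (n := orderOf x₀) (by simpa using hx₀1)
  set x := x₀ ^ (orderOf x₀ / p) with hxdef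
  have hx : orderOf x = p := orderOf_pow_orderOf_div (orderOf_pos _).ne' hpd
  have hx1 : x ≠ 1 := by intro h; rw [h, orderOf_one] at hx; exact hp.one_lt.ne hx
  obtain ⟨B, hB, hxB⟩ := hcov x
  obtain ⟨y, hy⟩ := hex B hB
  have : Monoid.exponent G = p := by
    rw [Monoid.exponent_eq_prime_iff hp]
    intro g hg
    by_cases hgB : g ∈ B
    · rw [key2 B hB g hgB hg y hy, ← key2 B hB x hxB hx1 y hy, hx]
    · rw [← key2 B hB x hxB hx1 g hgB, hx]
  rwa [this]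

end Cfsg.Agent.S3889
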