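import Mathlib
import Cfsg.Statements.S3890
import Cfsg.Agent.Fgs1.NilCover
import Cfsg.Agent.Fgs1.Basic
import Cfsg.Agent.S3889

set_option autoImplicit false
open Cfsg

namespace Cfsg.Agent.S3890

open Subgroup CF.Fgs1
open scoped Pointwise

section
variable {G : Type*} [Group G] [Finite G] {p : ℕ} [Fact p.Prime]

theorem sylow_comm (P : Sylow p G) (hab : ∀ a ∈ (P : Subgroup G), ∀ b ∈ (P : Subgroup G),
    a * b = b * a) {K : Subgroup G} (hK : IsPGroup p K) : ∀ a ∈ K, ∀ b ∈ K, a * b = b * a := by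
  obtain ⟨Q, hQ⟩ := hK.exists_le_sylow
  obtain ⟨g, rfl⟩ := MulAction.exists_smul_eq G P Q
  intro a ha b hb
  have := hab _ (CF.Fgs2.mem_sylow_smul_iff.1 (hQ ha)) _ (CF.Fgs2.mem_sylow_smul_iff.1 (hQ hb))
  calc a * b = g * (g⁻¹ * a * g * (g⁻¹ * b * g)) * g⁻¹ := by group
    _ = b * a := by rw [this]; group

theorem comm_of_nil (P : Sylow p G) (hab : ∀ a ∈ (P : Subgroup G), ∀ b ∈ (P : Subgroup G),
    a * b = b * a) {A : Subgroup G} [Group.IsNilpotent A] {x : G} (hxA : x ∈ A)
    (hx : ∃ k, orderOf x = p ^ k) {a : G} (ha : a ∈ A) : a * x = x * a := by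
  obtain ⟨b, hb, c, hc, rfl, -, hk, hcp⟩ := CF.Fgs2.exists_p_decomp p a
  have hbA : b ∈ A := zpowers_le.2 ha hb
  have hcA : c ∈ A := zpowers_le.2 ha hc
  obtain ⟨k, hk'⟩ := hx
  have h1 : Commute c x := CF.Solv.commute_of_coprime_orderOf hcA hxA
    (by rw [hk']; exact ((Nat.Prime.coprime_iff_not_dvd Fact.out).2 hcp).symm.pow_right k)
  have hmem : ∀ y : A, (∃ j, orderOf (y : G) = p ^ j) →
      (y : G) ∈ (Cfsg.pCore p A).map A.subtype := by
    rintro y ⟨j, hj⟩
    rw [Subgroup.orderOf_coe] at hj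
    exact ⟨y, CF.Solv.le_pCore_of_isNilpotent (CF.Fgs2.isPGroup_zpowers_of_orderOf hj)
      (mem_zpowers y), rfl⟩
  have h3 : Commute b x := sylow_comm P hab (CF.Solv.isPGroup_map_pCore A) _ (hmem ⟨b, hbA⟩ hk) _
    (hmem ⟨x, hxA⟩ ⟨k, hk'⟩)
  exact (h3.mul_left h1).eq

theorem eq_of_mem (hZ : center G = ⊥) {𝓐 : Finset (Subgroup G)} (h : IsNilMinCover 𝓐)
    (P : Sylow p G) (hab : ∀ a ∈ (P : Subgroup G), ∀ b ∈ (P : Subgroup G), a * b = b * a)
    {A B : Subgroup G} (hA : A ∈ 𝓐) (hB : B ∈ 𝓐) {x : G} (hxA : x ∈ A) (hxB : x ∈ B)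
    (hx : ∃ k, orderOf x = p ^ k) (hx1 : x ≠ 1) : A = B := by
  haveI := h.2.2 A hA
  haveI := h.2.2 B hB
  refine h.eq_of_le hA hB (M := centralizer ({x} : Set G)) ?_ ?_ ?_
  · intro htop
    apply hx1
    rw [← mem_bot, ← hZ, mem_center_iff]
    intro g
    exact ((mem_centralizer_iff.1 (htop ▸ mem_top g : g ∈ centralizer ({x} : Set G))) x rfl).symm
  · intro a ha
    rw [mem_centralizer_iff]; rintro _ rfl
    exact (comm_of_nil P hab hxA hx ha).symm
  · intro a ha
    rw [mem_centralizer_iff]; rintro _ rfl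
    exact (comm_of_nil P hab hxB hx ha).symm

theorem mem_of_normalizer (P : Sylow p G) {y : G} (hy : y ∈ normalizer ((P : Subgroup G) : Set G))
    (h : ∃ j, orderOf y = p ^ j) : y ∈ (P : Subgroup G) := by
  obtain ⟨j, hj⟩ := h
  have h1 := (CF.Fgs2.isPGroup_zpowers_of_orderOf hj).inf_normalizer_sylow P
  exact (h1.le (⟨mem_zpowers y, hy⟩ : y ∈ zpowers y ⊓ normalizer ((P : Subgroup G) : Set G))).2

theorem centralizer_mem (hZ : center G = ⊥) {𝓐 : Finset (Subgroup G)} (h : IsNilMinCover 𝓐)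
    (P : Sylow p G) (hab : ∀ a ∈ (P : Subgroup G), ∀ b ∈ (P : Subgroup G), a * b = b * a)
    (hP1 : (P : Subgroup G) ≠ ⊥)
    (hne : ¬ ((∀ a ∈ (P : Subgroup G), a ^ p = 1) ∧ p < Nat.card (P : Subgroup G))) :
    centralizer ((P : Subgroup G) : Set G) ∈ 𝓐 := by
  have hord : ∀ x ∈ (P : Subgroup G), ∃ k, orderOf x = p ^ k := fun x hx =>
    CF.Fgs2.orderOf_eq_pow_of_mem P.isPGroup' hx
  have hex : ∃ A ∈ 𝓐, (P : Subgroup G) ≤ A := by
    by_contra hc
    push Not at hc
    apply hne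
    haveI : IsMulCommutative (P : Subgroup G) := isMulCommutative_of_forall hab
    letI : CommGroup (P : Subgroup G) := { mul_comm := IsMulCommutative.is_comm.comm }
    have hexp := Cfsg.Agent.S3889.result (G := (P : Subgroup G))
      ((fun A : Subgroup G => A.subgroupOf P) '' 𝓐) ?_ ?_ ?_
    · have hd : Monoid.exponent (P : Subgroup G) ∣ Nat.card (P : Subgroup G) :=
        Group.exponent_dvd_nat_card
      obtain ⟨k, hk⟩ := P.isPGroup'.exists_card_eq
      rw [hk] at hd
      have he := (Nat.prime_dvd_prime_iff_eq hexp Fact.out).1 (hexp.dvd_of_dvd_pow hd)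
      refine ⟨fun a ha => ?_, ?_⟩
      · have := Monoid.pow_exponent_eq_one (⟨a, ha⟩ : (P : Subgroup G))
        rw [he] at this
        exact congrArg Subtype.val this
      · by_contra hle
        obtain ⟨⟨x, hx⟩, hx1⟩ := ne_bot_iff_exists_ne_one.1 hP1
        obtain ⟨A, hA, hxA⟩ := h.1.2 x
        apply hc A hA
        obtain ⟨j, hj⟩ := hord x hx
        have hj0 : j ≠ 0 := by
          rintro rfl
          exact hx1 (Subtype.ext (orderOf_eq_one_iff.1 (by simpa using hj)))
        have : zpowers x = P := by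
          refine eq_of_le_of_card_le (zpowers_le.2 hx) ?_
          rw [Nat.card_zpowers, hj]
          exact (not_lt.1 hle).trans (Nat.le_self_pow hj0 p)
        rw [← this]
        exact zpowers_le.2 hxA
    · rintro _ ⟨A, hA, rfl⟩
      simp only [Ne, subgroupOf_eq_top]
      exact hc A hA
    · intro g
      obtain ⟨A, hA, hg⟩ := h.1.2 g
      exact ⟨_, ⟨A, hA, rfl⟩, hg⟩
    · rintro _ ⟨A, hA, rfl⟩ _ ⟨B, hB, rfl⟩ hAB
      rw [eq_bot_iff]
      intro x hx
      rw [mem_bot]
      by_contra hx1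
      exact hAB (by
        rw [eq_of_mem hZ h P hab hA hB hx.1 hx.2 (hord _ x.2) fun h => hx1 (Subtype.ext h)])
  obtain ⟨A, hA, hPA⟩ := hex
  haveI := h.2.2 A hA
  suffices centralizer ((P : Subgroup G) : Set G) = A from this ▸ hA
  apply le_antisymm
  · intro c hc
    obtain ⟨b, hb, d, hd, hcbd, -, hk, hdp⟩ := CF.Fgs2.exists_p_decomp p c
    have hbC := zpowers_le.2 hc hb
    have hdC := zpowers_le.2 hc hd
    have hbP := mem_of_normalizer P (centralizer_le_normalizer _ hbC) hk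
    obtain ⟨⟨x, hx⟩, hx1⟩ := ne_bot_iff_exists_ne_one.1 hP1
    obtain ⟨B, hB, hxd⟩ := h.1.2 (x * d)
    have hcm : Commute x d := mem_centralizer_iff.1 hdC x hx
    obtain ⟨j, hj⟩ := hord x hx
    have hcop : (orderOf x).Coprime (orderOf d) := by
      rw [hj]; exact ((Nat.Prime.coprime_iff_not_dvd Fact.out).2 hdp).pow_left j
    have hxB : x ∈ B := zpowers_le.2 hxd (CF.Fgs2.mem_zpowers_mul_left hcm hcop)
    have hdB : d ∈ B := zpowers_le.2 hxd (CF.Fgs2.mem_zpowers_mul_right hcm hcop)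
    have := eq_of_mem hZ h P hab hA hB (hPA hx) hxB ⟨j, hj⟩ fun h => hx1 (Subtype.ext h)
    rw [hcbd]
    exact A.mul_mem (hPA hbP) (this ▸ hdB)
  · intro a ha
    rw [mem_centralizer_iff]
    intro x hx
    exact (comm_of_nil P hab (hPA hx) (hord x hx) ha).symm

theorem core (hZ : center G = ⊥) {𝓐 : Finset (Subgroup G)} (h : IsNilMinCover 𝓐)
    (P : Sylow p G) (hab : ∀ a ∈ (P : Subgroup G), ∀ b ∈ (P : Subgroup G), a * b = b * a)
    (hnn : ¬ (P : Subgroup G).Normal)
    (hne : ¬ ((∀ a ∈ (P : Subgroup G), a ^ p = 1) ∧ p < Nat.card (P : Subgroup G))) :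
    centralizer ((P : Subgroup G) : Set G) ∈ 𝓐 ∧
    (∀ M : Subgroup G, M ≠ ⊤ → centralizer ((P : Subgroup G) : Set G) ≤ M →
      M ≤ normalizer ((P : Subgroup G) : Set G)) ∧
    IsCoatom (normalizer ((P : Subgroup G) : Set G)) ∧
    (∀ g : G, g ∉ normalizer ((P : Subgroup G) : Set G) →
        ¬ p ∣ Nat.card ↥(normalizer ((P : Subgroup G) : Set G) ⊓
          (normalizer ((P : Subgroup G) : Set G)).map (MulAut.conj g).toMonoidHom)) := by
  have hP1 : (P : Subgroup G) ≠ ⊥ := fun h => hnn (h ▸ inferInstance)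
  have hall : ∀ g : G, centralizer (((g • P : Sylow p G) : Subgroup G) : Set G) ∈ 𝓐 := by
    intro g
    refine centralizer_mem hZ h (g • P) (sylow_comm P hab (g • P).isPGroup') ?_ ?_
    · rw [sylow_coe_smul, Ne, Subgroup.map_eq_bot_iff_of_injective _ (MulAut.conj g).injective]
      exact hP1
    · rintro ⟨h1, h2⟩
      apply hne
      rw [sylow_coe_smul] at h1 h2
      rw [card_map_conj] at h2
      refine ⟨fun a ha => ?_, h2⟩
      have := h1 _ (conj_mem_map_conj (g := g) ha)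
      rw [conj_pow] at this
      simpa using this
  have hC := centralizer_mem hZ h P hab hP1 hne
  have hinj : ∀ g : G, centralizer (((g • P : Sylow p G) : Subgroup G) : Set G) =
      centralizer ((P : Subgroup G) : Set G) → g ∈ normalizer ((P : Subgroup G) : Set G) := by
    intro g hg
    rw [← map_conj_eq_self_iff, ← sylow_coe_smul]
    refine eq_of_le_of_card_le (fun x hx => mem_of_normalizer P (centralizer_le_normalizer _ ?_)
      (CF.Fgs2.orderOf_eq_pow_of_mem (g • P).isPGroup' hx)) ?_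
    · rw [← hg, mem_centralizer_iff]
      exact fun y hy => sylow_comm P hab (g • P).isPGroup' y hy x hx
    · rw [sylow_coe_smul, card_map_conj]
  have hM : ∀ M : Subgroup G, M ≠ ⊤ → centralizer ((P : Subgroup G) : Set G) ≤ M →
      M ≤ normalizer ((P : Subgroup G) : Set G) := by
    intro M hM hle m hm
    refine hinj m (h.eq_of_le (hall m) hC hM ?_ hle)
    rw [sylow_coe_smul, centralizer_map_conj]
    exact map_conj_le_of_mem hle hm
  have hNtop : normalizer ((P : Subgroup G) : Set G) ≠ ⊤ := fun h =>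
    hnn (normalizer_eq_top_iff.1 h)
  refine ⟨hC, hM, ⟨hNtop, fun M hlt => ?_⟩, fun g hg hd => ?_⟩
  · by_contra hMt
    exact hlt.not_ge (hM M hMt ((centralizer_le_normalizer _).trans hlt.le))
  · obtain ⟨⟨x, hx⟩, hxo⟩ := exists_prime_orderOf_dvd_card' p hd
    rw [← Subgroup.orderOf_coe] at hxo
    simp only at hxo
    have hx' : ∃ j, orderOf x = p ^ j := ⟨1, by simpa using hxo⟩
    have h1 := mem_of_normalizer P hx.1 hx'
    have h2 := mem_of_normalizer (g • P) (by
      rw [sylow_coe_smul, normalizer_map_conj]; exact hx.2) hx'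
    refine hg (hinj g (eq_of_mem hZ h P hab (hall g) hC (x := x) ?_ ?_ hx' ?_))
    · rw [mem_centralizer_iff]
      exact fun y hy => sylow_comm P hab (g • P).isPGroup' y hy x h2
    · rw [mem_centralizer_iff]
      exact fun y hy => hab y hy x h1
    · rintro rfl
      rw [orderOf_one] at hxo
      exact (Fact.out : p.Prime).one_lt.ne hxo

end


/-- A cover of a group is a finite set of proper subgroups whose union is the whole group; it is minimal when no cover has fewer members, and nilpotent when all its members are nilpotent. Let G be a finite group with trivial center admitting a nilpotent minimal cover 𝓐, and let P be an abelian Sylow p-subgroup of G that is not normal. Then either P is elementary abelian of order greater than p, or P is a Sylow p-subgroup of some member A of 𝓐, the normalizer N of P is a maximal subgroup of G, N meets each of its conjugates by elements outside N in a subgroup of order prime to p, and the centralizer of P equals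 A. -/
theorem result {G : Type*} [Group G] [Finite G] (hZ : Subgroup.center G = ⊥) (𝓐 : Finset (Subgroup G))
    (h𝓐 : ((∀ A ∈ 𝓐, A ≠ ⊤) ∧ (∀ g : G, ∃ A ∈ 𝓐, g ∈ A)) ∧ (∀ 𝓑 : Finset (Subgroup G), (∀ A ∈ 𝓑, A ≠ ⊤) ∧ (∀ g : G, ∃ A ∈ 𝓑, g ∈ A) → 𝓐.card ≤ 𝓑.card) ∧ (∀ A ∈ 𝓐, Group.IsNilpotent ↥A)) {p : ℕ} [Fact p.Prime] (P : Sylow p G) (hab : IsMulCommutative ↥(P : Subgroup G))
    (hnn : ¬ (P : Subgroup G).Normal) :
    (Cfsg.IsElementaryAbelian p (P : Subgroup G) ∧ p < Nat.card ↥(P : Subgroup G)) ∨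
    (∃ A ∈ 𝓐, (P : Subgroup G) ≤ A ∧ ¬ p ∣ ((P : Subgroup G).subgroupOf A).index ∧
      IsCoatom (Subgroup.normalizer ((P : Subgroup G) : Set G)) ∧
      (∀ g : G, g ∉ Subgroup.normalizer ((P : Subgroup G) : Set G) →
        ¬ p ∣ Nat.card ↥(Subgroup.normalizer ((P : Subgroup G) : Set G) ⊓
          (Subgroup.normalizer ((P : Subgroup G) : Set G)).map (MulAut.conj g).toMonoidHom)) ∧
      Subgroup.centralizer ((P : Subgroup G) : Set G) = A) := by
  have hab' : ∀ a ∈ (P : Subgroup G), ∀ b ∈ (P : Subgroup G), a * b = b * a :=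
    fun a ha b hb => comm_of_mem hab ha hb
  by_cases hne : (∀ a ∈ (P : Subgroup G), a ^ p = 1) ∧ p < Nat.card (P : Subgroup G)
  · exact Or.inl ⟨⟨hab, hne.1⟩, hne.2⟩
  · obtain ⟨h1, -, h3, h4⟩ := core hZ h𝓐 P hab' hnn hne
    have hle : (P : Subgroup G) ≤ centralizer ((P : Subgroup G) : Set G) := fun a ha =>
      mem_centralizer_iff.2 fun b hb => hab' b hb a ha
    refine Or.inr ⟨_, h1, hle, fun hd => P.not_dvd_index ?_, h3, h4, rfl⟩
    exact hd.trans (relIndex_dvd_index_of_le hle)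

end Cfsg.Agent.S3890
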