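import Mathlib
import Cfsg.Statements.S3892
import Cfsg.Agent.Fgs1.NilCover
import Cfsg.Agent.Fgs1.PGroup

set_option autoImplicit false
open Cfsg

namespace Cfsg.Agent.S3892

open Subgroup Equiv Equiv.Perm CF.Fgs1

theorem le_centralizer_of_nilpotent {G : Type*} [Group G] [Finite G] {p : ℕ} [hp : Fact p.Prime]
    (h2 : ¬ p ^ 2 ∣ Nat.card G) {A : Subgroup G} [Group.IsNilpotent A] {x : G} (hxA : x ∈ A)
    (hx : orderOf x = p) {a : G} (ha : a ∈ A) : a * x = x * a := by
  obtain ⟨b, hb, c, hc, rfl, -, ⟨k, hk⟩, hcp⟩ := CF.Fgs2.exists_p_decomp p a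
  have hbA : b ∈ A := zpowers_le.2 ha hb
  have hcA : c ∈ A := zpowers_le.2 ha hc
  have h1 : Commute c x := CF.Solv.commute_of_coprime_orderOf hcA hxA
    (by rw [hx]; exact ((Nat.Prime.coprime_iff_not_dvd hp.out).2 hcp).symm)
  have h3 : Commute b x := by
    have hmem : ∀ y : A, (∃ j, orderOf (y : G) = p ^ j) → y ∈ Cfsg.pCore p A := by
      rintro y ⟨j, hj⟩
      rw [Subgroup.orderOf_coe] at hj
      exact CF.Solv.le_pCore_of_isNilpotent (CF.Fgs2.isPGroup_zpowers_of_orderOf hj) (mem_zpowers y)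
    obtain ⟨m, hm⟩ := (CF.Solv.pCore_isPGroup (p := p) (G := A)).exists_card_eq
    have hd : p ^ m ∣ Nat.card G :=
      hm ▸ (card_subgroup_dvd_card _).trans (card_subgroup_dvd_card A)
    have hm1 : m ≤ 1 := by
      by_contra hlt
      exact h2 ((pow_dvd_pow p (by omega)).trans hd)
    have hle : zpowers (⟨x, hxA⟩ : A) ≤ Cfsg.pCore p A :=
      zpowers_le.2 (hmem _ ⟨1, by simpa using hx⟩)
    have heq : zpowers (⟨x, hxA⟩ : A) = Cfsg.pCore p A := by
      refine eq_of_le_of_card_le hle ?_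
      rw [Nat.card_zpowers, ← Subgroup.orderOf_coe, hm]
      simp only [hx]
      calc p ^ m ≤ p ^ 1 := Nat.pow_le_pow_right hp.out.pos hm1
        _ = p := pow_one p
    have := hmem ⟨b, hbA⟩ ⟨k, hk⟩
    rw [← heq] at this
    obtain ⟨i, hi⟩ := this
    have hi' : x ^ i = b := congrArg Subtype.val hi
    rw [← hi']
    exact Commute.zpow_self x i
  exact (h3.mul_left h1).eq

theorem not_cover {G : Type*} [Group G] [Finite G] {p : ℕ} [hp : Fact p.Prime]
    (h2 : ¬ p ^ 2 ∣ Nat.card G) {x y : G} (hx : orderOf x = p) (hy : orderOf y = p)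
    (hxy : y * x ≠ x * y) {M : Subgroup G} (hM : M ≠ ⊤) (hxM : ∀ a, a * x = x * a → a ∈ M)
    (hyM : ∀ a, a * y = y * a → a ∈ M) (𝓐 : Finset (Subgroup G)) : ¬ IsNilMinCover 𝓐 := by
  intro h
  obtain ⟨A, hA, hxA⟩ := h.1.2 x
  obtain ⟨B, hB, hyB⟩ := h.1.2 y
  haveI := h.2.2 A hA
  haveI := h.2.2 B hB
  have := h.eq_of_le hA hB hM (fun a ha => hxM a (le_centralizer_of_nilpotent h2 hxA hx ha))
    (fun a ha => hyM a (le_centralizer_of_nilpotent h2 hyB hy ha))
  subst this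
  exact hxy (le_centralizer_of_nilpotent h2 hxA hx hyB)

theorem gen {n p : ℕ} (hp : p.Prime) (h5 : 5 ≤ p) (hpn : p < n) (hnp : n < 2 * p)
    {G : Type*} [Group G] [Finite G] (φ : G →* Perm (Fin n)) (hφ : Function.Injective φ)
    (hA : ∀ σ : Perm (Fin n), sign σ = 1 → ∃ g, φ g = σ) (𝓐 : Finset (Subgroup G)) :
    ¬ IsNilMinCover 𝓐 := by
  haveI := Fact.mk hp
  have hcard : Nat.card (Perm (Fin n)) = n.factorial := by simp [Fintype.card_perm]
  have h2 : ¬ p ^ 2 ∣ Nat.card G := by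
    intro h
    have h1 := h.trans (card_dvd_of_injective φ hφ)
    rw [hcard, hp.pow_dvd_factorial_iff (b := 2) (Nat.log_lt_of_lt_pow (by omega) (by nlinarith))]
      at h1
    simp only [Nat.Ico_succ_singleton, Finset.sum_singleton, pow_one] at h1
    have := (Nat.le_div_iff_mul_le hp.pos).1 h1
    omega
  obtain ⟨σ, hσ⟩ := exists_prime_orderOf_dvd_card' (G := Perm (Fin n)) p
    (by rw [hcard]; exact (hp.dvd_factorial).2 hpn.le)
  have hσp : σ ^ p = 1 := hσ ▸ pow_orderOf_eq_one σ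
  have hsign : ∀ τ : Perm (Fin n), τ ^ p = 1 → sign τ = 1 := by
    intro τ hτ
    have h1 : sign τ ^ p = 1 := by rw [← map_pow, hτ, map_one]
    rcases Int.units_eq_one_or (sign τ) with h | h
    · exact h
    · rw [h, (hp.odd_of_ne_two (by omega)).neg_one_pow] at h1
      exact absurd h1 (by decide)
  obtain ⟨a, ha⟩ : ∃ a, σ a ≠ a := by
    by_contra hc
    push Not at hc
    have : σ = 1 := Equiv.ext hc
    rw [this, orderOf_one] at hσ
    omega
  have hk : ∀ k, 0 < k → k < p → (σ ^ k) a ≠ a := by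
    intro k hk0 hkp h
    have h1 : Function.IsPeriodicPt σ k a := by
      rwa [Function.IsPeriodicPt, Function.IsFixedPt, ← Equiv.Perm.coe_pow]
    have h3 : Function.IsPeriodicPt σ p a := by
      rw [Function.IsPeriodicPt, Function.IsFixedPt, ← Equiv.Perm.coe_pow, hσp]; rfl
    have := h1.gcd h3
    rw [(Nat.coprime_of_lt_prime hk0.ne' hkp hp).symm] at this
    exact ha this
  have ha2 : σ (σ a) ≠ a := by simpa [pow_succ] using hk 2 (by omega) (by omega)
  have ha3 : σ (σ (σ a)) ≠ a := by simpa [pow_succ] using hk 3 (by omega) (by omega)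
  obtain ⟨b, hb⟩ := exists_fixed_point_of_prime (p := p) (n := 1) (σ := σ) (by
    rw [Fintype.card_fin]
    rintro ⟨c, rfl⟩
    have : 1 < c := by nlinarith
    nlinarith) (by rw [pow_one, hσp])
  set s := swap a (σ a) with hs
  set τ := s * σ * s⁻¹ with hτ
  have hτo : orderOf τ = p := by
    rw [← hσ]; exact CF.Fgs2.orderOf_conj s σ
  obtain ⟨x, hx⟩ := hA σ (hsign σ hσp)
  obtain ⟨y, hy⟩ := hA τ (hsign τ (hτo ▸ pow_orderOf_eq_one τ))
  have hsupp : ∀ i, τ i = i ↔ σ i = i := by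
    intro i
    simp only [hτ, Perm.mul_apply, swap_inv, hs]
    rw [swap_apply_eq_iff]
    by_cases h1 : i = a
    · subst h1; simp [ha, σ.injective.eq_iff]
    by_cases h2 : i = σ a
    · subst h2; simp [ha, σ.injective.eq_iff]
    rw [swap_apply_of_ne_of_ne h1 h2]
  let M : Subgroup G :=
    { carrier := {g | ∀ i, σ (φ g i) = φ g i ↔ σ i = i}
      one_mem' := by simp
      mul_mem' := fun {g h} hg hh i => by
        simp only [map_mul, Perm.mul_apply]; rw [hg, hh]
      inv_mem' := fun {g} hg i => by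
        rw [← hg]; simp }
  refine not_cover h2 (x := x) (y := y) (by rw [← orderOf_injective φ hφ, hx, hσ])
    (by rw [← orderOf_injective φ hφ, hy, hτo]) ?_ (M := M) ?_ ?_ ?_ 𝓐
  · intro h
    have h1 := congrArg (fun g => φ g (σ a)) h
    simp only [map_mul, hx, hy, Perm.mul_apply, hτ, swap_inv, hs] at h1
    rw [swap_apply_of_ne_of_ne ha2 (fun h => ha (σ.injective h)),
      swap_apply_of_ne_of_ne ha3 (fun h => ha2 (σ.injective h)), swap_apply_right,
      swap_apply_right] at h1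
    exact ha2 (σ.injective h1)
  · intro htop
    haveI := alternatingGroup.isPretransitive_of_three_le_card (α := Fin n)
      (by rw [Nat.card_eq_fintype_card, Fintype.card_fin]; omega)
    obtain ⟨⟨ρ, hρ⟩, hρ'⟩ := MulAction.exists_smul_eq (alternatingGroup (Fin n)) a b
    obtain ⟨g, hg⟩ := hA ρ (mem_alternatingGroup.1 hρ)
    have : g ∈ M := htop ▸ mem_top g
    have h1 := this a
    have h2 : ρ a = b := hρ'
    rw [hg, h2] at h1
    exact ha (h1.1 hb)
  · intro g hg i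
    have h1 := congrArg (fun g => φ g i) hg
    simp only [map_mul, hx, Perm.mul_apply] at h1
    rw [← h1, (φ g).injective.eq_iff]
  · intro g hg i
    have h1 := congrArg (fun g => φ g i) hg
    simp only [map_mul, hy, Perm.mul_apply] at h1
    rw [← hsupp, ← hsupp, ← h1, (φ g).injective.eq_iff]

theorem exists_p {n : ℕ} (hn : 6 ≤ n) : ∃ p : ℕ, p.Prime ∧ 5 ≤ p ∧ p < n ∧ n < 2 * p := by
  by_cases h8 : n < 8
  · exact ⟨5, by norm_num, le_rfl, by omega, by omega⟩
  · obtain ⟨p, hp, h1, h2⟩ := Nat.exists_prime_lt_and_le_two_mul (n / 2) (by omega)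
    have : p ≠ 2 * (n / 2) := by
      rintro rfl
      have := hp.eq_one_or_self_of_dvd 2 (Dvd.intro _ rfl)
      omega
    exact ⟨p, hp, by omega, by omega, by omega⟩

theorem alt_ne_top (n : ℕ) : alternatingGroup (Fin (n + 2)) ≠ ⊤ := by
  intro h
  have : swap (0 : Fin (n + 2)) 1 ∈ alternatingGroup (Fin (n + 2)) := h ▸ mem_top _
  rw [mem_alternatingGroup, sign_swap (by simp)] at this
  exact absurd this (by decide)

theorem s4 (𝓐 : Finset (Subgroup (Perm (Fin 4)))) : ¬ IsNilMinCover 𝓐 := by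
  haveI : Fact (Nat.Prime 3) := ⟨by norm_num⟩
  refine not_cover (p := 3) (by simp [Fintype.card_perm, Nat.factorial]) (x := swap 0 1 * swap 1 2)
    (y := swap 0 1 * swap 1 3) (orderOf_eq_prime (by decide) (by decide))
    (orderOf_eq_prime (by decide) (by decide)) (by decide) (alt_ne_top 2) ?_ ?_ 𝓐
  · simp only [mem_alternatingGroup]; decide +kernel
  · simp only [mem_alternatingGroup]; decide +kernel

theorem s5 (𝓐 : Finset (Subgroup (Perm (Fin 5)))) : ¬ IsNilMinCover 𝓐 := by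
  haveI : Fact (Nat.Prime 5) := ⟨by norm_num⟩
  refine not_cover (p := 5) (by simp [Fintype.card_perm, Nat.factorial])
    (x := swap 0 1 * swap 1 2 * swap 2 3 * swap 3 4)
    (y := swap 1 0 * swap 0 2 * swap 2 3 * swap 3 4) (orderOf_eq_prime (by decide) (by decide))
    (orderOf_eq_prime (by decide) (by decide)) (by decide) (alt_ne_top 3) ?_ ?_ 𝓐
  · simp only [mem_alternatingGroup]; decide +kernel
  · simp only [mem_alternatingGroup]; decide +kernel

theorem a5 (𝓐 : Finset (Subgroup (alternatingGroup (Fin 5)))) : ¬ IsNilMinCover 𝓐 := by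
  haveI : Fact (Nat.Prime 3) := ⟨by norm_num⟩
  have h1 : ∀ a : Perm (Fin 5), sign a = 1 → a * (swap 0 1 * swap 1 2) = (swap 0 1 * swap 1 2) * a →
      a 4 = 4 := by decide +kernel
  have h2 : ∀ a : Perm (Fin 5), sign a = 1 → a * (swap 0 1 * swap 1 3) = (swap 0 1 * swap 1 3) * a →
      a 4 = 4 := by decide +kernel
  have hx : (swap 0 1 * swap 1 2 : Perm (Fin 5)) ∈ alternatingGroup (Fin 5) := by
    rw [mem_alternatingGroup]; decide
  have hy : (swap 0 1 * swap 1 3 : Perm (Fin 5)) ∈ alternatingGroup (Fin 5) := by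
    rw [mem_alternatingGroup]; decide
  refine not_cover (p := 3) ?_ (x := ⟨_, hx⟩) (y := ⟨_, hy⟩)
    (by rw [← Subgroup.orderOf_coe]
        exact (orderOf_eq_prime (by decide) (by decide) :
          orderOf (swap 0 1 * swap 1 2 : Perm (Fin 5)) = 3))
    (by rw [← Subgroup.orderOf_coe]
        exact (orderOf_eq_prime (by decide) (by decide) :
          orderOf (swap 0 1 * swap 1 3 : Perm (Fin 5)) = 3))
    (fun h => absurd (show (swap 0 1 * swap 1 3 : Perm (Fin 5)) * (swap 0 1 * swap 1 2) =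
      (swap 0 1 * swap 1 2) * (swap 0 1 * swap 1 3) from congrArg Subtype.val h) (by decide))
    (M := MulAction.stabilizer _ (4 : Fin 5)) ?_ ?_ ?_ 𝓐
  · intro h
    have := h.trans (card_subgroup_dvd_card _)
    simp [Fintype.card_perm, Nat.factorial] at this
  · intro h
    have : (⟨swap 0 1 * swap 1 4, by rw [mem_alternatingGroup]; decide⟩ : alternatingGroup (Fin 5)) ∈
      MulAction.stabilizer (alternatingGroup (Fin 5)) (4 : Fin 5) := h ▸ mem_top _
    exact absurd (show (swap 0 1 * swap 1 4 : Perm (Fin 5)) 4 = 4 from this) (by decide)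
  · exact fun a ha => h1 a a.2 (congrArg Subtype.val ha)
  · exact fun a ha => h2 a a.2 (congrArg Subtype.val ha)


/-- A cover of a group is a finite set of proper subgroups whose union is the whole group; it is minimal when no cover has fewer members, and nilpotent when all its members are nilpotent. The alternating groups of degree at least 5 and the symmetric groups of degree at least 4 have no nilpotent minimal cover. -/
theorem result (n : ℕ) :
    (5 ≤ n → ¬ ∃ 𝓐 : Finset (Subgroup ↥(alternatingGroup (Fin n))), ((∀ A ∈ 𝓐, A ≠ ⊤) ∧ (∀ g : ↥(alternatingGroup (Fin n)), ∃ A ∈ 𝓐, g ∈ A)) ∧ (∀ 𝓑 : Finset (Subgroup ↥(alternatingGroup (Fin n))), (∀ A ∈ 𝓑, A ≠ ⊤) ∧ (∀ g : ↥(alternatingGroup (Fin n)), ∃ A ∈ 𝓑, g ∈ A) → 𝓐.card ≤ 𝓑.card) ∧ (∀ A ∈ 𝓐, Group.IsNilpotent ↥A)) ∧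
    (4 ≤ n → ¬ ∃ 𝓐 : Finset (Subgroup (Equiv.Perm (Fin n))), ((∀ A ∈ 𝓐, A ≠ ⊤) ∧ (∀ g : (Equiv.Perm (Fin n)), ∃ A ∈ 𝓐, g ∈ A)) ∧ (∀ 𝓑 : Finset (Subgroup (Equiv.Perm (Fin n))), (∀ A ∈ 𝓑, A ≠ ⊤) ∧ (∀ g : (Equiv.Perm (Fin n)), ∃ A ∈ 𝓑, g ∈ A) → 𝓐.card ≤ 𝓑.card) ∧ (∀ A ∈ 𝓐, Group.IsNilpotent ↥A)) := by
  constructor
  · rintro hn ⟨𝓐, h⟩
    rcases hn.eq_or_lt with rfl | hn
    · exact a5 𝓐 h
    · obtain ⟨p, hp, h1, h2, h3⟩ := exists_p hn
      exact gen hp h1 h2 h3 (alternatingGroup (Fin n)).subtype (Subgroup.subtype_injective _)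
        (fun σ hσ => ⟨⟨σ, hσ⟩, rfl⟩) 𝓐 h
  · rintro hn ⟨𝓐, h⟩
    rcases hn.eq_or_lt with rfl | hn
    · exact s4 𝓐 h
    rcases (Nat.succ_le_of_lt hn).eq_or_lt with rfl | hn
    · exact s5 𝓐 h
    · obtain ⟨p, hp, h1, h2, h3⟩ := exists_p hn
      exact gen hp h1 h2 h3 (MonoidHom.id _) Function.injective_id (fun σ _ => ⟨σ, rfl⟩) 𝓐 h

end Cfsg.Agent.S3892
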