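import Cfsg.Statements.S3893
import Cfsg.Agent.BN.SzTori

set_option autoImplicit false
open Cfsg

namespace Cfsg.Agent.S3893

/-- A cover of a group is a finite set of proper subgroups whose union is the whole group; it is minimal when no cover has fewer members, and nilpotent when all its members are nilpotent. The Suzuki groups Sz(q), q = 2^(2m+1) with m ≥ 1, have no nilpotent minimal cover. -/
theorem result {F : Type*} [Field F] [Fintype F] (m : ℕ) (hm : 1 ≤ m) (hF : Fintype.card F = 2 ^ (2 * m + 1)) :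
    ¬ ∃ 𝓐 : Finset (Subgroup ↥(Cfsg.Lie.Sz F (2 ^ (m + 1)))), ((∀ A ∈ 𝓐, A ≠ ⊤) ∧ (∀ g : ↥(Cfsg.Lie.Sz F (2 ^ (m + 1))), ∃ A ∈ 𝓐, g ∈ A)) ∧ (∀ 𝓑 : Finset (Subgroup ↥(Cfsg.Lie.Sz F (2 ^ (m + 1)))), (∀ A ∈ 𝓑, A ≠ ⊤) ∧ (∀ g : ↥(Cfsg.Lie.Sz F (2 ^ (m + 1))), ∃ A ∈ 𝓑, g ∈ A) → 𝓐.card ≤ 𝓑.card) ∧ (∀ A ∈ 𝓐, Group.IsNilpotent ↥A) := by
  classical
  have D := CF.BN.Suz.lieD F m hF
  rintro ⟨𝓐, ⟨h1, h2⟩, h3, h4⟩
  obtain ⟨t, ht⟩ := CF.BN.Suz.exists_unit_ne_one (CF.BN.Suz.two_lt_card hm hF)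
  have ht' : D.h t ≠ 1 := (map_ne_one_iff _ D.h_injective).2 ht
  obtain ⟨A, hA, hu⟩ := h2 (D.u 0 1)
  obtain ⟨A', hA', hh⟩ := h2 (D.h t)
  have a := D.le_U_of_isNilpotent (h4 A hA) hu (by simp [D.u_eq_one]) (D.u_mem_U 0 1)
  have b := D.le_H_of_isNilpotent (h4 A' hA') hh ht' (D.h_mem_H t)
  have hne : A' ≠ A := by
    rintro rfl
    exact ht' (D.eq_one_of_mem_U_of_mem_H (a hh) (D.h_mem_H t))
  have := h3 (insert D.B ((𝓐.erase A).erase A')) ⟨by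
    intro X hX
    rcases Finset.mem_insert.1 hX with rfl | hX
    · exact D.B_ne_top
    · exact h1 X (Finset.mem_of_mem_erase (Finset.mem_of_mem_erase hX)), by
    intro g
    obtain ⟨X, hX, hg⟩ := h2 g
    by_cases e : X = A
    · exact ⟨D.B, Finset.mem_insert_self _ _, D.U_le_B (a (e ▸ hg))⟩
    by_cases e' : X = A'
    · exact ⟨D.B, Finset.mem_insert_self _ _, D.H_le_B (b (e' ▸ hg))⟩
    exact ⟨X, Finset.mem_insert_of_mem (Finset.mem_erase.2 ⟨e', Finset.mem_erase.2 ⟨e, hX⟩⟩), hg⟩⟩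
  have c := Finset.card_insert_le D.B ((𝓐.erase A).erase A')
  have d := Finset.card_erase_add_one (Finset.mem_erase.2 ⟨hne, hA'⟩)
  have e := Finset.card_erase_add_one hA
  omega

end Cfsg.Agent.S3893
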