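import Mathlib
import Cfsg.Statements.S3894
import Cfsg.Agent.Fgs1.NilCoverL2

set_option autoImplicit false
open Cfsg

namespace Cfsg.Agent.S3894

open Matrix Subgroup MulAction CF.Fgs1
open scoped MatrixGroups LinearAlgebra.Projectivization

variable {F : Type*} [Field F] {n : ℕ}

/-- The nilpotent shift matrix. -/
def sh (F : Type*) [Field F] (n : ℕ) : Matrix (Fin n) (Fin n) F :=
  Matrix.of fun i j => if (j : ℕ) = i + 1 then 1 else 0

theorem sh_pow_apply (m : ℕ) (i j : Fin n) (h : (sh F n ^ m) i j ≠ 0) : (j : ℕ) = i + m := by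
  induction m generalizing j with
  | zero =>
    rw [pow_zero, Matrix.one_apply] at h
    split_ifs at h with hij
    · simp [hij]
    · exact absurd rfl h
  | succ m ih =>
    rw [pow_succ, Matrix.mul_apply] at h
    obtain ⟨k, -, hk⟩ := Finset.exists_ne_zero_of_sum_ne_zero h
    have h1 := ih k (left_ne_zero_of_mul hk)
    have h2 := right_ne_zero_of_mul hk
    simp only [sh, Matrix.of_apply, ne_eq, ite_eq_right_iff, one_ne_zero, imp_false,
      not_not] at h2
    omega

theorem sh_pow_eq_zero {m : ℕ} (hm : n ≤ m) : sh F n ^ m = 0 := by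
  ext i j
  by_contra h
  have := sh_pow_apply m i j h
  omega

theorem one_add_sh_pow (hn : 0 < n) (p : ℕ) [Fact p.Prime] [CharP F p] :
    (1 + sh F n) ^ p ^ n = 1 := by
  haveI : Nonempty (Fin n) := ⟨⟨0, hn⟩⟩
  rw [add_pow_char_pow_of_commute p n (Commute.one_left _), one_pow,
    sh_pow_eq_zero (Nat.lt_pow_self (Fact.out : p.Prime).one_lt).le, add_zero]

theorem eq_one_of_pow {p k : ℕ} [Fact p.Prime] [CharP F p] {a : F} (h : a ^ p ^ k = 1) : a = 1 := by
  have : (a - 1) ^ p ^ k = 0 := by rw [sub_pow_char_pow, h, one_pow, sub_self]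
  exact sub_eq_zero.1 (pow_eq_zero_iff (pow_pos (Fact.out : p.Prime).pos k).ne' |>.1 this)

theorem mulVec_eq_of_fix {p k : ℕ} [Fact p.Prime] [CharP F p] {M : GL (Fin n) F}
    (hM : M ^ p ^ k = 1) {v : Fin n → F} (hv : v ≠ 0)
    (h : M • Projectivization.mk F v hv = Projectivization.mk F v hv) :
    (M : Matrix (Fin n) (Fin n) F) *ᵥ v = v := by
  rw [Projectivization.smul_mk, Projectivization.mk_eq_mk_iff'] at h
  obtain ⟨a, ha⟩ := h
  have hpow : ∀ m : ℕ, (M ^ m) • v = a ^ m • v := by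
    intro m
    induction m with
    | zero => simp
    | succ m ih => rw [pow_succ, mul_smul, ← ha, smul_comm, ih, smul_smul, pow_succ']
  have h1 := hpow (p ^ k)
  rw [hM, one_smul] at h1
  have h2 : (a ^ p ^ k - 1) • v = 0 := by rw [sub_smul, one_smul, ← h1, sub_self]
  have h3 := eq_one_of_pow (sub_eq_zero.1 ((smul_eq_zero.1 h2).resolve_right hv))
  rw [h3, one_smul] at ha
  exact ha.symm

theorem mk_eq_single {v : Fin n → F} (hv : v ≠ 0) (i : Fin n) (h : ∀ j, j ≠ i → v j = 0) :
    Projectivization.mk F v hv = Projectivization.mk F (Pi.single i 1) (by simp) := by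
  rw [Projectivization.mk_eq_mk_iff']
  refine ⟨v i, ?_⟩
  ext j
  by_cases hj : j = i
  · subst hj; simp
  · simp [hj, h j hj]

/-- The inverse transpose automorphism. -/
def tau : GL (Fin n) F →* GL (Fin n) F where
  toFun g := ⟨((g⁻¹ : GL (Fin n) F) : Matrix (Fin n) (Fin n) F)ᵀ, (g : Matrix (Fin n) (Fin n) F)ᵀ,
    by rw [← transpose_mul, Units.mul_inv, transpose_one],
    by rw [← transpose_mul, Units.inv_mul, transpose_one]⟩
  map_one' := by apply Units.ext; simp
  map_mul' g h := by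
    apply Units.ext
    change (((g * h)⁻¹ : GL (Fin n) F) : Matrix (Fin n) (Fin n) F)ᵀ = _ * _
    rw [_root_.mul_inv_rev, Units.val_mul, transpose_mul]

theorem tau_inv_val (g : GL (Fin n) F) :
    ((tau g⁻¹ : GL (Fin n) F) : Matrix (Fin n) (Fin n) F) = (g : Matrix (Fin n) (Fin n) F)ᵀ := by
  change (((g⁻¹)⁻¹ : GL (Fin n) F) : Matrix (Fin n) (Fin n) F)ᵀ = _
  rw [inv_inv]

theorem not_nilMinCover_three [Fintype F] (hn : 3 ≤ n) (G : Subgroup PGL(n, F))
    (hG : ∀ s : SL(n, F), ProjGenLinGroup.mk (SpecialLinearGroup.toGL s) ∈ G)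
    (𝓐 : Finset (Subgroup G)) : ¬ IsNilMinCover 𝓐 := by
  classical
  intro h
  haveI : Finite PGL(n, F) := Finite.of_surjective _ Matrix.ProjGenLinGroup.mk_surjective
  obtain ⟨p, hchar, m, hp, hm⟩ := FiniteField.card' F
  haveI := Fact.mk hp
  have hX : ¬ p ∣ Nat.card (ℙ F (Fin n → F)) := by
    rw [Projectivization.card_of_finrank (k := F) (V := Fin n → F) (n := n) (by simp),
      show n = (n - 1) + 1 by omega, Finset.sum_range_succ', pow_zero, Nat.card_eq_fintype_card, hm]
    intro hd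
    refine hp.one_lt.ne' (Nat.dvd_one.1 ((Nat.dvd_add_right ?_).1 hd))
    exact Finset.dvd_sum fun i _ => (dvd_pow_self p m.ne_zero).trans (dvd_pow_self _ (by omega))
  have hxp := one_add_sh_pow (F := F) (n := n) (by omega) p
  let x : SL(n, F) := ⟨1 + sh F n, eq_one_of_pow (p := p) (k := n) (by rw [← det_pow, hxp, det_one])⟩
  let xg : GL (Fin n) F := SpecialLinearGroup.toGL x
  have hxg : xg ^ p ^ n = 1 := Units.ext (by rw [Units.val_pow_eq_pow_val]; exact hxp)
  let i0 : Fin n := ⟨0, by omega⟩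
  let i1 : Fin n := ⟨1, by omega⟩
  let il : Fin n := ⟨n - 1, by omega⟩
  let e : Fin n → ℙ F (Fin n → F) := fun i => Projectivization.mk F (Pi.single i 1) (by simp)
  have hxfix : ∀ w : ℙ F (Fin n → F), xg • w = w → w = e i0 := by
    intro w hw
    induction w using Projectivization.ind with | _ v hv =>
    have h1 : (1 + sh F n) *ᵥ v = v := mulVec_eq_of_fix hxg hv hw
    rw [add_mulVec, one_mulVec, add_eq_left] at h1
    refine mk_eq_single hv i0 fun j hj => ?_
    have hj0 : (j : ℕ) ≠ 0 := fun h => hj (Fin.ext h)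
    have := congrFun h1 ⟨j - 1, by omega⟩
    simp only [mulVec, dotProduct, sh, Matrix.of_apply, ite_mul, one_mul, zero_mul,
      Pi.zero_apply] at this
    rw [Finset.sum_eq_single j (fun b _ hb => if_neg fun h => hb (Fin.ext (by omega)))
      (fun h => absurd (Finset.mem_univ _) h), if_pos (by omega)] at this
    exact this
  have hxfix' : ∀ w : ℙ F (Fin n → F), tau xg⁻¹ • w = w → w = e il := by
    intro w hw
    induction w using Projectivization.ind with | _ v hv =>
    have h1 := mulVec_eq_of_fix (p := p) (k := n) (by rw [← map_pow, inv_pow, hxg, inv_one, map_one])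
      hv hw
    rw [tau_inv_val] at h1
    change (1 + sh F n)ᵀ *ᵥ v = v at h1
    rw [transpose_add, transpose_one, add_mulVec, one_mulVec, add_eq_left] at h1
    refine mk_eq_single hv il fun j hj => ?_
    have hj0 : (j : ℕ) ≠ n - 1 := fun h => hj (Fin.ext h)
    have hjn := j.2
    have := congrFun h1 ⟨j + 1, by omega⟩
    simp only [mulVec, dotProduct, sh, Matrix.of_apply, transpose_apply, ite_mul, one_mul, zero_mul,
      Pi.zero_apply] at this
    rw [Finset.sum_eq_single j (fun b _ hb => if_neg fun h => hb (Fin.ext (by omega)))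
      (fun h => absurd (Finset.mem_univ _) h), if_pos rfl] at this
    exact this
  have hl1 : il ≠ i1 := fun h => by have := congrArg Fin.val h; simp only [il, i1] at this; omega
  have h01 : i0 ≠ i1 := fun h => by have := congrArg Fin.val h; simp [i0, i1] at this
  have h0l : i0 ≠ il := fun h => by have := congrArg Fin.val h; simp only [il, i0] at this; omega
  let g : SL(n, F) := SpecialLinearGroup.transvection hl1 1
  let gg : GL (Fin n) F := SpecialLinearGroup.toGL g
  have hgv : (gg : Matrix (Fin n) (Fin n) F) = Matrix.transvection il i1 1 := rfl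
  have hg0 : gg • e i0 = e i0 := by
    simp only [e, Projectivization.smul_mk]
    congr 1
    change (gg : Matrix (Fin n) (Fin n) F) *ᵥ _ = _
    rw [hgv, Matrix.transvection, add_mulVec, one_mulVec, add_eq_left]
    ext j
    simp [mulVec, dotProduct, Matrix.single, Pi.single_apply, h01.symm]
  have hgl : tau gg⁻¹ • e il ≠ e il := by
    intro hh
    simp only [e, Projectivization.smul_mk, Projectivization.mk_eq_mk_iff'] at hh
    obtain ⟨a, ha⟩ := hh
    change _ = ((tau gg⁻¹ : GL (Fin n) F) : Matrix (Fin n) (Fin n) F) *ᵥ _ at ha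
    rw [tau_inv_val, hgv] at ha
    have := congrFun ha i1
    simp [Matrix.transvection, mulVec, dotProduct, Matrix.single, Pi.single_apply, hl1, hl1.symm,
      Matrix.one_apply] at this
  let xG : G := ⟨_, hG x⟩
  let gG : G := ⟨_, hG g⟩
  have hsm : ∀ (s : GL (Fin n) F) (w : ℙ F (Fin n → F)), (ProjGenLinGroup.mk s) • w = s • w := by
    intro s w
    induction w using Projectivization.ind with | _ v hv => rfl
  have hxGp : xG ^ p ^ n = 1 := by
    apply Subtype.ext
    change (ProjGenLinGroup.mk xg) ^ p ^ n = 1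
    rw [← map_pow, hxg, map_one]
  have hxGfix : ∀ w : ℙ F (Fin n → F), xG • w = w → w = e i0 := fun w hw =>
    hxfix w ((hsm xg w).symm.trans hw)
  have hgG0 : gG • e i0 = e i0 := (hsm gg _).trans hg0
  obtain ⟨A, hA, hxA⟩ := h.1.2 xG
  obtain ⟨B, hB, hyB⟩ := h.1.2 (gG⁻¹ * xG * gG)
  haveI := h.2.2 A hA
  haveI := h.2.2 B hB
  have hAle : A ≤ stabilizer G (e i0) := fun a ha =>
    smul_eq_of_nilpotent hX hxA hxGp hxGfix ha
  have hBle : B ≤ stabilizer G (e i0) := fun a ha =>
    smul_eq_of_nilpotent (k := n) hX hyB (by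
      have := conj_pow (a := gG⁻¹) (b := xG) (i := p ^ n)
      rw [inv_inv] at this
      rw [this, hxGp]; simp) (fun w hw => by
      rw [mul_smul, mul_smul, inv_smul_eq_iff] at hw
      have := hxGfix _ hw
      rw [← hgG0] at this
      exact smul_left_cancel gG this) ha
  have hst : stabilizer G (e i0) ≠ ⊤ := by
    intro htop
    let t : SL(n, F) := SpecialLinearGroup.transvection h01.symm 1
    have : (⟨_, hG t⟩ : G) • e i0 = e i0 := mem_stabilizer_iff.1 (htop ▸ mem_top _)
    have h2 : SpecialLinearGroup.toGL t • e i0 = e i0 := (hsm _ _).symm.trans this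
    simp only [e, Projectivization.smul_mk, Projectivization.mk_eq_mk_iff'] at h2
    obtain ⟨a, ha⟩ := h2
    change _ = Matrix.transvection i1 i0 (1 : F) *ᵥ _ at ha
    have := congrFun ha i1
    simp [Matrix.transvection, mulVec, dotProduct, Matrix.single, Pi.single_apply, h01, h01.symm,
      Matrix.one_apply] at this
  have hAB := h.eq_of_le hA hB hst hAle hBle
  subst hAB
  -- lift to `GL` and apply the inverse transpose
  let K : Subgroup (GL (Fin n) F) := (A.map G.subtype).comap ProjGenLinGroup.mk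
  haveI := CF.Solv.isNilpotent_map G.subtype A
  haveI : Group.IsNilpotent K := by
    haveI : Group.IsNilpotent (K.map (ProjGenLinGroup.mk : GL (Fin n) F →* PGL(n, F))) :=
      CF.Solv.isNilpotent_of_le (map_comap_le _ _)
    refine CF.Solv.isNilpotent_of_map_of_inf_ker_le (f := ProjGenLinGroup.mk) ?_
    rw [ProjGenLinGroup.ker_mk]
    intro z hz
    exact center_le_centralizer _ hz.2
  haveI := CF.Solv.isNilpotent_map tau K
  have hxK : xg ∈ K := ⟨xG, hxA, rfl⟩
  have hyK : gg⁻¹ * xg * gg ∈ K := ⟨_, hyB, by simp [xG, gG, xg, gg]⟩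
  have h1 := smul_eq_of_nilpotent (A := K.map tau) (k := n) hX
    (mem_map_of_mem tau (K.inv_mem hxK)) (by rw [← map_pow, inv_pow, hxg, inv_one, map_one]) hxfix'
    (mem_map_of_mem tau (K.inv_mem hyK))
  rw [show (gg⁻¹ * xg * gg)⁻¹ = gg⁻¹ * xg⁻¹ * gg by group, map_mul, map_mul, mul_smul, mul_smul,
    map_inv, inv_smul_eq_iff] at h1
  have h2 := hxfix' _ h1
  apply hgl
  rw [map_inv, inv_smul_eq_iff, h2]


/-- A cover of a group is a finite set of proper subgroups whose union is the whole group; it is minimal when no cover has fewer members, and nilpotent when all its members are nilpotent. Let F be a finite field with q elements and n ≥ 3, or n = 2 and q ≥ 4. Then no subgroup of PGL_n(F) = GL_n(F)/Z(GL_n(F)) containing the image of SL_n(F) has a nilpotent minimal cover. -/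
theorem result {F : Type*} [Field F] [Fintype F] (n : ℕ) (hn : 3 ≤ n ∨ (n = 2 ∧ 4 ≤ Fintype.card F))
    (G : Subgroup (GL (Fin n) F ⧸ Subgroup.center (GL (Fin n) F)))
    (hG : ((Matrix.SpecialLinearGroup.toGL : Matrix.SpecialLinearGroup (Fin n) F →* GL (Fin n) F).range).map
      (QuotientGroup.mk' (Subgroup.center (GL (Fin n) F))) ≤ G) :
    ¬ ∃ 𝓐 : Finset (Subgroup ↥G), ((∀ A ∈ 𝓐, A ≠ ⊤) ∧ (∀ g : ↥G, ∃ A ∈ 𝓐, g ∈ A)) ∧ (∀ 𝓑 : Finset (Subgroup ↥G), (∀ A ∈ 𝓑, A ≠ ⊤) ∧ (∀ g : ↥G, ∃ A ∈ 𝓑, g ∈ A) → 𝓐.card ≤ 𝓑.card) ∧ (∀ A ∈ 𝓐, Group.IsNilpotent ↥A) := by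
  rintro ⟨𝓐, h𝓐⟩
  rcases hn with hn | ⟨rfl, hq⟩
  · exact not_nilMinCover_three hn G (fun s => hG ⟨_, ⟨s, rfl⟩, rfl⟩) 𝓐 h𝓐
  · refine not_nilMinCover_L2 hq G ?_ 𝓐 h𝓐
    rintro _ ⟨s, rfl⟩
    exact hG ⟨_, ⟨s, rfl⟩, rfl⟩

end Cfsg.Agent.S3894
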