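import Cfsg.Statements.S3930
import Cfsg.Agent.Crit.Inv3
-- import your own Cfsg.Agent.* helpers here

set_option autoImplicit false
open Cfsg

namespace Cfsg.Agent.S3930

/-- Call a finite group m-pyramidal when it has exactly m involutions and they form a single conjugacy class. Let p be an odd prime and k ≥ 1. Then every p^k-pyramidal finite group is solvable if and only if k is odd or p^k = 9. -/
theorem result (p k : ℕ) (hp : p.Prime) (hp2 : p ≠ 2) (hk : 1 ≤ k) :
    (∀ (G : Type) [Group G] [Finite G], Nat.card {x : G // orderOf x = 2} = p ^ k →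
      (∀ x y : G, orderOf x = 2 → orderOf y = 2 → ∃ g : G, g * x * g⁻¹ = y) → Group.IsSolvable G) ↔ (Odd k ∨ p ^ k = 9) := by
  have : Fact p.Prime := ⟨hp⟩
  refine ⟨fun h => ?_, fun h G _ _ h1 hc => ?_⟩
  · by_contra! hn
    obtain ⟨j, rfl⟩ := Nat.not_odd_iff_even.1 hn.1
    have hj : j ≠ 0 := by omega
    have hc := GaloisField.card p j hj
    obtain ⟨G, _, _, h1, h2, h3⟩ := CF.Crit.Inv.counter (GaloisField p j) (fun e => hp2
      ((Nat.prime_dvd_prime_iff_eq hp Nat.prime_two).1
        ((CharP.cast_eq_zero_iff (GaloisField p j) p 2).1 (by exact_mod_cast e)))) (by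
      rw [hc]
      have h3 : 3 ≤ p := by have := hp.two_le; omega
      have h4 : p ^ 1 ≤ p ^ j := Nat.pow_le_pow_right hp.pos (by omega)
      have h5 : p ^ j ≠ 3 := fun e => hn.2 (by rw [pow_add, e]; rfl)
      rw [pow_one] at h4
      omega)
    exact h3 (h G (by rw [h1, hc, pow_add, pow_two]) h2)
  · rcases h with h | h
    · by_contra hs
      obtain ⟨⟨t, ht⟩⟩ := (Nat.card_pos_iff.1 (h1 ▸ pow_pos hp.pos k)).1
      refine Nat.not_even_iff_odd.2 h (CF.Crit.Inv.main hp hp2 G t k ht ?_ hc hs).2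
      rw [← h1, ← CF.Invol.card_isConj_eq_index]
      exact Nat.card_congr (Equiv.subtypeEquivRight fun x => ⟨fun e => by
        obtain ⟨g, rfl⟩ := isConj_iff.1 e
        exact ((MulAut.conj g).orderOf_eq t).trans ht, fun e => isConj_iff.2 (hc _ _ ht e)⟩)
    · exact CF.Crit.Inv.sol_nine (h1.trans h) hc

end Cfsg.Agent.S3930
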