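import Cfsg.Statements.S4017
import Cfsg.Agent.S3188
import Cfsg.Agent.Fgs3.MinNPC
import Cfsg.Agent.Classical.PSL2
import Cfsg.Agent.BG2.P4c

set_option autoImplicit false
open Cfsg

namespace Cfsg.Agent.S4017
open CF.BG Subgroup
open scoped commutatorElement Pointwise
open CF.BG CF.BG2 CF.Classical Subgroup Matrix in
theorem psl {F : Type} [Field F] [Fintype F] {p : ℕ} (hp : p.Prime) (hp2 : p ≠ 2)
    (hF : ((Fintype.card F % 8 = 3 ∨ Fintype.card F % 8 = 5) ∧ 5 ≤ Fintype.card F) ∨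
      ∃ n : ℕ, 2 ≤ n ∧ Fintype.card F = 2 ^ n) :
    ∃ D : Subgroup (ProjectiveSpecialLinearGroup (Fin 2) F),
      2 ∣ ♯D ∧ ¬ p ∣ ♯D ∧ ∀ k, ♯D ≠ 2 ^ k := by
  have L := isL2_PSL F (AlgebraicClosure F)
  have ex : ∀ n, 1 < n → (n * Nat.gcd 2 (Nat.card F - 1) = Nat.card F - 1 ∨
      n * Nat.gcd 2 (Nat.card F - 1) = Nat.card F + 1) →
      ∃ D : Subgroup (ProjectiveSpecialLinearGroup (Fin 2) F), ♯D = 2 * n := fun n h1 h => by
    obtain ⟨x, y, hxy, e⟩ := L.exists_torus_card (n := n) (by rwa [index_range_pslToPGL])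
    obtain ⟨t, h1, h2⟩ := (L.torus_cases hxy fun b => by rw [b, card_bot] at e; omega).1
    exact ⟨_, by rw [card_pairStab hxy h1 h2, e]⟩
  have key : ∀ n, ¬ p ∣ n → (∀ k, n ≠ 2 ^ k) →
      (∃ D : Subgroup (ProjectiveSpecialLinearGroup (Fin 2) F), ♯D = 2 * n) →
      ∃ D : Subgroup (ProjectiveSpecialLinearGroup (Fin 2) F),
        2 ∣ ♯D ∧ ¬ p ∣ ♯D ∧ ∀ k, ♯D ≠ 2 ^ k := fun n h1 h2 ⟨D, hD⟩ => by
    refine ⟨D, hD ▸ dvd_mul_right _ _, fun d => ?_, fun k e => ?_⟩
    · rw [hD] at d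
      exact h1 ((hp.dvd_mul.1 d).resolve_left fun d =>
        hp2 ((Nat.prime_dvd_prime_iff_eq hp Nat.prime_two).1 d))
    · obtain ⟨j, -, hj⟩ := (Nat.dvd_prime_pow Nat.prime_two).1 (e ▸ Dvd.intro_left 2 hD.symm)
      exact h2 j hj
  have pw : ∀ n k, n = 2 ^ k → n = 1 ∨ n = 2 ∨ 4 ∣ n := fun n k e => by
    rcases k with _ | _ | k
    exacts [Or.inl e, Or.inr (Or.inl e), Or.inr (Or.inr ⟨2 ^ k, by rw [e]; ring⟩)]
  have nd : ∀ a d, d ≤ 2 → 0 < d → ¬ p ∣ a ∨ ¬ p ∣ a + d := fun a d h1 h2 => by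
    by_contra c
    push Not at c
    have := Nat.le_of_dvd h2 ((Nat.dvd_add_right c.1).1 c.2)
    have := hp.two_le
    omega
  rw [← Nat.card_eq_fintype_card] at hF
  rcases hF with ⟨h8, h5⟩ | ⟨n, hn, e⟩
  · obtain ⟨m, hm⟩ : ∃ m, Nat.card F = 2 * m + 1 := ⟨Nat.card F / 2, by omega⟩
    have g : Nat.gcd 2 (Nat.card F - 1) = 2 := by rw [hm]; simp
    rw [g] at ex
    by_cases m2 : m = 2
    · by_cases p5 : p = 5
      · exact key 3 (by rw [p5]; decide) (fun k e => by have := pw _ k e; omega)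
          (ex 3 (by omega) (by omega))
      · have := L.card_stabilizer_ratPt (OnePoint.infty)
        rw [index_range_pslToPGL, g] at this
        refine key 5 (fun d => p5 ((Nat.prime_dvd_prime_iff_eq hp (by decide)).1 d))
          (fun k e => by have := pw _ k e; omega) ⟨_, Nat.eq_of_mul_eq_mul_right two_pos
            (this.trans (by rw [hm, m2]; rfl))⟩
    · rcases nd m 1 (by omega) one_pos with d | d
      · exact key m d (fun k e => by have := pw _ k e; omega) (ex m (by omega) (by omega))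
      · exact key _ d (fun k e => by have := pw _ k e; omega) (ex (m + 1) (by omega) (by omega))
  · obtain ⟨m, hm⟩ : 4 ∣ Nat.card F := e ▸ pow_dvd_pow 2 hn
    have : 0 < Nat.card F := Nat.card_pos
    have g : Nat.gcd 2 (Nat.card F - 1) = 1 := Nat.coprime_two_left.2 (by
      rw [← Nat.not_even_iff_odd, even_iff_two_dvd]; omega)
    rw [g] at ex
    rcases nd (Nat.card F - 1) 2 le_rfl two_pos with d | d
    · exact key _ d (fun k e => by have := pw _ k e; omega) (ex _ (by omega) (by omega))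
    · exact key _ d (fun k e => by have := pw _ k e; omega) (ex _ (by omega) (by omega))

open CF.BG2 in

/-- Let G be a finite group and let p and q be distinct primes dividing the order of G, with p odd. Suppose that p divides the order of every proper subgroup of G that is neither a q-group nor of order prime to q. Let q^a be the q-part of the order of G. If p > q^a − 1, or if p = q^a − 1 and the Sylow p-subgroups of G are abelian, then p and q are the only primes dividing the order of G. -/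
theorem result {G : Type*} [Group G] [Finite G]
    {p q : ℕ} (hp : p.Prime) (hq : q.Prime) (hpq : p ≠ q) (hp2 : p ≠ 2)
    (hpG : p ∣ Nat.card G) (hqG : q ∣ Nat.card G)
    (hmix : ∀ H : Subgroup G, H ≠ ⊤ → ¬ IsPGroup q H → q ∣ Nat.card H → p ∣ Nat.card H)
    (hlarge : q ^ (Nat.card G).factorization q - 1 < p ∨
      (p = q ^ (Nat.card G).factorization q - 1 ∧ ∀ P : Sylow p G, IsMulCommutative P)) :
    ∀ r : ℕ, r.Prime → r ∣ Nat.card G → r = p ∨ r = q := by
  intro r hr hrG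
  by_contra c
  push Not at c
  have hm : ∀ H : Subgroup G, ¬ PiGrp {q} H → q ∣ ♯H → p ∣ ♯H := fun H h1 h2 => by
    by_cases t : H = ⊤
    · rwa [t, card_top]
    · exact hmix H t (fun h => h1 (piGrp_of_isPGroup hq h)) h2
  have pair : ∀ {s : ℕ} {A B : Subgroup G}, s ≠ q → PiGrp {q} A → PiGrp {s} B → A ≠ ⊥ → B ≠ ⊥ →
      (A ≤ 𝐍 B ∨ B ≤ 𝐍 A) → s = p := fun {s A B} ne hA hB a b n => by
    have k : PiGrp {q, s} (A ⊔ B) := (hA.of_single (by simp)).sup (hB.of_single (by simp)) n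
    have := k p hp (hm _ (fun h => ne ((h.le le_sup_right) s (hB.prime b) (hB.dvd_card b)))
      ((hA.dvd_card a).trans (card_dvd_of_le le_sup_left)))
    exact (this.resolve_left hpq).symm
  obtain ⟨Q, hQ⟩ := exists_syl q (⊤ : Subgroup G)
  have q0 := hQ.syl_ne_bot hq (by simpa using hqG)
  have inv : ∀ {s : ℕ} {K : Subgroup G}, K.Normal → PiGrp {q}ᶜ K → s.Prime → s ∣ ♯K → s = p :=
    fun {s K} n k hs d => by
    obtain ⟨R, hR, nR⟩ := exists_syl_inv (A := Q) (K := K) (le_top.trans (normalizer_eq_top _).ge)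
      (hQ.pi.coprime k) (Or.inl hQ.pi.sol) s
    exact pair (k s hs d) hQ.pi hR.pi q0 (hR.syl_ne_bot hs d) (Or.inl nR)
  have nn : ¬ NPC q (⊤ : Subgroup G) := fun h =>
    c.1 (inv (normalIn_top.1 (O_normal _ _)) h.pi hr
      (h.prime_dvd hr c.2 (by simpa using hrG)))
  obtain ⟨X, x0, hX, g, gn, hg, gc⟩ : ∃ X : Subgroup G, X ≠ ⊥ ∧ PiGrp {q} X ∧ ∃ g ∈ 𝐍 X,
      PiElt {q}ᶜ g ∧ g ∉ 𝐂 X := by
    by_contra h
    push Not at h
    exact nn (CF.Fgs3.npc_of_cent hq fun X _ a b g _ => h X a b g)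
  have gp : PiGrp {p} (zpowers g) := fun s hs d => by
    obtain ⟨R, hR⟩ := exists_syl s (zpowers g)
    exact pair (hg.zpowers s hs d) hX hR.pi x0 (hR.syl_ne_bot hs d)
      (Or.inr (hR.le.trans (zpowers_le.2 gn)))
  have cq : ♯Q = q ^ (Nat.card G).factorization q := by
    have := Fact.mk hq
    obtain ⟨S, rfl⟩ := hQ.exists_sylow_top
    exact S.card_eq_multiplicity
  have lp : ♯Q ≤ p + 1 := by rw [cq]; omega
  have lx : ♯X ≤ ♯Q := hQ.card_le le_top hX
  have big : ∀ Y : Subgroup G, g ∈ 𝐍 Y → ¬ Y ≤ 𝐂 (zpowers g) → p + ♯(Y ⊓ 𝐂 (zpowers g)) ≤ ♯Y :=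
    fun Y n h => by
    have a := card_modEq_card_cent hp gp (zpowers_le.2 n)
    have b : ♯(Y ⊓ 𝐂 (zpowers g)) < ♯Y := card_lt (inf_lt_left.2 h)
    have := Nat.le_of_dvd (by omega) ((Nat.modEq_iff_dvd' b.le).1 a.symm)
    omega
  have b1 := big X gn fun h => gc (le_centralizer_iff.1 h (mem_zpowers g))
  have pos : 0 < ♯(X ⊓ 𝐂 (zpowers g)) := Nat.card_pos
  have cb : X ⊓ 𝐂 (zpowers g) = ⊥ := card_eq_one.1 (by omega)
  have b2 := big (𝐙 X) (norm_center X gn) fun h => hX.center_ne_bot x0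
    (eq_bot_iff.2 (cb ▸ le_inf inf_le_left h))
  have pos2 : 0 < ♯(𝐙 X ⊓ 𝐂 (zpowers g)) := Nat.card_pos
  have ab : Abel X := (eq_of_le_of_card_ge (inf_le_left : 𝐙 X ≤ X) (by omega)).ge.trans inf_le_right
  obtain rfl : q = 2 := by
    refine hq.eq_two_or_odd'.resolve_right fun o => ?_
    have a : Odd (♯Q) := cq ▸ o.pow
    have b := hp.odd_of_ne_two hp2
    obtain ⟨_, _⟩ := a
    obtain ⟨_, _⟩ := b
    omega
  obtain ⟨S, hS⟩ := (hQ.of_card le_top (K := X) (by omega)).exists_sylow_top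
  rcases Cfsg.Agent.S3188.result S (hS ▸ abel_iff.1 ab) (fun t ht => by
    refine CF.Char.isSolvable_of_card_primeFactors_le_two ((Finset.card_le_card (t := {2, p})
      fun s hs => ?_).trans Finset.card_le_two)
    have s1 := Nat.prime_of_mem_primeFactors hs
    obtain ⟨y, hy, oy⟩ := exists_mem_orderOf_eq s1 (Nat.dvd_of_mem_primeFactors hs)
    by_cases e : s = 2
    · simp [e]
    · have := pair e (piGrp_of_card_prime hq (by rw [Nat.card_zpowers, ht]))
        (piGrp_of_card_prime s1 (by rw [Nat.card_zpowers, oy]))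
        (zpowers_ne_bot.2 fun e => by simp [e] at ht)
        (zpowers_ne_bot.2 fun e => s1.one_lt.ne (by simpa [e] using oy))
        (Or.inr (zpowers_le.2 (centralizer_le_normalizer _ (by rwa [cent_zpowers]))))
      simp [this]) with s | ⟨F, _, _, hF, N, -, ⟨e⟩, -⟩
  · obtain ⟨H, hH⟩ := Sol.exists_hall (M := (⊤ : Subgroup G)) inferInstance {2, r}
    have := hH.pi p hp (hm H (fun h => c.2 (h r hr (hH.prime_dvd hr (by simp) (by simpa using hrG))))
      (hH.prime_dvd hq (by simp) (by simpa using hqG)))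
    exact c.1 (this.resolve_left hpq).symm
  · obtain ⟨D, d2, dp, dk⟩ := psl hp hp2 hF
    let E := (D.map e.symm.toMonoidHom).map N.subtype
    have cE : ♯E = ♯D := by
      rw [card_map_of_injective N.subtype_injective,
        card_map_of_injective (f := e.symm.toMonoidHom) e.symm.injective]
    have k : PiGrp {p} (oddCore G) := fun s hs d => inv inferInstance
      (by rw [oddCore, pPrimeCore_eq hq]; exact O_pi _ _) hs d
    have l : oddCore G ≤ E.comap (QuotientGroup.mk' _) := fun x hx => by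
      rw [mem_comap, QuotientGroup.mk'_apply, (QuotientGroup.eq_one_iff x).2 hx]; exact one_mem _
    have ri : (oddCore G).relIndex (E.comap (QuotientGroup.mk' _)) = ♯D := by
      have := relIndex_comap ⊥ (QuotientGroup.mk' (oddCore G)) (E.comap (QuotientGroup.mk' _))
      rw [MonoidHom.comap_bot, QuotientGroup.ker_mk', relIndex_bot_left,
        map_comap_eq_self_of_surjective (QuotientGroup.mk'_surjective _)] at this
      rw [this, cE]
    obtain ⟨H, hH, -⟩ := (syl_mk hp l k (ri ▸ dp)).exists_compl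
      (le_top.trans (normalizer_eq_top _).ge)
    have cH : ♯H = ♯D := by rw [← hH.relIndex_left, ri]
    exact dp (cH ▸ hm H (fun h => by obtain ⟨j, hj⟩ := h.card_pow; exact dk j (cH ▸ hj)) (cH ▸ d2))

end Cfsg.Agent.S4017
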