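import Mathlib
import Cfsg.Statements.S4018
import Cfsg.Agent.Fgs1.Friendship
import Cfsg.Agent.Fgs1.Basic
import Cfsg.Agent.Fgs2.Basic
import Cfsg.Agent.Invol.Count
import Cfsg.Agent.Invol.Dihedral
import Cfsg.Agent.Transfer.Frobenius
import Cfsg.Agent.Solv.Basic

set_option autoImplicit false
open Cfsg

namespace Cfsg.Agent.S4018

open Subgroup

theorem mul_mem_of_relIndex_two {G : Type*} [Group G] {H K : Subgroup G} (h : H.relIndex K = 2)
    {a b : G} (ha : a ∈ K) (hb : b ∈ K) (ha' : a ∉ H) (hb' : b ∉ H) : a * b ∈ H := by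
  have := (mul_mem_iff_of_index_two (H := H.subgroupOf K) h (a := ⟨a, ha⟩) (b := ⟨b, hb⟩)).2
    (by simp only [mem_subgroupOf]; tauto)
  simpa [mem_subgroupOf] using this

theorem comm_of_card_four {G : Type*} [Group G] (S : Subgroup G) (h4 : Nat.card S = 4) :
    ∀ a ∈ S, ∀ b ∈ S, a * b = b * a := by
  intro a ha b hb
  haveI : Fact (Nat.Prime 2) := ⟨Nat.prime_two⟩
  have := IsPGroup.commutative_of_card_eq_prime_sq (p := 2) (G := S) (by simpa using h4)
    ⟨a, ha⟩ ⟨b, hb⟩
  exact congrArg Subtype.val this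

theorem invol_conj {G : Type*} [Group G] [Finite G] [IsSimpleGroup G] (S : Sylow 2 G)
    (h4 : Nat.card (S : Subgroup G) = 4) (h3 : 3 ∣ Nat.card G) :
    ∀ a ∈ (S : Subgroup G), a ≠ 1 → ∀ b ∈ (S : Subgroup G), b ≠ 1 → IsConj a b := by
  have hcomm := comm_of_card_four _ h4
  have hNC : ¬ normalizer ((S : Subgroup G) : Set G) ≤ centralizer ((S : Subgroup G) : Set G) := by
    intro h
    obtain ⟨Q, K, hK, hc⟩ := CF.Transfer.burnside_hasNPC S h
    have hQ : Nat.card (Q : Subgroup G) = 4 := by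
      rw [← h4, Sylow.card_eq_multiplicity, Sylow.card_eq_multiplicity]
    have e := hc.card_mul
    rcases hK.eq_bot_or_eq_top with rfl | rfl
    · rw [card_bot, hQ] at e
      rw [← e] at h3
      omega
    · rw [card_top, hQ] at e
      have := Nat.card_pos (α := G)
      omega
  obtain ⟨g, hgN, hgC⟩ := Set.not_subset.1 hNC
  have : ∃ x ∈ (S : Subgroup G), x * g ≠ g * x := by
    by_contra hc
    push Not at hc
    exact hgC (mem_centralizer_iff.2 hc)
  obtain ⟨x, hx, hxg⟩ := this
  have hx1 : x ≠ 1 := by rintro rfl; simp at hxg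
  set NS := normalizer ((S : Subgroup G) : Set G) with hNS
  have hcard := CF.Fgs2.card_conj_subgroup NS x
  have hodd : ¬ 2 ∣ (centralizer ({x} : Set G)).relIndex NS := by
    intro h2
    apply S.not_dvd_index
    refine h2.trans ((relIndex_dvd_of_le_left NS (H := (S : Subgroup G)) ?_).trans
      (relIndex_dvd_index_of_le le_normalizer))
    intro y hy
    rw [mem_centralizer_iff]
    rintro _ rfl
    exact hcomm _ hx _ hy
  have hne1 : (centralizer ({x} : Set G)).relIndex NS ≠ 1 := by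
    rw [Ne, relIndex_eq_one]
    intro h
    exact hxg ((mem_centralizer_iff.1 (h hgN)) x rfl)
  have hsub : {y : G | ∃ k ∈ NS, k * x * k⁻¹ = y} ⊆ ((S : Subgroup G) : Set G) \ {1} := by
    rintro _ ⟨k, hk, rfl⟩
    refine ⟨CF.Fgs1.conj_mem_of_mem_normalizer hk hx, ?_⟩
    simpa using hx1
  have h3' : (((S : Subgroup G) : Set G) \ {1}).ncard = 3 := by
    rw [Set.ncard_diff_singleton_of_mem (S : Subgroup G).one_mem, ← Nat.card_coe_set_eq]
    change Nat.card (S : Subgroup G) - 1 = 3
    rw [h4]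
  have hle := Set.ncard_le_ncard hsub
  have hc' : {y : G | ∃ k ∈ NS, k * x * k⁻¹ = y}.ncard =
      (centralizer ({x} : Set G)).relIndex NS := by
    rw [← hcard, ← Nat.card_coe_set_eq]; rfl
  have heq := Set.eq_of_subset_of_ncard_le hsub (by rw [h3', hc'] at *; omega)
  intro a ha ha1 b hb hb1
  have h1 : a ∈ {y : G | ∃ k ∈ NS, k * x * k⁻¹ = y} := heq ▸ ⟨ha, ha1⟩
  have h2 : b ∈ {y : G | ∃ k ∈ NS, k * x * k⁻¹ = y} := heq ▸ ⟨hb, hb1⟩
  obtain ⟨k, -, hk⟩ := h1
  obtain ⟨l, -, hl⟩ := h2
  exact (isConj_iff.2 ⟨k, hk⟩ : IsConj x a).symm.trans (isConj_iff.2 ⟨l, hl⟩)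

theorem main {G : Type*} [Group G] [Finite G] [IsSimpleGroup G]
    (P : Sylow 3 G) (hab : ∀ a ∈ (P : Subgroup G), ∀ b ∈ (P : Subgroup G), a * b = b * a)
    (A N : Subgroup G) (hA : A = centralizer ((P : Subgroup G) : Set G))
    (hN' : N = normalizer ((P : Subgroup G) : Set G))
    (hN : Nat.card N = 4 * Nat.card (P : Subgroup G))
    (hC : Nat.card A = 2 * Nat.card (P : Subgroup G))
    (hTI : ∀ g, g ∉ normalizer (A : Set G) → ∀ x ∈ A, g * x * g⁻¹ ∈ A → x = 1)
    (heven : ∀ H : Subgroup G, H ≠ ⊤ → 2 ∣ Nat.card H →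
      Nat.card H ∣ 4 * Nat.card (P : Subgroup G)) : False := by
  haveI : Fact (Nat.Prime 3) := ⟨Nat.prime_three⟩
  haveI : Fact (Nat.Prime 2) := ⟨Nat.prime_two⟩
  have hPA : (P : Subgroup G) ≤ A := fun a ha => by
    rw [hA, mem_centralizer_iff]; exact fun b hb => hab b hb a ha
  have hAN : A ≤ N := by rw [hA, hN']; exact centralizer_le_normalizer _
  have hAc : ∀ c ∈ A, ∀ y ∈ (P : Subgroup G), y * c = c * y := fun c hc y hy => by
    rw [hA] at hc; exact mem_centralizer_iff.1 hc y hy
  obtain ⟨k, hk⟩ := P.isPGroup'.exists_card_eq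
  have hpos : 0 < Nat.card (P : Subgroup G) := Nat.card_pos
  have hnodd : ¬ 2 ∣ Nat.card (P : Subgroup G) := by
    rw [hk]; intro h
    have := Nat.prime_two.dvd_of_dvd_pow h
    omega
  have hNA : ¬ N ≤ A := fun h => by
    have := card_le_of_le h
    omega
  have hk0 : k ≠ 0 := by
    rintro rfl
    apply hNA
    have hb : (P : Subgroup G) = ⊥ := eq_bot_of_card_eq _ (by simpa using hk)
    intro x _
    rw [hA, hb, mem_centralizer_iff]
    intro y hy
    rw [SetLike.mem_coe, mem_bot] at hy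
    simp [hy]
  have h3P : 3 ∣ Nat.card (P : Subgroup G) := hk ▸ dvd_pow_self 3 hk0
  have h3 : 3 ∣ Nat.card G := h3P.trans (card_subgroup_dvd_card _)
  have h4 : 4 ∣ Nat.card G := (Dvd.intro _ hN.symm).trans (card_subgroup_dvd_card N)
  have hz : ∀ z : G, z ≠ 1 → normalizer ((zpowers z : Subgroup G) : Set G) ≠ ⊤ := by
    intro z hz h
    have hn : (zpowers z).Normal := normalizer_eq_top_iff.1 h
    rcases hn.eq_bot_or_eq_top with h1 | h1
    · exact hz (zpowers_eq_bot.1 h1)
    · apply hNA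
      intro x _
      rw [hA, mem_centralizer_iff]
      intro y _
      have hx : x ∈ zpowers z := h1 ▸ mem_top x
      have hy : y ∈ zpowers z := h1 ▸ mem_top y
      obtain ⟨i, rfl⟩ := hx
      obtain ⟨j, rfl⟩ := hy
      exact (Commute.zpow_zpow_self z j i).eq
  -- the involution `t`
  obtain ⟨t, htA, ht⟩ := CF.Invol.exists_invol_mem_of_even (H := A) (by rw [hC]; exact even_two_mul _)
  have hnotP : ∀ s : G, orderOf s = 2 → s ∉ (P : Subgroup G) := fun s hs h =>
    hnodd (hs ▸ (P : Subgroup G).orderOf_dvd_natCard h)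
  have hPsq : ∀ s ∈ (P : Subgroup G), s * s = 1 → s = 1 := fun s hs h => by
    by_contra hne
    exact hnotP s (CF.Invol.orderOf_eq_two_iff.2 ⟨h, hne⟩) hs
  have hrelPA : (P : Subgroup G).relIndex A = 2 := by
    have := CF.Fgs1.card_mul_relIndex hPA
    rw [hC, mul_comm 2] at this
    exact Nat.eq_of_mul_eq_mul_left hpos this
  have hrelAN : A.relIndex N = 2 := by
    have := CF.Fgs1.card_mul_relIndex hAN
    rw [hC, hN, show 4 * Nat.card (P : Subgroup G) = 2 * Nat.card (P : Subgroup G) * 2 by ring]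
      at this
    exact Nat.eq_of_mul_eq_mul_left (by omega) this
  have htt := CF.Invol.mul_self_of_orderOf ht
  have huniq : ∀ s ∈ A, orderOf s = 2 → s = t := by
    intro s hs hs2
    have hst := mul_mem_of_relIndex_two hrelPA hs htA (hnotP s hs2) (hnotP t ht)
    have hss := CF.Invol.mul_self_of_orderOf hs2
    have h1 := hAc t htA _ hst
    have h2 : s * t * (s * t) = 1 := by
      calc s * t * (s * t) = s * (t * (s * t)) := by group
        _ = s * (s * t * t) := by rw [← h1]
        _ = (s * s) * (t * t) := by group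
        _ = 1 := by rw [hss, htt, one_mul]
    have := hPsq _ hst h2
    calc s = s * t * t := by rw [mul_assoc, htt, mul_one]
      _ = t := by rw [this, one_mul]
  have hNAC : normalizer (A : Set G) ≤ centralizer ({t} : Set G) := by
    intro g hg
    rw [CF.Invol.mem_centralizer_singleton_iff_conj]
    exact huniq _ (CF.Fgs1.conj_mem_of_mem_normalizer hg htA) (by rw [CF.Invol.orderOf_conj, ht])
  have hNNA : N ≤ normalizer (A : Set G) := by
    rw [hA, hN']; exact CF.Solv.normalizer_le_normalizer_centralizer _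
  have hCt : centralizer ({t} : Set G) ≠ ⊤ := by
    intro h
    apply hz t (CF.Invol.ne_one_of_orderOf ht)
    rw [eq_top_iff, ← h]
    intro g hg
    rw [CF.Invol.mem_centralizer_singleton_iff_commute] at hg
    refine CF.Fgs1.mem_normalizer_of_forall ?_
    rintro _ ⟨i, rfl⟩
    refine ⟨i, ?_⟩
    simp only
    rw [(hg.zpow_right i).eq, mul_inv_cancel_right]
  have hCN : N = centralizer ({t} : Set G) := by
    refine CF.Fgs1.eq_of_le_of_card_le (hNNA.trans hNAC) ?_
    rw [hN]
    refine Nat.le_of_dvd (by omega) (heven _ hCt ?_)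
    exact (CF.Invol.even_card_of_invol_mem (t := t)
      (CF.Invol.mem_centralizer_singleton_iff_commute.2 (Commute.refl t)) ht).two_dvd
  have hNAN : normalizer (A : Set G) = N := le_antisymm (hCN ▸ hNAC) hNNA
  rw [hNAN] at hTI
  have hmemN : ∀ x, x ∈ N ↔ x * t = t * x := fun x => by
    rw [hCN, CF.Invol.mem_centralizer_singleton_iff_commute]; rfl
  have hNconj : ∀ g ∈ N, ∀ c ∈ A, g * c * g⁻¹ ∈ A := fun g hg c hc =>
    CF.Fgs1.conj_mem_of_mem_normalizer (hNNA hg) hc
  -- Sylow 2-subgroups have order four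
  have hS4 : ∀ S : Sylow 2 G, Nat.card (S : Subgroup G) = 4 := by
    intro S
    obtain ⟨m, hm⟩ := S.isPGroup'.exists_card_eq
    have h4S : 4 ∣ Nat.card (S : Subgroup G) := by
      have := S.pow_dvd_card_of_pow_dvd_card (n := 2) (by simpa using h4)
      simpa using this
    have hStop : (S : Subgroup G) ≠ ⊤ := by
      intro h
      rw [h, card_top] at hm
      rw [hm] at h3
      have := Nat.prime_three.dvd_of_dvd_pow h3
      omega
    have hd := heven _ hStop ((by norm_num : 2 ∣ 4).trans h4S)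
    have hcop : (Nat.card (S : Subgroup G)).Coprime (Nat.card (P : Subgroup G)) := by
      rw [hm, hk]; exact Nat.Coprime.pow _ _ (by norm_num)
    exact Nat.dvd_antisymm (hcop.dvd_of_dvd_mul_right hd) h4S
  obtain ⟨S, htS⟩ := CF.Fgs2.exists_sylow_mem (p := 2) (k := 1) (x := t) (by simpa using ht)
  have hconjS := invol_conj S (hS4 S) h3
  have ht1 := CF.Invol.ne_one_of_orderOf ht
  have hconj : ∀ a : G, orderOf a = 2 → ∃ g : G, g * t * g⁻¹ = a := by
    intro a ha
    obtain ⟨g, hg⟩ := CF.Fgs2.exists_conj_mem_sylow (k := 1) S (x := a) (by simpa using ha)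
    have h1 := hconjS t htS ht1 _ hg
      (CF.Invol.ne_one_of_orderOf (by rw [CF.Invol.orderOf_conj', ha]))
    obtain ⟨c, hc⟩ := isConj_iff.1 h1
    refine ⟨g * c, ?_⟩
    rw [show g * c * t * (g * c)⁻¹ = g * (c * t * c⁻¹) * g⁻¹ by group, hc]
    group
  have hSA : ¬ (S : Subgroup G) ≤ A := by
    intro h
    have := card_dvd_of_le h
    rw [hS4, hC] at this
    apply hnodd
    omega
  obtain ⟨u, huS, huA⟩ := Set.not_subset.1 hSA
  have huN : u ∈ N := (hmemN u).2 (comm_of_card_four _ (hS4 S) u huS t htS)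
  have hu1 : u ≠ 1 := by rintro rfl; exact huA A.one_mem
  have hu2 : orderOf u = 2 := by
    rw [← CF.Invol.orderOf_eq_of_isConj (hconjS t htS ht1 u huS hu1), ht]
  have huu := CF.Invol.mul_self_of_orderOf hu2
  have hui := CF.Invol.inv_eq_of_orderOf hu2
  have h3mem : ∀ y ∈ N, (∃ j, orderOf y = 3 ^ j) → y ∈ (P : Subgroup G) := by
    rintro y hy ⟨j, hj⟩
    have h1 := (CF.Fgs2.isPGroup_zpowers_of_orderOf hj).inf_normalizer_sylow P
    have : y ∈ zpowers y ⊓ normalizer ((P : Subgroup G) : Set G) := ⟨mem_zpowers y, hN' ▸ hy⟩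
    exact (h1.le this).2
  have hfpf : ∀ y ∈ (P : Subgroup G), u * y * u⁻¹ = y → y = 1 := by
    intro y hy hyu
    obtain ⟨g, hg⟩ := hconj u hu2
    by_cases hgN : g⁻¹ ∈ N
    · exact absurd (hg ▸ hNconj g (by simpa using N.inv_mem hgN) t htA) huA
    · refine hTI _ hgN y (hPA hy) (hPA (h3mem _ ?_ ?_))
      · rw [hmemN]
        have : y * u = u * y := by rw [← hyu, inv_mul_cancel_right, hyu]
        rw [← hg] at this
        calc g⁻¹ * y * g⁻¹⁻¹ * t = g⁻¹ * (y * (g * t * g⁻¹)) * g := by group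
          _ = g⁻¹ * (g * t * g⁻¹ * y) * g := by rw [this]
          _ = t * (g⁻¹ * y * g⁻¹⁻¹) := by group
      · rw [CF.Invol.orderOf_conj]
        exact CF.Fgs2.orderOf_eq_pow_of_mem P.isPGroup' hy
  have hinvP : ∀ y ∈ (P : Subgroup G), u * y * u⁻¹ = y⁻¹ := by
    intro y hy
    have hy' : u * y * u⁻¹ ∈ (P : Subgroup G) :=
      CF.Fgs1.conj_mem_of_mem_normalizer (hN' ▸ huN) hy
    have := hfpf _ ((P : Subgroup G).mul_mem hy hy') (by
      rw [hab _ hy _ hy']
      calc u * (u * y * u⁻¹ * y) * u⁻¹ = (u * u) * y * (u * u)⁻¹ * (u * y * u⁻¹) := by group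
        _ = y * (u * y * u⁻¹) := by rw [huu]; group
        _ = _ := hab _ hy _ hy')
    exact (eq_inv_of_mul_eq_one_right this)
  have hinvA : ∀ c ∈ A, u * c * u⁻¹ = c⁻¹ := by
    intro c hc
    by_cases hcP : c ∈ (P : Subgroup G)
    · exact hinvP c hcP
    · have hct := mul_mem_of_relIndex_two hrelPA hc htA hcP (hnotP t ht)
      have h1 := hinvP _ hct
      have h2 := (hmemN u).1 huN
      have h3 := hAc t htA _ ((P : Subgroup G).inv_mem hct)
      have hti := CF.Invol.inv_eq_of_orderOf ht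
      calc u * c * u⁻¹ = u * (c * t) * u⁻¹ * (u * t * u⁻¹) := by
            rw [show u * (c * t) * u⁻¹ * (u * t * u⁻¹) = u * c * (t * t) * u⁻¹ by group, htt,
              mul_one]
        _ = (c * t)⁻¹ * t := by rw [h1, h2, mul_inv_cancel_right]
        _ = c⁻¹ := by rw [h3, mul_inv_rev, mul_inv_cancel_left]
  have hchar : ∀ x, (orderOf x = 2 ∧ t ≠ x ∧ t * x = x * t) ↔ (x ∈ N ∧ x ∉ A) := by
    intro x
    constructor
    · rintro ⟨h1, h2, h3⟩
      exact ⟨(hmemN x).2 h3.symm, fun h => h2 (huniq x h h1).symm⟩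
    · rintro ⟨h1, h2⟩
      refine ⟨?_, fun h => h2 (h ▸ htA), ((hmemN x).1 h1).symm⟩
      have hc := mul_mem_of_relIndex_two hrelAN h1 huN h2 huA
      have h3 := hinvA _ hc
      refine CF.Invol.orderOf_eq_two_iff.2 ⟨?_, fun h => h2 (h ▸ A.one_mem)⟩
      calc x * x = (x * u) * (u * (x * u) * u⁻¹) := by
            rw [show (x * u) * (u * (x * u) * u⁻¹) = x * (u * u) * x by group, huu, mul_one]
        _ = 1 := by rw [h3, mul_inv_cancel]
  have hchar' : ∀ g x : G, (orderOf x = 2 ∧ g * t * g⁻¹ ≠ x ∧ g * t * g⁻¹ * x = x * (g * t * g⁻¹))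
      ↔ (g⁻¹ * x * g ∈ N ∧ g⁻¹ * x * g ∉ A) := by
    intro g x
    rw [← hchar, CF.Invol.orderOf_conj']
    refine and_congr Iff.rfl (and_congr (not_congr ?_) ?_)
    · constructor
      · rintro rfl; group
      · intro h; rw [h]; group
    · constructor
      · intro h
        calc t * (g⁻¹ * x * g) = g⁻¹ * (g * t * g⁻¹ * x) * g := by group
          _ = _ := by rw [h]; group
      · intro h
        calc g * t * g⁻¹ * x = g * (t * (g⁻¹ * x * g)) * g⁻¹ := by group
          _ = _ := by rw [h]; group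
  haveI : Nonempty {a : G // orderOf a = 2} := ⟨⟨t, ht⟩⟩
  have hfr := CF.Fgs1.friendship_regular (V := {a : G // orderOf a = 2})
    (fun a b => (a : G) ≠ b ∧ (a : G) * b = b * a) (fun v w h => ⟨h.1.symm, h.2.symm⟩)
    (fun v h => h.1 rfl) (2 * Nat.card (P : Subgroup G)) ?_ ?_
  · have := Nat.le_of_dvd hpos h3P
    omega
  · rintro ⟨a, ha⟩
    obtain ⟨g, rfl⟩ := hconj a ha
    have e : {w : {a : G // orderOf a = 2} // g * t * g⁻¹ ≠ w ∧ g * t * g⁻¹ * w = w * (g * t * g⁻¹)}
        ≃ ((N : Set G) \ (A : Set G) : Set G) :=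
      { toFun := fun w => ⟨g⁻¹ * w * g, (hchar' g w).1 ⟨w.1.2, w.2⟩⟩
        invFun := fun x => ⟨⟨g * x * g⁻¹, ((hchar' g _).2 (by
            rw [show g⁻¹ * (g * x * g⁻¹) * g = x by group]; exact x.2)).1⟩,
          ((hchar' g _).2 (by rw [show g⁻¹ * (g * x * g⁻¹) * g = x by group]; exact x.2)).2⟩
        left_inv := fun w => by ext; simp [mul_assoc]
        right_inv := fun x => by ext; simp [mul_assoc] }
    rw [Nat.card_congr e, Nat.card_coe_set_eq, Set.ncard_diff hAN, ← Nat.card_coe_set_eq,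
      ← Nat.card_coe_set_eq]
    change Nat.card N - Nat.card A = _
    omega
  · rintro ⟨a, ha⟩ ⟨b, hb⟩ hab'
    have hne : a ≠ b := fun h => hab' (Subtype.ext h)
    have haa := CF.Invol.mul_self_of_orderOf ha
    have hbb := CF.Invol.mul_self_of_orderOf hb
    have hw : a * b ≠ 1 := fun h => hne (by
      calc a = a * b * b := by rw [mul_assoc, hbb, mul_one]
        _ = b := by rw [h, one_mul])
    refine existsUnique_of_exists_of_unique ?_ ?_
    · obtain ⟨q, hq, hqd⟩ := Nat.exists_prime_and_dvd (n := orderOf (a * b)) (by simpa using hw)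
      set z := (a * b) ^ (orderOf (a * b) / q) with hzdef
      have hzq : orderOf z = q := orderOf_pow_orderOf_div (orderOf_pos _).ne' hqd
      have hzm : z ∈ zpowers (a * b) := pow_mem (mem_zpowers _) _
      have haz := CF.Invol.inverts_of_mem_zpowers (CF.Invol.left_inverts_mul haa hbb) hzm
      have hbz := CF.Invol.inverts_of_mem_zpowers (CF.Invol.right_inverts_mul haa hbb) hzm
      have hz1 : z ≠ 1 := by
        intro h; rw [h, orderOf_one] at hzq; exact hq.one_lt.ne hzq
      have haN : a ∈ normalizer ((zpowers z : Subgroup G) : Set G) := by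
        refine CF.Fgs1.mem_normalizer_of_forall fun x hx => ?_
        rw [CF.Invol.inverts_of_mem_zpowers haz hx]
        exact inv_mem hx
      have hd := heven _ (hz z hz1) (CF.Invol.even_card_of_invol_mem haN ha).two_dvd
      have hq' : q ∣ 4 * 3 ^ k := by
        rw [← hk, ← hzq]
        exact (Subgroup.orderOf_dvd_natCard _ (le_normalizer (mem_zpowers z))).trans hd
      rcases (Nat.Prime.dvd_mul hq).1 hq' with h | h
      · have hq2 : q = 2 := (Nat.prime_dvd_prime_iff_eq hq Nat.prime_two).1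
          (hq.dvd_of_dvd_pow (show q ∣ 2 ^ 2 by simpa using h))
        rw [hq2] at hzq
        have hzi := CF.Invol.inv_eq_of_orderOf hzq
        rw [hzi] at haz hbz
        refine ⟨⟨z, hzq⟩, ⟨?_, ?_⟩, ?_, ?_⟩
        · intro h
          exact CF.Invol.not_mem_zpowers_mul ha hb (by simp only at h; rw [h]; exact h ▸ hzm)
        · exact mul_inv_eq_iff_eq_mul.1 haz
        · intro h
          apply CF.Invol.not_mem_zpowers_mul ha hb
          have hb' : b ∈ zpowers (a * b) := by simp only at h; rw [h]; exact h ▸ hzm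
          have := mul_mem (mem_zpowers (a * b)) hb'
          rwa [mul_assoc a b b, hbb, mul_one] at this
        · exact mul_inv_eq_iff_eq_mul.1 hbz
      · have hq3 : q = 3 := (Nat.prime_dvd_prime_iff_eq hq Nat.prime_three).1
          (hq.dvd_of_dvd_pow h)
        rw [hq3] at hzq
        obtain ⟨g, hg⟩ := CF.Fgs2.exists_conj_mem_sylow (k := 1) P (x := z) (by simpa using hzq)
        have hgA : g⁻¹ * z * g ∈ A := hPA hg
        have key : ∀ c : G, orderOf c = 2 → c * z * c⁻¹ = z⁻¹ →
            c ≠ g * t * g⁻¹ ∧ c * (g * t * g⁻¹) = g * t * g⁻¹ * c := by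
          intro c hc hcz
          have h1 : g⁻¹ * c * g ∈ N := by
            by_contra hn
            have := hTI _ hn _ hgA (by
              rw [show g⁻¹ * c * g * (g⁻¹ * z * g) * (g⁻¹ * c * g)⁻¹ =
                g⁻¹ * (c * z * c⁻¹) * g by group, hcz,
                show g⁻¹ * z⁻¹ * g = (g⁻¹ * z * g)⁻¹ by group]
              exact A.inv_mem hgA)
            apply hz1
            calc z = g * (g⁻¹ * z * g) * g⁻¹ := by group
              _ = 1 := by rw [this]; group
          have h2 : g⁻¹ * c * g ∉ A := by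
            intro h
            have h3 := hAc _ h _ hg
            have h4 : c * z = z * c := by
              calc c * z = g * (g⁻¹ * c * g * (g⁻¹ * z * g)) * g⁻¹ := by group
                _ = z * c := by rw [← h3]; group
            rw [h4, mul_inv_cancel_right] at hcz
            have h5 : z ^ 2 = 1 := by rw [pow_two]; nth_rewrite 1 [hcz]; simp
            have := orderOf_dvd_of_pow_eq_one h5
            rw [hzq] at this
            omega
          have := (hchar' g c).2 ⟨h1, h2⟩
          exact ⟨this.2.1.symm, this.2.2.symm⟩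
        exact ⟨⟨g * t * g⁻¹, by rw [CF.Invol.orderOf_conj, ht]⟩, key a ha haz, key b hb hbz⟩
    · rintro ⟨s, hs⟩ ⟨s', hs'⟩ ⟨h1, h2⟩ ⟨h1', h2'⟩
      obtain ⟨g, rfl⟩ := hconj s hs
      obtain ⟨g', rfl⟩ := hconj s' hs'
      have key : ∀ g : G, (a ≠ g * t * g⁻¹ ∧ a * (g * t * g⁻¹) = g * t * g⁻¹ * a) →
          (b ≠ g * t * g⁻¹ ∧ b * (g * t * g⁻¹) = g * t * g⁻¹ * b) → g⁻¹ * (a * b) * g ∈ A := by
        intro g h1 h2
        have ha' := (hchar' g a).1 ⟨ha, h1.1.symm, h1.2.symm⟩
        have hb' := (hchar' g b).1 ⟨hb, h2.1.symm, h2.2.symm⟩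
        have := mul_mem_of_relIndex_two hrelAN ha'.1 hb'.1 ha'.2 hb'.2
        rwa [show g⁻¹ * a * g * (g⁻¹ * b * g) = g⁻¹ * (a * b) * g by group] at this
      have k1 := key g h1 h2
      have k2 := key g' h1' h2'
      have hgg : g'⁻¹ * g ∈ N := by
        by_contra hn
        have := hTI _ hn _ k1 (by
          rwa [show g'⁻¹ * g * (g⁻¹ * (a * b) * g) * (g'⁻¹ * g)⁻¹ = g'⁻¹ * (a * b) * g' by group])
        apply hw
        calc a * b = g * (g⁻¹ * (a * b) * g) * g⁻¹ := by group
          _ = 1 := by rw [this]; group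
      have := (hmemN _).1 hgg
      apply Subtype.ext
      calc g * t * g⁻¹ = g' * (g'⁻¹ * g * t) * g⁻¹ := by group
        _ = g' * t * g'⁻¹ := by rw [this]; group


/-- Let G be a finite group with an abelian Sylow 3-subgroup P such that the normalizer of P has order 4·#P, the centralizer C of P has order 2·#P, C meets each of its conjugates by elements outside its normalizer trivially, and every proper subgroup of G of even order has order dividing 4·#P. Then G is not simple. -/
theorem result {G : Type*} [Group G] [Finite G]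
    (P : Sylow 3 G) (hab : IsMulCommutative P)
    (hN : Nat.card (Subgroup.normalizer ((P : Subgroup G) : Set G)) = 4 * Nat.card P)
    (hC : Nat.card (Subgroup.centralizer (P : Set G)) = 2 * Nat.card P)
    (hTI : Cfsg.IsTISubset (Subgroup.centralizer (P : Set G) : Set G))
    (heven : ∀ H : Subgroup G, H ≠ ⊤ → 2 ∣ Nat.card H → Nat.card H ∣ 4 * Nat.card P) :
    ¬ IsSimpleGroup G := by
  intro hs
  exact main P (fun a ha b hb => congrArg Subtype.val
    (IsMulCommutative.is_comm.comm (⟨a, ha⟩ : P) ⟨b, hb⟩)) _ _ rfl rfl hN hC hTI heven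

end Cfsg.Agent.S4018
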