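import Mathlib
import Cfsg.Agent.Fgs2.HallNum
import Cfsg.Statements.S4044

set_option autoImplicit false
open Cfsg

namespace Cfsg.Agent.S4044

open CF.BG CF.Fgs2 in

/-- For an integer m ≥ 2 the following are equivalent: (a) every finite group whose order n is divisible by m with gcd(m, n/m) = 1 has a subgroup of order m; (b) m is a prime power, or m ≡ 2 (mod 4), or m ∈ {12, 24, 60}. -/
theorem result (m : ℕ) (hm : 2 ≤ m) :
    (∀ (G : Type) [Group G] [Finite G], m ∣ Nat.card G → m.Coprime (Nat.card G / m) →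
        ∃ H : Subgroup G, Nat.card H = m) ↔
    (IsPrimePow m ∨ m % 4 = 2 ∨ m = 12 ∨ m = 24 ∨ m = 60) := by
  constructor
  · intro h
    by_contra k
    obtain ⟨u, v, a1, a2, a3, a4, a5, a6, a7, a8, a9⟩ := exists_uv hm k
    obtain ⟨G, _, _, d, c, n⟩ := not_hall_of_uv (by omega) a1 a2 a3 a4 a5 a6 a7 a8 a9
    obtain ⟨H, hH⟩ := h G d c
    exact n H hH
  · intro h G _ _ ⟨n, e⟩ c
    rw [e, Nat.mul_div_cancel_left _ (by omega)] at c
    have key : ∀ H : Subgroup G, Hall (piOf m) H ⊤ → Nat.card H = m := fun H hH => by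
      refine Nat.dvd_antisymm ?_ (hH.dvd_card (by rw [card_top', e]; exact Dvd.intro _ rfl) (piNat_piOf _))
      have := H.card_subgroup_dvd_card
      rw [e] at this
      exact (coprime_of_primes fun p hp hd => not_dvd_of_coprime c hp (hH.pi p hp hd).2).dvd_of_dvd_mul_right this
    have n2 : 2 ∣ m → ¬ 2 ∣ n := not_dvd_of_coprime c Nat.prime_two
    have n3 : 3 ∣ m → ¬ 3 ∣ n := not_dvd_of_coprime c Nat.prime_three
    have k23 : m = 12 ∨ m = 24 → ∃ H : Subgroup G, Nat.card H = m := fun h => by
      have a := n2 (by omega)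
      have b := n3 (by omega)
      obtain ⟨H, hH⟩ := hall24 (G := G) (by rcases h with rfl | rfl <;> omega) (by rcases h with rfl | rfl <;> omega)
      refine ⟨H, key H (hH.congr fun p hp _ => ?_)⟩
      rw [mem_piOf]
      constructor
      · rintro (rfl | rfl) <;> exact ⟨hp, by omega⟩
      · rintro ⟨-, d⟩
        have : p ∣ 2 ^ 3 * 3 := d.trans (by rcases h with rfl | rfl <;> norm_num)
        rcases hp.dvd_mul.1 this with l | l
        · exact Or.inl ((Nat.prime_dvd_prime_iff_eq hp Nat.prime_two).1 (hp.dvd_of_dvd_pow l))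
        · exact Or.inr ((Nat.prime_dvd_prime_iff_eq hp Nat.prime_three).1 l)
    rcases h with h | h | h | h | rfl
    · obtain ⟨p, k, hp, -, rfl⟩ := (isPrimePow_nat_iff m).1 h
      have := Fact.mk hp
      exact Sylow.exists_subgroup_card_pow_prime p ⟨n, e⟩
    · have a := n2 (by omega)
      obtain ⟨H, hH⟩ := (sol_of_not_four (H := (⊤ : Subgroup G)) (by
        rw [card_top', e]
        intro k
        have := (Nat.Coprime.pow_left 2 ((Nat.Prime.coprime_iff_not_dvd Nat.prime_two).2 a)).dvd_of_dvd_mul_right k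
        omega)).exists_hall (piOf m)
      exact ⟨H, key H hH⟩
    · exact k23 (Or.inl h)
    · exact k23 (Or.inr h)
    · exact hall60 e c

end Cfsg.Agent.S4044
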