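import Cfsg.Statements.S4079
import Cfsg.Agent.Pgp.Mca

set_option autoImplicit false
open Cfsg

namespace Cfsg.Agent.S4079

/-- Let p be an odd prime and L a finite metacyclic p-group with no cyclic subgroup of index p, and let a be an automorphism of L of order p. Then a moves some element of order p of L if and only if p = 3 and the semidirect product L ⋊ ⟨a⟩ (of order 3·#L) has maximal class, i.e. nilpotency class m where #L = 3^m. -/
theorem result {L : Type*} [Group L] [Finite L] {p : ℕ} [Fact p.Prime]
    (hp : p ≠ 2) (hL : IsPGroup p L) (hmc : Cfsg.IsMetacyclic L) (hnc : ∀ C : Subgroup L, IsCyclic C → C.index ≠ p)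
    (a : MulAut L) (ha : orderOf a = p) (m : ℕ) (hm : Nat.card L = p ^ m) :
    (∃ x : L, orderOf x = p ∧ a x ≠ x) ↔
    (p = 3 ∧ Group.nilpotencyClass (SemidirectProduct L ↥(Subgroup.zpowers a) (Subgroup.zpowers a).subtype) = m) := by
  have hpp : p.Prime := Fact.out
  have hnt : Nontrivial L := by
    by_contra h
    rw [not_nontrivial_iff_subsingleton] at h
    have : a = 1 := MulEquiv.ext fun x => Subsingleton.elim _ _
    rw [this, orderOf_one] at ha
    exact hpp.one_lt.ne ha
  constructor
  · rintro ⟨x, hx, hm'⟩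
    obtain ⟨h3, hF⟩ := CF.Mca.forward hp hL hmc hnc hnt a (ha ▸ pow_orderOf_eq_one a)
      (hx ▸ pow_orderOf_eq_one x) hm'
    exact ⟨h3, CF.Mca.class_of_card ha hm hF⟩
  · rintro ⟨-, hcl⟩
    by_contra h
    push Not at h
    refine CF.Mca.backward hp hL hmc hnc hnt ha hm hcl fun w hw => ?_
    by_cases h1 : w = 1
    · rw [h1, map_one]
    · exact h w (orderOf_eq_prime hw h1)

end Cfsg.Agent.S4079
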