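import Mathlib
import Cfsg.Agent.Fgs2.Basic
import Cfsg.Statements.S4113

set_option autoImplicit false
open Cfsg

namespace Cfsg.Agent.S4113

/-- Let G be a finite group, M ≤ N non-trivial proper normal subgroups, and H a subgroup with HM = G and H ∩ M = 1. Then every element of G outside N acts fixed-point-freely on M (C_G(x) ≤ N for every x ∈ M, x ≠ 1) if and only if H ∩ gHg⁻¹ ≤ H ∩ N for every g outside H, with H proper and non-trivial and H ∩ N proper in H. -/
theorem result {G : Type*} [Group G] [Finite G] (N M : Subgroup G) [N.Normal] [M.Normal] (hMN : M ≤ N) (hM1 : M ≠ ⊥) (hN2 : N ≠ ⊤)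
    (H : Subgroup G) (hHM : H ⊔ M = ⊤) (hHM' : H ⊓ M = ⊥) :
    (∀ x ∈ M, x ≠ 1 → Subgroup.centralizer ({x} : Set G) ≤ N) ↔
      (H ≠ ⊥ ∧ H ≠ ⊤ ∧ H ⊓ N < H ∧ ∀ g : G, g ∉ H → H ⊓ H.map (MulAut.conj g).toMonoidHom ≤ N) := by
  have hdec : ∀ g : G, ∃ m ∈ M, ∃ h ∈ H, m * h = g := fun g =>
    CF.Fgs2.mem_normal_sup_iff.1 (by rw [sup_comm, hHM]; trivial)
  have hbot : ∀ x ∈ H, x ∈ M → x = 1 := fun x h1 h2 => by
    have : x ∈ H ⊓ M := ⟨h1, h2⟩
    rwa [hHM', Subgroup.mem_bot] at this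
  constructor
  · intro h
    refine ⟨?_, ?_, ?_, ?_⟩
    · rintro rfl
      rw [bot_sup_eq] at hHM
      exact hN2 (top_le_iff.1 (hHM ▸ hMN))
    · rintro rfl
      exact hM1 (by simpa using hHM')
    · refine lt_of_le_of_ne inf_le_left fun h1 => hN2 ?_
      rw [eq_top_iff, ← hHM]
      exact sup_le (inf_eq_left.1 h1) hMN
    · rintro g hg y ⟨hy, z, hz, hyz⟩
      obtain ⟨m, hm, k, hk, rfl⟩ := hdec g
      have hm1 : m ≠ 1 := by rintro rfl; exact hg (by simpa using hk)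
      apply h m hm hm1
      rw [Subgroup.mem_centralizer_singleton_iff]
      set w := k * z * k⁻¹ with hw
      have hwH : w ∈ H := H.mul_mem (H.mul_mem hk hz) (H.inv_mem hk)
      have hyw : y = m * w * m⁻¹ := by rw [← hyz, hw]; simp [mul_assoc]
      have h1 : y * w⁻¹ = 1 := by
        apply hbot _ (H.mul_mem hy (H.inv_mem hwH))
        have : y * w⁻¹ = m * (w * m⁻¹ * w⁻¹) := by rw [hyw]; group
        rw [this]
        exact M.mul_mem hm (Subgroup.Normal.conj_mem inferInstance _ (M.inv_mem hm) _)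
      have h2 : y = w := mul_inv_eq_one.1 h1
      rw [← h2] at hyw
      conv_lhs => rw [hyw]
      group
  · rintro ⟨-, -, -, h⟩ x hx hx1 g hg
    obtain ⟨m, hm, k, hk, rfl⟩ := hdec g
    by_contra hgN
    have hkN : k ∉ N := fun h => hgN (N.mul_mem (hMN hm) h)
    have hfp : ∀ y ∈ M, y * k = k * y → y = 1 := by
      intro y hy hyk
      by_contra hy1
      apply hkN
      apply h y (fun h => hy1 (hbot y h hy))
      exact ⟨hk, k, hk, by simp [hyk]⟩
    let f : M → M := fun y => ⟨y * (k * (y : G)⁻¹ * k⁻¹),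
      M.mul_mem y.2 (Subgroup.Normal.conj_mem inferInstance _ (M.inv_mem y.2) _)⟩
    have hinj : Function.Injective f := by
      intro a b hab
      have h1 : (a : G) * (k * (a : G)⁻¹ * k⁻¹) = b * (k * (b : G)⁻¹ * k⁻¹) := congrArg Subtype.val hab
      have h2 := hfp ((b : G)⁻¹ * a) (M.mul_mem (M.inv_mem b.2) a.2) (by
        calc (b : G)⁻¹ * a * k = (b : G)⁻¹ * (a * (k * (a : G)⁻¹ * k⁻¹)) * k * a := by group
          _ = _ := by rw [h1]; group)
      exact Subtype.ext (inv_mul_eq_one.1 h2).symm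
    obtain ⟨y, hy⟩ := (Finite.injective_iff_surjective.1 hinj) ⟨m, hm⟩
    have h1 : (y : G) * (k * (y : G)⁻¹ * k⁻¹) = m := congrArg Subtype.val hy
    have h2 : m * k * x = x * (m * k) := Subgroup.mem_centralizer_singleton_iff.1 hg
    have h3 := hfp ((y : G)⁻¹ * x * (y : G)⁻¹⁻¹) (Subgroup.Normal.conj_mem inferInstance _ hx _) (by
      rw [← h1] at h2
      calc (y : G)⁻¹ * x * (y : G)⁻¹⁻¹ * k = (y : G)⁻¹ * (x * (y * (k * (y : G)⁻¹ * k⁻¹) * k)) * y := by group
        _ = _ := by rw [← h2]; group)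
    apply hx1
    calc x = y * ((y : G)⁻¹ * x * (y : G)⁻¹⁻¹) * (y : G)⁻¹ := by group
      _ = 1 := by rw [h3]; group

end Cfsg.Agent.S4113
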