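import Cfsg.Statements.S4126
import Cfsg.Agent.SolvStr.Cls4
import Cfsg.Agent.Transfer.Ctrl

set_option autoImplicit false
open Cfsg

namespace Cfsg.Agent.S4126

open Subgroup CF.BG CF.SolvStr
open scoped commutatorElement

variable {G : Type*} [Group G] [Finite G] {p : ℕ} {x : G} {P : Subgroup G}

theorem exists_conj (hP : Syl p P ⊤) (h : PiNat {p} (ind x)) (g : G) :
    ∃ u ∈ P, g * x * g⁻¹ = u * x * u⁻¹ := by
  have e : (𝐂₁ x).index.Coprime P.index := h.coprime (by simpa using hP.idx)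
  obtain ⟨u, hu, c, hc, rfl⟩ := CF.Fgs2.exists_mul_of_coprime_index e g
  exact ⟨u, hu, by rw [mul_assoc u, mem_cent1.1 hc]; group⟩

theorem closure_le (hP : Syl p P ⊤) (h : PiNat {p} (ind x)) (hx : x ∈ P) :
    normalClosure {x} ≤ P := (Subgroup.closure_le _).2 fun y hy => by
  obtain ⟨_, rfl, e⟩ := Group.mem_conjugatesOfSet_iff.1 hy
  obtain ⟨g, rfl⟩ := isConj_iff.1 e
  obtain ⟨u, hu, e⟩ := exists_conj hP h g
  exact e ▸ P.mul_mem (P.mul_mem hu hx) (P.inv_mem hu)

theorem comm_le (hP : Syl p P ⊤) (h : PiNat {p} (ind x)) :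
    ⁅normalClosure {x}, ⊤⁆ ≤ ⁅normalClosure {x}, P⁆ := by
  have : ∀ y ∈ Group.conjugatesOfSet {x}, ∀ g, ⁅y, g⁆ ∈ ⁅normalClosure {x}, P⁆ := fun y hy g => by
    obtain ⟨_, rfl, e⟩ := Group.mem_conjugatesOfSet_iff.1 hy
    obtain ⟨u, hu, e⟩ := exists_conj hP (x := y) (by rwa [ind_of_mem_cls e]) g
    rw [show ⁅y, g⁆ = ⁅y, u⁆ by
      rw [show ⁅y, g⁆ = y * (g * y * g⁻¹)⁻¹ by group, e]; group]
    exact commutator_mem_commutator (subset_closure hy) hu
  refine commutator_le.2 fun y hy g _ => ?_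
  induction hy using closure_induction with
  | mem y hy => exact this y hy g
  | one => rw [commutatorElement_one_left]; exact one_mem _
  | mul a b ha _ h1 h2 =>
    rw [show ⁅a * b, g⁆ = a * ⁅b, g⁆ * a⁻¹ * ⁅a, g⁆ by simp [commutatorElement_def, mul_assoc]]
    exact mul_mem (conj_mem_of_norm (norm_comm_left _ _ ha) h2) h1
  | inv a ha h1 =>
    rw [show ⁅a⁻¹, g⁆ = a⁻¹ * ⁅a, g⁆⁻¹ * a by simp [commutatorElement_def, mul_assoc]]
    exact conj_mem_of_norm' (norm_comm_left _ _ ha) (inv_mem h1)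

theorem cent_of_small [hp : Fact p.Prime]
    (h : ∀ a : G, (a ^ p = 1 ∨ (p = 2 ∧ a ^ 4 = 1)) → PiNat {p} (ind a)) {g : G}
    (c : (orderOf g).Coprime p) (T : Subgroup G) (n : ⊤ ≤ 𝐍 T) (k : PiGrp {p} T) : g ∈ 𝐂 T := by
  induction T using WellFoundedLT.induction with | _ T ih => ?_
  by_contra g1
  obtain ⟨U, l, u1, -, e, hU⟩ := CF.Transfer.exists_small_exponent (A := zpowers g) k.isPGroup
    (le_top.trans n) (by rwa [Nat.card_zpowers]) fun e => g1 (zpowers_le.1 e)
  obtain ⟨x, hx, x1⟩ := SetLike.not_le_iff_exists.1 fun c : U ≤ 𝐂 (zpowers g) =>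
    u1 (e ▸ comm_eq_bot.2 c)
  have : T.Normal := normalIn_top.1 ⟨le_top, n⟩
  have l0 : normalClosure {x} ≤ T := normalClosure_le_normal (Set.singleton_subset_iff.2 (l hx))
  have n0 : ⊤ ≤ 𝐍 (normalClosure {x}) := (normalIn_top.2 inferInstance).norm
  rcases l0.lt_or_eq with l1 | rfl
  · exact x1 (cent_comm.1 (zpowers_le.2 (ih _ l1 n0 (k.le l0))) (subset_normalClosure rfl))
  obtain ⟨P, hP, lP⟩ := exists_syl_le le_top k
  have lt := (comm_le hP (h x (hU x hx))).trans_lt (hP.pi.nil.comm_lt ⟨lP, le_top.trans n⟩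
    fun e => u1 (le_bot_iff.1 (e ▸ l)))
  refine g1 (zpowers_le.1 (cent_of_stable ?_ (commutator_mono le_rfl le_top) (zpowers_le.2
    (ih _ lt (norm_commutator n (le_norm_self _)) (k.le lt.le)))))
  rw [Nat.card_zpowers]
  exact ((piNat_compl_single_iff_coprime hp.out).2 c).coprime' (k.le lt.le)


/-- Let G be a finite group and p a prime. Suppose every element of order p, and when p = 2 also every element of order 4, has a conjugacy class of p-power size. Then G has a normal p-complement. -/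
theorem result {G : Type*} [Group G] [Finite G] (p : ℕ) [Fact p.Prime]
    (h : ∀ x : G, (orderOf x = p ∨ (p = 2 ∧ orderOf x = 4)) → ∃ a : ℕ, (Subgroup.centralizer ({x} : Set G)).index = p ^ a) :
    Cfsg.HasNormalPComplement p G := by
  have hp : p.Prime := Fact.out
  have h' : ∀ a : G, (a ^ p = 1 ∨ (p = 2 ∧ a ^ 4 = 1)) → PiNat {p} (ind a) := fun a ha => by
    by_cases a1 : a = 1
    · rw [a1, ind_eq_one.2 (one_mem _)]; exact piNat_one _
    have : orderOf a = p ∨ (p = 2 ∧ orderOf a = 4) := by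
      by_cases e : a ^ p = 1
      · exact Or.inl (orderOf_eq_prime e a1)
      obtain ⟨rfl, k⟩ := ha.resolve_left e
      exact Or.inr ⟨rfl, orderOf_eq_prime_pow (p := 2) (n := 1) e k⟩
    obtain ⟨k, e⟩ := h a this
    exact (show ind a = p ^ k from e).symm ▸ piNat_pow_self hp k
  obtain ⟨P⟩ : Nonempty (Sylow p G) := inferInstance
  refine CF.Transfer.hasNPC_of_small_exponent P fun U hU g _ c e k => e ▸ comm_eq_bot.2 fun a ha => ?_
  have hP := syl_sylow_top P
  exact cent_comm.1 (zpowers_le.2 (cent_of_small h' c _ (normalIn_top.2 inferInstance).norm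
    (hP.pi.le (closure_le hP (h' a (k a ha)) (hU ha))))) (subset_normalClosure rfl)

end Cfsg.Agent.S4126
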