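import Mathlib
import Cfsg.Statements.S4125
import Cfsg.Agent.Fgs1.Baer
import Cfsg.Agent.Fgs1.Camina
import Cfsg.Agent.S4126
import Cfsg.Agent.Solv.PiSep
import Cfsg.Agent.Classical.SmallRecog
import Cfsg.Agent.Coprime.PGroup

set_option autoImplicit false
open Cfsg

namespace Cfsg.Agent.S4125

open Subgroup CF.Fgs1 CF.Solv CF.Transfer
open scoped commutatorElement Pointwise

section
variable {G : Type*} [Group G] [Finite G] {q : ℕ} [hq : Fact q.Prime]

theorem mem_pCore_of_comm {x : G} {k : ℕ} (hx : orderOf x = q ^ k)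
    (h : ∀ g, x * (g * x * g⁻¹) = g * x * g⁻¹ * x) : x ∈ pCore q G := by
  have h1 : ∀ a ∈ Group.conjugatesOfSet {x}, ∃ g, g * x * g⁻¹ = a := fun a ha => by
    obtain ⟨_, rfl, e⟩ := Group.mem_conjugatesOfSet_iff.mp ha
    exact isConj_iff.mp e
  haveI : IsMulCommutative (normalClosure {x}) := isMulCommutative_closure fun a ha b hb => by
    obtain ⟨g, rfl⟩ := h1 a ha
    obtain ⟨l, rfl⟩ := h1 b hb
    calc _ = g * (x * (g⁻¹ * l * x * (g⁻¹ * l)⁻¹)) * g⁻¹ := by group
      _ = _ := by rw [h]; group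
  have h2 : ∀ a ∈ normalClosure {x}, a ^ q ^ k = 1 := fun a ha => by
    induction ha using closure_induction with
    | mem a ha => obtain ⟨g, rfl⟩ := h1 a ha; rw [conj_pow, ← hx, pow_orderOf_eq_one]; group
    | one => simp
    | mul a b ha hb h1 h2 => rw [Commute.mul_pow (comm_of_mem this ha hb), h1, h2, one_mul]
    | inv a _ h => rw [inv_pow, h, inv_one]
  exact le_pCore (N := normalClosure {x}) (fun a => ⟨k, Subtype.ext (h2 a a.2)⟩)
    (subset_normalClosure rfl)

theorem wielandt {x : G} {k a : ℕ} (hx : orderOf x = q ^ k)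
    (h : (centralizer ({x} : Set G)).index = q ^ a) : x ∈ pCore q G := by
  obtain ⟨P, hP⟩ := (isPGroup_zpowers hx).exists_le_sylow
  have := normalClosure_le_sup_of_index_eq_pow h P
  rw [sup_eq_right.mpr hP] at this
  exact le_pCore (P.isPGroup'.to_le this) (subset_normalClosure rfl)

theorem two {x y : G} {p r s a b c k : ℕ} (hp : p.Prime) (hr : r.Prime) (hs : s.Prime) (hpr : p ≠ r)
    (hx : (centralizer ({x} : Set G)).index = p ^ a) (hy : (centralizer ({y} : Set G)).index = r ^ b)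
    (hxy : (centralizer ({x * y} : Set G)).index = s ^ c) (ha : a ≠ 0) (hab : p ^ a < r ^ b)
    (hk : orderOf x = q ^ k) : r = q ∧ x ∈ pCore q G := by
  have hco : (p ^ a).Coprime (r ^ b) := Nat.Coprime.pow _ _ ((Nat.coprime_primes hp hr).mpr hpr)
  set Y := {w : G | ∃ g : G, g * y * g⁻¹ = w} with hY
  set Z := {w : G | ∃ g : G, g * (x * y) * g⁻¹ = w} with hZ
  have h1 : ∀ g : G, (fun w => g * x * g⁻¹ * w) '' Y ⊆ Z := by
    rintro g _ ⟨_, ⟨h, rfl⟩, rfl⟩
    obtain ⟨c, hc, d, hd, e⟩ := CF.Fgs2.exists_mul_of_coprime_index (hy ▸ hx ▸ hco.symm) (g⁻¹ * h)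
    refine ⟨g * c, ?_⟩
    calc _ = g * (c * x) * c⁻¹ * (c * y * c⁻¹) * g⁻¹ := by group
      _ = g * x * (c * (d * y) * d⁻¹ * c⁻¹) * g⁻¹ := by
        rw [mem_centralizer_singleton_iff.mp hc, mem_centralizer_singleton_iff.mp hd]; group
      _ = g * x * ((c * d) * y * (c * d)⁻¹) * g⁻¹ := by group
      _ = _ := by rw [← e]; group
  have h2 : ∀ g : G, ((fun w => g * x * g⁻¹ * w) '' Y).ncard = r ^ b := fun g => by
    rw [Set.ncard_image_of_injective _ (mul_right_injective _), CF.Classical.ncard_conj_eq_index, hy]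
  have h3 : Z.ncard = s ^ c := by rw [CF.Classical.ncard_conj_eq_index, hxy]
  have h4 : s ^ c ∣ p ^ a * r ^ b := by
    rw [← hxy, ← hx, ← hy, ← index_inf_of_coprime (hy ▸ hx ▸ hco)]
    refine index_dvd_of_le fun g hg => mem_centralizer_singleton_iff.mpr ?_
    rw [← mul_assoc, mem_centralizer_singleton_iff.mp hg.1, mul_assoc,
      mem_centralizer_singleton_iff.mp hg.2, mul_assoc]
  have h5 : s ^ c ≤ r ^ b := by
    have h6 : r ^ b ≤ s ^ c := h2 1 ▸ h3 ▸ Set.ncard_le_ncard (h1 1)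
    by_cases h : s = p
    · subst h
      exact absurd (Nat.le_of_dvd (pow_pos hs.pos _) (Nat.Coprime.dvd_of_dvd_mul_right
        (Nat.Coprime.pow _ _ ((Nat.coprime_primes hs hr).mpr hpr)) h4)) (by omega)
    · exact Nat.le_of_dvd (pow_pos hr.pos _) (Nat.Coprime.dvd_of_dvd_mul_left
        (Nat.Coprime.pow _ _ ((Nat.coprime_primes hs hp).mpr h)) h4)
  have h6 : ∀ g : G, (fun w => g * x * g⁻¹ * w) '' Y = Z := fun g =>
    Set.eq_of_subset_of_ncard_le (h1 g) (h2 g ▸ h3 ▸ h5)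
  let N := MulAction.stabilizer G Y
  have hN : ∀ n, n ∈ N ↔ ∀ w ∈ Y, n * w ∈ Y := fun n =>
    MulAction.mem_stabilizer_set_iff_smul_set_subset (Set.toFinite _) |>.trans Set.smul_set_subset_iff
  haveI : N.Normal := ⟨fun n hn g => (hN _).mpr fun _ ⟨h, e⟩ => by
    obtain ⟨l, hl⟩ := (hN n).mp hn _ ⟨g⁻¹ * h, rfl⟩
    exact ⟨g * l, by rw [← e, mul_assoc g l, mul_inv_rev, ← mul_assoc, mul_assoc g, hl]; group⟩⟩
  have h7 : Nat.card N ∣ r ^ b := by
    have : Y = QuotientGroup.mk ⁻¹' ((QuotientGroup.mk : G → G ⧸ N) '' Y) := by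
      refine Set.Subset.antisymm (Set.subset_preimage_image _ _) ?_
      rintro w ⟨v, hv, e⟩
      simpa using (hN _).mp (this.conj_mem _ (QuotientGroup.eq.mp e) v) v hv
    rw [← hy, ← CF.Classical.ncard_conj_eq_index, ← hY, ← Nat.card_coe_set_eq, this,
      QuotientGroup.card_preimage_mk]
    exact dvd_mul_right _ _
  have h8 : ∀ g, x⁻¹ * (g * x * g⁻¹) ∈ N := fun g => (hN _).mpr fun w hw => by
    obtain ⟨v, hv, e⟩ := (h6 1).ge (h1 g ⟨w, hw, rfl⟩)
    simp only [one_mul, inv_one, mul_one] at e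
    rwa [mul_assoc, ← e, inv_mul_cancel_left]
  have h9 : N ≤ centralizer {x} := relIndex_eq_one.mp (Nat.eq_one_of_dvd_coprimes hco
    (hx ▸ relIndex_dvd_index_of_normal_right _ _) ((relIndex_dvd_card _ _).trans h7))
  have h10 : ∀ g, x * (g * x * g⁻¹) = g * x * g⁻¹ * x := fun g => by
    have := mem_centralizer_singleton_iff.mp (h9 (h8 g))
    rwa [mul_inv_cancel_left, mul_assoc, inv_mul_eq_iff_eq_mul, eq_comm] at this
  have h11 := mem_pCore_of_comm hk h10
  refine ⟨?_, h11⟩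
  by_contra hne
  refine ha ((Nat.pow_eq_one.mp (hx ▸ index_eq_one.mpr (eq_top_iff.mpr fun g _ => ?_))).resolve_left
    hp.ne_one)
  obtain ⟨j, hj⟩ := orderOf_eq_pow_of_mem (pCore_isPGroup (p := q))
    (mul_mem (inv_mem h11) ((inferInstance : (pCore q G).Normal).conj_mem x h11 g))
  have := Nat.eq_one_of_dvd_coprimes (Nat.Coprime.pow b j ((Nat.coprime_primes hr hq.out).mpr hne))
    ((orderOf_dvd_natCard N (h8 g)).trans h7) hj.dvd
  rw [orderOf_eq_one_iff, inv_mul_eq_one, eq_mul_inv_iff_mul_eq] at this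
  exact mem_centralizer_singleton_iff.mpr this.symm

theorem pair (hB : ∀ x : G, (∃ k : ℕ, orderOf x = q ^ k) →
      ∃ r a : ℕ, r.Prime ∧ (centralizer ({x} : Set G)).index = r ^ a)
    {x y : G} {p r a b k l : ℕ} (hp : p.Prime) (hr : r.Prime) (hpr : p ≠ r) (hpq : p ≠ q)
    (hx : (centralizer ({x} : Set G)).index = p ^ a) (hy : (centralizer ({y} : Set G)).index = r ^ b)
    (ha : a ≠ 0) (hb : b ≠ 0) (hk : orderOf x = q ^ k) (hl : orderOf y = q ^ l) :
    r = q ∧ x ∈ pCore q G := by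
  obtain ⟨P, hxP, hP⟩ := exists_isSylowIn_ge (isPGroup_zpowers hk) le_top
  obtain ⟨g, -, hg⟩ := hP.exists_cj_le (isPGroup_zpowers hl) le_top
  have h1 := zpowers_le.mp hxP
  have h2 := hg (conj_mem_cj (mem_zpowers y))
  rw [← index_centralizer_conj g] at hy
  rcases lt_trichotomy (p ^ a) (r ^ b) with h | h | h
  · obtain ⟨s, c, hs, hc⟩ := hB _ (orderOf_eq_pow_of_mem hP.isPGroup (mul_mem h1 h2))
    exact two hp hr hs hpr hx hy hc ha h hk
  · exact absurd ((Nat.prime_dvd_prime_iff_eq hp hr).mp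
      (hp.dvd_of_dvd_pow (h ▸ dvd_pow_self p ha))) hpr
  · obtain ⟨s, c, hs, hc⟩ := hB _ (orderOf_eq_pow_of_mem hP.isPGroup (mul_mem h2 h1))
    exact absurd (two hr hp hs hpr.symm hy hx hc hb h ((orderOf_conj' g y).trans hl)).1 hpq

theorem mem_cent (Q : Sylow q G) [(Q : Subgroup G).Normal] {x : G}
    (h : ¬ q ∣ (centralizer ({x} : Set G)).index) : x ∈ centralizer (Q : Set G) := by
  have := relIndex_eq_one.mp (by_contra fun e => h ((dvd_relIndex_of_not_le Q.isPGroup'
    (mt relIndex_eq_one.mpr e)).trans (relIndex_dvd_index_of_normal_right (centralizer {x}) _)))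
  exact fun y hy => mem_centralizer_singleton_iff.mp (this hy)

theorem exists_prime (hB : ∀ x : G, (∃ k : ℕ, orderOf x = q ^ k) →
      ∃ r a : ℕ, r.Prime ∧ (centralizer ({x} : Set G)).index = r ^ a) :
    ∃ p : ℕ, p.Prime ∧ ∀ x : G, (∃ k : ℕ, orderOf x = q ^ k) →
      ∃ a, (centralizer ({x} : Set G)).index = p ^ a := by
  by_contra! hne
  obtain ⟨x, ⟨k, hk⟩, h1⟩ := hne q hq.out
  obtain ⟨p, a, hp, hx⟩ := hB x ⟨k, hk⟩
  haveI := Fact.mk hp
  have hpq : p ≠ q := fun e => h1 a (e ▸ hx)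
  have ha : a ≠ 0 := fun e => h1 0 (by rw [hx, e]; rfl)
  obtain ⟨y, ⟨l, hl⟩, h2⟩ := hne p hp
  obtain ⟨r, b, hr, hy⟩ := hB y ⟨l, hl⟩
  have hb : b ≠ 0 := fun e => h2 0 (by rw [hy, e]; rfl)
  obtain ⟨rfl, -⟩ := pair hB hp hr (fun e => h2 b (e ▸ hy)) hpq hx hy ha hb hk hl
  have h3 : ∀ z : G, (∃ k : ℕ, orderOf z = r ^ k) → z ∈ pCore r G := fun z ⟨j, hj⟩ => by
    obtain ⟨s, c, hs, hz⟩ := hB z ⟨j, hj⟩
    by_cases h : s = r
    · exact wielandt hj (h ▸ hz)
    by_cases hc : c = 0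
    · exact wielandt (a := 0) hj (by rw [hz, hc]; rfl)
    exact (pair hB hs hr h h hz hy hc hb hj hl).2
  obtain ⟨Q⟩ : Nonempty (Sylow r G) := inferInstance
  have hQ : (Q : Subgroup G) = pCore r G :=
    le_antisymm (fun z hz => h3 z (orderOf_eq_pow_of_mem Q.isPGroup' hz)) (pCore_le_sylow Q)
  haveI : (Q : Subgroup G).Normal := hQ ▸ inferInstance
  have h4 : ∀ z ∈ (Q : Subgroup G), z ∉ centralizer (Q : Set G) → ∀ g,
      ⁅z, g⁆ ∈ ⁅(Q : Subgroup G), (Q : Subgroup G)⁆ := fun z hz hzc g => by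
    obtain ⟨s, c, hs, hc⟩ := hB z (orderOf_eq_pow_of_mem Q.isPGroup' hz)
    obtain rfl : r = s := (Nat.prime_dvd_prime_iff_eq hr hs).mp
      (hr.dvd_of_dvd_pow (hc ▸ by_contra fun e => hzc (mem_cent Q e)))
    obtain ⟨u, hu, e⟩ := exists_conj_sylow hc Q g
    rw [show ⁅z, g⁆ = z * (g * z * g⁻¹)⁻¹ by group, e, show z * (u * z * u⁻¹)⁻¹ = ⁅z, u⁆ by group]
    exact commutator_mem_commutator hz hu
  have hyQ : y ∈ (Q : Subgroup G) := hQ ▸ h3 y ⟨l, hl⟩
  have hyc : y ∉ centralizer (Q : Set G) := fun h => Q.not_dvd_index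
    ((hy ▸ dvd_pow_self r hb).trans (index_dvd_of_le fun u hu =>
      mem_centralizer_singleton_iff.mpr (h u hu)))
  obtain ⟨P⟩ : Nonempty (Sylow p G) := inferInstance
  have h5 : ⁅(Q : Subgroup G), (P : Subgroup G)⁆ ≤ ⁅(Q : Subgroup G), (Q : Subgroup G)⁆ :=
    commutator_le.mpr fun z hz g _ => by
      by_cases h : z ∈ centralizer (Q : Set G)
      · have h6 := h4 _ (mul_mem hyQ hz) (fun e => hyc ((mul_mem_cancel_right h).mp e)) g
        have h7 := h4 _ hyQ hyc g
        rw [show ⁅z, g⁆ = y⁻¹ * (⁅y * z, g⁆ * ⁅y, g⁆⁻¹) * y⁻¹⁻¹ by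
          simp only [commutatorElement_def]; group]
        exact Normal.conj_mem inferInstance _ (mul_mem h6 (inv_mem h7)) _
      · exact h4 z hz h g
  have h6 : (P : Subgroup G) ≤ centralizer (Q : Set G) :=
    CF.Coprime.le_centralizer_of_commutator_le_frattiniOf _ _ le_normalizer_of_normal
      (IsPGroup.coprime_card_of_ne p r hpq _ _ P.isPGroup' Q.isPGroup')
      (h5.trans (commutator_le_map_frattini Q.isPGroup'))
  exact P.not_dvd_index ((hx ▸ dvd_pow_self p ha).trans (index_dvd_of_le fun u hu =>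
    mem_centralizer_singleton_iff.mpr (h6 hu x (hQ.ge (h3 x ⟨k, hk⟩))).symm))

end


/-- Let G be a finite group and q a prime dividing its order such that every element of q-power order has a conjugacy class of prime-power size. Then G is q-solvable of q-length 1: there are normal subgroups K ≤ L of G with K of order prime to q, L/K a q-group and L of index prime to q. Moreover there is a prime p such that every element of q-power order has a class of p-power size (one prime serving for all of them), and for a Sylow q-subgroup Q: if p = q then Q is normal with a normal complement (a direct factor), while if p ≠ q then Q is abelian, the product of Q with the largest normal p-subgroup O_p(G) is normal in G, and G/O_{q'}(G) is solvable, where O_{q'}(G) is the largest normal subgroup of order prime to q. -/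
theorem result {G : Type*} [Group G] [Finite G] (q : ℕ) [Fact q.Prime] (hq : q ∣ Nat.card G)
    (hBaer : ∀ x : G, (∃ k : ℕ, orderOf x = q ^ k) → ∃ (r : ℕ) (a : ℕ), r.Prime ∧ (Subgroup.centralizer ({x} : Set G)).index = r ^ a) (Q : Sylow q G) :
    (∃ K L : Subgroup G, K.Normal ∧ L.Normal ∧ K ≤ L ∧ (Nat.card K).Coprime q ∧ (∃ m : ℕ, K.relIndex L = q ^ m) ∧ L.index.Coprime q) ∧
    ∃ p : ℕ, p.Prime ∧ (∀ x : G, (∃ k : ℕ, orderOf x = q ^ k) → ∃ a : ℕ, (Subgroup.centralizer ({x} : Set G)).index = p ^ a) ∧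
      (p = q → (Q : Subgroup G).Normal ∧ ∃ N : Subgroup G, N.Normal ∧ N.IsComplement' (Q : Subgroup G)) ∧
      (p ≠ q → IsMulCommutative (Q : Subgroup G) ∧ (Cfsg.pCore p G ⊔ (Q : Subgroup G)).Normal ∧
        ∀ _h : (Cfsg.pPrimeCore q G).Normal, Group.IsSolvable (G ⧸ Cfsg.pPrimeCore q G)) := by
  obtain ⟨p, hp, h⟩ := exists_prime hBaer
  haveI := Fact.mk hp
  have hq' : q.Prime := Fact.out
  have key : ∀ K : Subgroup G, K.Normal → (Nat.card K).Coprime q → (K ⊔ Q).Normal →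
      ∃ K L : Subgroup G, K.Normal ∧ L.Normal ∧ K ≤ L ∧ (Nat.card K).Coprime q ∧
        (∃ m : ℕ, K.relIndex L = q ^ m) ∧ L.index.Coprime q := fun K h1 h2 h3 =>
    ⟨K, K ⊔ Q, h1, h3, le_sup_left, h2, by
      rw [relIndex_sup_left]; exact isPGroup_relIndex Q.isPGroup' K,
      ((Nat.Prime.coprime_iff_not_dvd hq').mpr fun e =>
        Q.not_dvd_index (e.trans (index_dvd_of_le le_sup_right))).symm⟩
  have hQ : ∀ x ∈ (Q : Subgroup G), ∃ k, orderOf x = q ^ k := fun x hx =>
    orderOf_eq_pow_of_mem Q.isPGroup' hx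
  by_cases hpq : p = q
  · subst hpq
    have h1 : (Q : Subgroup G) = pCore p G := le_antisymm (fun x hx => by
      obtain ⟨k, hk⟩ := hQ x hx
      obtain ⟨a, ha⟩ := h x ⟨k, hk⟩
      exact wielandt hk ha) (pCore_le_sylow Q)
    haveI : (Q : Subgroup G).Normal := h1 ▸ inferInstance
    refine ⟨key ⊥ inferInstance (by simp) (by rwa [bot_sup_eq]), p, hp, h, fun _ => ⟨this, ?_⟩,
      fun e => absurd rfl e⟩
    obtain ⟨P, N, h2, h3⟩ := S4126.result p fun x hx => h x (by
      rcases hx with hx | ⟨rfl, hx⟩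
      exacts [⟨1, by rw [hx, pow_one]⟩, ⟨2, hx⟩])
    haveI := Sylow.unique_of_normal Q this
    exact ⟨N, h2, Subsingleton.elim P Q ▸ h3⟩
  have hc : (Nat.card (pCore p G)).Coprime q :=
    (pPrimeCore_coprime (p := q)).coprime_dvd_left (card_dvd_of_le (pCore_le_pPrimeCore_of_ne hpq))
  let f := QuotientGroup.mk' (pCore p G)
  have hf : Function.Surjective f := QuotientGroup.mk'_surjective _
  have h1 : (Q.mapSurjective hf : Subgroup _) = pCore q (G ⧸ pCore p G) := by
    refine le_antisymm ?_ (pCore_le_sylow _)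
    rintro _ ⟨x, hx, rfl⟩
    obtain ⟨k, hk⟩ := hQ x hx
    obtain ⟨a, ha⟩ := h x ⟨k, hk⟩
    obtain ⟨j, hj⟩ := exists_pow_of_dvd_pow hq' (hk ▸ orderOf_map_dvd f x)
    refine mem_pCore_of_comm hj fun g => ?_
    obtain ⟨g, rfl⟩ := hf g
    have := (QuotientGroup.eq_one_iff _).mpr (commutator_conj_mem_pCore ha 1 g)
    rw [← commutatorElement_eq_one_iff_mul_comm, commutatorElement_def]
    simpa [f] using this
  haveI : (Q.mapSurjective hf : Subgroup (G ⧸ pCore p G)).Normal := h1 ▸ inferInstance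
  have h2 : (pCore p G ⊔ Q).Normal := by
    have := Normal.comap this f
    rwa [Sylow.coe_mapSurjective, comap_map_eq, QuotientGroup.ker_mk', sup_comm] at this
  have h3 : ∀ {H : Type _} [Group H] (f : G →* H), Function.Surjective f →
      ∀ v ∈ (Q : Subgroup G).map f, ∃ a, (centralizer ({v} : Set H)).index = p ^ a := by
    rintro H _ f hf _ ⟨x, hx, rfl⟩
    obtain ⟨a, ha⟩ := h x (hQ x hx)
    exact exists_pow_of_dvd_pow hp (ha ▸ index_centralizer_map_dvd hf x)
  have h4 : IsMulCommutative (Q : Subgroup G) := ⟨⟨fun x y => Subtype.ext (by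
    obtain ⟨a, ha⟩ := h3 f hf _ (mem_map_of_mem f y.2)
    have h5 := mem_cent (Q.mapSurjective hf) (fun e => hpq ((Nat.prime_dvd_prime_iff_eq hq' hp).mp
      (hq'.dvd_of_dvd_pow (ha ▸ e))).symm) _ (mem_map_of_mem f x.2)
    rw [← commutatorElement_eq_one_iff_mul_comm, ← map_commutatorElement] at h5
    obtain ⟨k, hk⟩ := hQ _ ⁅x, y⁆.2
    exact commutatorElement_eq_one_iff_mul_comm.mp (orderOf_eq_one_iff.mp (Nat.eq_one_of_dvd_coprimes
      (hc.pow_right k) (orderOf_dvd_natCard _ ((QuotientGroup.eq_one_iff _).mp h5)) hk.dvd)))⟩⟩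
  refine ⟨key _ inferInstance hc h2, p, hp, h, fun e => absurd e hpq, fun _ => ⟨h4, h2, fun _ => ?_⟩⟩
  let π := QuotientGroup.mk' (pPrimeCore q G)
  have hπ : Function.Surjective π := QuotientGroup.mk'_surjective _
  haveI : ((Q : Subgroup G).map π).Normal := by
    have := h2.map π hπ
    rwa [Subgroup.map_sup, (Subgroup.map_eq_bot_iff _).mpr (by
      rw [QuotientGroup.ker_mk']; exact pCore_le_pPrimeCore_of_ne hpq), bot_sup_eq] at this
  have h5 := le_centralizer ((Q : Subgroup G).map π)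
  have h6 := (Q.mapSurjective hπ).not_dvd_index
  haveI := Baer.isSolvable_of_orbits hp ((Q : Subgroup G).map π) inferInstance (Q.isPGroup'.map π)
    (fun e => h6 (e.trans (index_dvd_of_le h5))) (h3 π hπ)
  have h7 := exists_normal_complement_of_central (π := {q}) h5 le_rfl
    (isPGroup_iff_piNum_singleton.mp (Q.isPGroup'.map π))
    ((piNum_compl_singleton_iff hq').mpr ((Nat.Prime.coprime_iff_not_dvd hq').mpr fun e =>
      h6 (e.trans (relIndex_dvd_index_of_le h5))).symm)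
  rw [← pPrimeCore_eq_piCore hq', pPrimeCore_quotient_pPrimeCore, sup_bot_eq] at h7
  haveI := (Q.isPGroup'.map π).isNilpotent
  haveI := CF.Solv.isSolvable_of_le h7
  exact isSolvable_of_normal_of_quotient (centralizer ((Q : Subgroup G).map π : Set _))

end Cfsg.Agent.S4125
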