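import Cfsg.Statements.S4150
import Cfsg.Agent.XT.Bt1
import Cfsg.Agent.XT.Bt3

set_option autoImplicit false
open Cfsg

namespace Cfsg.Agent.S4150

/-- Let m ≥ 5. Then there are primes p < q with m/2 ≤ p and q ≤ m such that any two elements x, y of the alternating group of degree m with x of order p and y of order q generate a subgroup isomorphic to an alternating group of some degree d ≥ 5. -/
theorem result (m : ℕ) (hm : 5 ≤ m) :
    ∃ p q : ℕ, p.Prime ∧ q.Prime ∧ m ≤ 2 * p ∧ p < q ∧ q ≤ m ∧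
      ∀ x y : alternatingGroup (Fin m), orderOf x = p → orderOf y = q →
        ∃ d : ℕ, 5 ≤ d ∧ Nonempty (Subgroup.closure ({x, y} : Set (alternatingGroup (Fin m))) ≃* alternatingGroup (Fin d)) := by
  have key : ∀ p q : ℕ, p.Prime → q.Prime → p < q → m ≤ 2 * p → q ≤ m →
      ((p = 3 ∧ q = 5) ∨ (p = 5 ∧ q = 7) ∨ (p = 11 ∧ q = 13) ∨
      (p + 3 ≤ q ∧ (m < 2 * p ∨ q + 3 ≤ 2 * p))) →
      ∃ p q : ℕ, p.Prime ∧ q.Prime ∧ m ≤ 2 * p ∧ p < q ∧ q ≤ m ∧
      ∀ x y : alternatingGroup (Fin m), orderOf x = p → orderOf y = q →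
        ∃ d : ℕ, 5 ≤ d ∧ Nonempty (Subgroup.closure ({x, y} : Set (alternatingGroup (Fin m))) ≃* alternatingGroup (Fin d)) :=
    fun p q hp hq h1 h2 h3 h4 => ⟨p, q, hp, hq, h2, h1, h3, CF.XT.Bt.gen_alt hp hq h1 h2 h4⟩
  by_cases h1 : m ≤ 6
  · exact key 3 5 (by norm_num) (by norm_num) (by omega) (by omega) (by omega) (by omega)
  by_cases h2 : m ≤ 10
  · exact key 5 7 (by norm_num) (by norm_num) (by omega) (by omega) (by omega) (by omega)
  by_cases h3 : m ≤ 14
  · exact key 7 11 (by norm_num) (by norm_num) (by omega) (by omega) (by omega) (by omega)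
  by_cases h4 : m ≤ 16
  · exact key 11 13 (by norm_num) (by norm_num) (by omega) (by omega) (by omega) (by omega)
  obtain ⟨p, q, hp, hq, h5, h6, h7⟩ := CF.XT.Bt.two_primes m (by omega)
  exact key p q hp hq (by omega) (by omega) h7 (by omega)

end Cfsg.Agent.S4150
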