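import Cfsg.Statements.S4185
import Cfsg.Agent.BN.BcD
import Cfsg.Agent.S0201
import Cfsg.Agent.Coprime.Thompson
import Cfsg.Agent.Solv.Nilpotent

set_option autoImplicit false
open Cfsg

namespace Cfsg.Agent.S4185

open Subgroup in
theorem rank {G : Type*} [Group G] [Finite G] {H : Subgroup G} [H.Normal] [IsSimpleGroup H]
    (hC : centralizer (H : Set G) = ⊥) {p : ℕ} [Fact p.Prime] (h1 : p ∣ Nat.card H)
    (h2 : p ∣ H.index) (P : Sylow p G) : ¬ (IsCyclic P ∨ p = 2 ∧ ∃ n : ℕ, 1 ≤ n ∧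
      Nonempty (P ≃* QuaternionGroup (2 ^ n))) := by
  have h3 : ∀ N : Subgroup G, N.Normal → N = ⊥ ∨ H ≤ N := fun N _ =>
    ((inferInstance : (N.subgroupOf H).Normal).eq_bot_or_eq_top).imp (fun a => eq_bot_iff.2
      (hC ▸ fun x b y c => (commute_of_normal_of_disjoint H N ‹_› ‹_›
        (subgroupOf_eq_bot.1 a).symm y x c b).eq)) subgroupOf_eq_top.1
  rintro (a | ⟨rfl, _ | n, a, ⟨e⟩⟩)
  · have l : P.1 ≤ H ⊔ P := le_sup_right
    have : IsCyclic (P.subtype l) := isCyclic_of_surjective _ (subgroupOfEquivOfLe l).symm.surjective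
    refine (P.subtype l).not_dvd_card_commutator_or_not_dvd_index_commutator.elim
      (fun b => b ?_) fun b => P.not_dvd_index (h2.trans (index_dvd_of_le fun x c => ?_))
    · rw [← card_map_of_injective (subtype_injective _), map_subtype_commutator]
      refine h1.trans (card_dvd_of_le (((h3 ⁅H, H⁆ inferInstance).resolve_left fun c => ?_).trans
        (commutator_mono le_sup_left le_sup_left)))
      rw [commutator_eq_bot_iff_le_centralizer, hC, le_bot_iff] at c
      exact (Fact.out : p.Prime).not_dvd_one (by simpa [c] using h1)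
    · have h4 : ((H ⊔ P).map (QuotientGroup.mk' H)) = P.1.map (QuotientGroup.mk' H) := by
        rw [Subgroup.map_sup, (map_eq_bot_iff H).2 (by simp), bot_sup_eq]
      have := isCyclic_of_surjective _ ((QuotientGroup.mk' H).subgroupMap_surjective P)
      rw [← h4] at this
      let := this.commGroup
      obtain ⟨k, hk⟩ := P.2 ⟨x, c⟩
      have h5 := Abelianization.commutator_subset_ker
        ((QuotientGroup.mk' H).subgroupMap (H ⊔ P)) (CF.BN.Ba.mem_of_cop (x := ⟨x, l c⟩)
          (((Fact.out : p.Prime).coprime_iff_not_dvd.2 b).pow_left k) (by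
            rw [show (⟨x, l c⟩ : ↥(H ⊔ P)) ^ p ^ k = 1 from Subtype.ext (congrArg (·.1) hk)]
            exact one_mem _) (pow_index_mem _ _))
      exact (QuotientGroup.eq_one_iff _).1 (congrArg Subtype.val h5)
  · omega
  · have := S0201.result P n e fun N b c => (h3 N b).resolve_right fun d =>
      (Nat.not_even_iff_odd.2 c) (even_iff_two_dvd.2 (h1.trans (card_dvd_of_le d)))
    rw [le_bot_iff.1 ((center_le_centralizer (H : Set G)).trans hC.le), card_bot] at this
    omega

/-- Let G be a finite group with normal subgroups K < H such that K is nilpotent and contains every solvable normal subgroup of G, H/K is a simple group of Lie type (in some characteristic p) and the centralizer of H/K in G/K is trivial. If G/H is not cyclic, then some prime r dividing #(G/H) is adjacent to every other vertex of the prime graph of G: for every prime s ≠ r dividing #G there is an element of order rs. -/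
theorem result {G : Type*} [Group G] [Finite G]
    (K H : Subgroup G) [K.Normal] [H.Normal] (hKH : K < H)
    (hrad : ∀ M : Subgroup G, M.Normal → Group.IsSolvable ↥M → M ≤ K) (hK : Group.IsNilpotent ↥K)
    (p : ℕ) (hS : IsSimpleGroup (↥H ⧸ K.subgroupOf H)) (hS' : Cfsg.IsLieTypeChar p (↥H ⧸ K.subgroupOf H))
    (hC : Subgroup.centralizer ((H.map (QuotientGroup.mk' K) : Subgroup (G ⧸ K)) : Set (G ⧸ K)) = ⊥)
    (hnc : ¬ IsCyclic (G ⧸ H)) :
    ∃ r : ℕ, r.Prime ∧ r ∣ Nat.card (G ⧸ H) ∧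
      ∀ s : ℕ, s.Prime → s ∣ Nat.card G → s ≠ r → ∃ g : G, orderOf g = r * s := by
  open CF.BN.Ba Subgroup in
  have hs := QuotientGroup.mk'_surjective K
  have e := (QuotientGroup.quotientMulEquivOfEq (M := K.subgroupOf H) (by
    rw [ker_subgroupMap, QuotientGroup.ker_mk'])).trans
      (QuotientGroup.quotientKerEquivOfSurjective _ ((QuotientGroup.mk' K).subgroupMap_surjective H))
  have e' := QuotientGroup.quotientQuotientEquivQuotient K H hKH.le
  set J := H.map (QuotientGroup.mk' K)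
  have := e.symm.isSimpleGroup
  obtain ⟨r, hr, h1⟩ := exists_ch (mt e'.isCyclic.1 hnc)
  have := Fact.mk hr
  have h2 : Function.Injective (MulAut.conjNormal (H := J)) := (injective_iff_map_eq_one _).2
    fun g a => mem_bot.1 (hC ▸ fun y b => (mul_inv_eq_iff_eq_mul.1
      (congrArg Subtype.val (DFunLike.congr_fun a (⟨y, b⟩ : J)) :)).symm)
  obtain ⟨h3, h4⟩ := Cf.equiv (θ := MulAut.conjNormal) ⟨h2, fun _ ⟨y, a⟩ => ⟨y, a ▸ MulAut.conjNormal_val⟩,
    fun g => ⟨fun a => ⟨⟨g, a⟩, MulAut.conjNormal_val.symm⟩, fun ⟨y, a⟩ =>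
      h2 (MulAut.conjNormal_val.trans a) ▸ y.2⟩, h1⟩ e.symm (res_lie · hS')
  refine ⟨r, hr, Nat.card_congr e'.toEquiv ▸ h1.dvd, fun s a b c => ?_⟩
  have := Fact.mk a
  by_cases d : s ∣ Nat.card (G ⧸ K)
  · obtain ⟨⟨_, g, rfl⟩, h5⟩ := (h4 s c (Nat.card_congr (MonoidHom.ofInjective h2).toEquiv ▸ d)).exists_order
      hr a c.symm
    obtain ⟨g, rfl⟩ := hs g
    rw [← orderOf_coe, orderOf_injective _ h2] at h5
    exact ⟨_, orderOf_pow_orderOf_div (orderOf_pos g).ne' (h5 ▸ orderOf_map_dvd _ g)⟩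
  obtain ⟨P⟩ : Nonempty (Sylow r G) := inferInstance
  obtain ⟨Q⟩ : Nonempty (Sylow s K) := inferInstance
  have := Q.characteristic_of_normal inferInstance
  have h5 : Q.1.map K.subtype ≠ ⊥ := mt (map_eq_bot_iff_of_injective _ K.subtype_injective).1
    (Q.ne_bot_of_dvd_card ((a.dvd_mul.1 (K.card_eq_card_quotient_mul_card_subgroup ▸ b)).resolve_left d))
  by_contra h6
  have h7 : ∀ x ∈ P, ∀ y ∈ Q.1.map K.subtype, Commute x y → x = 1 ∨ y = 1 := fun x u y v w => by
    by_contra! z
    obtain ⟨i, hi⟩ := P.2 ⟨x, u⟩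
    obtain ⟨j, hj⟩ := Q.2.map K.subtype ⟨y, v⟩
    obtain ⟨g, hg⟩ := Adj.exists_order (H := ⊤) hr a c.symm ⟨x, trivial, y, trivial, w,
      dvd_orderOf (congrArg Subtype.val hi) z.1, dvd_orderOf (congrArg Subtype.val hj) z.2⟩
    exact h6 ⟨g, (orderOf_coe g).trans hg⟩
  have h8 : P.1 ≃* P.mapSurjective hs := .ofBijective ((QuotientGroup.mk' K).subgroupMap P)
    ⟨(injective_iff_map_eq_one _).2 fun x u => by
      obtain ⟨y, v⟩ := ne_bot_iff_exists_ne_one.1 h5
      obtain ⟨i, hi⟩ := P.2.exists_orderOf_eq_pow x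
      obtain ⟨j, hj⟩ := (Q.2.map K.subtype).exists_orderOf_eq_pow y
      refine Subtype.ext ((h7 x x.2 y y.2 (CF.Solv.commute_of_coprime_orderOf
        ((QuotientGroup.eq_one_iff (N := K) _).1 (congrArg (·.1) u)) (map_subtype_le _ y.2) ?_)).resolve_right
          fun e => v (Subtype.ext e))
      rw [orderOf_coe, orderOf_coe, hi, hj]
      exact Nat.coprime_pow_primes _ _ hr a c.symm, MonoidHom.subgroupMap_surjective _ _⟩
  refine rank hC h3 h1.dvd (P.mapSurjective hs) ((CF.Coprime.SemiReg.isCyclic_or_quaternion (fun x u v =>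
    eq_bot_iff.2 fun y w => (h7 x u y w.1 (w.2 x rfl)).resolve_left v) le_normalizer_of_normal h5 P.2).imp
      h8.isCyclic.1 fun ⟨u, n, v, ⟨w⟩⟩ => ⟨u, n, v, ⟨h8.symm.trans w⟩⟩)

end Cfsg.Agent.S4185
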