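import Mathlib
import Cfsg.Agent.Fgs2.Basic
import Cfsg.Statements.S4195

set_option autoImplicit false
open Cfsg

namespace Cfsg.Agent.S4195

/-- Let x be a non-identity element of a finite group G whose centralizer contains a Sylow 2-subgroup of G. If x is conjugate to its inverse, then x has order 2. -/
theorem result {G : Type*} [Group G] [Finite G] (x : G) (hx : x ≠ 1) (P : Sylow 2 G) (hP : (P : Subgroup G) ≤ Subgroup.centralizer ({x} : Set G)) (hreal : IsConj x x⁻¹) : orderOf x = 2 := by
  obtain ⟨g, hg⟩ := isConj_iff.1 hreal
  by_cases hx2 : x⁻¹ = x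
  · refine orderOf_eq_prime ?_ hx
    rw [pow_two]; nth_rw 1 [← hx2]; simp
  exfalso
  set C := Subgroup.centralizer ({x} : Set G)
  have hg' : g * x⁻¹ * g⁻¹ = x := by
    calc g * x⁻¹ * g⁻¹ = (g * x * g⁻¹)⁻¹ := by group
      _ = x := by rw [hg, inv_inv]
  have h2 : C.relIndex (Subgroup.normalizer ({x, x⁻¹} : Set G)) = 2 := by
    rw [Subgroup.relIndex_eq_two_iff_exists_notMem_and]
    refine ⟨g, ?_, ?_, ?_⟩
    · intro n
      simp only [Set.mem_insert_iff, Set.mem_singleton_iff]
      constructor
      · rintro (rfl | rfl)
        · exact Or.inr hg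
        · exact Or.inl hg'
      · rintro (h | h)
        · right
          rw [← hg'] at h
          simpa using h
        · left
          rw [← hg] at h
          simpa using h
    · intro h
      rw [Subgroup.mem_centralizer_singleton_iff] at h
      apply hx2
      rw [← hg, h]; simp
    · intro b hb
      have := (hb x).1 (by simp)
      simp only [Set.mem_insert_iff, Set.mem_singleton_iff] at this
      simp only [C, Subgroup.mem_centralizer_singleton_iff]
      rcases this with h | h
      · right
        calc b * x = (b * x * b⁻¹) * b := by group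
          _ = _ := by rw [h]
      · left
        calc b * g * x = b * (g * x * g⁻¹) * g := by group
          _ = (b * x * b⁻¹)⁻¹ * b * g := by rw [hg]; group
          _ = _ := by rw [h]; group
  have hle : C ≤ Subgroup.normalizer ({x, x⁻¹} : Set G) := by
    refine le_trans ?_ (Subgroup.centralizer_le_normalizer _)
    intro y hy
    rw [Subgroup.mem_centralizer_singleton_iff] at hy
    rintro z (rfl | rfl)
    · exact hy.symm
    · exact (Commute.inv_right hy).symm
  apply P.not_dvd_index
  exact (h2 ▸ Subgroup.relIndex_dvd_index_of_le hle).trans (Subgroup.index_dvd_of_le hP)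

end Cfsg.Agent.S4195
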