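import Mathlib
import Cfsg.Statements.S4193
import Cfsg.Agent.Coprime.Special
import Cfsg.Agent.Transfer.Frobenius
import Cfsg.Agent.Fgs1.PCentral
import Cfsg.Agent.Hyp.FTProof
import Cfsg.Agent.S3861
import Cfsg.Agent.S4195

set_option autoImplicit false
open Cfsg

namespace Cfsg.Agent.S4193

open Subgroup CF.Coprime CF.Solv
open scoped commutatorElement

theorem cent_of_min {G : Type*} [Group G] [Finite G] (A : Subgroup G) (hA : (Nat.card A).Coprime 2)
    (hinv : ∀ t : G, t * t = 1 → t ∈ center G) :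
    ∀ P : Subgroup G, IsPGroup 2 P → A ≤ normalizer (P : Set G) →
      (∀ x ∈ P, ∀ g ∈ P, g * x * g⁻¹ = x⁻¹ → x * x = 1) → A ≤ centralizer (P : Set G) := by
  intro P
  induction P using WellFoundedLT.induction with
  | ind P ih =>
  intro hP hAP hre
  by_contra hnt
  haveI : Fact (Nat.Prime 2) := ⟨Nat.prime_two⟩
  have hmin : ∀ U : Subgroup G, U < P → A ≤ normalizer (U : Set G) → A ≤ normalizer (U : Set G) →
      A ≤ centralizer (U : Set G) := fun U hU h1 _ =>
    ih U hU (hP.to_le hU.le) h1 fun x hx g hg h => hre x (hU.le hx) g (hU.le hg) h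
  have hAA : A ≤ normalizer (A : Set G) := le_normalizer
  have h1 := minAct_frattiniOf_eq hP hAP hAP hAA hA hnt hmin
  have h2 := minAct_frattiniOf_eq' hP hAP hAP hAA hA hnt hmin
  have h3 := minAct_frattiniOf_le_centralizer hP hAP hAP hAA hA hnt hmin
  have hDc : ⁅P, P⁆ ≤ centralizer (P : Set G) := h1 ▸ h3
  have hDA : ⁅P, P⁆ ≤ centralizer (A : Set G) := by rw [← h1, h2]; exact inf_le_right
  -- an element not centralized by `A`
  obtain ⟨x, hxP, hxA⟩ : ∃ x ∈ P, x ∉ centralizer (A : Set G) := by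
    by_contra h
    push Not at h
    exact hnt (le_centralizer_iff.mp h)
  have hcomm : ∀ u ∈ P, ∀ g ∈ P, ∀ v ∈ P, v * ⁅u, g⁆ = ⁅u, g⁆ * v := fun u hu g hg v hv =>
    (mem_centralizer_iff.mp (hDc (commutator_mem_commutator hu hg))) v hv
  have hmulR : ∀ u ∈ P, ∀ g ∈ P, ∀ h ∈ P, ⁅u, g * h⁆ = ⁅u, g⁆ * ⁅u, h⁆ := by
    intro u hu g hg h hh
    have := hcomm u hu h hh g hg
    calc ⁅u, g * h⁆ = ⁅u, g⁆ * (g * ⁅u, h⁆) * g⁻¹ := by simp only [commutatorElement_def]; group
      _ = _ := by rw [this]; group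
  have hmulL : ∀ u ∈ P, ∀ v ∈ P, ∀ g ∈ P, ⁅u * v, g⁆ = ⁅v, g⁆ * ⁅u, g⁆ := by
    intro u hu v hv g hg
    have := hcomm v hv g hg u hu
    calc ⁅u * v, g⁆ = (u * ⁅v, g⁆) * u⁻¹ * ⁅u, g⁆ := by simp only [commutatorElement_def]; group
      _ = _ := by rw [this]; group
  let W : Subgroup G :=
    { carrier := {w | ∃ g ∈ P, w = ⁅x, g⁆}
      one_mem' := ⟨1, one_mem _, by simp⟩
      mul_mem' := by
        rintro _ _ ⟨g, hg, rfl⟩ ⟨h, hh, rfl⟩
        exact ⟨g * h, mul_mem hg hh, (hmulR x hxP g hg h hh).symm⟩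
      inv_mem' := by
        rintro _ ⟨g, hg, rfl⟩
        refine ⟨g⁻¹, inv_mem hg, ?_⟩
        have := hmulR x hxP g hg g⁻¹ (inv_mem hg)
        rw [mul_inv_cancel, commutatorElement_one_right] at this
        exact (eq_inv_of_mul_eq_one_right this.symm).symm }
  have hWD : W ≤ ⁅P, P⁆ := by
    rintro _ ⟨g, hg, rfl⟩
    exact commutator_mem_commutator hxP hg
  let R : Subgroup G :=
    { carrier := {u | u ∈ P ∧ ∀ g ∈ P, ⁅u, g⁆ ∈ W}
      one_mem' := ⟨one_mem _, fun g _ => by simpa using one_mem W⟩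
      mul_mem' := by
        rintro u v ⟨hu, hu'⟩ ⟨hv, hv'⟩
        refine ⟨mul_mem hu hv, fun g hg => ?_⟩
        rw [hmulL u hu v hv g hg]
        exact mul_mem (hv' g hg) (hu' g hg)
      inv_mem' := by
        rintro u ⟨hu, hu'⟩
        refine ⟨inv_mem hu, fun g hg => ?_⟩
        have := hmulL u hu u⁻¹ (inv_mem hu) g hg
        rw [mul_inv_cancel, commutatorElement_one_left] at this
        rw [eq_inv_of_mul_eq_one_left this.symm]
        exact inv_mem (hu' g hg) }
  have hRP : R ≤ P := fun u hu => hu.1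
  have hxR : x ∈ R := ⟨hxP, fun g hg => ⟨g, hg, rfl⟩⟩
  have hAR : A ≤ normalizer (R : Set G) := by
    intro a ha
    refine CF.Fgs1.mem_normalizer_of_forall fun u hu => ⟨?_, fun g hg => ?_⟩
    · exact CF.Fgs1.conj_mem_of_mem_normalizer (hAP ha) hu.1
    · have hg' := CF.Fgs1.inv_conj_mem_of_mem_normalizer (hAP ha) hg
      have hw := hu.2 _ hg'
      have hc := (mem_centralizer_iff.mp (hDA (hWD hw))) a ha
      have : ⁅a * u * a⁻¹, g⁆ = a * ⁅u, a⁻¹ * g * a⁆ * a⁻¹ := by
        simp only [commutatorElement_def]; group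
      rw [this, hc, mul_inv_cancel_right]
      exact hw
  rcases hRP.lt_or_eq with hlt | heq
  · exact hxA (le_centralizer_iff.mp (hmin R hlt hAR hAR) hxR)
  · have hDW : ⁅P, P⁆ ≤ W := commutator_le.mpr fun u hu g hg => (heq ▸ hu : u ∈ R).2 g hg
    have hx2 : x ^ 2 ∈ W := hDW (h1 ▸ pow_mem_frattiniOf hP hxP)
    obtain ⟨g, hg, hxg⟩ := hx2
    have : g * x * g⁻¹ = x⁻¹ := by
      have h4 : x * x = x * (g * x⁻¹ * g⁻¹) := by
        rw [← sq, hxg, commutatorElement_def]; group
      have h5 := mul_left_cancel h4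
      calc g * x * g⁻¹ = (g * x⁻¹ * g⁻¹)⁻¹ := by group
        _ = x⁻¹ := by rw [← h5]
    exact hxA fun a _ => (mem_center_iff.mp (hinv x (hre x hxP g hg this)) a)


/-- Let G be a finite group in which the conjugacy classes of all non-central real elements (elements conjugate to their inverses) have sizes with the same 2-part, and suppose G has a Sylow 2-subgroup S such that every element of S that is conjugate in S to its inverse lies in the centre of S. Then G is solvable and the subgroup generated by the 2-elements of G (the smallest normal subgroup of odd index) has a normal 2-complement. -/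
theorem result {G : Type*} [Group G] [Finite G] (a : ℕ) (h : ∀ x : G, IsConj x x⁻¹ → x ∉ Subgroup.center G → ((Subgroup.centralizer ({x} : Set G)).index).factorization 2 = a) (S : Sylow 2 G) (hS : ∀ s : ↥(S : Subgroup G), IsConj s s⁻¹ → s ∈ Subgroup.center ↥(S : Subgroup G)) : Group.IsSolvable G ∧ Cfsg.HasNormalPComplement 2 ↥(Subgroup.closure {g : G | ∃ k : ℕ, orderOf g = 2 ^ k}) := by
  haveI : Fact (Nat.Prime 2) := ⟨Nat.prime_two⟩
  have hre : ∀ x ∈ (S : Subgroup G), ∀ g ∈ (S : Subgroup G), g * x * g⁻¹ = x⁻¹ →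
      ∀ y ∈ (S : Subgroup G), y * x = x * y := by
    intro x hx g hg hgx y hy
    have := hS ⟨x, hx⟩ (isConj_iff.mpr ⟨⟨g, hg⟩, Subtype.ext hgx⟩)
    exact congrArg Subtype.val (mem_center_iff.mp this ⟨y, hy⟩)
  by_cases hinv : ∀ t : G, t * t = 1 → t ∈ center G
  · have hN : Cfsg.HasNormalPComplement 2 G := by
      refine CF.Transfer.frobenius_hasNPC S fun Q hQ _ g hg hc => ?_
      refine cent_of_min (zpowers g) (by rwa [Nat.card_zpowers]) hinv Q (S.isPGroup'.to_le hQ)
        (zpowers_le.mpr hg) (fun x hx k hk hkx => ?_) (mem_zpowers g)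
      have := hre x (hQ hx) k (hQ hk) hkx k (hQ hk)
      rw [this, mul_inv_cancel_right] at hkx
      exact mul_eq_one_iff_eq_inv.mpr hkx
    refine ⟨?_, CF.Transfer.HasNPC.subgroup hN _⟩
    obtain ⟨N, hNn, hNc, k, hk⟩ := CF.Transfer.hasNPC_iff_exists_normal.mp hN
    haveI := CF.Hyp.isSolvable_of_odd (G := N) (Nat.coprime_two_right.mp hNc)
    have hp : IsPGroup 2 (G ⧸ N) := IsPGroup.of_card (by rw [← hk]; rfl)
    haveI := hp.isNilpotent
    exact Group.isSolvable_of_ker_le_range N.subtype (QuotientGroup.mk' N) (by simp)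
  · push Not at hinv
    obtain ⟨t, ht, htc⟩ := hinv
    have ha : a = 0 := by
      have hp : IsPGroup 2 (zpowers t) := by
        refine IsPGroup.of_card (n := 1) ?_
        rw [Nat.card_zpowers, pow_one]
        exact orderOf_eq_prime (by rw [sq, ht]) fun h1 => htc (h1 ▸ one_mem _)
      obtain ⟨T, hT⟩ := hp.exists_le_sylow
      obtain ⟨g, hg⟩ := MulAction.exists_smul_eq G T S
      have hmem : g * t * g⁻¹ ∈ (S : Subgroup G) := by
        rw [← hg, CF.Fgs1.sylow_coe_smul]
        exact CF.Fgs1.conj_mem_map_conj (hT (mem_zpowers t))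
      have hi : (g * t * g⁻¹)⁻¹ = g * t * g⁻¹ := by
        rw [inv_eq_iff_mul_eq_one]
        calc g * t * g⁻¹ * (g * t * g⁻¹) = g * (t * t) * g⁻¹ := by group
          _ = 1 := by rw [ht]; group
      have h1 := h (g * t * g⁻¹) (by rw [hi]) (fun hc => htc (by
        have := (inferInstance : (center G).Normal).conj_mem _ hc g⁻¹
        simpa [mul_assoc] using this))
      have h2 : (S : Subgroup G) ≤ centralizer ({g * t * g⁻¹} : Set G) := fun y hy =>
        mem_centralizer_singleton_iff.mpr (hre _ hmem 1 (one_mem _) (by rw [hi]; group) y hy)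
      rw [← h1]
      exact Nat.factorization_eq_zero_of_not_dvd fun hd =>
        S.not_dvd_index (hd.trans (index_dvd_of_le h2))
    have hSn : (S : Subgroup G).Normal := by
      refine (Cfsg.Agent.S3861.result S).mp fun x hx hodd hconj => ?_
      have hxc : x ∉ center G := by
        intro hc
        obtain ⟨g, hg⟩ := isConj_iff.mp hconj
        rw [mem_center_iff.mp hc g, mul_inv_cancel_right] at hg
        have : x ^ 2 = 1 := by rw [sq]; exact mul_eq_one_iff_eq_inv.mpr hg
        have h2 := orderOf_eq_prime this hx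
        rw [h2] at hodd
        exact absurd hodd (by decide)
      have h1 := h x hconj hxc
      rw [ha] at h1
      have h2 : ¬ 2 ∣ (centralizer ({x} : Set G)).index := fun hd => by
        have := (Nat.prime_two.dvd_iff_one_le_factorization index_ne_zero_of_finite).mp hd
        omega
      obtain ⟨T⟩ : Nonempty (Sylow 2 (centralizer ({x} : Set G))) := inferInstance
      have hT := CF.Fgs1.IsSylowIn.top_of_not_dvd (CF.Transfer.isSylowIn_map_sylow T) h2
      obtain ⟨P, hP⟩ := CF.Transfer.isSylowIn_top_iff.mp hT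
      have h3 := Cfsg.Agent.S4195.result x hx P (by rw [hP]; exact map_subtype_le _) hconj
      rw [h3] at hodd
      exact absurd hodd (by decide)
    haveI := CF.Hyp.isSolvable_of_odd (G := G ⧸ (S : Subgroup G))
      (Nat.not_even_iff_odd.mp fun he => S.not_dvd_index (even_iff_two_dvd.mp he))
    haveI := S.isPGroup'.isNilpotent
    refine ⟨Group.isSolvable_of_ker_le_range (S : Subgroup G).subtype (QuotientGroup.mk' (S : Subgroup G)) (by simp),
      CF.Transfer.hasNPC_of_isPGroup (S.isPGroup'.to_le ((closure_le _).mpr ?_))⟩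
    rintro x ⟨k, hk⟩
    have hp : IsPGroup 2 (zpowers x) := IsPGroup.of_card (by rw [Nat.card_zpowers, hk])
    obtain ⟨T, hT⟩ := hp.exists_le_sylow
    haveI := Sylow.unique_of_normal S hSn
    exact (Subsingleton.elim T S ▸ hT) (mem_zpowers x)

end Cfsg.Agent.S4193
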