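import Mathlib
import Cfsg.Agent.Fgs2.Basic
import Cfsg.Statements.S4244

set_option autoImplicit false
open Cfsg

namespace Cfsg.Agent.S4244

theorem aux {G : Type*} [Group G] {H L : Subgroup G} (K : Subgroup G) (hHL : H ≤ L)
    (hn : (H.subgroupOf L).Normal) : K.relIndex H ∣ K.relIndex L := by
  rw [← Subgroup.inf_relIndex_right K L, ← Subgroup.inf_relIndex_right K H]
  have h1 : K ⊓ H = (K ⊓ L) ⊓ H := by rw [inf_assoc, inf_eq_right.2 hHL]
  rw [h1, Subgroup.inf_relIndex_right, ← Subgroup.relIndex_subgroupOf hHL]
  set A := (K ⊓ L).subgroupOf L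
  set B := H.subgroupOf L
  change A.relIndex B ∣ A.index
  have h2 : A.relIndex B = A.relIndex (A ⊔ B) := by
    let f : B ⧸ A.subgroupOf B → (A ⊔ B : Subgroup L) ⧸ A.subgroupOf (A ⊔ B) :=
      Quotient.map' (fun k => ⟨k, Subgroup.mem_sup_right k.2⟩) (by
        intro a b h
        rw [QuotientGroup.leftRel_apply] at h ⊢
        exact h)
    refine Nat.card_congr (Equiv.ofBijective f ⟨?_, ?_⟩)
    · intro a b
      induction a using QuotientGroup.induction_on with | H a =>
      induction b using QuotientGroup.induction_on with | H b =>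
      intro h
      exact QuotientGroup.eq.2 (QuotientGroup.eq (s := A.subgroupOf (A ⊔ B)).1 h)
    · intro q
      induction q using QuotientGroup.induction_on with | H g =>
      have : (g : L) ∈ B ⊔ A := sup_comm A B ▸ g.2
      obtain ⟨b, hb, a, ha, h⟩ := CF.Fgs2.mem_normal_sup_iff.1 this
      refine ⟨QuotientGroup.mk ⟨b, hb⟩, QuotientGroup.eq.2 ?_⟩
      change b⁻¹ * g ∈ A
      rw [← h]; simpa using ha
  rw [h2]
  exact Subgroup.relIndex_dvd_index_of_le le_sup_left

/-- Let H be a subnormal subgroup of a finite group G. Then for every subgroup K of G the index of H ∩ K in H divides the index of K in G. -/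
theorem result {G : Type*} [Group G] [Finite G] (H : Subgroup G) (hH : H.IsSubnormal) (K : Subgroup G) :
    (H ⊓ K).relIndex H ∣ K.index := by
  rw [Subgroup.inf_relIndex_left]
  induction hH with
  | top => rw [Subgroup.relIndex_top_right]
  | step H L hHL _ hn ih => exact (aux K hHL hn).trans ih

end Cfsg.Agent.S4244
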