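import Mathlib
import Cfsg.Agent.Fgs2.Basic
import Cfsg.Statements.S4347

set_option autoImplicit false
open Cfsg

namespace Cfsg.Agent.S4347

/-- Let G be a finite group and p a prime. Say a Sylow p-subgroup Q is redundant when every element of p-power order lies in some Sylow p-subgroup other than Q. Then G has no redundant Sylow p-subgroup if and only if some element of p-power order lies in exactly one Sylow p-subgroup. -/
theorem result {G : Type*} [Group G] [Finite G]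
    (p : ℕ) [Fact p.Prime] :
    (¬ ∃ Q : Sylow p G, ∀ x : G, (∃ k : ℕ, orderOf x = p ^ k) → ∃ P : Sylow p G, P ≠ Q ∧ x ∈ P) ↔
      ∃ x : G, (∃ k : ℕ, orderOf x = p ^ k) ∧ ∃! P : Sylow p G, x ∈ P := by
  constructor
  · intro h
    push Not at h
    obtain ⟨Q⟩ : Nonempty (Sylow p G) := inferInstance
    obtain ⟨x, ⟨k, hk⟩, hx⟩ := h Q
    refine ⟨x, ⟨k, hk⟩, ?_⟩
    obtain ⟨P, hP⟩ := CF.Fgs2.exists_sylow_mem hk
    have : ∀ R : Sylow p G, x ∈ R → R = Q := fun R hR => by_contra fun hne => hx R hne hR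
    exact ⟨P, hP, fun R hR => (this R hR).trans (this P hP).symm⟩
  · rintro ⟨x, ⟨k, hk⟩, P, hP, hu⟩ ⟨Q, hQ⟩
    obtain ⟨g, rfl⟩ := MulAction.exists_smul_eq G P Q
    obtain ⟨R, hR, hx⟩ := hQ (g * x * g⁻¹) ⟨k, by rw [CF.Fgs2.orderOf_conj, hk]⟩
    have := hu (g⁻¹ • R) (CF.Fgs2.mem_sylow_smul_iff.2 (by simpa using hx))
    exact hR (by rw [← this, smul_inv_smul])

end Cfsg.Agent.S4347
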