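import Mathlib
import Cfsg.Agent.Fgs2.Basic
import Cfsg.Agent.Solv.Cores
import Cfsg.Statements.S4348

set_option autoImplicit false
open Cfsg

namespace Cfsg.Agent.S4348

/-- Let G be a finite group, p a prime and P a Sylow p-subgroup of G, and let O_p(G) be the largest normal p-subgroup of G. If P/O_p(G) is cyclic, then some element of p-power order of G lies in exactly one Sylow p-subgroup. -/
theorem result {G : Type*} [Group G] [Finite G]
    (p : ℕ) [Fact p.Prime] (P : Sylow p G)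
    [hn : ((Cfsg.pCore p G).subgroupOf (P : Subgroup G)).Normal]
    (hc : IsCyclic ((P : Subgroup G) ⧸ (Cfsg.pCore p G).subgroupOf (P : Subgroup G))) :
    ∃ x : G, (∃ k : ℕ, orderOf x = p ^ k) ∧ ∃! Q : Sylow p G, x ∈ Q := by
  obtain ⟨q, hq⟩ := hc.exists_generator
  induction q using QuotientGroup.induction_on with | H x =>
  refine ⟨x, CF.Fgs2.orderOf_eq_pow_of_mem P.2 x.2, P, x.2, fun Q hQ => ?_⟩
  refine Sylow.ext (P.3 Q.2 fun y hy => ?_)
  obtain ⟨n, hn⟩ := Subgroup.mem_zpowers_iff.1 (hq (QuotientGroup.mk ⟨y, hy⟩))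
  rw [← QuotientGroup.mk_zpow, QuotientGroup.eq] at hn
  have h1 : ((x : G) ^ n)⁻¹ * y ∈ (Q : Subgroup G) := CF.Solv.pCore_le_sylow Q hn
  have := (Q : Subgroup G).mul_mem (zpow_mem (hQ : (x : G) ∈ (Q : Subgroup G)) n) h1
  simpa using this

end Cfsg.Agent.S4348
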