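import Mathlib
import Cfsg.Statements.S4363
import Cfsg.Agent.Fgs1.HHTurull

set_option autoImplicit false
open Cfsg

namespace Cfsg.Agent.S4363


/-- Let G be a finite solvable group and σ an automorphism of G of prime order r not dividing the order of G, with fixed-point subgroup C. Then the Fitting height of G exceeds that of C by at most 2: if C has a chain of normal subgroups 1 = C₀ ≤ ⋯ ≤ Cₙ = C with nilpotent factors, then G has such a chain of length n + 2. -/
theorem result {G : Type*} [Group G] [Finite G]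
    (hG : Group.IsSolvable G) (σ : MulAut G) (r : ℕ) (hr : r.Prime) (hσ : orderOf σ = r) (hcop : ¬ r ∣ Nat.card G)
    (C : Subgroup G) (hC : ∀ g : G, g ∈ C ↔ σ g = g) (n : ℕ) (hn : (∃ F : Fin (n + 1) → Subgroup ↥C, F 0 = ⊥ ∧ F (Fin.last n) = ⊤ ∧ Monotone F ∧ (∀ i, (F i).Normal) ∧ ∀ i : Fin n, ∃ k : ℕ, (F i.succ).lowerCentralSeries k ≤ F i.castSucc)) :
    (∃ F : Fin ((n + 2) + 1) → Subgroup G, F 0 = ⊥ ∧ F (Fin.last (n + 2)) = ⊤ ∧ Monotone F ∧ (∀ i, (F i).Normal) ∧ ∀ i : Fin (n + 2), ∃ k : ℕ, (F i.succ).lowerCentralSeries k ≤ F i.castSucc) := by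
  obtain ⟨Γ, _, _, f, x, hf, hx, ho, h⟩ := CF.Fgs1.exists_ambient σ
  refine CF.Fgs1.FitT.of_range hf (CF.Fgs1.fitT_add_two (A := Subgroup.zpowers x)
    (Subgroup.zpowers_le.mpr hx) ?_ ?_ (CF.Fgs1.sol_range hG f) ?_)
  · rwa [Nat.card_zpowers, ho, hσ]
  · rw [Nat.card_zpowers, ho, hσ, ← Nat.card_congr (MonoidHom.ofInjective hf).toEquiv]
    exact (Nat.Prime.coprime_iff_not_dvd hr).mpr hcop
  · rw [CF.Fgs1.range_inf_cent hf h hC]
    exact CF.Fgs1.FitT.of_injective (G' := C) hn (C.equivMapOfInjective f hf).symm.toMonoidHom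
      (C.equivMapOfInjective f hf).symm.injective

end Cfsg.Agent.S4363
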