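import Cfsg.Statements.S4371
import Cfsg.Agent.CIT.Few2

set_option autoImplicit false
open Cfsg

namespace Cfsg.Agent.S4371

/-- Let G be a finite non-solvable group in which no prime divides three pairwise distinct element orders. Then one of the following holds, where 'a product of at most two primes' always counts primes with multiplicity: the quotient of G by its largest normal 2-subgroup is isomorphic to PSL(2, q) with q = 2ᶠ ≥ 4 and each of q + 1, q - 1 a product of at most two primes; G is isomorphic to PSL(2, q) with q > 5, q ≡ 3 or 5 (mod 8) and each of (q + 1)/2, (q - 1)/2 a product of at most two primes; G is isomorphic to PSL(2, 7), PSL(2, 9) or PSL(3, 4); or G is simple of order q²(q² + 1)(q - 1), the order of the Suzuki group Sz(q), where q = 2²ⁿ⁺¹ ≥ 8, and each of q - 1, q - r + 1, q + r + 1 (r = 2ⁿ⁺¹) is a product of at most two primes. -/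
theorem result {G : Type*} [Group G] [Finite G]
    (hG : ¬ Group.IsSolvable G) (h3 : (∀ p : ℕ, p.Prime → ∀ a b c : G, orderOf a ≠ orderOf b → orderOf b ≠ orderOf c → orderOf a ≠ orderOf c → ¬ (p ∣ orderOf a ∧ p ∣ orderOf b ∧ p ∣ orderOf c))) :
    (∃ (F : Type) (_ : Field F) (_ : Fintype F), CharP F 2 ∧ 4 ≤ Fintype.card F ∧
        (Fintype.card F + 1).primeFactorsList.length ≤ 2 ∧ (Fintype.card F - 1).primeFactorsList.length ≤ 2 ∧
        Nonempty (G ⧸ Cfsg.pCore 2 G ≃* Matrix.ProjectiveSpecialLinearGroup (Fin 2) F)) ∨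
    (∃ (F : Type) (_ : Field F) (_ : Fintype F), 5 < Fintype.card F ∧ (Fintype.card F % 8 = 3 ∨ Fintype.card F % 8 = 5) ∧
        ((Fintype.card F + 1) / 2).primeFactorsList.length ≤ 2 ∧ ((Fintype.card F - 1) / 2).primeFactorsList.length ≤ 2 ∧
        Nonempty (G ≃* Matrix.ProjectiveSpecialLinearGroup (Fin 2) F)) ∨
    (∃ (F : Type) (_ : Field F) (_ : Fintype F), (Fintype.card F = 7 ∨ Fintype.card F = 9) ∧
        Nonempty (G ≃* Matrix.ProjectiveSpecialLinearGroup (Fin 2) F)) ∨
    (∃ (F : Type) (_ : Field F) (_ : Fintype F), Fintype.card F = 4 ∧ Nonempty (G ≃* Matrix.ProjectiveSpecialLinearGroup (Fin 3) F)) ∨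
    (∃ n : ℕ, 1 ≤ n ∧ IsSimpleGroup G ∧ Nat.card G = (2 ^ (2 * n + 1)) ^ 2 * ((2 ^ (2 * n + 1)) ^ 2 + 1) * (2 ^ (2 * n + 1) - 1) ∧
        (2 ^ (2 * n + 1) - 1).primeFactorsList.length ≤ 2 ∧ (2 ^ (2 * n + 1) - 2 ^ (n + 1) + 1).primeFactorsList.length ≤ 2 ∧
        (2 ^ (2 * n + 1) + 2 ^ (n + 1) + 1).primeFactorsList.length ≤ 2) := by
  open CF.BG CF.Invol CF.Bender CF.CIT CF.Classical Subgroup in
  have h : Two G := h3
  have ns : ¬ Sol (⊤ : Subgroup G) := fun s => hG (CF.Fgs3.sol_top_iff.1 s)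
  have eO : 𝐎 {2} (⊤ : Subgroup G) = pCore 2 G := by rw [O_top, CF.Solv.pCore_eq_piCore]
  have k : PiGrp {2} (pCore 2 G) := eO ▸ O_pi _ _
  have sj := QuotientGroup.mk'_surjective (pCore 2 G)
  have ev : L2e (G ⧸ pCore 2 G) → _ := fun ⟨F, _, _, n, h1, h2, ⟨e⟩⟩ => show
      ∃ (F : Type) (_ : Field F) (_ : Fintype F), CharP F 2 ∧ 4 ≤ Fintype.card F ∧
        (Fintype.card F + 1).primeFactorsList.length ≤ 2 ∧
        (Fintype.card F - 1).primeFactorsList.length ≤ 2 ∧
        Nonempty (G ⧸ Cfsg.pCore 2 G ≃* Matrix.ProjectiveSpecialLinearGroup (Fin 2) F) from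
    ⟨F, _, _, CF.BN.Suz.charP_of_card h2, h2 ▸ four_le_pow h1,
      h.len (exists_dvd_orderOf (f := e.toMonoidHom.comp _) (e.surjective.comp sj)
        (exists_order_even (by omega) h2 (Or.inr (by rw [h2])))),
      h.len (exists_dvd_orderOf (f := e.toMonoidHom.comp _) (e.surjective.comp sj)
        (exists_order_even (by omega) h2 (Or.inl (by rw [h2])))), ⟨e⟩⟩
  by_cases c : ∀ r : ℕ, r.Prime → r ≠ 2 → ∀ g : G, orderOf g ≠ 2 * r
  · have cit := isCIT_of_no_edge c
    rcases cit.main' ns eO with (l | ⟨F, _, _, m, h1, h2, ⟨e⟩⟩) | ⟨b, l | ⟨F, _, _, h1, ⟨e⟩⟩ | l⟩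
    · exact Or.inl (ev l)
    · have b : pCore 2 G = ⊥ := by_contra fun b => by
        have ek : (e.toMonoidHom.comp (QuotientGroup.mk' (pCore 2 G))).ker = pCore 2 G := by
          ext x; simp
        obtain ⟨g, hg⟩ := cit.eight_of_sz (e.surjective.comp sj) (ek.symm ▸ k) (ek.symm ▸ b) h1 h2
        exact h.ne_eight g hg
      have f := (quotBot b).symm.trans e
      haveI := (CF.BN.Suz.lieD F m h2).isSimpleGroup (CF.BN.Suz.two_lt_card h1 h2)
      have A := fun {n} k => h.len (exists_dvd_orderOf (f := f.toMonoidHom) f.surjective (n := n) k)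
      exact Or.inr (Or.inr (Or.inr (Or.inr ⟨m, h1, f.isSimpleGroup, by
        rw [Nat.card_congr f.toEquiv, card_sz h2]; ring, A (exists_order_sz' h2),
        A (exists_order_sz h1 h2 (Or.inr rfl)), A (exists_order_sz h1 h2 (Or.inl rfl))⟩)))
    · exact Or.inr (Or.inr (Or.inr (Or.inl l)))
    · exact Or.inr (Or.inr (Or.inl ⟨F, _, _, h.oddQ e h1, ⟨e⟩⟩))
    · obtain ⟨g, hg⟩ := cit.exists_eight (eO.trans b) ns l
      exact absurd hg (h.ne_eight g)
  push Not at c
  obtain ⟨r, hr, r2, g, hg⟩ := c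
  obtain ⟨F, _, _, hF, ⟨e⟩⟩ := (h.tr hr r2 hg).main ns
  have o : orderOf (e g) = 2 * r := by simp [hg]
  have := hr.two_le
  rcases hF with ⟨h3, h5⟩ | ⟨n, h2, hF⟩
  · have od : Odd (Fintype.card F) := Nat.odd_iff.2 (by omega)
    have A := fun {n} k => h.len (exists_dvd_orderOf (f := e.toMonoidHom) e.surjective (n := n) k)
    refine Or.inr (Or.inl ⟨F, _, _, h5.lt_of_ne fun e5 => ?_, h3, A (exists_order_odd od (by omega)),
      A (exists_order_odd od (by omega)), ⟨e⟩⟩)
    have d := orderOf_dvd_natCard (e g)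
    obtain ⟨a⟩ := PSL2_five_equiv (F := F) (Nat.card_eq_fintype_card.trans e5.symm)
    haveI := Fact.mk Nat.prime_two
    obtain ⟨b⟩ := PSL2_four_equiv (F := GaloisField 2 2) (GaloisField.card 2 2 two_ne_zero)
    letI := Fintype.ofFinite (GaloisField 2 2)
    have := l2e_order_cases (n := 2) (Nat.card_eq_fintype_card.symm.trans
      (GaloisField.card 2 2 two_ne_zero)) ((a.trans b.symm) (e g))
    rw [MulEquiv.orderOf_eq, o] at this
    rcases this with d | d | d <;> have := Nat.le_of_dvd (by norm_num) d <;> omega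
  · have d2 : 2 ∣ 2 ^ n := dvd_pow_self 2 (by omega)
    have := four_le_pow h2
    rcases o ▸ l2e_order_cases hF (e g) with d | d | d
    · have := Nat.le_of_dvd two_pos d; omega
    · have := (dvd_mul_right 2 r).trans d; omega
    · have := (dvd_mul_right 2 r).trans d; omega

end Cfsg.Agent.S4371
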