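import Cfsg.Statements.S4395
import Cfsg.Agent.Th5.G3

set_option autoImplicit false
universe u
open Cfsg

namespace Cfsg.Agent.S4395
open CF.BG Subgroup
open scoped commutatorElement Pointwise

/-- Let p ≠ q be primes, r ≥ 1, a the multiplicative order of p modulo q, and a₀ = a when a is odd, a₀ = 3a/2 when a is even. Call a finite group minimal non-p-nilpotent when it has no normal p-complement but every proper subgroup has one. Then there is a minimal non-p-nilpotent group G₀ of order p^a₀ · q^r such that every minimal non-p-nilpotent group of order p^t · q^r (any t) is a quotient of G₀ by a central subgroup. -/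
theorem result (p q r : ℕ) [Fact p.Prime] [Fact q.Prime] (hpq : p ≠ q) (hr : 1 ≤ r) (a a₀ : ℕ)
    (ha : a = orderOf (p : ZMod q)) (ha₀ : a₀ = if a % 2 = 1 then a else 3 * a / 2) :
    ∃ (G₀ : Type u) (_ : Group G₀) (_ : Finite G₀),
      (¬ Cfsg.HasNormalPComplement p G₀ ∧ ∀ K : Subgroup G₀, K ≠ ⊤ → Cfsg.HasNormalPComplement p ↥K) ∧ Nat.card G₀ = p ^ a₀ * q ^ r ∧
      ∀ (X : Type u) [Group X] [Finite X], (¬ Cfsg.HasNormalPComplement p X ∧ ∀ K : Subgroup X, K ≠ ⊤ → Cfsg.HasNormalPComplement p ↥K) →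
        (∃ t : ℕ, Nat.card X = p ^ t * q ^ r) → ∃ φ : G₀ →* X, Function.Surjective φ ∧ φ.ker ≤ Subgroup.center G₀ := by
  have hp : p.Prime := Fact.out
  have hq : q.Prime := Fact.out
  obtain ⟨K, _, _, ζ, f⟩ := CF.Th5.exists_fd.{u} hp hq hpq
  rw [← ha] at f
  obtain ⟨G, _, _, P, y, s, top, c⟩ := CF.Th5.exists_max f hpq hr
  obtain ⟨h1, h2⟩ := s.min hq top
  refine ⟨G, inferInstance, inferInstance, ⟨fun h => h1 ((CF.Pgp.npc_top hp).2 h),
    fun H hH => (npc_iff hp).1 (h2 H hH)⟩, by rw [← card_top', ← top, s.card, c, ha₀], ?_⟩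
  rintro X _ _ ⟨k1, k2⟩ ⟨t, ht⟩
  obtain ⟨P', y', s', top'⟩ := CF.Th5.exists_sg0 hp hq hpq (fun h => k1 ((CF.Pgp.npc_top hp).1 h))
    (fun H hH => (npc_iff hp).2 (k2 H hH)) ht
  obtain ⟨z, π, e, g⟩ := s.exists_sg f
  obtain ⟨z', π', e', g'⟩ := s'.exists_sg f
  exact CF.Th5.amalgam f g g' (e ▸ top) (e' ▸ top') c

end Cfsg.Agent.S4395
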