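import Cfsg.Statements.S4400
import Cfsg.Agent.Known.Rank4b

set_option autoImplicit false
open Cfsg

namespace Cfsg.Agent.S4400

/-- Let S be a finite 2-group of sectional 2-rank at most 4, and let P and Q be normal non-abelian subgroups of S whose centres have order 2 and are different. Then P and Q commute elementwise and intersect trivially, and PQ contains its own centralizer in S. -/
theorem result {S : Type*} [Group S] [Finite S] (h2 : IsPGroup 2 S) (hr : Cfsg.SectionalPRankLE 2 4 S)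
    (P Q : Subgroup S) [P.Normal] [Q.Normal] (hP : ¬ IsMulCommutative ↥P) (hQ : ¬ IsMulCommutative ↥Q)
    (hZP : Nat.card ↥(Subgroup.center ↥P) = 2) (hZQ : Nat.card ↥(Subgroup.center ↥Q) = 2)
    (hne : (Subgroup.center ↥P).map P.subtype ≠ (Subgroup.center ↥Q).map Q.subtype) :
    ⁅P, Q⁆ = ⊥ ∧ P ⊓ Q = ⊥ ∧ Subgroup.centralizer ((P ⊔ Q : Subgroup S) : Set S) ≤ P ⊔ Q := by
  obtain ⟨z, hz, e1⟩ := CF.Known.exists_zTwo hP hZP
  obtain ⟨w, hw, e2⟩ := CF.Known.exists_zTwo hQ hZQ
  obtain ⟨h1, h3⟩ := hz.disj h2 hw (fun e => hne (by rw [e1, e2, e])) (Subgroup.le_normalizer_of_normal)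
    Subgroup.le_normalizer_of_normal
  refine ⟨Subgroup.commutator_eq_bot_iff_le_centralizer.2 (Subgroup.le_centralizer_iff.1 h3), h1,
    fun c hc => ?_⟩
  have a := Subgroup.mem_sup_left (T := Q) hz.mem
  have b := Subgroup.mem_sup_right (S := P) hw.mem
  rcases hz.cent_le h2 hr hw h3 (Subgroup.centralizer_le (SetLike.coe_subset_coe.2 le_sup_left) hc)
    (Subgroup.centralizer_le (SetLike.coe_subset_coe.2 le_sup_right) hc) with rfl | rfl | rfl | rfl
  exacts [one_mem _, a, b, mul_mem a b]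

end Cfsg.Agent.S4400
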