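import Cfsg.Statements.S4419
import Cfsg.Agent.Pgp.C

set_option autoImplicit false
open Cfsg

namespace Cfsg.Agent.S4419


/-- Let p be a prime and G a finite group whose Sylow p-subgroups are metacyclic (a cyclic normal subgroup with cyclic quotient). Then G has a normal p-complement if and only if the order of G/O_{p′,p}(G) is coprime to p² − 1. -/
theorem result {G : Type*} [Group G] [Finite G] (p : ℕ) [Fact p.Prime] (S : Sylow p G) (hS : Cfsg.IsMetacyclic ↥(S : Subgroup G)) : Cfsg.HasNormalPComplement p G ↔ Nat.Coprime (Nat.card (G ⧸ Cfsg.pPrimePCore p G)) (p ^ 2 - 1) := by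
  open CF.BG CF.BG2 CF.Pgp in
  rw [← npc_top (G := G) Fact.out, ← Subgroup.index_eq_card, pPrimePCore_eq Fact.out,
    ← Subgroup.relIndex_top_right]
  open CF.BG CF.BG2 CF.Pgp in
  exact ⟨fun h => by rw [h.O2_eq, Subgroup.relIndex_self]; simp,
    npc_of_meta Fact.out (syl_sylow_top S) (meta_iff.2 hS)⟩

end Cfsg.Agent.S4419
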