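import Cfsg.Statements.S4477
import Cfsg.Agent.R2c.Herz
-- import your own Cfsg.Agent.* helpers here

set_option autoImplicit false
open Cfsg

namespace Cfsg.Agent.S4477

/-- Let G be a finite 2-group whose number of involutions is congruent to 1 modulo 4. Then G is cyclic or its commutator subgroup has index 4. -/
theorem result {G : Type*} [Group G] [Finite G] (hG : IsPGroup 2 G) (ht : Nat.card {x : G // orderOf x = 2} % 4 = 1) : IsCyclic G ∨ (commutator G).index = 4 := by
  refine or_iff_not_imp_left.2 fun hc => ?_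
  obtain ⟨m, hm⟩ := IsPGroup.iff_card.1 hG
  rw [CF.R2c.card_invol_eq] at ht
  have m2 : 2 ≤ m := by
    by_contra! l
    exact hc (isCyclic_of_card_dvd_prime (p := 2) (hm ▸ pow_dvd_pow 2 (Nat.le_of_lt_succ l)))
  have h1 : Group.nilpotencyClass G = m - 1 := by
    by_contra e
    have := CF.Fgs2.kulakoff hm hc (fun _ => e) le_rfl m2
    simp only [Nat.ModEq, pow_one] at this
    omega
  rcases m2.eq_or_lt with rfl | m3
  · have := IsPGroup.isMulCommutative_of_card_eq_prime_sq hm
    rw [commutator_eq_bot, Subgroup.index_bot, hm]; rfl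
  · simpa [_root_.commutator_def] using CF.Fgs2.index_lcs_of_maxClass (r := 1) hm m3
      ((CF.Fgs2.nilpotencyClass_eq_iff hm m2).1 h1) le_rfl (by omega)

end Cfsg.Agent.S4477
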