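import Cfsg.Statements.S4528
import Cfsg.Agent.BlockB.Tame7
-- import your own Cfsg.Agent.* helpers here

set_option autoImplicit false
open Cfsg

namespace Cfsg.Agent.S4528

/-- Let B be a 2-block of the finite group G (relative to a maximal ideal M of the algebraic integers containing 2) whose defect group D is dihedral of order 2 ^ n with n ≥ 3. Then B contains exactly 2 ^ (n - 2) + 3 irreducible characters, its 2-regular rank (the number of irreducible Brauer characters) is between 1 and 3, exactly four of its members have height zero, and every member has height at most one. -/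
theorem result {G : Type*} [Group G] [Finite G] (M : Ideal Cfsg.AlgInt) (hM : Cfsg.IsPModular 2 M) (B : Set (Cfsg.IrrCharacter G)) (hB : Cfsg.IsPBlock M B) (D : Subgroup G) (hD : Cfsg.IsDefectGroup 2 M B D) (n : ℕ) (hn : 3 ≤ n) (hdih : Nonempty (D ≃* DihedralGroup (2 ^ (n - 1)))) : Nat.card B = 2 ^ (n - 2) + 3 ∧ 1 ≤ Cfsg.blockRank 2 B ∧ Cfsg.blockRank 2 B ≤ 3 ∧ Nat.card {χ : Cfsg.IrrCharacter G // χ ∈ B ∧ Cfsg.blockHeight 2 B (χ : G → ℂ) = 0} = 4 ∧ ∀ χ ∈ B, Cfsg.blockHeight 2 B (χ : G → ℂ) ≤ 1 := by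
  have := Fintype.ofFinite D
  obtain ⟨e, he⟩ := CF.BlockB.exists_maxPair_of_defect hM hB hD
  obtain ⟨m, a, b, h1, h⟩ := CF.Invol.exists_dh he.bpair.pair.isP
    ((Nat.pow_le_pow_right two_pos (by omega) : 2 ^ 1 ≤ 2 ^ (n - 1))) hdih.some
  obtain rfl : m = n - 1 := Nat.pow_right_injective le_rfl h1.symm
  obtain ⟨h2, h3, h4, h5⟩ := CF.BlockB.dihedral_main hM hB he h (by omega)
  refine ⟨h2, CF.BlockB.blockRank_pos hM.1 (CF.BlockB.block_nonempty hM hB), ?_, h4, h5⟩
  have := CF.BlockB.aO_nonneg (P := D) (e := e) (a := a)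
  exact_mod_cast (by linarith : (Cfsg.blockRank 2 B : ℝ) ≤ 3)

end Cfsg.Agent.S4528
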