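import Cfsg.Statements.S4577
import Cfsg.Agent.H16.Orb
import Cfsg.Agent.H16.Free2
import Cfsg.Agent.H16.Nine
import Cfsg.Agent.H16.SevB
import Cfsg.Agent.E8b.H
import Cfsg.Agent.Kkl.B

set_option autoImplicit false
open Cfsg

namespace Cfsg.Agent.S4577

open CF.Block CF.BlockB CF.BlockK CF.H16 Subgroup
open scoped IsMulCommutative

/-- Let G be a finite group, M a maximal ideal of the algebraic integers containing 2, and B a 2-block of G with a defect group D of order 16. For every irreducible character χ in B, 2 raised to the height of χ is at most the index of the centre Z(D) in D, with equality exactly when D is abelian. -/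
theorem result {G : Type*} [Group G] [Finite G] (M : Ideal Cfsg.AlgInt) (hM : Cfsg.IsPModular 2 M) (B : Set (Cfsg.IrrCharacter G)) (hB : Cfsg.IsPBlock M B) (D : Subgroup G) (hD : Cfsg.IsDefectGroup 2 M B D) (h16 : Nat.card D = 16) (χ : Cfsg.IrrCharacter G) (hχ : χ ∈ B) :
    Cfsg.blockHeight 2 B (χ : G → ℂ) ≤ ((Subgroup.center D).index).factorization 2 ∧
      (Cfsg.blockHeight 2 B (χ : G → ℂ) = ((Subgroup.center D).index).factorization 2 ↔ IsMulCommutative D) := by
  have := Fintype.ofFinite G
  obtain ⟨e, he⟩ := exists_maxPair_of_defect hM hB hD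
  by_cases hab : IsMulCommutative D
  · have h1 : (center D).index = 1 := by
      rw [index_eq_one, eq_top_iff]
      exact fun x _ => mem_center_iff.2 fun y => mul_comm y x
    have h2 : Cfsg.blockHeight 2 B (χ : G → ℂ) = 0 := by
      have hc : D ≤ centralizer (D : Set G) := le_cent
      by_cases h3 : Nat.card (FE D e) ≤ 3
      · exact small_height hM hB he hc h16 h3 hχ
      rcases G16 he.bpair.pair.isP (not_dvd_FE hM he hc) (FE D e).subtype_injective h16.le with
        h4 | h4 | ⟨V, W, h4⟩ | h4
      · exact absurd h4 h3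
      · exact free_height hM hB he h16 h3 h4 hD χ hχ
      · exact nine_height hM hB he h4 χ hχ
      · obtain ⟨h5, u, hu, h6⟩ := Sev_card hM
          (fun h1 h2 h3 h4 h5 => CF.Kkl.core hM h1 h2 h3 h4 h5) hB he h16 h4
        exact CF.E8b.H_zero hM hB hD he hc hu h6 h5 χ hχ
    simp [h1, h2, hab]
  · have h1 := nonab_height hM hB he h16 hab hχ
    exact ⟨h1.le, iff_of_false h1.ne hab⟩

end Cfsg.Agent.S4577
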