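import Mathlib
import Cfsg.Statements.S4587
import Cfsg.Agent.S4172
import Cfsg.Agent.Fgs1.AbelianCyclic
import Cfsg.Agent.Solv.Crit

set_option autoImplicit false
open Cfsg

namespace Cfsg.Agent.S4587

open Subgroup CF.Solv CF.Transfer Cfsg.Agent.S4172
open scoped Pointwise commutatorElement

theorem norm_hom {H : Type*} [Group H] (M D : Subgroup H) [hM : M.Normal] (x : H)
    (hgen : M ⊔ zpowers x = ⊤) (n : ℕ) (hn : 0 < n) (hx : x ^ n ∈ M) (hD : ⁅M, M⁆ ≤ D) {t : H}
    (htM : t ∈ M) (ht : ∀ i, 0 < i → i < n → x ^ i * t * (x ^ i)⁻¹ ∈ D)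
    (htc : t ∈ _root_.commutator H) : t ∈ D := by
  haveI : (D.subgroupOf M).Normal := normal_subgroupOf_of_commutator_le hD
  letI : CommGroup (M ⧸ D.subgroupOf M) :=
    { (inferInstance : Group (M ⧸ D.subgroupOf M)) with
      mul_comm := fun a b => by
        obtain ⟨a, rfl⟩ := QuotientGroup.mk'_surjective _ a
        obtain ⟨b, rfl⟩ := QuotientGroup.mk'_surjective _ b
        rw [← map_mul, ← map_mul, QuotientGroup.mk'_apply, QuotientGroup.mk'_apply,
          QuotientGroup.eq]
        have := hD (commutator_mem_commutator (inv_mem b.2) (inv_mem a.2))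
        simpa [mem_subgroupOf, commutatorElement_def, mul_assoc] using this }
  let g : H → (M →* M ⧸ D.subgroupOf M) := fun h =>
    (QuotientGroup.mk' _).comp (MulAut.conjNormal h).toMonoidHom
  have gm : ∀ h k : H, ∀ m, g h (MulAut.conjNormal k m) = g (h * k) m := fun h k m => by
    simp [g]
  have gM : ∀ h : H, ∀ a ∈ M, ∀ m, g h (MulAut.conjNormal a m) = g h m := fun h a ha m => by
    have : MulAut.conjNormal a m = ⟨a, ha⟩ * m * (⟨a, ha⟩ : M)⁻¹ := rfl
    rw [this, map_mul, map_mul, map_inv, mul_right_comm, mul_inv_cancel, one_mul]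
  let f : M →* M ⧸ D.subgroupOf M := ∏ i ∈ Finset.range n, g (x ^ i)
  have hf : ∀ m, f m = ∏ i ∈ Finset.range n, g (x ^ i) m := fun m => MonoidHom.finset_prod_apply _ _ _
  have key : ∀ h : H, ∀ m, f (MulAut.conjNormal h m) = f m := by
    let S : Subgroup H :=
      { carrier := {h | ∀ m, f (MulAut.conjNormal h m) = f m}
        one_mem' := fun m => by simp
        mul_mem' := fun {a b} ha hb m => by rw [map_mul, MulAut.mul_apply, ha, hb]
        inv_mem' := fun {a} ha m => by rw [← ha, ← MulAut.mul_apply, ← map_mul]; simp }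
    have : ⊤ ≤ S := by
      rw [← hgen]
      refine sup_le (fun a ha m => ?_) (zpowers_le.mpr fun m => ?_)
      · simp only [hf, gM _ a ha]
      · simp only [hf, gm, ← pow_succ]
        have e1 := Finset.prod_range_succ (fun i => g (x ^ i) m) n
        have e2 := Finset.prod_range_succ' (fun i => g (x ^ i) m) n
        have e3 : g (x ^ n) m = g (x ^ 0) m := by rw [← gM (x ^ 0) _ hx, gm]; simp
        rw [e1, e3] at e2
        exact (mul_right_cancel e2).symm
    exact fun h => this (mem_top h)
  let K := f.ker.map M.subtype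
  haveI : K.Normal := ⟨by
    rintro _ ⟨m, hm, rfl⟩ h
    exact ⟨MulAut.conjNormal h m, (key h m).trans hm, rfl⟩⟩
  have hc : ∀ a ∈ M, ∀ h : H, (h : H ⧸ K) * a = a * h := fun a ha h => by
    rw [← QuotientGroup.mk_mul, ← QuotientGroup.mk_mul, QuotientGroup.eq]
    refine ⟨(⟨a, ha⟩ : M)⁻¹ * MulAut.conjNormal h⁻¹ ⟨a, ha⟩, ?_, by simp [mul_assoc]⟩
    change f _ = 1
    rw [map_mul, key, map_inv, inv_mul_cancel]
  have hK : _root_.commutator H ≤ K := by
    rw [← Normal.quotient_commutative_iff_commutator_le]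
    refine ⟨⟨fun a b => ?_⟩⟩
    obtain ⟨a, rfl⟩ := QuotientGroup.mk_surjective a
    obtain ⟨b, rfl⟩ := QuotientGroup.mk_surjective b
    obtain ⟨a1, ha1, _, ⟨k, rfl⟩, rfl⟩ := (mem_sup_of_le_normalizer' le_normalizer_of_normal).mp
      (hgen ▸ mem_top a)
    obtain ⟨b1, hb1, _, ⟨l, rfl⟩, rfl⟩ := (mem_sup_of_le_normalizer' le_normalizer_of_normal).mp
      (hgen ▸ mem_top b)
    have c1 : ∀ h : H, Commute (a1 : H ⧸ K) h := fun h => (hc a1 ha1 h).symm
    have c2 : ∀ h : H, Commute (h : H ⧸ K) b1 := fun h => hc b1 hb1 h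
    simp only [QuotientGroup.mk_mul]
    exact (Commute.mul_left (Commute.mul_right (c1 _) (c1 _)) (Commute.mul_right (c2 _) (by
      simp only [QuotientGroup.mk_zpow]; exact Commute.zpow_zpow_self _ _ _))).eq
  obtain ⟨m, hm, rfl⟩ := hK htc
  have h1 : f m = 1 := hm
  rw [hf, Finset.prod_eq_single (f := fun i => g (x ^ i) m) 0 (fun i hi h0 =>
    (QuotientGroup.eq_one_iff (N := D.subgroupOf M) (MulAut.conjNormal (x ^ i) m)).mpr
    (ht i (Nat.pos_of_ne_zero h0) (Finset.mem_range.mp hi))) (by simp [hn.ne'])] at h1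
  simpa [g, mem_subgroupOf] using h1

theorem sup_eq_top_of_prime {H : Type*} [Group H] {p : ℕ} (hp : p.Prime) {A : Subgroup H}
    (hi : A.index = p) {y : H} (hy : y ∉ A) : A ⊔ zpowers y = ⊤ := by
  have h1 := index_dvd_of_le (le_sup_left : A ≤ A ⊔ zpowers y)
  rw [hi, Nat.dvd_prime hp] at h1
  refine index_eq_one.mp (h1.resolve_right fun h => hy ?_)
  have h2 := relIndex_mul_index (le_sup_left : A ≤ A ⊔ zpowers y)
  rw [h, hi, mul_eq_right₀ hp.ne_zero, relIndex_eq_one] at h2
  exact h2 (mem_sup_right (mem_zpowers y))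

theorem card_cent {H : Type*} [Group H] [Finite H] {p : ℕ} (hp : p.Prime) (A : Subgroup H)
    [A.Normal] (hA : IsMulCommutative A) (hi : A.index = p)
    (hc : (_root_.commutator H).index = p ^ 2) {y : H} (hy : y ∉ A) :
    Nat.card (centralizer ({y} : Set H)) = p ^ 2 := by
  have h1 := CF.Fgs1.card_commutator_mul A hA y (sup_eq_top_of_prime hp hi hy)
  have h2 := (_root_.commutator H).card_mul_index
  have h3 := A.card_mul_index
  rw [hi, ← h1, ← h2, hc, mul_assoc, sq] at h3
  have h4 := Nat.eq_of_mul_eq_mul_right hp.pos (Nat.eq_of_mul_eq_mul_left Nat.card_pos h3)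
  have h5 := relIndex_dvd_index_of_normal A (centralizer ({y} : Set H))
  rw [hi, Nat.dvd_prime hp] at h5
  rw [← card_inf_mul_relIndex A, h4, h5.resolve_left fun h =>
    hy (relIndex_eq_one.mp h (mem_centralizer_singleton_iff.mpr rfl)), sq]

section
variable {G : Type*} [Group G] [Finite G] {p : ℕ} [hp : Fact p.Prime]

theorem card_inf_cent {P : Subgroup G} {y : G} (hy : y ∈ P) :
    Nat.card (P ⊓ centralizer ({y} : Set G) : Subgroup G) =
      Nat.card (centralizer ({(⟨y, hy⟩ : P)} : Set P)) := by
  rw [inf_comm, ← card_subgroupOf]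
  congr 2
  ext z
  simp only [mem_subgroupOf, mem_centralizer_singleton_iff, Subtype.ext_iff, coe_mul]

theorem comm_index (P : Subgroup G) : (_root_.commutator P).index = ⁅P, P⁆.relIndex P := by
  rw [← map_subtype_commutator, relIndex, subgroupOf,
    comap_map_eq_self_of_injective P.subtype_injective]

theorem final (P : Sylow p G) (F : Subgroup G) [F.Normal]
    (hc : ⁅(P : Subgroup G), (P : Subgroup G)⁆.relIndex P = p ^ 2) (hi : F.relIndex P = p)
    (hab : (P : Subgroup G) ⊓ F ≤ centralizer (((P : Subgroup G) ⊓ F : Subgroup G) : Set G)) :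
    ∃ x : G, (∃ k : ℕ, orderOf x = p ^ k) ∧
      (Nat.card (centralizer ({x} : Set G))).factorization p = 2 := by
  have key : ∀ y ∈ (P : Subgroup G), y ∉ F →
      Nat.card ((P : Subgroup G) ⊓ centralizer ({y} : Set G) : Subgroup G) = p ^ 2 := by
    intro y hy hyF
    rw [card_inf_cent hy]
    exact card_cent hp.out (F.subgroupOf P) (CF.Fgs1.isMulCommutative_of_forall fun a ha b hb =>
      Subtype.ext (hab ⟨b.2, hb⟩ _ ⟨a.2, ha⟩)) hi ((comm_index _).trans hc) hyF
  obtain ⟨x, hx, hxF⟩ : ∃ x ∈ (P : Subgroup G), x ∉ F := by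
    by_contra h
    push Not at h
    exact hp.out.ne_one (hi.symm.trans (relIndex_eq_one.mpr h))
  refine ⟨x, orderOf_eq_pow_of_mem P.isPGroup' hx, ?_⟩
  obtain ⟨S, hS, hxS⟩ := CF.Coprime.exists_isSylowOf_ge (p := p) (U := zpowers x)
    (K := centralizer {x}) (zpowers_le.mpr (mem_centralizer_singleton_iff.mpr rfl))
    (P.isPGroup'.to_le (zpowers_le.mpr hx))
  obtain ⟨g, hg⟩ := exists_conj_le_of_not_dvd_index hS.isPGroup P.not_dvd_index
  have h1 : Nat.card S ∣ p ^ 2 := by
    rw [← card_smul (MulAut.conj g), ← key (g * x * g⁻¹)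
      (hg (conj_mem_conj_smul (hxS (mem_zpowers x)) g)) (fun h => hxF (by
        simpa [mul_assoc] using ‹F.Normal›.conj_mem _ h g⁻¹))]
    refine card_dvd_of_le (le_inf hg fun z hz => mem_centralizer_singleton_iff.mpr ?_)
    have := mem_centralizer_singleton_iff.mp (hS.le (mem_conj_smul_iff.mp hz))
    calc z * (g * x * g⁻¹) = g * (g⁻¹ * z * g * x) * g⁻¹ := by group
      _ = _ := by rw [this]; group
  rw [hS.card_eq, Nat.pow_dvd_pow_iff_le_right hp.out.one_lt] at h1
  refine le_antisymm h1 ((hp.out.pow_dvd_iff_le_factorization Nat.card_pos.ne').mp ?_)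
  rw [← key x hx hxF]
  exact card_dvd_of_le inf_le_right

theorem isCyclic_of_comm_index {H : Type*} [Group H] [Finite H] (hH : IsPGroup p H)
    (h : (_root_.commutator H).index ∣ p) : IsCyclic H :=
  isCyclic_of_isCyclic_quotient_frattini (isCyclic_of_card_dvd_prime (p := p)
    ((index_dvd_of_le (commutator_le_frattini_of_isPGroup hH)).trans h))

theorem comp_case (P : Sylow p G) (hna : ¬ IsMulCommutative (P : Subgroup G))
    (hgen : (frattini ↥(P : Subgroup G)).index = p ^ 2) (hcore : pPrimeCore p G = ⊥)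
    (hF : fittingSubgroup G = ⊥) (hc : ⁅(P : Subgroup G), (P : Subgroup G)⁆.relIndex P = p ^ 2)
    (hle : ⁅(P : Subgroup G), (P : Subgroup G)⁆ ≤ layer G) (hi : (layer G).relIndex P = p)
    (htwo : ∀ K : Subgroup G, IsComponent K → ∃ L, IsComponent L ∧ L ≠ K) :
    (P : Subgroup G) ⊓ layer G ≤ centralizer (((P : Subgroup G) ⊓ layer G : Subgroup G) : Set G) := by
  set M := (P : Subgroup G) ⊓ layer G with hM
  have hZ := CF.Sig.center_layer_eq (G := G)
  rw [hF, bot_inf_eq] at hZ
  rw [← commutator_eq_bot_iff_le_centralizer, eq_bot_iff, ← hZ]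
  refine le_inf ((commutator_le_self M).trans inf_le_right)
    (le_centralizer_iff.mp (CF.Sig.layer_le fun K hK => le_centralizer_iff.mp ?_))
  have hKE := CF.Sig.comp_le_layer hK
  have hEK := CF.Sig.layer_le_normalizer_comp hK
  have hKC : K ⊓ centralizer (K : Set G) = ⊥ := by rw [← CF.Sig.comp_inf_fitting hK, hF, inf_bot_eq]
  set C := layer G ⊓ centralizer (K : Set G) with hC
  have hEC : layer G ≤ normalizer (C : Set G) :=
    (le_inf le_normalizer (hEK.trans (CF.Solv.normalizer_le_normalizer_centralizer K))).trans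
      inf_normalizer_le_normalizer_inf
  have hKCE : K ⊔ C = layer G := le_antisymm (sup_le hKE inf_le_left) (CF.Sig.layer_le fun L hL => by
    by_cases h : L = K
    · exact h ▸ le_sup_left
    · exact le_sup_of_le_right (le_inf (CF.Sig.comp_le_layer hL)
        (commutator_eq_bot_iff_le_centralizer.mp (CF.Sig.comp_commutator_eq_bot_of_ne hL hK h))))
  have hMs : CF.Coprime.IsSylowOf p M (layer G) :=
    (CF.Coprime.isSylowOf_top P).inf_of_normal le_top le_normalizer_of_normal
  have hT := hMs.inf_of_normal hKE hEK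
  have hU : CF.Coprime.IsSylowOf p (M ⊓ C) C := hMs.inf_of_normal inf_le_left hEC
  set T := M ⊓ K with hTd
  set U := M ⊓ C with hUd
  have hKC' : K ⊓ C = ⊥ := eq_bot_iff.mpr (hKC ▸ inf_le_inf_left _ inf_le_right)
  have hMU : M ≤ normalizer (U : Set G) :=
    (le_inf le_normalizer (inf_le_right.trans hEC)).trans inf_normalizer_le_normalizer_inf
  have hTU : T ⊔ U = M := by
    refine eq_of_le_of_card_ge (sup_le inf_le_left inf_le_left) (le_of_eq ?_)
    rw [card_sup_of_inf_eq_bot (inf_le_left.trans hMU)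
      (eq_bot_iff.mpr (hKC' ▸ inf_le_inf inf_le_right inf_le_right)), hT.card_eq, hU.card_eq,
      hMs.card_eq, ← hKCE, card_sup_of_inf_eq_bot (hKE.trans hEC) hKC',
      Nat.factorization_mul Nat.card_pos.ne' Nat.card_pos.ne', Finsupp.add_apply, pow_add]
  have hD : ⁅M, M⁆ ≤ ⁅T, T⁆ ⊔ U := by
    rw [commutator_le]
    intro a ha b hb
    obtain ⟨a1, ha1, a2, ha2, rfl⟩ := (mem_sup_of_le_normalizer (inf_le_left.trans hMU)).mp
      (hTU ▸ ha)
    obtain ⟨b1, hb1, b2, hb2, rfl⟩ := (mem_sup_of_le_normalizer (inf_le_left.trans hMU)).mp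
      (hTU ▸ hb)
    have c : ∀ u ∈ U, ∀ t ∈ T, Commute t u := fun u hu t ht => hu.2.2 t ht.2
    have : ⁅a1 * a2, b1 * b2⁆ = ⁅a1, b1⁆ * ⁅a2, b2⁆ := by
      simp only [commutatorElement_def, mul_inv_rev]
      have e1 := (c a2 ha2 b1 hb1).eq
      have e2 := (c _ (commutator_le_self U (commutator_mem_commutator ha2 hb2)) _
        (T.mul_mem (T.inv_mem ha1) (T.inv_mem hb1))).eq
      have e3 := (c b2 hb2 a1 ha1).inv_inv.eq
      simp only [commutatorElement_def] at e2
      calc a1 * a2 * (b1 * b2) * (a2⁻¹ * a1⁻¹) * (b2⁻¹ * b1⁻¹)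
          = a1 * (a2 * b1) * b2 * a2⁻¹ * (a1⁻¹ * b2⁻¹) * b1⁻¹ := by group
        _ = a1 * b1 * (a2 * b2 * a2⁻¹ * b2⁻¹ * (a1⁻¹ * b1⁻¹)) := by rw [← e1, e3]; group
        _ = _ := by rw [← e2]; group
    rw [this]
    exact mul_mem (mem_sup_left (commutator_mem_commutator ha1 hb1))
      (mem_sup_right (commutator_le_self U (commutator_mem_commutator ha2 hb2)))
  obtain ⟨L, hL, hLK⟩ := htwo K hK
  obtain ⟨x, hx, hxL⟩ := trans_comp P hna hgen hcore hF K L hK hL
  have hxN : x ∉ normalizer (K : Set G) := fun h =>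
    hLK (hxL.trans (CF.Sig.map_conj_eq_iff_mem_normalizer.mpr h))
  have hgen' : ∀ y : (P : Subgroup G), (y : G) ∉ layer G →
      (layer G).subgroupOf P ⊔ zpowers y = ⊤ := fun y hy => sup_eq_top_of_prime hp.out hi hy
  have hxp : (⟨x, hx⟩ : (P : Subgroup G)) ^ p ∈ (layer G).subgroupOf P := by
    have := ((layer G).subgroupOf P).pow_index_mem ⟨x, hx⟩
    rwa [show ((layer G).subgroupOf P).index = p from hi] at this
  have hxi : ∀ i, 0 < i → i < p → x ^ i ∉ normalizer (K : Set G) := fun i h0 hi h => hxN (by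
    have h1 : x ^ p ∈ normalizer (K : Set G) := hEK hxp
    have h2 := Nat.gcd_eq_gcd_ab i p
    rw [(Nat.coprime_of_lt_prime h0.ne' hi hp.out).symm] at h2
    have : x = (x ^ i) ^ (i.gcdA p) * (x ^ p) ^ (i.gcdB p) := by
      rw [← zpow_natCast, ← zpow_natCast, ← zpow_mul, ← zpow_mul, ← zpow_add, ← h2]; simp
    rw [this]
    exact mul_mem (zpow_mem h _) (zpow_mem h1 _))
  have hTP : T ⊓ ⁅(P : Subgroup G), (P : Subgroup G)⁆ ≤ ⁅T, T⁆ := by
    intro t ht
    have htP : t ∈ (P : Subgroup G) := ht.1.1.1
    have h1 := norm_hom ((layer G).subgroupOf P) ((⁅T, T⁆ ⊔ U).subgroupOf P) ⟨x, hx⟩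
      (hgen' _ fun h => hxN (hEK h)) p hp.out.pos hxp (by
        rw [← map_le_map_iff_of_injective (P : Subgroup G).subtype_injective, map_commutator,
          subgroupOf_map_subtype, subgroupOf_map_subtype, inf_comm (layer G)]
        exact le_inf hD ((commutator_le_self M).trans inf_le_left)) (t := ⟨t, htP⟩) ht.1.1.2
      (fun i h0 hi => mem_sup_right (S := ⁅T, T⁆) (T := U) (by
        have a1 := conj_mem_conj_smul ht.1.2 (x ^ i)
        have a2 : IsComponent (MulAut.conj (x ^ i) • K) :=
          conj_smul_eq_map K _ ▸ CF.Sig.comp_map_conj hK _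
        have a3 := CF.Sig.comp_le_layer a2 a1
        exact ⟨⟨(P : Subgroup G).mul_mem (mul_mem (pow_mem hx i) htP) (inv_mem (pow_mem hx i)),
          a3⟩, a3,
          commutator_eq_bot_iff_le_centralizer.mp (CF.Sig.comp_commutator_eq_bot_of_ne a2 hK
            fun e => hxi i h0 hi (conj_smul_eq_iff.mp e)) a1⟩)) (by
        obtain ⟨z, hz, e⟩ := (map_subtype_commutator (P : Subgroup G)).ge ht.2
        exact (Subtype.ext e : z = ⟨t, htP⟩) ▸ hz)
    have h2 : t ∈ (⁅T, T⁆ ⊔ U) ⊓ K := ⟨h1, ht.1.2⟩
    rw [sup_inf_assoc_of_le_normalizer ((commutator_le_self T).trans inf_le_right)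
      ((commutator_le_self T).trans (inf_le_left.trans hMU)),
      show U ⊓ K = ⊥ from
        eq_bot_iff.mpr (hKC' ▸ (inf_comm U K).le.trans (inf_le_inf_left _ inf_le_right)),
      sup_bot_eq] at h2
    exact h2
  have hcyc : IsCyclic T := by
    refine isCyclic_of_comm_index hT.isPGroup ?_
    have a1 : ⁅(P : Subgroup G), (P : Subgroup G)⁆.relIndex M = p := by
      have := relIndex_mul_relIndex _ _ _ (le_inf (commutator_le_self _) hle : _ ≤ M)
        (inf_le_left : M ≤ P)
      rw [hc, inf_relIndex_left, hi, sq] at this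
      exact Nat.eq_of_mul_eq_mul_right hp.out.pos this
    rw [comm_index, ← a1]
    refine (relIndex_dvd_of_le_left T hTP).trans ?_
    rw [inf_relIndex_left]
    haveI : (⁅(P : Subgroup G), (P : Subgroup G)⁆.subgroupOf M).Normal :=
      normal_subgroupOf_of_commutator_le (commutator_mono inf_le_left inf_le_left)
    rw [← relIndex_subgroupOf (inf_le_left : T ≤ M)]
    exact relIndex_dvd_index_of_normal _ _
  rw [commutator_eq_bot_iff_le_centralizer.mpr (le_centralizer_iff_isMulCommutative.mpr
    (inferInstance : IsMulCommutative T)), bot_sup_eq] at hD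
  exact hD.trans (inf_le_right.trans inf_le_right)

end

/-- Let G be a finite group, p a prime and P a Sylow p-subgroup of order at least p². Assume that G has no nontrivial normal subgroup of order prime to p, that the derived subgroup P' of P contains no nontrivial normal subgroup of G, and that G is not almost simple (there is no non-abelian simple normal subgroup of G with trivial centralizer). Then [P : P'] = p² if and only if some p-element x of G has centralizer whose order has p-part exactly p². -/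
theorem result {G : Type*} [Group G] [Finite G] (p : ℕ) [Fact p.Prime] (P : Sylow p G) (hbig : p ^ 2 ∣ Nat.card G) (hcore : Cfsg.pPrimeCore p G = ⊥)
    (hcore' : (⁅(P : Subgroup G), (P : Subgroup G)⁆).normalCore = ⊥) (hnas : ¬ ∃ S : Subgroup G, S.Normal ∧ IsSimpleGroup S ∧ ¬ IsMulCommutative S ∧ Subgroup.centralizer (S : Set G) = ⊥) :
    (⁅(P : Subgroup G), (P : Subgroup G)⁆).relIndex (P : Subgroup G) = p ^ 2 ↔
      ∃ x : G, (∃ k : ℕ, orderOf x = p ^ k) ∧ (Nat.card (Subgroup.centralizer ({x} : Set G))).factorization p = 2 := by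
  have hp : p.Prime := Fact.out
  have hP2 : p ^ 2 ∣ Nat.card P := by
    rw [P.card_eq_multiplicity]
    exact pow_dvd_pow _ ((hp.pow_dvd_iff_le_factorization Nat.card_pos.ne').mp hbig)
  constructor
  · intro hc
    by_cases hna : IsMulCommutative (P : Subgroup G)
    · refine ⟨1, ⟨0, by simp⟩, ?_⟩
      rw [commutator_eq_bot_iff_le_centralizer.mpr (le_centralizer_iff_isMulCommutative.mpr hna),
        relIndex_bot_left, P.card_eq_multiplicity] at hc
      rw [centralizer_eq_top_iff_subset.mpr (by simp), card_top]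
      exact Nat.pow_right_injective hp.two_le hc
    have hle := commutator_le_frattini_of_isPGroup P.isPGroup'
    have hgen : (frattini ↥(P : Subgroup G)).index = p ^ 2 := by
      have h1 := index_dvd_of_le hle
      rw [comm_index, hc] at h1
      obtain ⟨j, hj, e⟩ := (Nat.dvd_prime_pow hp).mp h1
      by_contra h
      haveI := isCyclic_of_isCyclic_quotient_frattini (G := (P : Subgroup G))
        (isCyclic_of_card_dvd_prime (p := p) (by
          change (frattini _).index ∣ p
          rw [e] at h ⊢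
          interval_cases j <;> simp at h ⊢))
      exact hna inferInstance
    have hfrat : ((frattini ↥(P : Subgroup G)).map (P : Subgroup G).subtype).normalCore = ⊥ := by
      have h1 := relIndex_mul_index hle
      rw [hgen, comm_index, hc, mul_eq_right₀ (pow_ne_zero _ hp.ne_zero), relIndex_eq_one] at h1
      rw [le_antisymm h1 hle, map_subtype_commutator, hcore']
    have hidx : ∀ F : Subgroup G, F.Normal → F ≠ ⊥ → ¬ (P : Subgroup G) ≤ F → F.relIndex P = p := by
      intro F _ hF hPF
      have h1 := not_le_frattini P hcore hfrat F hF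
      have h2 := comm_le P hgen le_normalizer_of_normal h1
      have h3 := relIndex_dvd_of_le_left P h2
      rw [hc] at h3
      obtain ⟨j, hj, e⟩ := (Nat.dvd_prime_pow hp).mp h3
      interval_cases j
      · exact absurd (relIndex_eq_one.mp e) hPF
      · simpa using e
      · exfalso
        refine h1 (le_trans ?_ (commutator_le_map_frattini P.isPGroup'))
        have h4 := relIndex_mul_relIndex _ _ _ (le_inf (commutator_le_self _) h2)
          (inf_le_left : (P : Subgroup G) ⊓ F ≤ P)
        rwa [hc, inf_relIndex_left, e, mul_eq_right₀ (pow_ne_zero _ hp.ne_zero),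
          relIndex_eq_one] at h4
    by_cases hQ : pCore p G = ⊥
    · have hF : fittingSubgroup G = ⊥ := (fitting_eq_pCore hcore).trans hQ
      have htwo : ∀ K : Subgroup G, IsComponent K → ∃ L, IsComponent L ∧ L ≠ K := by
        intro K hK
        by_contra h
        push Not at h
        have e : layer G = K :=
          le_antisymm (CF.Sig.layer_le fun L hL => (h L hL).le) (CF.Sig.comp_le_layer hK)
        have h1 : centralizer (K : Set G) = ⊥ := by
          have := CF.Sig.centralizer_fstar_le_fitting (G := G)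
          rwa [generalizedFittingSubgroup, hF, sup_bot_eq, e, le_bot_iff] at this
        haveI := CF.Sig.qs_nontrivial hK.2
        refine hnas ⟨K, e ▸ inferInstance, ⟨fun N hN => ?_⟩, CF.Sig.qs_not_isMulCommutative hK.2, h1⟩
        refine (CF.Sig.qs_normal hK.2 N hN).symm.imp_left fun h2 => ?_
        rw [eq_bot_iff]
        refine h2.trans ?_
        rw [← map_le_map_iff_of_injective K.subtype_injective, center_map_subtype, h1]
        simp
      have hE : layer G ≠ ⊥ := fun e => by
        haveI := CF.Sig.fstar_eq_bot_iff.mp (show generalizedFittingSubgroup G = ⊥ by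
          rw [generalizedFittingSubgroup, e, hF, sup_bot_eq])
        exact hna ⟨⟨fun a b => Subsingleton.elim _ _⟩⟩
      have hi := hidx _ inferInstance hE fun h => by
        obtain ⟨K, hK⟩ := not_forall_not.mp (mt CF.Sig.layer_eq_bot_iff.mpr hE)
        obtain ⟨L, hL, hLK⟩ := htwo K hK
        obtain ⟨x, hx, hxL⟩ := trans_comp P hna hgen hcore hF K L hK hL
        exact hLK (hxL.trans (CF.Sig.map_conj_eq_iff_mem_normalizer.mpr
          (CF.Sig.layer_le_normalizer_comp hK (h hx))))
      exact final P (layer G) hc hi (comp_case P hna hgen hcore hF hc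
        (comm_le P hgen le_normalizer_of_normal (not_le_frattini P hcore hfrat _ hE)) hi htwo)
    · obtain ⟨-, h2, -⟩ := abelian_case P hna hgen hcore hfrat hQ
      exact final P (pCore p G) hc (hidx _ inferInstance hQ fun h => hna
        (le_centralizer_iff_isMulCommutative.mp (h.trans (h2.trans (centralizer_le h)))))
        (inf_le_right.trans (h2.trans (centralizer_le inf_le_right)))
  · rintro ⟨x, ⟨k, hk⟩, hx⟩
    obtain ⟨g, hg⟩ := exists_conj_le_of_not_dvd_index (isPGroup_zpowers hk) P.not_dvd_index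
    have hy := hg (conj_mem_conj_smul (mem_zpowers x) g)
    have h1 : Nat.card (centralizer ({(⟨_, hy⟩ : (P : Subgroup G))} : Set (P : Subgroup G))) ≤
        p ^ 2 := by
      rw [← card_inf_cent hy]
      obtain ⟨j, hj⟩ := (P.isPGroup'.to_le (inf_le_left (b := centralizer {g * x * g⁻¹}))).exists_card_eq
      rw [hj, ← hx]
      refine Nat.pow_le_pow_right hp.pos ((hp.pow_dvd_iff_le_factorization Nat.card_pos.ne').mp ?_)
      rw [← hj, ← card_smul (MulAut.conj g) (centralizer {x})]
      refine card_dvd_of_le (inf_le_right.trans fun z hz => mem_conj_smul_iff.mpr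
        (mem_centralizer_singleton_iff.mpr ?_))
      have := mem_centralizer_singleton_iff.mp hz
      calc g⁻¹ * z * g * x = g⁻¹ * (z * (g * x * g⁻¹)) * g := by group
        _ = _ := by rw [this]; group
    have h2 : ∀ y : (P : Subgroup G), (_root_.commutator (P : Subgroup G)).index ≤
        Nat.card (centralizer ({y} : Set (P : Subgroup G))) := fun y => by
      have a1 : (centralizer ({y} : Set (P : Subgroup G))).index ≤
          Nat.card (_root_.commutator (P : Subgroup G)) := by
        refine Nat.card_le_card_of_injective (fun q => ⟨⁅y⁻¹, q.out⁆,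
          commutator_mem_commutator (mem_top _) (mem_top _)⟩) fun a b h => ?_
        have h' : ⁅y⁻¹, a.out⁆ = ⁅y⁻¹, b.out⁆ := congrArg Subtype.val h
        rw [← a.out_eq, ← b.out_eq]
        refine QuotientGroup.eq.mpr (mem_centralizer_singleton_iff.mpr ?_)
        simp only [commutatorElement_def, inv_inv, mul_assoc, mul_right_inj] at h'
        calc a.out⁻¹ * b.out * y = a.out⁻¹ * (b.out * (y * b.out⁻¹)) * b.out := by group
          _ = _ := by rw [← h']; group
      have a2 := (centralizer ({y} : Set (P : Subgroup G))).card_mul_index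
      have a3 := (_root_.commutator (P : Subgroup G)).card_mul_index
      refine Nat.le_of_mul_le_mul_left ?_ (Nat.card_pos (α := _root_.commutator (P : Subgroup G)))
      rw [a3, ← a2, mul_comm]
      exact Nat.mul_le_mul_right _ a1
    have h3 := (h2 _).trans h1
    rw [← comm_index]
    obtain ⟨j, hj⟩ := P.isPGroup'.index (_root_.commutator (P : Subgroup G))
    rw [hj, Nat.pow_le_pow_iff_right hp.one_lt] at h3
    by_contra h
    haveI := isCyclic_of_comm_index P.isPGroup' (by
      rw [hj] at h ⊢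
      interval_cases j <;> simp at h ⊢)
    have h4 : _root_.commutator (P : Subgroup G) = ⊥ := commutator_eq_bot _
    rw [h4, index_bot] at hj h
    rw [hj, Nat.pow_dvd_pow_iff_le_right hp.one_lt] at hP2
    exact h (by rw [hj, le_antisymm h3 hP2])

end Cfsg.Agent.S4587
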