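import Cfsg.Statements.S4610
import Cfsg.Agent.Bq.A
import Cfsg.Agent.S4125

set_option autoImplicit false
open Cfsg

namespace Cfsg.Agent.S4610

/-- Let G be a finite group and p a prime dividing its order; fix for every prime r a maximal ideal M r of the algebraic integers containing r. Then, for every prime q ≠ p dividing the order of G, the principal p-block and the principal q-block of G have only the principal character in common, if and only if a Sylow p-subgroup P of G is normal and G is generated by P and its largest normal subgroup of order prime to p (that is, G is the direct product of P and that subgroup). -/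
theorem result {G : Type*} [Group G] [Finite G] (p : ℕ) [Fact p.Prime] (hp : p ∣ Nat.card G) (M : ℕ → Ideal Cfsg.AlgInt) (hM : ∀ r : ℕ, r.Prime → Cfsg.IsPModular r (M r)) (P : Sylow p G) :
    (∀ q : ℕ, q.Prime → q ≠ p → q ∣ Nat.card G →
        ∀ χ : Cfsg.IrrCharacter G, χ ∈ Cfsg.principalBlock (M p) G → χ ∈ Cfsg.principalBlock (M q) G → (χ : G → ℂ) = fun _ => 1) ↔
      ((P : Subgroup G).Normal ∧ (P : Subgroup G) ⊔ Cfsg.pPrimeCore p G = ⊤) := by
  refine ⟨fun h => ?_, fun ⟨h1, h2⟩ q hq hqp _ χ k1 k2 => ?_⟩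
  · have h1 : ∀ x : G, (∃ k : ℕ, orderOf x = p ^ k) →
        ∃ a : ℕ, (Subgroup.centralizer ({x} : Set G)).index = p ^ a := fun x hx =>
      ⟨_, Nat.eq_prime_pow_of_unique_prime_dvd Subgroup.index_ne_zero_of_finite fun {q} hq hd => by
        by_contra e
        exact CF.Bq.not_dvd_index (hM p Fact.out) (hM q hq)
          (h q hq e (hd.trans (Subgroup.index_dvd_card _))) hx hd⟩
    have h2 : (P : Subgroup G).Normal ∧ ∃ N : Subgroup G, N.Normal ∧ N.IsComplement' P := by
      obtain ⟨-, r, hr, k1, k2, -⟩ := Cfsg.Agent.S4125.result p hp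
        (fun x hx => let ⟨a, e⟩ := h1 x hx; ⟨p, a, Fact.out, e⟩) P
      by_cases e : r = p
      · exact k2 e
      have h3 : ∀ x ∈ (P : Subgroup G), ∀ g, g * x = x * g := fun x hx g => by
        obtain ⟨k, hk⟩ := IsPGroup.iff_orderOf.1 P.isPGroup' ⟨x, hx⟩
        rw [← Subgroup.orderOf_coe] at hk
        obtain ⟨a, ha⟩ := h1 x ⟨k, hk⟩
        obtain ⟨b, hb⟩ := k1 x ⟨k, hk⟩
        have := Nat.Coprime.pow b a ((Nat.coprime_primes hr Fact.out).2 e)
        rw [← ha, ← hb, Nat.coprime_self, Subgroup.index_eq_one] at this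
        exact Subgroup.mem_centralizer_singleton_iff.1 (this.ge (Subgroup.mem_top g))
      exact ⟨⟨fun x hx g => by rwa [h3 x hx, mul_inv_cancel_right]⟩, _, inferInstance,
        MonoidHom.ker_transferSylow_isComplement' P fun g _ x hx => (h3 x hx g).symm⟩
    obtain ⟨h3, N, hN, h4⟩ := h2
    refine ⟨h3, eq_top_iff.2 (h4.symm.sup_eq_top.ge.trans (sup_le_sup_left
      (CF.Solv.le_pPrimeCore ?_) _))⟩
    rw [← h4.index_eq_card]
    exact ((Nat.Prime.coprime_iff_not_dvd Fact.out).2 P.not_dvd_index).symm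
  · refine CF.Char.irr_eq_one_of_charKer_eq_top χ.2 (eq_top_iff.2 (h2.ge.trans (sup_le
      (CF.Char.le_charKer_of_mem_pb (hM q hq) k2 _ fun hd => hqp ?_)
      (CF.Char.pPrimeCore_le_charKer_of_mem_pb (hM p Fact.out) k1))))
    obtain ⟨k, hk⟩ := IsPGroup.iff_card.1 P.isPGroup'
    exact (Nat.prime_dvd_prime_iff_eq hq Fact.out).1 (hq.dvd_of_dvd_pow (hk ▸ hd))

end Cfsg.Agent.S4610
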