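import Mathlib
import Cfsg.Agent.Fgs2.Isa16
import Cfsg.Statements.S4776

set_option autoImplicit false
open Cfsg

namespace Cfsg.Agent.S4776

open CF.Fgs2.Isa in

/-- Let N be a normal subgroup of the finite group G that is not perfect and is contained in the derived subgroup of G. Consider the common-divisor graph on the relative degree set cd(G|N) (the degrees of the irreducible complex characters of G whose kernel does not contain N; two distinct degrees adjacent when they have a common divisor greater than one). Then this graph has at most two connected components; and if a, b ∈ cd(G|N) lie in different components, then one of a, b is coprime to the index m of the derived subgroup of N in N while the other is divisible by every prime divisor of m. -/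
theorem result {G : Type*} [Group G] [Finite G] (N : Subgroup G) [N.Normal] (hN : ⁅N, N⁆ < N) (hNG : N ≤ commutator G) : Nat.card (Cfsg.commonDivisorGraph.induce (Cfsg.relCharDegrees N)).ConnectedComponent ≤ 2 ∧ ∀ (a b : ℕ) (ha : a ∈ Cfsg.relCharDegrees N) (hb : b ∈ Cfsg.relCharDegrees N), ¬ (Cfsg.commonDivisorGraph.induce (Cfsg.relCharDegrees N)).Reachable ⟨a, ha⟩ ⟨b, hb⟩ → (Nat.Coprime a (⁅N, N⁆.relIndex N) ∧ ∀ r : ℕ, r.Prime → r ∣ ⁅N, N⁆.relIndex N → r ∣ b) ∨ (Nat.Coprime b (⁅N, N⁆.relIndex N) ∧ ∀ r : ℕ, r.Prime → r ∣ ⁅N, N⁆.relIndex N → r ∣ a) := by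
  refine ⟨?_, fun a b ha hb h => comp_cases hNG ha hb fun w => h (w ha hb)⟩
  obtain ⟨p, hp, p1⟩ := exists_prime_relIndex hN
  rw [← Nat.card_eq_fintype_card.trans Fintype.card_prop]
  refine Nat.card_le_card_of_injective (fun C => p ∣ (C.out : ℕ)) fun C D e => ?_
  rw [← C.out_eq, ← D.out_eq]
  refine SimpleGraph.ConnectedComponent.sound (by_contra fun h => ?_)
  simp only [eq_iff_iff] at e
  obtain ⟨x, y⟩ | ⟨x, y⟩ := comp_cases hNG C.out.2 D.out.2 fun w => h (w _ _)
  · exact hp.ne_one (Nat.eq_one_of_dvd_coprimes x (e.2 (y p hp p1)) p1)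
  · exact hp.ne_one (Nat.eq_one_of_dvd_coprimes x (e.1 (y p hp p1)) p1)

end Cfsg.Agent.S4776
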