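import Mathlib
import Cfsg.Agent.Fgs2.Isa16
import Cfsg.Statements.S4779

set_option autoImplicit false
open Cfsg

namespace Cfsg.Agent.S4779

open CF.Fgs2.Isa CF.BG in

/-- Let N be a solvable normal subgroup of the finite group G contained in the derived subgroup of G, and consider the common-divisor graph on the relative degree set cd(G|N) (degrees of irreducible complex characters of G whose kernel does not contain N, two distinct degrees adjacent when not coprime). If this graph has two vertices that are not joined by any path, then there is a vertex a₀ such that any two distinct vertices in the component of a₀ are adjacent, and any two distinct vertices outside that component are adjacent or have a common neighbour (one component is complete, the other has diameter at most 2). -/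
theorem result {G : Type*} [Group G] [Finite G] (N : Subgroup G) [N.Normal] [Group.IsSolvable N] (hNG : N ≤ commutator G) (hdisc : ¬ (Cfsg.commonDivisorGraph.induce (Cfsg.relCharDegrees N)).Preconnected) : ∃ a₀ : ↥(Cfsg.relCharDegrees N), (∀ b c : ↥(Cfsg.relCharDegrees N), (Cfsg.commonDivisorGraph.induce (Cfsg.relCharDegrees N)).Reachable a₀ b → (Cfsg.commonDivisorGraph.induce (Cfsg.relCharDegrees N)).Reachable a₀ c → b ≠ c → (Cfsg.commonDivisorGraph.induce (Cfsg.relCharDegrees N)).Adj b c) ∧ (∀ b c : ↥(Cfsg.relCharDegrees N), ¬ (Cfsg.commonDivisorGraph.induce (Cfsg.relCharDegrees N)).Reachable a₀ b → ¬ (Cfsg.commonDivisorGraph.induce (Cfsg.relCharDegrees N)).Reachable a₀ c → b ≠ c → (Cfsg.commonDivisorGraph.induce (Cfsg.relCharDegrees N)).Adj b c ∨ ∃ d : ↥(Cfsg.relCharDegrees N), (Cfsg.commonDivisorGraph.induce (Cfsg.relCharDegrees N)).Adj b d ∧ (Cfsg.commonDivisorGraph.induce (Cfsg.relCharDegrees N)).Adj d c) := by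
  have s : Sol N := inferInstance
  obtain ⟨c, e, h, x, D⟩ : ∃ c e : ↥(relCharDegrees N), ¬ Rch N e c ∧
      (e : ℕ).Coprime (⁅N, N⁆.relIndex N) ∧
        ∀ r : ℕ, r.Prime → r ∣ ⁅N, N⁆.relIndex N → r ∣ (c : ℕ) := by
    obtain ⟨a, ha⟩ := not_forall.1 hdisc
    obtain ⟨b, h⟩ := not_forall.1 ha
    have h' : ¬ Rch N a b := fun w => h (w _ _)
    obtain v | v := comp_cases hNG a.2 b.2 h'
    exacts [⟨b, a, h', v⟩, ⟨a, b, fun w => h' w.symm, v⟩]
  have n1 : N ≠ ⊥ := fun w => by
    obtain ⟨χ, -, v, -⟩ := mem_rc.1 c.2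
    exact v (w.le.trans bot_le)
  obtain ⟨p, hp, p1⟩ := exists_prime_relIndex (s.der_lt n1)
  have key : ∀ b : ↥(relCharDegrees N),
      (commonDivisorGraph.induce (relCharDegrees N)).Reachable c b → p ∣ (b : ℕ) := fun b hb => by
    have hb' : Rch N c b := fun _ _ => hb
    obtain v | v := comp_cases hNG e.2 b.2 fun w => h (w.trans b.2 hb'.symm)
    · exact v.2 p hp p1
    · exact absurd (Nat.eq_one_of_dvd_coprimes x (v.2 p hp p1) p1) hp.ne_one
  refine ⟨c, fun a b ha hb ne => adj_of a.2 b.2 (fun w => hp.ne_one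
    (Nat.eq_one_of_dvd_coprimes w (key a ha) (key b hb))) fun w => ne (Subtype.ext w),
    fun a b ha hb ne => ?_⟩
  have ne' : (a : ℕ) ≠ b := fun w => ne (Subtype.ext w)
  obtain ⟨d, u, v, w⟩ := dist_two N s hNG a.2 b.2 c.2 D (fun w => ha (w _ _).symm)
    fun w => hb (w _ _).symm
  obtain rfl | e1 := eq_or_ne (a : ℕ) d
  · exact .inl (adj_of a.2 b.2 w ne')
  obtain rfl | e2 := eq_or_ne d b
  · exact .inl (adj_of a.2 b.2 v ne')
  exact .inr ⟨⟨d, u⟩, adj_of a.2 u v e1, adj_of u b.2 w e2⟩

end Cfsg.Agent.S4779
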