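import Mathlib
import Cfsg.Agent.Fgs2.Isa15
import Cfsg.Statements.S4783

set_option autoImplicit false
open Cfsg

namespace Cfsg.Agent.S4783

open CF.Char CF.Fgs2.Isa in

/-- A finite solvable group with exactly four distinct irreducible complex character degrees has trivial fourth derived subgroup (derived length at most 4). -/
theorem result {G : Type*} [Group G] [Finite G] [Group.IsSolvable G] (hcd : Nat.card ↥(Cfsg.charDegrees G) = 4) : derivedSeries G 4 = ⊥ := by
  obtain ⟨a, b, c, h⟩ : ∃ a b c, Cfsg.charDegrees G ⊆ {1, a, b, c} := by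
    have e : (Cfsg.charDegrees G \ {1}).ncard = 3 := by
      rw [Set.ncard_diff_singleton_of_mem one_mem_cd, ← Nat.card_coe_set_eq, hcd]
    obtain ⟨a, b, c, -, -, -, h⟩ := Set.ncard_eq_three.1 e
    exact ⟨a, b, c, fun d hd => or_iff_not_imp_left.2 fun w => h.le ⟨hd, w⟩⟩
  exact der4_aux _ G a b c rfl inferInstance h

end Cfsg.Agent.S4783
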