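import Mathlib
import Cfsg.Agent.Fgs2.Isa1
import Cfsg.Statements.S4811

set_option autoImplicit false
open Cfsg

namespace Cfsg.Agent.S4811

/-- For every finite solvable group G the character degree graph of G (vertices: the primes dividing some irreducible complex character degree; edges: distinct primes whose product divides some degree) has at most two connected components. -/
theorem result {G : Type*} [Group G] [Finite G] [Group.IsSolvable G] : Nat.card ((Cfsg.degreeGraph G).induce (Cfsg.degreePrimes G)).ConnectedComponent ≤ 2 := by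
  classical
  obtain ⟨f, q, hf, h⟩ := CF.Fgs2.Isa.two_hubs (G := G) inferInstance
  have adj : ∀ (a b : Cfsg.degreePrimes G) (d : ℕ), d ∈ Cfsg.charDegrees G → a.1 ∣ d → b.1 ∣ d →
      ((Cfsg.degreeGraph G).induce (Cfsg.degreePrimes G)).connectedComponentMk a =
        ((Cfsg.degreeGraph G).induce (Cfsg.degreePrimes G)).connectedComponentMk b := by
    intro a b d hd x y
    by_cases e : a = b
    · rw [e]
    · have e' : a.1 ≠ b.1 := fun w => e (Subtype.ext w)
      exact SimpleGraph.ConnectedComponent.connectedComponentMk_eq_of_adj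
        ⟨e', a.2.1, b.2.1, d, hd, Nat.Coprime.mul_dvd_of_dvd_of_dvd
          ((Nat.coprime_primes a.2.1 b.2.1).2 e') x y⟩
  let P : Cfsg.degreePrimes G → Prop := fun r => ∃ d ∈ Cfsg.charDegrees G, r.1 ∣ d ∧ f ∣ d ∧ f ≠ 1
  have k : ∀ a b : Cfsg.degreePrimes G, (P a ↔ P b) →
      ((Cfsg.degreeGraph G).induce (Cfsg.degreePrimes G)).connectedComponentMk a =
        ((Cfsg.degreeGraph G).induce (Cfsg.degreePrimes G)).connectedComponentMk b := by
    intro a b e
    by_cases x : P a
    · obtain ⟨d, hd, u, v, w⟩ := x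
      obtain ⟨d', hd', u', v', -⟩ := e.1 ⟨d, hd, u, v, w⟩
      let c : Cfsg.degreePrimes G := ⟨f.minFac, Nat.minFac_prime w, f, hf, Nat.minFac_dvd f⟩
      exact (adj a c d hd u ((Nat.minFac_dvd f).trans v)).trans
        (adj c b d' hd' ((Nat.minFac_dvd f).trans v') u')
    · obtain ⟨hq, d, hd, u, v⟩ := (h a.1 a.2.1 a.2.2).resolve_left x
      obtain ⟨-, d', hd', u', v'⟩ := (h b.1 b.2.1 b.2.2).resolve_left fun w => x (e.2 w)
      let c : Cfsg.degreePrimes G := ⟨q, hq, d, hd, v⟩
      exact (adj a c d hd u v).trans (adj c b d' hd' v' u')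
  have : Function.Injective fun C : ((Cfsg.degreeGraph G).induce
      (Cfsg.degreePrimes G)).ConnectedComponent => P C.out := fun C D e => by
    exact C.out_eq.symm.trans ((k _ _ (iff_of_eq e)).trans D.out_eq)
  simpa using Nat.card_le_card_of_injective _ this

end Cfsg.Agent.S4811
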