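import Cfsg.Statements.S4856
import Cfsg.Agent.BlockB.Ord1
-- import your own Cfsg.Agent.* helpers here

set_option autoImplicit false
open Cfsg

namespace Cfsg.Agent.S4856

/-- For an element z of a finite group G, the number of pairs (x, y) of elements with x y x⁻¹ y⁻¹ = z equals the order of G times the sum over the irreducible characters χ of χ(z)/χ(1). -/
theorem result {G : Type*} [Group G] [Finite G] (z : G) : (Nat.card {xy : G × G // xy.1 * xy.2 * xy.1⁻¹ * xy.2⁻¹ = z} : ℂ) = (Nat.card G : ℂ) * ∑ᶠ χ : Cfsg.IrrCharacter G, (χ : G → ℂ) z / (χ : G → ℂ) 1 := by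
  have h := congrArg (starRingEnd ℂ) (CF.Char.card_commutator_eq z)
  rw [finsum_eq_sum_of_fintype]
  simp only [map_natCast, map_mul, map_sum, map_div₀, Complex.conj_conj] at h
  rw [h]
  congr 1
  exact Finset.sum_congr rfl fun χ _ => by rw [CF.Char.irr_conj_one χ.2]

end Cfsg.Agent.S4856
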