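import Cfsg.Statements.S4814
import Cfsg.Agent.BlockB.Ord1
import Cfsg.Agent.S4856
-- import your own Cfsg.Agent.* helpers here

set_option autoImplicit false
open Cfsg

namespace Cfsg.Agent.S4814

/-- Let G be a finite group such that the sum, over the irreducible complex characters χ of G, of 1/χ(1)² is less than 2. Then every element of G is a product of two commutators. -/
theorem result {G : Type*} [Group G] [Finite G]
    (h : ∑ᶠ χ : Cfsg.IrrCharacter G, 1 / ‖(χ : G → ℂ) 1‖ ^ 2 < (2 : ℝ)) (g : G) :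
    ∃ a b c d : G, (a * b * a⁻¹ * b⁻¹) * (c * d * c⁻¹ * d⁻¹) = g := by
  classical
  have := Fintype.ofFinite G
  by_contra! hc
  rw [finsum_eq_sum_of_fintype] at h
  have h1 : ∑ z : G, (Nat.card {xy : G × G // xy.1 * xy.2 * xy.1⁻¹ * xy.2⁻¹ = z} : ℂ) *
      (Nat.card {xy : G × G // xy.1 * xy.2 * xy.1⁻¹ * xy.2⁻¹ = z⁻¹ * g} : ℂ) = 0 := by
    refine Finset.sum_eq_zero fun z _ => ?_
    by_contra h0
    rw [mul_eq_zero, not_or, Nat.cast_eq_zero, Nat.cast_eq_zero] at h0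
    obtain ⟨⟨⟨a, b⟩, hab⟩⟩ := (Nat.card_ne_zero.1 h0.1).1
    obtain ⟨⟨⟨c, d⟩, hcd⟩⟩ := (Nat.card_ne_zero.1 h0.2).1
    exact hc a b c d (by rw [hab, hcd, mul_inv_cancel_left])
  simp only [Cfsg.Agent.S4856.result, finsum_eq_sum_of_fintype] at h1
  have h2 : ∀ z : G, ((Nat.card G : ℂ) * ∑ χ : IrrCharacter G, (χ : G → ℂ) z / (χ : G → ℂ) 1) *
      ((Nat.card G : ℂ) * ∑ χ : IrrCharacter G, (χ : G → ℂ) (z⁻¹ * g) / (χ : G → ℂ) 1) =
      (Nat.card G : ℂ) ^ 2 * ∑ χ : IrrCharacter G, ∑ ψ : IrrCharacter G,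
        ((χ : G → ℂ) 1 * (ψ : G → ℂ) 1)⁻¹ * ((χ : G → ℂ) z * (ψ : G → ℂ) (z⁻¹ * g)) := by
    intro z
    rw [mul_mul_mul_comm, Finset.sum_mul_sum, sq]
    congr 1
    refine Finset.sum_congr rfl fun χ _ => Finset.sum_congr rfl fun ψ _ => ?_
    rw [mul_inv]; ring
  rw [Finset.sum_congr rfl fun z _ => h2 z, ← Finset.mul_sum, Finset.sum_comm] at h1
  have h3 := (mul_eq_zero.1 h1).resolve_left (pow_ne_zero _ CF.Char.card_ne_zero_complex)
  have h4 : ∀ χ : IrrCharacter G, ∑ z : G, ∑ ψ : IrrCharacter G,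
      ((χ : G → ℂ) 1 * (ψ : G → ℂ) 1)⁻¹ * ((χ : G → ℂ) z * (ψ : G → ℂ) (z⁻¹ * g)) =
      (Nat.card G : ℂ) * ((χ : G → ℂ) g / (χ : G → ℂ) 1 ^ 3) := by
    intro χ
    rw [Finset.sum_comm, Finset.sum_eq_single χ]
    · rw [← Finset.mul_sum, CF.Char.sum_irr_mul_irr_inv χ.2 χ.2, if_pos rfl]
      ring
    · intro ψ _ hψ
      rw [← Finset.mul_sum, CF.Char.sum_irr_mul_irr_inv χ.2 ψ.2,
        if_neg fun e => hψ (Subtype.ext e.symm), mul_zero]
    · simp
  rw [Finset.sum_congr rfl fun χ _ => h4 χ, ← Finset.mul_sum] at h3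
  have h5 := (mul_eq_zero.1 h3).resolve_left CF.Char.card_ne_zero_complex
  rw [← Finset.add_sum_erase _ _ (Finset.mem_univ (CF.Char.oneIrr G))] at h h5
  simp only [CF.Char.oneIrr_apply, norm_one, one_pow, div_one] at h h5
  have h6 := congrArg norm (eq_neg_of_add_eq_zero_left h5)
  rw [norm_one, norm_neg] at h6
  refine absurd (h6.le.trans ((norm_sum_le _ _).trans (Finset.sum_le_sum fun χ _ => ?_)))
    (not_le.2 (by linarith))
  have h7 := CF.BlockB.Ord.one_le_norm_one χ.2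
  rw [norm_div, norm_pow, div_le_div_iff₀ (by positivity) (by positivity), one_mul, pow_succ' _ 2]
  exact mul_le_mul_of_nonneg_right (CF.Char.char_norm_le (CF.Char.irr_isCharacter χ.2) g)
    (by positivity)

end Cfsg.Agent.S4814
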