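import Cfsg.Statements.S4903
import Cfsg.Agent.Small.Lg7

set_option autoImplicit false
open Cfsg

namespace Cfsg.Agent.S4903

/-- Let G be a finite group with a faithful irreducible complex character of degree 16, p a prime with p ≥ 19, and P a Sylow p-subgroup of G. Then P is normal in G, or p = 31 and the quotient of G by its centre is isomorphic to PSL(2,31). -/
theorem result {G : Type*} [Group G] [Finite G] (χ : Cfsg.IrrCharacter G) (hdeg : Cfsg.charDegree (χ : G → ℂ) = 16) (hfaith : ∀ g : G, (χ : G → ℂ) g = (χ : G → ℂ) 1 → g = 1) (p : ℕ) [Fact p.Prime] (hp : 19 ≤ p) (P : Sylow p G) : (P : Subgroup G).Normal ∨ (p = 31 ∧ Nonempty (G ⧸ Subgroup.center G ≃* Matrix.ProjectiveSpecialLinearGroup (Fin 2) (ZMod 31))) := by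
  refine or_iff_not_imp_left.2 fun hn => ?_
  have hf : CF.Char.charKer (χ : G → ℂ) = ⊥ := eq_bot_iff.2 fun g hg =>
    hfaith g ((CF.Char.mem_charKer_iff (CF.Char.irr_isCharacter χ.2)).1 hg)
  obtain ⟨T, _, _, f, ζ, l, S, k, h⟩ := CF.Small.Lg.exists_red χ.2 (by omega) (CF.Small.Lg.not_good hf hn)
  have e := k.deg
  have h33 : p ≠ 33 := fun e => absurd (e ▸ (Fact.out : p.Prime)) (by norm_num)
  obtain ⟨⟨e1⟩, h1⟩ := (CF.Small.PSet.low_cases (CF.PF.mem_irr_top.2 k.irr) k.ker (by omega) h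
    (by omega)).resolve_right (by omega)
  obtain rfl : p = 31 := by omega
  exact ⟨rfl, (k.equiv χ.2 hf).map fun e2 => e2.trans e1⟩

end Cfsg.Agent.S4903
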