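import Cfsg.Statements.S4925
import Cfsg.Agent.K4.Z
import Cfsg.Agent.Kz.A

set_option autoImplicit false
open Cfsg

namespace Cfsg.Agent.S4925

/-- Let G be a finite group, p a prime, M a maximal ideal of the algebraic integers containing p, and P a Sylow p-subgroup of G with normalizer N and centralizer C. Then the principal p-block of G contains exactly four irreducible characters of degree not divisible by p if and only if either the commutator subgroup of P has index 4 in P, or P has order 5 and C has index 2 in N. -/
theorem result {G : Type*} [Group G] [Finite G] (p : ℕ) [Fact p.Prime] (M : Ideal Cfsg.AlgInt) (hM : Cfsg.IsPModular p M) (P : Sylow p G) :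
    Nat.card {χ : Cfsg.IrrCharacter G // χ ∈ Cfsg.principalBlock M G ∧ ¬ p ∣ Cfsg.charDegree (χ : G → ℂ)} = 4 ↔
      ((commutator ↥P).index = 4 ∨ (Nat.card P = 5 ∧ (Subgroup.centralizer ((P : Subgroup G) : Set G)).relIndex (Subgroup.normalizer ((P : Subgroup G) : Set G)) = 2)) := by
  by_cases h2 : p = 2
  · subst h2
    rw [CF.K4.two_half M hM P]
    exact ⟨Or.inl, fun h => h.resolve_right fun h => CF.Kz.card_ne_five P h.1⟩
  · rw [CF.Kz.odd_half p h2 M hM P]
    exact ⟨Or.inr, fun h => h.resolve_left (CF.Kz.index_ne_four p h2 P)⟩

end Cfsg.Agent.S4925
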