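import Mathlib
import Cfsg.Statements.S4991
import Cfsg.Agent.Fgs1.AvgFix
import Cfsg.Agent.Clifford.GoingDown
import Cfsg.Agent.Hyp.FTProof
import Cfsg.Agent.S4244

set_option autoImplicit false
open Cfsg

namespace Cfsg.Agent.S4991

open Subgroup CF.Clifford CF.Char in
theorem key {G : Type*} [Group G] [Fintype G] [Group.IsSolvable G] {χ : G → ℂ}
    (hχ : IsIrrCharacter G χ) (hp : RelPrim ⊥ χ) (p : ℕ) [Fact p.Prime] (K : Subgroup G) :
    K.Normal → ∀ (θ : K → ℂ) (e d : ℕ), IsIrrCharacter K θ → 0 < e →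
      (fun n : K => χ n) = (e : ℂ) • θ → θ 1 = d →
      Fintype.card G * d.factorization p ≤
        ∑ g, ((centralizer ({g} : Set G)).relIndex K).factorization p := by
  classical
  induction K using WellFoundedLT.induction with | ind K ih =>
  intro hK θ e d hθ he hres hd
  have hpp : p.Prime := Fact.out
  by_cases hK0 : K = ⊥
  · subst hK0
    have h1 := irr_one_eq_one_of_comm (G := (⊥ : Subgroup G)) (fun a b => Subsingleton.elim _ _) hθ
    rw [hd] at h1
    have : d = 1 := by exact_mod_cast h1
    simp [this]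
  obtain ⟨L, ⟨hL, hLK⟩, hmax⟩ := (wellFounded_gt (α := Subgroup G)).has_min
    {L | L.Normal ∧ L < K} ⟨⊥, inferInstance, bot_lt_iff_ne_bot.mpr hK0⟩
  have hc : ∀ M : Subgroup G, M.Normal → L ≤ M → M ≤ K → M = L ∨ M = K := by
    intro M hM h1 h2
    by_contra hh
    push Not at hh
    exact hmax M ⟨hM, lt_of_le_of_ne h2 hh.2⟩ (lt_of_le_of_ne h1 hh.1.symm)
  have hab := commutator_le_of_chief ⊥ K L bot_le hLK hc
  obtain ⟨φ, f, hφ, hf, hφr⟩ := hp.homog hχ (NormalEmb.sub L) bot_le
  have hinv : (NormalEmb.sub K).Invariant θ :=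
    (NormalEmb.sub K).invariant_of_res_eq_smul (irr_isClassFunction hχ)
      (Nat.cast_ne_zero.mpr he.ne') hres
  obtain ⟨d', hd'0, hd'⟩ := irr_one_eq_nat hφ
  have ihL := ih L hLK hL φ f d' hφ hf hφr hd'
  have hec : (e : ℂ) ≠ 0 := Nat.cast_ne_zero.mpr he.ne'
  have hres' : (fun x : L => θ ⟨x, hLK.le x.2⟩) = ((f : ℂ) / e) • φ := by
    funext x
    have h1 := congrFun hres ⟨x, hLK.le x.2⟩
    have h2 := congrFun hφr x
    simp only [Pi.smul_apply, smul_eq_mul] at h1 h2 ⊢
    change χ x = _ at h2
    rw [h1] at h2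
    field_simp
    rw [mul_comm]; exact h2
  haveI : Fintype L := Fintype.ofFinite L
  obtain ⟨c, hc'⟩ : ∃ c : ℕ, (f : ℂ) / e = c := by
    have hch : IsCharacter L (fun x : L => θ ⟨x, hLK.le x.2⟩) :=
      char_comp (irr_isCharacter hθ) (inclusion hLK.le)
    obtain ⟨c, hc⟩ := inner_char_eq_nat hch (irr_isCharacter hφ)
    refine ⟨c, ?_⟩
    rw [← hc, hres', CF.Char.inner_smul_left, inner_irr_self hφ, mul_one]
  rw [hc'] at hres'
  have hdd : d = c * d' := by
    have := congrFun hres' 1
    simp only [Pi.smul_apply, smul_eq_mul] at this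
    rw [hd'] at this
    change θ 1 = _ at this
    rw [hd] at this
    exact_mod_cast this
  let ψ := QuotientGroup.mk' L
  let U : Subgroup (G ⧸ L) := K.map ψ
  haveI hU : U.Normal := hK.map _ (QuotientGroup.mk'_surjective L)
  have hdvd : ∀ g : G, ((centralizer ({g} : Set G)).relIndex L).factorization p +
      ((centralizer ({ψ g} : Set (G ⧸ L))).relIndex U).factorization p ≤
      ((centralizer ({g} : Set G)).relIndex K).factorization p := by
    intro g
    set C := centralizer ({g} : Set G)
    set D := (centralizer ({ψ g} : Set (G ⧸ L))).comap ψ with hD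
    have hCD : C ≤ D := by
      intro x hx
      rw [hD, mem_comap, mem_centralizer_singleton_iff, ← map_mul, ← map_mul,
        mem_centralizer_singleton_iff.mp hx]
    have hLD : L ≤ D := by
      intro x hx
      rw [hD, mem_comap, show ψ x = 1 from (QuotientGroup.eq_one_iff x).mpr hx]
      exact one_mem _
    have e1 : (centralizer ({ψ g} : Set (G ⧸ L))).relIndex U = D.relIndex K :=
      (relIndex_comap _ _ _).symm
    have e2 : C.relIndex K = C.relIndex (D ⊓ K) * D.relIndex K := by
      rw [relIndex_inf_mul_relIndex, inf_eq_left.mpr hCD]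
    have e3 : C.relIndex L ∣ C.relIndex (D ⊓ K) :=
      Cfsg.Agent.S4244.aux C (le_inf hLD hLK.le) inferInstance
    have nz : ∀ A B : Subgroup G, A.relIndex B ≠ 0 := fun A B => index_ne_zero_of_finite
    rw [e1, e2, Nat.factorization_mul (nz _ _) (nz _ _), Finsupp.add_apply]
    have := (Nat.factorization_le_iff_dvd (nz _ _) (nz _ _)).mpr e3 p
    omega
  have hsum := Finset.sum_le_sum (s := Finset.univ) fun g _ => hdvd g
  rw [Finset.sum_add_distrib] at hsum
  have hc0 : c ≠ 0 := by
    rintro rfl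
    rw [Nat.cast_zero, div_eq_zero_iff] at hc'
    rcases hc' with h | h
    · exact hf.ne' (by exact_mod_cast h)
    · exact hec h
  rw [hdd, Nat.factorization_mul hc0 hd'0.ne', Finsupp.add_apply, mul_add]
  suffices h : Fintype.card G * c.factorization p ≤
      ∑ g, ((centralizer ({ψ g} : Set (G ⧸ L))).relIndex U).factorization p by omega
  by_cases hpc : c.factorization p = 0
  · simp [hpc]
  rcases goingDown_homog K L hLK.le hc hab hθ hinv hφ hres' with rfl | h4
  · simp
  have hmin : CF.Solv.IsMinNormal U := by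
    refine ⟨hU, fun e => hLK.not_ge ((CF.Solv.map_mk'_eq_bot_iff L K).mp e), fun M hM hle => ?_⟩
    have h1 : M.comap (QuotientGroup.mk' L) ≤ K := by
      have := comap_mono (f := QuotientGroup.mk' L) hle
      rwa [CF.Solv.comap_map_mk', sup_eq_left.mpr hLK.le] at this
    rcases hc _ inferInstance (CF.Solv.le_comap_mk' L M) h1 with h | h
    · left; rw [← CF.Solv.map_comap_mk' L M, h, CF.Solv.map_mk'_eq_bot_iff]
    · right; rw [← CF.Solv.map_comap_mk' L M, h]
  obtain ⟨q, hq, hel, hqU⟩ := hmin.exists_isElementaryAbelian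
  haveI : Fact q.Prime := ⟨hq⟩
  obtain ⟨n, hn⟩ := IsPGroup.iff_card.mp hqU
  have hcardU : Nat.card U = L.relIndex K := by
    have := (relIndex_comap (⊥ : Subgroup (G ⧸ L)) ψ K).symm
    rw [relIndex_bot_left] at this
    rw [this, MonoidHom.comap_bot, QuotientGroup.ker_mk']
  have h5 : c ^ 2 = q ^ n := by rw [h4, ← hcardU, hn]
  have hpq : p = q := by
    have : p ∣ c := Nat.dvd_of_factorization_pos hpc
    have : p ∣ q ^ n := h5 ▸ dvd_pow this two_ne_zero
    exact (Nat.prime_dvd_prime_iff_eq hpp hq).mp (hpp.dvd_of_dvd_pow this)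
  subst hpq
  have h6 : 2 * c.factorization p = n := by
    have := congrArg (fun x => x.factorization p) h5
    simpa [Nat.factorization_pow, hpp.factorization_self] using this
  have h7 := CF.Fgs1.PrimLin.avg_group ψ (QuotientGroup.mk'_surjective L) U hel hn (by omega)
    hmin.2.2
  rw [← h6] at h7
  nlinarith

/-- Let G be a group of odd order, χ an irreducible complex character of G that is primitive (not induced from a character of any proper subgroup), and p a prime dividing the order of G. Then there is an element g of G such that the p-part of χ(1) divides the p-part of the size of the conjugacy class of g. -/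
theorem result {G : Type*} [Group G] [Fintype G] (hodd : Odd (Nat.card G)) (χ : Cfsg.IrrCharacter G) (hprim : ¬ ∃ (H : Subgroup G), H ≠ ⊤ ∧ ∃ θ : ↥H → ℂ, Cfsg.IsCharacter ↥H θ ∧ Cfsg.indFun H θ = (χ : G → ℂ)) (p : ℕ) [Fact p.Prime] (hp : p ∣ Nat.card G) : ∃ g : G, (Cfsg.charDegree (χ : G → ℂ)).factorization p ≤ ((Subgroup.centralizer ({g} : Set G)).index).factorization p := by
  classical
  haveI := CF.Hyp.isSolvable_of_odd hodd
  have hrp : CF.Clifford.RelPrim ⊥ (χ : G → ℂ) := by
    intro inst T _ hT ψ hψ he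
    apply hprim
    refine ⟨T, hT, ψ, hψ, ?_⟩
    convert he
  obtain ⟨d, hd0, hd⟩ := CF.Char.irr_one_eq_nat χ.2
  have h := key χ.2 hrp p ⊤ inferInstance (fun n : (⊤ : Subgroup G) => (χ : G → ℂ) n) 1 d
    (CF.Char.irr_comp_equiv χ.2 Subgroup.topEquiv) one_pos (by simp) hd
  have hdeg : Cfsg.charDegree (χ : G → ℂ) = d := by simp [Cfsg.charDegree, hd]
  rw [hdeg]
  by_contra hne
  push Not at hne
  have := Finset.sum_lt_sum_of_nonempty (s := Finset.univ) Finset.univ_nonempty
    fun g _ => hne g
  rw [Finset.sum_const, Finset.card_univ, smul_eq_mul] at this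
  simp only [Subgroup.relIndex_top_right] at h
  omega

end Cfsg.Agent.S4991
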