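import Mathlib
import Cfsg.Statements.S4994
import Cfsg.Agent.S4991

set_option autoImplicit false
open Cfsg

namespace Cfsg.Agent.S4994


/-- Let G be a finite solvable group, χ a primitive irreducible complex character of G (not induced from a character of any proper subgroup) and p a prime dividing the order of G. Then there is an element g of G such that the p-part of χ(1) divides the cube of the p-part of the size of the conjugacy class of g. -/
theorem result {G : Type*} [Group G] [Fintype G] (hsolv : Group.IsSolvable G) (χ : Cfsg.IrrCharacter G) (hprim : ¬ ∃ (H : Subgroup G), H ≠ ⊤ ∧ ∃ θ : ↥H → ℂ, Cfsg.IsCharacter ↥H θ ∧ Cfsg.indFun H θ = (χ : G → ℂ)) (p : ℕ) [Fact p.Prime] (hp : p ∣ Nat.card G) : ∃ g : G, (Cfsg.charDegree (χ : G → ℂ)).factorization p ≤ 3 * ((Subgroup.centralizer ({g} : Set G)).index).factorization p := by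
  classical
  have hrp : CF.Clifford.RelPrim ⊥ (χ : G → ℂ) := by
    intro inst T _ hT ψ hψ he
    apply hprim
    refine ⟨T, hT, ψ, hψ, ?_⟩
    convert he
  obtain ⟨d, hd0, hd⟩ := CF.Char.irr_one_eq_nat χ.2
  have h := Cfsg.Agent.S4991.key χ.2 hrp p ⊤ inferInstance
    (fun n : (⊤ : Subgroup G) => (χ : G → ℂ) n) 1 d
    (CF.Char.irr_comp_equiv χ.2 Subgroup.topEquiv) one_pos (by simp) hd
  have hdeg : Cfsg.charDegree (χ : G → ℂ) = d := by simp [Cfsg.charDegree, hd]
  rw [hdeg]
  by_contra hne
  push Not at hne
  have := Finset.sum_lt_sum_of_nonempty (s := Finset.univ) Finset.univ_nonempty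
    (f := fun g : G => ((Subgroup.centralizer ({g} : Set G)).index).factorization p)
    (g := fun _ => d.factorization p) fun g _ => by have := hne g; omega
  rw [Finset.sum_const, Finset.card_univ, smul_eq_mul] at this
  simp only [Subgroup.relIndex_top_right] at h
  omega

end Cfsg.Agent.S4994
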