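import Cfsg.Statements.S5177
import Cfsg.Agent.FusC.R

set_option autoImplicit false
universe u
open Cfsg

namespace Cfsg.Agent.S5177

open CF.Fus CF.FusC


/-- Let p be an odd prime, S a finite p-group of order at least p⁶ containing an extraspecial subgroup Q of index p, and F a saturated fusion system over S whose largest subgroup normal in F is trivial. Then S is isomorphic to a Sylow p-subgroup of SL(4,p), to a Sylow p-subgroup of SU(4,p), to a Sylow p-subgroup of G₂(p) with p ≥ 5, or p ≥ 11 and S has order p^(p−1), exponent p and maximal nilpotency class. -/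
theorem result {Ω : Type u} [Group Ω] {S : Subgroup Ω} [Finite S] (p : ℕ) [Fact p.Prime] (hp : Odd p) (hS : IsPGroup p S)
    (Q : Subgroup Ω) (hQS : Q ≤ S) (hQ : Cfsg.IsExtraspecial p ↥Q) (hQi : (Q.subgroupOf S).index = p)
    (h6 : p ^ 6 ≤ Nat.card S)
    (F : Cfsg.FusionSystem S) (hF : F.IsSaturated p) (hO : F.core = ⊥) [Group.IsNilpotent ↥S] :
    (∃ P : Sylow p (Matrix.SpecialLinearGroup (Fin 4) (ZMod p)),
        Nonempty (↥S ≃* ↥(P : Subgroup (Matrix.SpecialLinearGroup (Fin 4) (ZMod p))))) ∨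
      (∃ (K : Type) (_ : Field K) (_ : Fintype K), Fintype.card K = p ^ 2 ∧
        ∃ P : Sylow p ↥(Cfsg.SU 4 K p), Nonempty (↥S ≃* ↥(P : Subgroup ↥(Cfsg.SU 4 K p)))) ∨
      (5 ≤ p ∧ ∃ P : Sylow p ↥(Cfsg.Lie.G2 (ZMod p)), Nonempty (↥S ≃* ↥(P : Subgroup ↥(Cfsg.Lie.G2 (ZMod p))))) ∨
      (11 ≤ p ∧ Nat.card S = p ^ (p - 1) ∧ (∀ x : ↥S, x ^ p = 1) ∧ Group.nilpotencyClass ↥S = p - 2) := by
  have hF' := Sat.mk' hS hF
  obtain ⟨G, _, _, ι, f⟩ := exists_real F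
  obtain ⟨a1, a2⟩ := xsp_facts hQ
  have g := f.piso.restrict hQS
  have e := f.piso.equiv
  haveI := hF'.finite hQS
  have b1 := g.img_CS le_rfl
  rcases xsp_main (f.sat' hF') (by rintro rfl; exact absurd hp (by decide)) (core_real f hO) (f.piso.img_le hQS)
    (by rw [← b1, g.card_img CS_le, a1]) (by rw [← b1, ← g.mul.img_commutator le_rfl le_rfl, a2])
    ((f.piso.relIndex_img hQS le_rfl).trans hQi) (f.piso.card_eq ▸ h6) with
    ⟨P, ⟨i⟩⟩ | ⟨K, _, _, c, P, ⟨i⟩⟩ | ⟨c, P, ⟨i⟩⟩ | ⟨c1, c2, c3, E', c4, c5⟩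
  · exact .inl ⟨P, ⟨e.trans i⟩⟩
  · exact .inr (.inl ⟨K, _, _, c, P, ⟨e.trans i⟩⟩)
  · exact .inr (.inr (.inl ⟨c, P, ⟨e.trans i⟩⟩))
  obtain ⟨E, d, rfl⟩ := ess_real f hF' c4
  rw [f.piso.card_img (hF'.ess_lt d).le] at c5
  rw [← f.piso.card_eq] at c2
  have m := hF'.maxC d (.inl c5) c2
  refine .inr (.inr (.inr ⟨c1, c2, fun x => e.injective (by
    rw [map_pow, map_one]; exact Subtype.ext (c3 _ (e x).2)), le_antisymm
    (Subgroup.lowerCentralSeries_eq_bot_iff_nilpotencyClass_le.1 m.bot) ?_⟩))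
  have := mt Subgroup.lowerCentralSeries_eq_bot_iff_nilpotencyClass_le.2 m.ne
  omega

end Cfsg.Agent.S5177
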