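import Cfsg.Statements.S5178
import Cfsg.Agent.Fus.Xsp

set_option autoImplicit false
universe u
open Cfsg

namespace Cfsg.Agent.S5178
open CF.Fus Cfsg.FusionSystem

/-- Let p be an odd prime, S a finite p-group containing an extraspecial subgroup Q of index p, and F a saturated fusion system over S whose largest subgroup normal in F is trivial. Then the centre of S equals the centre of Q. -/
theorem result {Ω : Type u} [Group Ω] {S : Subgroup Ω} [Finite S] (p : ℕ) [Fact p.Prime] (hp : Odd p) (hS : IsPGroup p S)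
    (Q : Subgroup Ω) (hQS : Q ≤ S) (hQ : Cfsg.IsExtraspecial p ↥Q) (hQi : (Q.subgroupOf S).index = p)
    (F : Cfsg.FusionSystem S) (hF : F.IsSaturated p) (hO : F.core = ⊥) :
    S ⊓ Subgroup.centralizer (S : Set Ω) = Q ⊓ Subgroup.centralizer (Q : Set Ω) := by
  have hF' := Sat.mk' hS hF
  haveI := fin_of_le hQS
  have hn := norm_of_prime hS hQS hQi
  obtain ⟨h1, h2⟩ := xsp_facts hQ
  have h3 := center_le_of_prime hS hQS hn h1
  refine le_antisymm (fun c hc => by_contra fun hc' => ?_) h3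
  have h4 := sup_zpowers_eq hQi hQS hc.1 fun h => hc' ⟨h, Subgroup.centralizer_le hQS hc.2⟩
  have h5 : ⁅S, S⁆ ≤ CS Q Q := comm_le_of_sup ((Subgroup.le_centralizer_iff.1 (h3.trans CS_le_cent)).trans
    (Subgroup.centralizer_le_normalizer _)) (hn hc.1) h4 fun y hy s hs => by
      obtain ⟨q, q1, k, rfl⟩ := (mem_sup_zpowers (hn hc.1)).1 (h4.ge hs)
      rw [CF.Transfer.commutatorElement_mul_right', commutatorElement_eq_one_iff_mul_comm.2
        (Subgroup.zpow_mem _ hc.2 k y (hQS hy)), mul_one, mul_inv_cancel, mul_one]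
      exact h2.le (Subgroup.commutator_mem_commutator hy q1)
  obtain ⟨n, n1, n2⟩ := CF.Fgs1.card_of_extraspecial hQ
  have h6 : S ≠ ⊥ := fun e => hc' (by rw [Subgroup.mem_bot.1 (e.le hc.1)]; exact one_mem _)
  obtain ⟨E, hE⟩ := hF'.exists_ess h6 hO
  obtain ⟨-, -, -, -, -, h7⟩ := hF'.exists_tv_sq h6 (hF'.sq_of_ess hE h1 h3 h5 le_rfl (hF'.ess_lt hE)) hO
    fun e => absurd (e ▸ hp) (by decide)
  rw [← (Q.subgroupOf S).card_mul_index, hQi, Nat.card_congr (Subgroup.subgroupOfEquivOfLe hQS).toEquiv, n2,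
    ← pow_succ] at h7
  have := Nat.pow_right_injective (Fact.out : p.Prime).two_le h7
  omega

end Cfsg.Agent.S5178
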