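import Cfsg.Statements.S5179
import Cfsg.Agent.Fus.Xsp

set_option autoImplicit false
universe u
open Cfsg

namespace Cfsg.Agent.S5179
open CF.Fus Cfsg.FusionSystem

/-- Let p be an odd prime, S a finite p-group of order at least p⁶ containing an extraspecial subgroup Q of index p, and F a saturated fusion system over S whose largest subgroup normal in F is trivial. Then no proper subgroup of Q is essential in F: an essential subgroup of F contained in Q equals Q. -/
theorem result {Ω : Type u} [Group Ω] {S : Subgroup Ω} [Finite S] (p : ℕ) [Fact p.Prime] (hp : Odd p) (hS : IsPGroup p S)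
    (Q : Subgroup Ω) (hQS : Q ≤ S) (hQ : Cfsg.IsExtraspecial p ↥Q) (hQi : (Q.subgroupOf S).index = p)
    (h6 : p ^ 6 ≤ Nat.card S)
    (F : Cfsg.FusionSystem S) (hF : F.IsSaturated p) (hO : F.core = ⊥)
    (E : Subgroup Ω) (hEQ : E ≤ Q) (hE : F.IsEssential p E) : E = Q := by
  have hF' := Sat.mk' hS hF
  haveI := fin_of_le hQS
  obtain ⟨h1, h2⟩ := xsp_facts hQ
  by_contra h
  have h3 := hF'.sq_of_ess hE h1 (center_le_of_prime hS hQS (norm_of_prime hS hQS hQi) h1) h2.le hQS
    (lt_of_le_of_ne hEQ h)
  rw [← (Q.subgroupOf S).card_mul_index, hQi, Nat.card_congr (Subgroup.subgroupOfEquivOfLe hQS).toEquiv,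
    ← (Subgroup.center Q).card_mul_index, hQ.2, index_center] at h6
  have h4 := h6.trans (Nat.mul_le_mul_right p (Nat.mul_le_mul_left p h3))
  rw [← pow_succ', ← pow_succ, Nat.pow_le_pow_iff_right (Fact.out : p.Prime).one_lt] at h4
  omega

end Cfsg.Agent.S5179
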