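import Cfsg.Statements.S5180
import Cfsg.Agent.FusC.J

set_option autoImplicit false
universe u
open Cfsg

namespace Cfsg.Agent.S5180

open CF.Fus CF.FusC


/-- Let p ≥ 5 be a prime, S a finite p-group of sectional p-rank exactly 3, and F a saturated fusion system over S. Then every essential subgroup E of F that needs three generators (the Frattini quotient E/Φ(E) has order p³) is normal in S. -/
theorem result {Ω : Type u} [Group Ω] {S : Subgroup Ω} [Finite S] (p : ℕ) [Fact p.Prime] (hp : 5 ≤ p) (hS : IsPGroup p S) (hsr : Cfsg.SectionalPRankLE p 3 ↥S ∧ ¬ Cfsg.SectionalPRankLE p 2 ↥S)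
    (F : Cfsg.FusionSystem S) (hF : F.IsSaturated p) (E : Subgroup Ω) (hE : F.IsEssential p E)
    (hrk : (frattini ↥E).index = p ^ 3) : S ≤ Subgroup.normalizer (E : Set Ω) := by
  by_contra hn
  have hF' := Sat.mk' hS hF
  obtain ⟨G, _, _, ι, f⟩ := exists_real F
  have a := (hF'.ess_lt hE).le
  haveI := hF'.finite a
  have := card_of_nn (f.sat' hF') hp ((rk_of_srk hsr.1).piso f.piso) (f.ess hF' hE) fun c => hn (norm_real' f a c)
  rw [f.piso.card_img a] at this
  have b := Nat.le_of_dvd Nat.card_pos (hrk ▸ (frattini E).index_dvd_card)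
  rw [this, Nat.pow_le_pow_iff_right (Fact.out : p.Prime).one_lt] at b
  omega

end Cfsg.Agent.S5180
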