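import Cfsg.Statements.S5181
import Cfsg.Agent.FusC.J

set_option autoImplicit false
universe u
open Cfsg

namespace Cfsg.Agent.S5181

open CF.Fus CF.FusC


/-- Let p be an odd prime, S a finite p-group of sectional p-rank exactly 3, and F a saturated fusion system over S whose largest subgroup normal in F is trivial. Then either S is isomorphic to a Sylow p-subgroup of Sp(4,p), or some essential subgroup of F is not normal in S. -/
theorem result {Ω : Type u} [Group Ω] {S : Subgroup Ω} [Finite S] (p : ℕ) [Fact p.Prime] (hp : Odd p) (hS : IsPGroup p S) (hsr : Cfsg.SectionalPRankLE p 3 ↥S ∧ ¬ Cfsg.SectionalPRankLE p 2 ↥S)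
    (F : Cfsg.FusionSystem S) (hF : F.IsSaturated p) (hO : F.core = ⊥) :
    (∃ P : Sylow p ↥(Matrix.symplecticGroup (Fin 2) (ZMod p)),
        Nonempty (↥S ≃* ↥(P : Subgroup ↥(Matrix.symplecticGroup (Fin 2) (ZMod p))))) ∨
      ∃ E : Subgroup Ω, F.IsEssential p E ∧ ¬ S ≤ Subgroup.normalizer (E : Set Ω) := by
  refine or_iff_not_imp_right.2 fun hn => ?_
  have hp2 : p ≠ 2 := fun c => by rw [c] at hp; exact absurd hp (by decide)
  have hF' := Sat.mk' hS hF
  obtain ⟨G, _, _, ι, f⟩ := exists_real F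
  obtain ⟨h1, h2⟩ := not_cube hF' hO hsr.2
  obtain ⟨E₁, E₂, e1, -, h⟩ := (all_normal (f.sat' hF') hp2 ((rk_of_srk hsr.1).piso f.piso) (core_real f hO)
    (fun c => h1 ((f.piso.img_eq_bot_iff le_rfl).1 c)) fun E' hE' => by
      obtain ⟨E, a, rfl⟩ := ess_real f hF' hE'
      exact norm_real f (hF'.ess_lt a).le (by_contra fun c => hn ⟨E, a, c⟩)).resolve_left
    fun c => h2 (f.piso.card_eq.trans c)
  obtain ⟨P, ⟨e⟩⟩ := h.iso (f.sat' hF') hp2 e1
  exact ⟨P, ⟨f.piso.equiv.trans e⟩⟩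

end Cfsg.Agent.S5181
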