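import Cfsg.Statements.S5182
import Cfsg.Agent.FusC.J
import Cfsg.Agent.S5185

set_option autoImplicit false
universe u
open Cfsg

namespace Cfsg.Agent.S5182

open CF.Fus CF.FusC


/-- Let p ≥ 5 be a prime, S a finite p-group of sectional p-rank exactly 3, and F a saturated fusion system over S whose largest subgroup normal in F is trivial. Then F has an essential subgroup that is either elementary abelian of order p² or extraspecial of order p³ and exponent p. -/
theorem result {Ω : Type u} [Group Ω] {S : Subgroup Ω} [Finite S] (p : ℕ) [Fact p.Prime] (hp : 5 ≤ p) (hS : IsPGroup p S) (hsr : Cfsg.SectionalPRankLE p 3 ↥S ∧ ¬ Cfsg.SectionalPRankLE p 2 ↥S)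
    (F : Cfsg.FusionSystem S) (hF : F.IsSaturated p) (hO : F.core = ⊥) :
    ∃ E : Subgroup Ω, (F.IsEssential p E ∧ ((Cfsg.IsElementaryAbelian p E ∧ Nat.card E = p ^ 2) ∨
        (Cfsg.IsExtraspecial p ↥E ∧ Nat.card E = p ^ 3 ∧ ∀ x ∈ E, x ^ p = 1))) := by
  have hp2 : p ≠ 2 := by omega
  have hF' := Sat.mk' hS hF
  obtain ⟨G, _, _, ι, f⟩ := exists_real F
  have hr := (rk_of_srk hsr.1).piso f.piso
  obtain ⟨h1, h2⟩ := not_cube hF' hO hsr.2
  by_cases hn : ∀ E, (FT (img ι S)).IsEssential p E → img ι S ≤ Nm E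
  · obtain ⟨E₁, E₂, e1, -, h⟩ := (all_normal (f.sat' hF') hp2 hr (core_real f hO)
      (fun c => h1 ((f.piso.img_eq_bot_iff le_rfl).1 c)) hn).resolve_left fun c => h2 (f.piso.card_eq.trans c)
    obtain ⟨E, a, rfl⟩ := ess_real f hF' e1
    exact ⟨E, a, Or.inr (pearl_real f hF' hp2 a h.card₁ h.na)⟩
  · push Not at hn
    obtain ⟨E', e1, h⟩ := hn
    have b := card_of_nn (f.sat' hF') hp hr e1 h
    obtain ⟨E, a, rfl⟩ := ess_real f hF' e1
    rw [f.piso.card_img (hF'.ess_lt a).le] at b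
    exact ⟨E, a, Or.inl ⟨(S5185.result p hS F hF E a b).1, b⟩⟩

end Cfsg.Agent.S5182
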