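import Cfsg.Statements.S5186
import Cfsg.Agent.Fus.Small2

set_option autoImplicit false
universe u
open Cfsg

namespace Cfsg.Agent.S5186
open CF.Fus Cfsg.FusionSystem

/-- Let F be a saturated fusion system over a finite p-group S and H an essential subgroup of order p³. Then H is elementary abelian, or p is odd and H is extraspecial of exponent p, or p = 2 and H is the quaternion group of order 8. -/
theorem result {Ω : Type u} [Group Ω] {S : Subgroup Ω} [Finite S] (p : ℕ) [Fact p.Prime] (hS : IsPGroup p S)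
    (F : Cfsg.FusionSystem S) (hF : F.IsSaturated p) (H : Subgroup Ω) (hH : F.IsEssential p H) (hcard : Nat.card H = p ^ 3) :
    Cfsg.IsElementaryAbelian p H ∨ (Odd p ∧ Cfsg.IsExtraspecial p ↥H ∧ ∀ x ∈ H, x ^ p = 1) ∨
      (p = 2 ∧ Nonempty (↥H ≃* QuaternionGroup 2)) := by
  have hF' := Sat.mk' hS hF
  haveI := hF'.finite (hF'.ess_lt hH).le
  by_cases h : IsMulCommutative H
  · exact .inl (hF'.elem_of_le_cube hH h hcard le_rfl)
  have hn := hF'.not_cch hH
  rcases eq_or_ne p 2 with rfl | hp
  · obtain ⟨h1, h2⟩ := sq_of_cube hcard h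
    have h3 := (extraspecial_of_cube hcard h).1.2.2
    refine .inr (.inr ⟨rfl, (d8_or_q8 hcard h).resolve_left fun ⟨e⟩ => hn (h1.cch_of_invol (a := e.symm (.sr 0))
      (cch_prime h2) (fun x => h3 ▸ h1.pow_mem x) (fun x hx => h3.symm ▸ hx |> h1.pow_eq_one) (fun c => ?_) ?_)⟩)
    · have := congrArg e (Subgroup.mem_center_iff.1 c (e.symm (.r 1)))
      simp only [map_mul, e.apply_symm_apply] at this
      exact absurd this (by decide)
    · rw [← map_pow]; exact (congrArg e.symm (by decide)).trans (map_one _)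
  · exact .inr (.inl ⟨(Fact.out : p.Prime).odd_of_ne_two hp, extraspecial_of_cube hcard h, fun x hx =>
      congrArg Subtype.val (exp_of_cube hp hcard h hn ⟨x, hx⟩)⟩)

end Cfsg.Agent.S5186
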