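import Cfsg.Statements.S5187
import Cfsg.Agent.Fus.Small2

set_option autoImplicit false
universe u
open Cfsg

namespace Cfsg.Agent.S5187
open CF.Fus Cfsg.FusionSystem

/-- Let F be a saturated fusion system over a finite p-group S and H an abelian essential subgroup that can be generated by two elements (its Frattini quotient has order at most p²). Then H is elementary abelian of order p², or p ≤ 3 and H is homocyclic of rank two, that is isomorphic to C_{pᵏ} × C_{pᵏ} for some k. -/
theorem result {Ω : Type u} [Group Ω] {S : Subgroup Ω} [Finite S] (p : ℕ) [Fact p.Prime] (hS : IsPGroup p S)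
    (F : Cfsg.FusionSystem S) (hF : F.IsSaturated p) (H : Subgroup Ω) (hH : F.IsEssential p H) (hab : IsMulCommutative ↥H) (hrk : (frattini ↥H).index ≤ p ^ 2) :
    (Cfsg.IsElementaryAbelian p H ∧ Nat.card H = p ^ 2) ∨
      (p ≤ 3 ∧ ∃ k : ℕ, Nonempty (↥H ≃* Multiplicative (ZMod (p ^ k) × ZMod (p ^ k)))) := by
  have hF' := Sat.mk' hS hF
  obtain ⟨n, h1, h2, ⟨e⟩⟩ := hF'.rank_two hH hab hrk
  rcases Nat.lt_or_ge n 2 with h | h
  · obtain rfl : n = 1 := by omega
    exact .inl ⟨hF'.elem_of_le_cube hH hab h2 (by omega), h2⟩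
  · exact .inr ⟨hF'.le_three hH (by simp) h e, n, ⟨e.trans (MulEquiv.prodMultiplicative _ _).symm⟩⟩

end Cfsg.Agent.S5187
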