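import Cfsg.Statements.S5188
import Cfsg.Agent.Fus.Small2
import Cfsg.Agent.Even.Extra

set_option autoImplicit false
universe u
open Cfsg

namespace Cfsg.Agent.S5188
open CF.Fus Cfsg.FusionSystem

/-- Let F be a saturated fusion system over a finite p-group S and H an essential subgroup of order p⁴. Then H is isomorphic to one of: C_p⁴ or C_{p²} × C_p × C_p (any p); C_{p²} × C_{p²} with p ∈ {2, 3}; p^{1+2}_+ × C_p with p odd (the direct product of an extraspecial group of order p³ and exponent p with a group of order p); Q₈ × C₂ (p = 2); or the non-abelian group of order p⁴ of exponent p² whose centre is cyclic of order p² (the central product of an extraspecial group of order p³ with a cyclic group of order p²; for p = 2 this is D₈ ∘ C₄). -/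
theorem result {Ω : Type u} [Group Ω] {S : Subgroup Ω} [Finite S] (p : ℕ) [Fact p.Prime] (hS : IsPGroup p S)
    (F : Cfsg.FusionSystem S) (hF : F.IsSaturated p) (H : Subgroup Ω) (hH : F.IsEssential p H) (hcard : Nat.card H = p ^ 4) :
    Cfsg.IsElementaryAbelian p H ∨
      Nonempty (↥H ≃* Multiplicative (ZMod (p ^ 2) × ZMod p × ZMod p)) ∨
      ((p = 2 ∨ p = 3) ∧ Nonempty (↥H ≃* Multiplicative (ZMod (p ^ 2) × ZMod (p ^ 2)))) ∨
      (Odd p ∧ ∃ (E : Type) (_ : Group E) (_ : Finite E), Cfsg.IsExtraspecial p E ∧ Nat.card E = p ^ 3 ∧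
        (∀ x : E, x ^ p = 1) ∧ Nonempty (↥H ≃* E × Multiplicative (ZMod p))) ∨
      (p = 2 ∧ Nonempty (↥H ≃* QuaternionGroup 2 × Multiplicative (ZMod 2))) ∨
      (¬ IsMulCommutative ↥H ∧ (∀ x ∈ H, x ^ (p ^ 2) = 1) ∧ IsCyclic ↥(Subgroup.center ↥H) ∧
        Nat.card (Subgroup.center ↥H) = p ^ 2) := by
  have hF' := Sat.mk' hS hF
  have hp := (Fact.out : p.Prime)
  haveI := hF'.finite (hF'.ess_lt hH).le
  by_cases h : IsMulCommutative H
  · obtain ⟨n, m, C, _, h1, h2, h3, ⟨e⟩⟩ := hF'.ess_split hH h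
    have := Nat.pow_right_injective hp.two_le (hcard.symm.trans h3)
    haveI : Finite C := Finite.of_surjective _ (Prod.snd_surjective.comp e.surjective)
    obtain ⟨rfl, rfl⟩ | ⟨rfl, rfl⟩ : (n = 1 ∧ m = 2) ∨ (n = 2 ∧ m = 0) := by omega
    · by_cases c : IsCyclic C
      · rw [pow_one] at e
        refine .inr (.inl ⟨(e.trans MulEquiv.prodComm).trans (((mulEquivOfCyclicCardEq (G := C) (G' := Multiplicative
          (ZMod (p ^ 2))) (by simpa using h2)).prodCongr (MulEquiv.prodMultiplicative _ _).symm).trans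
            (MulEquiv.prodMultiplicative _ _).symm)⟩)
      · exact .inl (elem_of_split (by simp) (fun x => by
          rw [← (not_isCyclic_iff_exponent_eq_prime hp h2).1 c]; exact Monoid.pow_exponent_eq_one x) e)
    · haveI := @Unique.mk' C ⟨1⟩ (Nat.card_eq_one_iff_unique.1 h2).1
      have e' := e.trans MulEquiv.prodUnique
      have := hF'.le_three hH (n := 2) (by simp) le_rfl e'
      exact .inr (.inr (.inl ⟨by have := hp.two_le; omega, ⟨e'.trans (MulEquiv.prodMultiplicative _ _).symm⟩⟩))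
  rcases four_cases hcard h (hF'.not_cch hH) with ⟨E, h1, h2, ⟨e⟩, h3, h4⟩ | ⟨h1, h2, h3⟩
  · rcases eq_or_ne p 2 with rfl | hp'
    · obtain ⟨e'⟩ := h4 rfl
      exact .inr (.inr (.inr (.inr (.inl ⟨rfl, ⟨e.trans (e'.prodCongr (MulEquiv.refl _))⟩⟩))))
    · have e' : Shrink.{0} E ≃* E := Shrink.mulEquiv
      refine .inr (.inr (.inr (.inl ⟨hp.odd_of_ne_two hp', Shrink.{0} E, inferInstance, Finite.of_equiv _ e'.symm.toEquiv,
        CF.Even.isExtraspecial_of_equiv (extraspecial_of_cube h1 h2) e'.symm, (Nat.card_congr e'.toEquiv).trans h1,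
        fun x => e'.injective ?_, ⟨e.trans (e'.symm.prodCongr (MulEquiv.refl _))⟩⟩)))
      rw [map_pow, map_one]
      exact Subtype.ext (h3 hp' _)
  · exact .inr (.inr (.inr (.inr (.inr ⟨h, fun x hx => congrArg Subtype.val (h1 ⟨x, hx⟩), h2, h3⟩))))

end Cfsg.Agent.S5188
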