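import Cfsg.Statements.S5189
import Cfsg.Agent.FusC.J

set_option autoImplicit false
universe u
open Cfsg

namespace Cfsg.Agent.S5189

open CF.Fus CF.FusC


/-- Let p be an odd prime, S a finite p-group of sectional p-rank exactly 3, and F a saturated fusion system over S whose largest subgroup normal in F is trivial. Suppose S has two distinct essential subgroups E₁, E₂ each of which is invariant under every F-automorphism of S. Then S is isomorphic to a Sylow p-subgroup of Sp(4,p), and one of E₁, E₂ is extraspecial of order p³ and exponent p while the other is elementary abelian of order p³. -/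
theorem result {Ω : Type u} [Group Ω] {S : Subgroup Ω} [Finite S] (p : ℕ) [Fact p.Prime] (hp : Odd p) (hS : IsPGroup p S)
    (hsr : Cfsg.SectionalPRankLE p 3 ↥S ∧ ¬ Cfsg.SectionalPRankLE p 2 ↥S)
    (F : Cfsg.FusionSystem S) (hF : F.IsSaturated p) (hO : F.core = ⊥)
    (E₁ E₂ : Subgroup Ω) (hne : E₁ ≠ E₂) (hE₁ : F.IsEssential p E₁) (hE₂ : F.IsEssential p E₂)
    (hc₁ : (∀ φ : MulAut ↥S, φ ∈ F.autGroup S → (E₁.subgroupOf S).map φ.toMonoidHom = E₁.subgroupOf S))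
    (hc₂ : (∀ φ : MulAut ↥S, φ ∈ F.autGroup S → (E₂.subgroupOf S).map φ.toMonoidHom = E₂.subgroupOf S)) :
    (∃ P : Sylow p ↥(Matrix.symplecticGroup (Fin 2) (ZMod p)),
        Nonempty (↥S ≃* ↥(P : Subgroup ↥(Matrix.symplecticGroup (Fin 2) (ZMod p))))) ∧
      ((Cfsg.IsExtraspecial p ↥E₁ ∧ Nat.card E₁ = p ^ 3 ∧ (∀ x ∈ E₁, x ^ p = 1) ∧
          Cfsg.IsElementaryAbelian p E₂ ∧ Nat.card E₂ = p ^ 3) ∨
        (Cfsg.IsExtraspecial p ↥E₂ ∧ Nat.card E₂ = p ^ 3 ∧ (∀ x ∈ E₂, x ^ p = 1) ∧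
          Cfsg.IsElementaryAbelian p E₁ ∧ Nat.card E₁ = p ^ 3)) := by
  have hp2 : p ≠ 2 := fun c => by rw [c] at hp; exact absurd hp (by decide)
  have hF' := Sat.mk' hS hF
  obtain ⟨G, _, _, ι, f⟩ := exists_real F
  have a1 := (hF'.ess_lt hE₁).le
  have a2 := (hF'.ess_lt hE₂).le
  rcases two_char (f.sat' hF') hp2 ((rk_of_srk hsr.1).piso f.piso) (core_real f hO)
    (fun c => hne (f.piso.img_inj a1 a2 c)) (f.ess hF' hE₁) (f.ess hF' hE₂)
    (char_real f a1 fun φ h => (mem_stab_iff_map a1).2 (hc₁ φ h))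
    (char_real f a2 fun φ h => (mem_stab_iff_map a2).2 (hc₂ φ h)) with h | h | h
  · exact absurd (f.piso.card_eq.trans h) (not_cube hF' hO hsr.2).2
  · obtain ⟨P, ⟨e⟩⟩ := h.iso (f.sat' hF') hp2 (f.ess hF' hE₁)
    obtain ⟨b1, b2, b3⟩ := pearl_real f hF' hp2 hE₁ h.card₁ h.na
    exact ⟨⟨P, ⟨f.piso.equiv.trans e⟩⟩, Or.inl ⟨b1, b2, b3, elem_real f hF' hE₂ h.card₂ le_rfl h.ab⟩⟩
  · obtain ⟨P, ⟨e⟩⟩ := h.iso (f.sat' hF') hp2 (f.ess hF' hE₂)
    obtain ⟨b1, b2, b3⟩ := pearl_real f hF' hp2 hE₂ h.card₁ h.na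
    exact ⟨⟨P, ⟨f.piso.equiv.trans e⟩⟩, Or.inr ⟨b1, b2, b3, elem_real f hF' hE₁ h.card₂ le_rfl h.ab⟩⟩

end Cfsg.Agent.S5189
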