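import Cfsg.Statements.S5191
import Cfsg.Agent.Fus.Group

set_option autoImplicit false
open Cfsg

namespace Cfsg.Agent.S5191
open CF.Fus Cfsg.FusionSystem

/-- Fusion in a finite group G and in its quotient by O_{p'}(G) agree. Let S be a Sylow p-subgroup of G, N = O_{p'}(G) and P ≤ S. If an element of G/N conjugates the image of P into the image of S, then some element g of G conjugates P into S and induces the same map on P modulo N. (Together with the injectivity of S → G/N this says that g ↦ gN induces an isomorphism of the fusion system of G on S with that of G/N on SN/N.) -/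
theorem result {G : Type*} [Group G] [Finite G] {p : ℕ} [Fact p.Prime]
    [hN : (Cfsg.pPrimeCore p G).Normal] (S : Sylow p G) (P : Subgroup G) (hP : P ≤ (S : Subgroup G))
    (γ : G ⧸ Cfsg.pPrimeCore p G)
    (hγ : ∀ x ∈ P, γ * QuotientGroup.mk x * γ⁻¹ ∈ ((S : Subgroup G).map (QuotientGroup.mk' (Cfsg.pPrimeCore p G)))) :
    ∃ g : G, ∀ x ∈ P, g * x * g⁻¹ ∈ S ∧
      (QuotientGroup.mk (g * x * g⁻¹) : G ⧸ Cfsg.pPrimeCore p G) = γ * QuotientGroup.mk x * γ⁻¹ := by
  obtain ⟨g, rfl⟩ := QuotientGroup.mk_surjective γ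
  set N := pPrimeCore p G
  have h1 : SylIn p (S : Subgroup G) (S ⊔ N) := (sylIn_top S).mono le_sup_left le_top
  obtain ⟨c, hc, h⟩ := h1.exists_conj_by_normal (C := N) le_sup_right
    (by rw [Subgroup.normalizer_eq_top]; exact le_top) (D := img (cj g) P)
    ((piso_cj _ _).isPGroup (S.2.to_le hP)) (img_le_iff.2 fun x hx => by
      obtain ⟨s, hs, e⟩ := hγ x hx
      rw [show cj g x = s * (s⁻¹ * (g * x * g⁻¹)) by simp]
      exact mul_mem (Subgroup.mem_sup_left hs) (Subgroup.mem_sup_right (QuotientGroup.eq.1 e)))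
  refine ⟨c * g, fun x hx => ⟨?_, ?_⟩⟩
  · have := h _ (mem_img_of_mem hx)
    rwa [cj_apply, show c * (g * x * g⁻¹) * c⁻¹ = c * g * x * (c * g)⁻¹ by group] at this
  · have h0 : (c : G ⧸ N) = 1 := (QuotientGroup.eq_one_iff c).2 hc
    simp only [QuotientGroup.mk_mul, QuotientGroup.mk_inv]
    erw [h0]; simp

end Cfsg.Agent.S5191
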