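import Cfsg.Statements.S5210
import Cfsg.Agent.FusV.M
import Cfsg.Agent.Fus.Semi

set_option autoImplicit false
open Cfsg

namespace Cfsg.Agent.S5210

open CF.Fus CF.FusD CF.FusV Cfsg.FusionSystem

/-- Let p be a prime, K a finite field with q² elements where q = pⁿ (n ≥ 1), and S a finite p-group isomorphic to a Sylow p-subgroup of the projective special unitary group PSU₄(q) realised over K. Then every saturated fusion system F over S with no nontrivial normal subgroup (O_p(F) = 1) is realizable: it is the fusion system of a finite group on a Sylow p-subgroup. -/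
theorem result {Ω : Type*} [Group Ω] {S : Subgroup Ω} [Finite S] (p : ℕ) [Fact p.Prime] (hS : IsPGroup p S) (F : Cfsg.FusionSystem S) (hF : F.IsSaturated p) {K : Type*} [Field K] [Fintype K] [CharP K p] (n : ℕ) (hn : 1 ≤ n) (hK : Fintype.card K = (p ^ n) ^ 2) (T : Sylow p (Cfsg.PSU 4 K (p ^ n))) (e : ↥S ≃* ↥(T : Subgroup (Cfsg.PSU 4 K (p ^ n)))) (hcore : F.core = ⊥) : F.IsRealizable p := by
  obtain ⟨σ, h1, h2, h3⟩ := CF.Geom.exists_conj hK
  let : StarRing K :=
    { star := σ, star_involutive := h3, star_mul := fun a b => by rw [map_mul, mul_comm], star_add := map_add σ }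
  have : CF.FusU.Uf K := ⟨inferInstance, not_forall.1 fun c => h2 (RingHom.ext c),
    fun a ha => let ⟨t, ht⟩ := CF.Geom.exists_norm_eq h2 h3 ha; ⟨t, (mul_comm _ _).trans ht⟩,
    fun τ x => by
      show τ (σ x) = σ (τ x)
      rw [h1, h1, map_pow]⟩
  have hs : ∀ x : K, star x = x ^ p ^ n := h1
  obtain ⟨f, hf⟩ := piso_of_equiv e
  obtain ⟨g, hg⟩ := exists_piso_PSU4 hn hK hs T
  have s := Sat.mk' hS hF
  have c : ∀ {Γ : Type _} [Group Γ] {E : FusionSystem (⊤ : Subgroup Γ)} {t : Ω → Γ}, FIso F t E → E.core = ⊥ :=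
    fun i => by rw [← i.img_core, hcore, i.piso.mul.img_bot]
  have c' : ∀ {Γ : Type} [Group Γ] {E : FusionSystem (⊤ : Subgroup Γ)} {t : Ω → Γ}, FIso F t E → E.core = ⊥ :=
    fun i => by rw [← i.img_core, hcore, i.piso.mul.img_bot]
  refine Rz.realizable ?_
  by_cases h4 : 4 ≤ p ^ n
  · obtain ⟨E, i⟩ := exists_fiso F (hf.trans hg)
    exact (rz_big hn hK hs h4 (i.sat' s) (c i)).of_fiso i
  have hp : p.Prime := Fact.out
  have a := Nat.le_self_pow (by omega : n ≠ 0) p
  have b := hp.two_le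
  have d : p ∣ p ^ n := dvd_pow_self p (by omega)
  obtain ⟨rfl, q⟩ | ⟨rfl, q⟩ : p = 2 ∧ p ^ n = 2 ∨ p = 3 ∧ p ^ n = 3 := by
    obtain rfl | rfl : p = 2 ∨ p = 3 := by omega
    all_goals omega
  · have r : K ≃+* K4 := FiniteField.ringEquivOfCardEq (by rw [hK, q, card_K4]; rfl)
    obtain ⟨E, i⟩ := exists_fiso F ((hf.trans hg).trans (piso_trS r fun a => by rw [hs, star_K4, q, map_pow]))
    exact (rz_four (i.sat' s) (c' i)).of_fiso i
  · have r : K ≃+* K9 := FiniteField.ringEquivOfCardEq (by rw [hK, q, card_K9]; rfl)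
    obtain ⟨E, i⟩ := exists_fiso F ((hf.trans hg).trans (piso_trS r fun a => by rw [hs, star_K9, q, map_pow]))
    exact (rz_nine (i.sat' s) (c' i)).of_fiso i

end Cfsg.Agent.S5210
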