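import Cfsg.Statements.S5215
import Cfsg.Agent.FusB.Dq7
-- import your own Cfsg.Agent.* helpers here

set_option autoImplicit false
open Cfsg

namespace Cfsg.Agent.S5215

/-- Let S be a finite 2-group of 2-rank 2 (an elementary abelian subgroup of order 4, none of order 8) and F a simple saturated fusion system over S. Then S is dihedral, semidihedral or wreathed, and F is the fusion system of the projective special linear group PSL₂(q) for some odd prime power q ≡ ±1 (mod 8) or of PSL₃(q) for some odd prime power q: it is realized by an injective homomorphism of S into that group whose image is a Sylow 2-subgroup. -/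
theorem result {Ω : Type*} [Group Ω] {S : Subgroup Ω} [Finite S] (hS : IsPGroup 2 S) (F : Cfsg.FusionSystem S) (hF : F.IsSaturated 2) (hr : Cfsg.PRankAtLeast 2 2 ↥S ∧ ¬ Cfsg.PRankAtLeast 2 3 ↥S) (hsimple : F.IsSimple 2) : ((∃ m : ℕ, Nonempty (↥S ≃* DihedralGroup m)) ∨ Cfsg.IsQuasiDihedral ↥S ∨ Cfsg.IsWreathed ↥S) ∧ ∃ (K : Type) (_ : Field K) (_ : Fintype K) (q : ℕ), Fintype.card K = q ∧ Odd q ∧ (((q % 8 = 1 ∨ q % 8 = 7) ∧ ∃ ι : ↥S →* Matrix.ProjectiveSpecialLinearGroup (Fin 2) K, F.IsRealizedBy ι ∧ ∃ T : Sylow 2 (Matrix.ProjectiveSpecialLinearGroup (Fin 2) K), (T : Subgroup (Matrix.ProjectiveSpecialLinearGroup (Fin 2) K)) = ι.range) ∨ (∃ ι : ↥S →* Matrix.ProjectiveSpecialLinearGroup (Fin 3) K, F.IsRealizedBy ι ∧ ∃ T : Sylow 2 (Matrix.ProjectiveSpecialLinearGroup (Fin 3) K), (T : Subgroup (Matrix.ProjectiveSpecialLinearGroup (Fin 3) K)) = ι.range)) := by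
  have hF' := CF.Fus.Sat.mk' hS hF
  have h := (CF.FusB.rank2_dqw hF' (CF.FusB.rkLE2_of_not hr.2) hsimple.2.1 fun z hz hc =>
    CF.FusB.not_normal_of_simple hF' hsimple hr.1 (Subgroup.zpowers_ne_bot.2 (by rintro rfl; simp at hz))
      (CF.Fus.normal_of_central hc)).resolve_right (CF.FusB.not_normal_of_simple hF' hsimple hr.1 hsimple.2.1)
  obtain ⟨K, _, _, h2, h1⟩ := CF.FusB.rpsl_all hF' h (CF.FusB.focal_of_simple hF' hsimple hr.1)
  refine ⟨h.imp_left fun ⟨m, _, e⟩ => ⟨m, e⟩, K, _, ‹_›, _, rfl, ?_, h1.imp (fun ⟨a, _, h⟩ => ⟨Or.inl ?_,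
    CF.FusB.exists_hom_of_real h⟩) fun ⟨_, h⟩ => CF.FusB.exists_hom_of_real h⟩
  · rw [← Nat.card_eq_fintype_card]; exact CF.Classical.odd_card_of_two_ne_zero h2
  · rwa [← Nat.card_eq_fintype_card]

end Cfsg.Agent.S5215
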