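import Cfsg.Statements.S5217
import Cfsg.Agent.RI.BC10

set_option autoImplicit false
open Cfsg

namespace Cfsg.Agent.S5217

/-- Let S be a finite bicyclic 2-group (S = ⟨x⟩⟨y⟩) that is not metacyclic. Then S supports a saturated fusion system other than its inner fusion system if and only if the commutator subgroup of S is cyclic. -/
theorem result {Ω : Type*} [Group Ω] {S : Subgroup Ω} [Finite S] (hS : IsPGroup 2 S) (hb : ∃ x y : ↥S, ∀ g : ↥S, ∃ i j : ℤ, g = x ^ i * y ^ j) (hm : ¬ Cfsg.IsMetacyclic ↥S) : (∃ F : Cfsg.FusionSystem S, F.IsSaturated 2 ∧ ¬ ∀ P : Subgroup Ω, F.Hom P = (Cfsg.innerFusionSystem S).Hom P) ↔ IsCyclic ↥(commutator ↥S) := by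
  obtain ⟨x, y, h⟩ := hb
  have b : CF.Rt.BC.NB (⊤ : Subgroup S) x y := ⟨⟨trivial, trivial, fun g _ => by
      obtain ⟨i, j, e⟩ := h g
      obtain ⟨i', hi⟩ := (mem_powers_iff_mem_zpowers (x := x)).2 (zpow_mem (Subgroup.mem_zpowers x) i)
      obtain ⟨j', hj⟩ := (mem_powers_iff_mem_zpowers (x := y)).2 (zpow_mem (Subgroup.mem_zpowers y) j)
      rw [← hi, ← hj] at e
      exact ⟨i', j', e⟩⟩, CF.BG.piGrp_of_isPGroup Nat.prime_two (hS.to_subgroup ⊤), fun m => hm
    (CF.Fus.isMetacyclic_of_injective (CF.BG2.meta_iff.1 m) (Subgroup.topEquiv (G := S)).symm.toMonoidHom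
      Subgroup.topEquiv.symm.injective)⟩
  have i := CF.Fus.piso_toSub S
  constructor
  · rintro ⟨F, hF, ni⟩
    by_contra nc
    obtain ⟨E, hE⟩ := CF.Fus.exists_fiso F i
    have sF : CF.Fus.Sat F 2 := ⟨‹_›, hS, hF⟩
    have := b.eq_inner (hE.sat' sF) nc
    refine ni fun P => congrArg (·.Hom P) (sF.eq_inner_of_pgroup fun P hP => ?_)
    have lP : P ≤ S := hP.elim le_of_eq fun h => (sF.ess_lt h).le
    refine (hE.piso_autGroup lP (hE.res lP)).symm.isPGroup ?_
    rw [this, CF.Fus.autGroup_inner le_top]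
    exact CF.Fus.isPGroup_autInducedBy (hS.to_subgroup ⊤)
  · intro cy
    obtain ⟨F, hF, P, -, np⟩ := b.exists_sat cy
    obtain ⟨E, hE⟩ := CF.Fus.exists_fiso F i.symm
    refine ⟨E, (hE.sat' hF).sat, fun c => np ((hE.piso_autGroup le_top (hE.res le_top)).symm.isPGroup ?_)⟩
    rw [CF.Fus.autGroup_congr (c _), CF.Fus.autGroup_inner (i.symm.img_le le_top)]
    exact CF.Fus.isPGroup_autInducedBy hS

end Cfsg.Agent.S5217
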