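import Cfsg.Statements.S5233
import Cfsg.Agent.Fus.GXsp
import Cfsg.Agent.Even.Extra

set_option autoImplicit false
open Cfsg

namespace Cfsg.Agent.S5233
open CF.Fus Cfsg.FusionSystem

/-- Let F be a saturated fusion system over a finite p-group S and P a subgroup of S strongly closed in F that is generalized extraspecial (its Frattini subgroup equals its commutator subgroup and has order p) and not isomorphic to E × A with A elementary abelian and E dihedral of order 8 (p = 2) or extraspecial of order p³ and exponent p (p odd). Then P is normal in F. -/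
theorem result {Ω : Type*} [Group Ω] {S : Subgroup Ω} [Finite S] (p : ℕ) [Fact p.Prime] (hS : IsPGroup p S) (F : Cfsg.FusionSystem S) (hF : F.IsSaturated p) (P : Subgroup Ω) (hP : F.StronglyClosed P) (hge : frattini ↥P = commutator ↥P ∧ Nat.card ↥(commutator ↥P) = p) (h2 : p = 2 → ¬ ∃ (A : Type) (_ : CommGroup A), (∀ a : A, a ^ 2 = 1) ∧ Nonempty (↥P ≃* DihedralGroup 4 × A)) (hodd : p ≠ 2 → ¬ ∃ (E : Type) (_ : Group E) (A : Type) (_ : CommGroup A), Cfsg.IsExtraspecial p E ∧ Nat.card E = p ^ 3 ∧ Monoid.exponent E = p ∧ (∀ a : A, a ^ p = 1) ∧ Nonempty (↥P ≃* E × A)) : F.IsNormal P := by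
  have hF' := Sat.mk' hS hF
  haveI := hF'.finite hP.1
  obtain ⟨z, h⟩ := exists_gx (hF'.pgroup hP.1) hge.1 hge.2
  refine h.normal hF' hP fun w hw => by_contra fun hw' => ?_
  replace hw := conjElt_symm hw
  obtain ⟨E, A, _, h3, h4, h5, ⟨e⟩⟩ := h.split hF' hP hw hw'
  rcases eq_or_ne p 2 with rfl | hp
  · rcases d8_or_q8 h3 h4 with ⟨⟨e'⟩⟩ | ⟨⟨e'⟩⟩
    · exact h2 rfl ⟨A, _, h5, ⟨e.trans (e'.prodCongr (MulEquiv.refl _))⟩⟩
    obtain ⟨-, -, w1, -, -, c, d⟩ := h.key hF' hP hw hw'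
    have a : ∀ x : QuaternionGroup 2, x ^ 2 = 1 → ∀ y, y * x = x * y := by decide
    have e2 := e.trans (e'.prodCongr (MulEquiv.refl _))
    have b : e2 ⟨w, w1.1⟩ ^ 2 = 1 := by rw [← map_pow, ← map_one e2]; exact congrArg e2 (Subtype.ext (d w w1))
    refine not_le_of_prime (h.ol hF' hP hw hw').idx fun y hy => mem_CS_zpowers.2 ⟨hy, congrArg Subtype.val
      (e2.injective (show e2 (⟨y, hy⟩ * ⟨w, w1.1⟩) = e2 (⟨w, w1.1⟩ * ⟨y, hy⟩) from ?_))⟩
    rw [map_mul, map_mul]
    exact Prod.ext (a _ (congrArg Prod.fst b) _) (mul_comm _ _)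
  · have e' : Shrink.{0} E ≃* E := Shrink.mulEquiv
    haveI : Nontrivial (Shrink.{0} E) := e'.toEquiv.nontrivial_congr.2 (not_subsingleton_iff_nontrivial.1 fun _ =>
      h4 ⟨⟨fun _ _ => Subsingleton.elim _ _⟩⟩)
    refine hodd hp ⟨Shrink.{0} E, inferInstance, A, _, CF.Even.isExtraspecial_of_equiv (extraspecial_of_cube h3 h4)
      e'.symm, (Nat.card_congr e'.toEquiv).trans h3, (Monoid.exponent_eq_prime_iff Fact.out).2 fun g hg =>
        orderOf_eq_prime (e'.injective ?_) hg, h5, ⟨e.trans (e'.symm.prodCongr (MulEquiv.refl _))⟩⟩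
    rw [map_pow, map_one]
    exact Subtype.ext (Subtype.ext (h.exp hp hF' hP hw hw' (e' g).1.2))

end Cfsg.Agent.S5233
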