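import Cfsg.Statements.S5234
import Cfsg.Agent.Fus.Meta
import Cfsg.Agent.S0638

set_option autoImplicit false
open Cfsg

namespace Cfsg.Agent.S5234
open CF.Fus Cfsg.FusionSystem

/-- Let p be an odd prime, F a saturated fusion system over a finite p-group S and P a metacyclic subgroup of S strongly closed in F. Then P is normal in F. -/
theorem result {Ω : Type*} [Group Ω] {S : Subgroup Ω} [Finite S] (p : ℕ) [Fact p.Prime] (hS : IsPGroup p S) (F : Cfsg.FusionSystem S) (hF : F.IsSaturated p) (P : Subgroup Ω) (hP : F.StronglyClosed P) (hp : p ≠ 2) (hm : Cfsg.IsMetacyclic ↥P) : F.IsNormal P := by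
  have hF' := Sat.mk' hS hF
  haveI := hF'.finite hP.1
  by_cases hc : IsCyclic P
  · exact hF'.normal_of_abelian hP (Subgroup.le_centralizer_iff_isMulCommutative.2 inferInstance)
  obtain ⟨⟨h1, h2⟩, h3⟩ := Cfsg.Agent.S0638.result hp (hF'.pgroup hP.1) hm hc
  refine hF'.normal_of_omega_sq hp hP (omegaOne_map P)
    (Subgroup.le_centralizer_iff_isMulCommutative.2 inferInstance) ?_
    ((Subgroup.card_map_of_injective P.subtype_injective).trans h3)
  rintro _ ⟨v, hv, rfl⟩
  exact congrArg Subtype.val (h2 v hv)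

end Cfsg.Agent.S5234
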