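import Cfsg.Statements.S5236
import Cfsg.Agent.Fus.Ctl

set_option autoImplicit false
open Cfsg

namespace Cfsg.Agent.S5236
open CF.Fus Cfsg.FusionSystem

/-- Let p be an odd prime, F a saturated fusion system over a finite p-group S and P a subgroup of S strongly closed in F. Then P is normal in F if and only if Ω₁(P) (the subgroup generated by the elements of order p of P) has a chain of subgroups 1 = Q₀ ≤ Q₁ ≤ ⋯ ≤ Qₙ = Ω₁(P), each strongly closed in F, with [Qᵢ₊₁, P] ≤ Qᵢ for all i. -/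
theorem result {Ω : Type*} [Group Ω] {S : Subgroup Ω} [Finite S] (p : ℕ) [Fact p.Prime] (hS : IsPGroup p S) (F : Cfsg.FusionSystem S) (hF : F.IsSaturated p) (hp : p ≠ 2) (P : Subgroup Ω) (hP : F.StronglyClosed P) : F.IsNormal P ↔ ∃ (n : ℕ) (Q : Fin (n + 1) → Subgroup Ω), Q 0 = ⊥ ∧ Q (Fin.last n) = Cfsg.omegaOne p P ∧ Monotone Q ∧ (∀ i : Fin (n + 1), F.StronglyClosed (Q i)) ∧ ∀ i : Fin n, ⁅Q i.succ, P⁆ ≤ Q i.castSucc := by
  have hF' := Sat.mk' hS hF
  refine ⟨fun h => ?_, fun ⟨n, Q, h0, h1, _, h2, h3⟩ => hF'.normal_of_omega_series hp hP Q h0 h1 h2 h3⟩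
  haveI := fin_of_le hP.1
  obtain ⟨n, hn⟩ := exists_ucs_eq (hF'.pgroup hP.1)
  have a : Cfsg.omegaOne p P ≤ P := (Subgroup.closure_le _).2 fun _ hx => hx.1
  have b : F.StronglyClosed (Cfsg.omegaOne p P) := sc_of_normal (normal_of_inv h a fun α _ => by
    haveI := fin_of_le a
    refine mem_stab_of_maps a (img_le_iff.1 ?_)
    rw [Cfsg.omegaOne, ((mulOn_fn α).mono a).img_closure]
    refine Subgroup.closure_mono ?_
    rintro _ ⟨x, hx, rfl⟩
    exact ⟨fn_mem α hx.1, by rw [← (mulOn_fn α).map_pow hx.1, hx.2, (mulOn_fn α).map_one]⟩)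
  refine ⟨n, fun i => Cfsg.omegaOne p P ⊓ ucs P i, by simp [ucs_zero], by simp [hn, a],
    fun i j hij => inf_le_inf_left _ (ucs_mono hij),
    fun i => sc_inf b (sc_of_normal (normal_of_char h (ucs_le _) (ucs_char _))), fun i => le_inf ?_ ?_⟩
  · refine Subgroup.commutator_le.2 fun x hx y hy => ?_
    rw [commutatorElement_def, mul_assoc, mul_assoc, ← mul_assoc y]
    exact mul_mem hx.1 (conj_mem_of_norm (sc_norm b (hP.1 hy)) (Subgroup.inv_mem _ hx.1))
  · exact (Subgroup.commutator_mono inf_le_right le_rfl).trans (ucs_comm i)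

end Cfsg.Agent.S5236
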