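import Cfsg.Statements.S5242
import Cfsg.Agent.Ex.F2
import Cfsg.Agent.Ex.W
import Cfsg.Agent.Ex.F3

set_option autoImplicit false
open Cfsg

namespace Cfsg.Agent.S5242

/-- Let F be a saturated fusion system over a finite p-group S and A a subgroup of S central in F (every map of F extends to a map fixing A elementwise). Then, for every factor system E of F by A, F is exotic (saturated, but not the fusion system of a finite group on one of its Sylow p-subgroups) if and only if E is exotic. -/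
theorem result {Ω : Type*} [Group Ω] {S : Subgroup Ω} [Finite S] (p : ℕ) [Fact p.Prime] (hS : IsPGroup p S) (F : Cfsg.FusionSystem S) (hF : F.IsSaturated p) (A : Subgroup Ω) (hA : F.IsCentral A) {Ω' : Type*} [Group Ω'] {S' : Subgroup Ω'} [Finite S'] (θ : ↥S →* Ω') (E : Cfsg.FusionSystem S') (hE : F.IsFactorSystem A θ E) : F.IsExotic p ↔ E.IsExotic p := by
  obtain ⟨rfl, hv⟩ := (CF.Fus.fac_iff' θ).1 hE
  have h1 : CF.Fus.Sat F p := ⟨‹_›, hS, hF⟩
  have hn := CF.Fus.normal_of_central hA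
  have h2 := hv.sat h1 (CF.Fus.sc_of_normal hn)
  refine ⟨fun h => ⟨h2.sat, fun h' => h.2 ?_⟩, fun h => ⟨hF, fun h' => h.2 (CF.Ex.F2.easy hv hn h')⟩⟩
  obtain ⟨Gb, _, _, w, hw⟩ := CF.Ex.F2.real_of_rz h'
  obtain ⟨Φ, hΦ, -⟩ := CF.Ex.F2.ex_lift hv hA hw
  have h3 := CF.Ex.wr hS (CF.Ex.F2.mulOn_t hv hw) (CF.Ex.F2.img_t hv) hw.syl (CF.Ex.F2.ker_t hv hw) CF.Fus.pre_le
    (fun a ha s hs => CF.Fus.central_cent hA hs a ha) hΦ
  obtain ⟨G, _, _, π, j, a1, a2, a3, a4, a5, a6⟩ := h3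
  obtain ⟨D, hD, hm⟩ := CF.Ex.F2.ex_md h1 hv hA hw a1 a2 a3 a4 a5 (by first | exact a6 | exact a6.1)
  obtain ⟨k, hk⟩ := hm.real
  exact CF.Ex.F2.rz_of_real (hk.of_fiso hD)

end Cfsg.Agent.S5242
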