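import Cfsg.Statements.S5244
import Cfsg.Agent.Fus.Oliv

set_option autoImplicit false
open Cfsg

namespace Cfsg.Agent.S5244
open CF.Fus Cfsg.FusionSystem

/-- Let p be an odd prime, S a finite nonabelian p-group with a unique abelian subgroup A of index p, and F a saturated fusion system over S with no nontrivial normal subgroup (O_p(F) = 1) in which A is not F-essential. Then some subgroup Z(S)⟨x⟩ with x ∈ S outside A is F-essential, the centre Z(S) is contained in the commutator subgroup of S, and S has maximal nilpotency class (if S has order pⁿ with n ≥ 3, the term of index n − 2 of its lower central series, counting S itself as the term of index 0, is nontrivial). -/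
theorem result {Ω : Type*} [Group Ω] {S : Subgroup Ω} [Finite S] (p : ℕ) [Fact p.Prime] (hS : IsPGroup p S) (F : Cfsg.FusionSystem S) (hF : F.IsSaturated p) (hp : p ≠ 2) (hna : ¬ IsMulCommutative ↥S) (A : Subgroup Ω) (hA : A ≤ S ∧ IsMulCommutative ↥A ∧ (A.subgroupOf S).index = p) (huniq : ∀ B : Subgroup Ω, B ≤ S → IsMulCommutative ↥B → (B.subgroupOf S).index = p → B = A) (hcore : F.core = ⊥) (hAe : ¬ F.IsEssential p A) : (∃ x ∈ S, x ∉ A ∧ F.IsEssential p ((S ⊓ Subgroup.centralizer (S : Set Ω)) ⊔ Subgroup.zpowers x)) ∧ (S ⊓ Subgroup.centralizer (S : Set Ω)) ≤ (commutator ↥S).map S.subtype ∧ ∀ n : ℕ, Nat.card S = p ^ n → 3 ≤ n → Subgroup.lowerCentralSeries S (n - 2) ≠ ⊥ := by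
  have hF' := Sat.mk' hS hF
  have h := ol_of hS hna hA
  obtain ⟨E, z, hE⟩ := h.exists_tv hF' hcore hAe
  have n : E ≠ A := fun e => hAe (e ▸ hE.ess)
  have a := h.center_eq hp hcore hAe hE
  have b := h.zpowers_eq hE n
  obtain ⟨x, x1, x2, x3⟩ := h.ess_sup hF' hE.ess n
  rw [(h.ess_ab hF' hE.ess n hE.comm).1] at x3
  rw [Subgroup.map_subtype_commutator]
  refine ⟨⟨x, x1, x2, x3 ▸ hE.ess⟩, (a.symm.trans b).le.trans inf_le_right, fun m hm h3 e => ?_⟩
  obtain ⟨k, rfl⟩ : ∃ k, m = k + 3 := ⟨m - 3, by omega⟩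
  have c := h.card_lcs (b ▸ card_zpowers_prime hE.pow hE.ne) k
  rw [show S.lowerCentralSeries (k + 1) = ⊥ from e, Subgroup.card_bot, one_mul] at c
  have d := hm.symm.trans (card_eq_mul (CS_le (S := S) (P := S)))
  rw [← a, card_zpowers_prime hE.pow hE.ne, a] at d
  have := d.le.trans (Nat.mul_le_mul_left p c)
  rw [← pow_succ', Nat.pow_le_pow_iff_right (Fact.out : p.Prime).one_lt] at this
  omega

end Cfsg.Agent.S5244
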