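import Cfsg.Statements.S5258
import Cfsg.Agent.FusU.J
import Cfsg.Agent.Fus.Semi

set_option autoImplicit false
open Cfsg

namespace Cfsg.Agent.S5258

open CF.Fus CF.FusD CF.FusU Cfsg.FusionSystem

/-- Let p be a prime, K a finite field with q² elements where q = pⁿ (n ≥ 1), and S a finite p-group isomorphic to a Sylow p-subgroup of the projective special unitary group PSU₅(q) realised over K. Then every saturated fusion system over S is realizable: it is the fusion system of a finite group on a Sylow p-subgroup. -/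
theorem result {Ω : Type*} [Group Ω] {S : Subgroup Ω} [Finite S] (p : ℕ) [Fact p.Prime] (hS : IsPGroup p S) (F : Cfsg.FusionSystem S) (hF : F.IsSaturated p) {K : Type*} [Field K] [Fintype K] [CharP K p] (n : ℕ) (hn : 1 ≤ n) (hK : Fintype.card K = (p ^ n) ^ 2) (T : Sylow p (Cfsg.PSU 5 K (p ^ n))) (e : ↥S ≃* ↥(T : Subgroup (Cfsg.PSU 5 K (p ^ n)))) : F.IsRealizable p := by
  obtain ⟨σ, h1, h2, h3⟩ := CF.Geom.exists_conj hK
  let : StarRing K :=
    { star := σ, star_involutive := h3, star_mul := fun a b => by rw [map_mul, mul_comm], star_add := map_add σ }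
  have : Uf K := ⟨inferInstance, not_forall.1 fun c => h2 (RingHom.ext c),
    fun a ha => let ⟨t, ht⟩ := CF.Geom.exists_norm_eq h2 h3 ha; ⟨t, (mul_comm _ _).trans ht⟩,
    fun τ x => by
      show τ (σ x) = σ (τ x)
      rw [h1, h1, map_pow]⟩
  obtain ⟨f, hf⟩ := piso_of_equiv e
  obtain ⟨g, hg⟩ := exists_piso_PSU hn hK h1 T
  obtain ⟨E, i⟩ := exists_fiso F (hf.trans hg)
  exact Rz.realizable (Rz.of_fiso (rz_su (i.sat' (Sat.mk' hS hF)) (syl_emb hn hK h1)) i)

end Cfsg.Agent.S5258
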