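import Cfsg.Statements.S5260
import Cfsg.Agent.FusD.E
import Cfsg.Agent.FusD.I

set_option autoImplicit false
open Cfsg

namespace Cfsg.Agent.S5260

open CF.Fus CF.FusD Cfsg.FusionSystem


/-- Let p be a prime, K a finite field of characteristic p, and S a finite p-group isomorphic to a Sylow p-subgroup of the symplectic group Sp₄(K). Then every exotic fusion system F over S (saturated but not the fusion system of a finite group on a Sylow p-subgroup) has no nontrivial normal subgroup: O_p(F) = 1. -/
theorem result {Ω : Type*} [Group Ω] {S : Subgroup Ω} [Finite S] (p : ℕ) [Fact p.Prime] (hS : IsPGroup p S) (F : Cfsg.FusionSystem S) (hF : F.IsSaturated p) {K : Type*} [Field K] [Fintype K] [CharP K p] (T : Sylow p ↥(Matrix.symplecticGroup (Fin 2) K)) (e : ↥S ≃* ↥(T : Subgroup ↥(Matrix.symplecticGroup (Fin 2) K))) (hex : F.IsExotic p) : F.core = ⊥ := by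
  have hF' := Sat.mk' hS hF
  obtain ⟨f, hf⟩ := piso_of_equiv e
  obtain ⟨g, hg⟩ := Sy.exists_piso T
  obtain ⟨E, i⟩ := exists_fiso F (hf.trans hg)
  by_contra h
  have h0 : E.core ≠ ⊥ := fun c => h ((i.piso.img_eq_bot_iff (core_le F)).1 (i.img_core.trans c))
  refine hex.2 (Rz.realizable (Rz.of_fiso ?_ i))
  by_cases h2 : p = 2
  · subst h2
    exact rz_two (i.sat' hF') h0 wit
  · exact rz_odd (fun c => h2 ((Nat.prime_dvd_prime_iff_eq Fact.out Nat.prime_two).1
      ((CharP.cast_eq_zero_iff K p 2).1 (by simpa using c)))) (i.sat' hF') h0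

end Cfsg.Agent.S5260
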