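import Cfsg.Statements.S5261
import Cfsg.Agent.FusT.P
import Cfsg.Agent.Fus.Semi
-- import your own Cfsg.Agent.* helpers here

set_option autoImplicit false
open Cfsg

namespace Cfsg.Agent.S5261

open CF.Fus CF.FusD CF.FusT Cfsg.FusionSystem

/-- Let p be a prime, q = pⁿ (n ≥ 1), K a finite field with q³ elements, and S a finite p-group isomorphic to a Sylow p-subgroup of the twisted group ³D₄(q) realised over K. Then every saturated fusion system over S is realizable: it is the fusion system of a finite group on a Sylow p-subgroup. -/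
theorem result {Ω : Type*} [Group Ω] {S : Subgroup Ω} [Finite S] (p : ℕ) [Fact p.Prime] (hS : IsPGroup p S) (F : Cfsg.FusionSystem S) (hF : F.IsSaturated p) {K : Type*} [Field K] [Fintype K] [CharP K p] (n : ℕ) (hn : 1 ≤ n) (hK : Fintype.card K = (p ^ n) ^ 3) (T : Sylow p ↥(Cfsg.Lie.twistedD4 K (p ^ n))) (e : ↥S ≃* ↥(T : Subgroup ↥(Cfsg.Lie.twistedD4 K (p ^ n)))) : F.IsRealizable p := by
  obtain ⟨φ, h1, h2⟩ := CF.BN.exists_frobD4 ((Fact.out : p.Prime).isPrimePow.pow (show n ≠ 0 by omega)) hK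
  let : Tri K := ⟨RingEquiv.ofBijective φ (Finite.injective_iff_bijective.1 φ.injective), p ^ n, h2, h1, inferInstance,
    Nat.card_eq_fintype_card.trans hK⟩
  obtain ⟨Y, _, ι, d, ⟨ε⟩⟩ := exists_ge (K := K) hn rfl
  have := d.fin
  have := Finite.of_equiv _ ε.toEquiv.symm
  obtain ⟨f, hf⟩ := piso_of_equiv e
  have s := (sylIn_top T).map ε.toMonoidHom
  rw [Subgroup.map_top_of_surjective _ ε.surjective] at s
  obtain ⟨b, -, hb⟩ := d.syl.exists_conj_eq s
  rw [MonoidHom.range_eq_map] at hb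
  obtain ⟨E, i⟩ := exists_fiso F (hf.trans ((piso_hom ε.toMonoidHom ε.injective T).trans
    ((hb ▸ piso_cj b _).trans (piso_hom ι d.inj ⊤).symm)))
  exact Rz.realizable (Rz.of_fiso (rz_td (i.sat' (Sat.mk' hS hF)) d) i)

end Cfsg.Agent.S5261
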