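import Cfsg.Statements.S5264
import Cfsg.Agent.FusC.L

set_option autoImplicit false
open Cfsg

namespace Cfsg.Agent.S5264

open CF.Fus CF.FusC


/-- Let p be an odd prime other than 7, S a finite p-group of order p^5, and F a saturated fusion system over S with no nontrivial normal subgroup and with hyperfocal subgroup equal to S (so F is its own p-residual subsystem). Then S has an abelian subgroup of index p. -/
theorem result {Ω : Type*} [Group Ω] {S : Subgroup Ω} [Finite S] (p : ℕ) [Fact p.Prime] (hS : IsPGroup p ↥S) (F : Cfsg.FusionSystem S) (hF : F.IsSaturated p) (hp : p ≠ 2) (hp7 : p ≠ 7) (hcard : Nat.card S = p ^ 5) (hcore : F.core = ⊥) (hhyp : F.hyperfocalSubgroup p = S) : ∃ A : Subgroup Ω, A ≤ S ∧ IsMulCommutative ↥A ∧ (A.subgroupOf S).index = p := by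
  have hF' := Sat.mk' hS hF
  obtain ⟨G, _, _, ι, f⟩ := exists_real F
  obtain ⟨B, h1, h2, h3⟩ := five (f.sat' hF') hp hp7 (f.piso.card_eq.symm.trans hcard) (core_real f hcore)
    (by rw [← f.img_hyp, hhyp])
  have g := f.piso.symm
  refine ⟨img (pinv ι S) B, g.img_le h1, Subgroup.le_centralizer_iff_isMulCommutative.1 (piso_ab (g.restrict h1) h2), ?_⟩
  have := g.relIndex_img h1 le_rfl
  rwa [g.img_eq, h3] at this

end Cfsg.Agent.S5264
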