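import Cfsg.Statements.S5265
import Cfsg.Agent.Fus.Small2

set_option autoImplicit false
open Cfsg

namespace Cfsg.Agent.S5265
open CF.Fus Cfsg.FusionSystem

/-- Let p be a prime, S a nontrivial finite p-group whose centre has index at most p², and F a saturated fusion system over S with no nontrivial normal subgroup and with hyperfocal subgroup equal to S. Then S is extraspecial of order p³; for odd p it has exponent p, and for p = 2 it is dihedral of order 8. -/
theorem result {Ω : Type*} [Group Ω] {S : Subgroup Ω} [Finite S] (p : ℕ) [Fact p.Prime] (hS : IsPGroup p ↥S) (F : Cfsg.FusionSystem S) (hF : F.IsSaturated p) (hS1 : S ≠ ⊥) (hcore : F.core = ⊥) (hhyp : F.hyperfocalSubgroup p = S) (hZ : (Subgroup.center ↥S).index ≤ p ^ 2) : Cfsg.IsExtraspecial p ↥S ∧ Nat.card S = p ^ 3 ∧ (p ≠ 2 → Monoid.exponent ↥S = p) ∧ (p = 2 → Nonempty (↥S ≃* DihedralGroup 4)) := by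
  have hF' := Sat.mk' hS hF
  obtain ⟨E, z, h, h1, h2, h3⟩ := hF'.exists_tv_sq hS1 (index_center S ▸ hZ) hcore
    fun _ => (focal_le F).antisymm (hhyp.ge.trans (hyp_le_focal F))
  have hn : ¬ IsMulCommutative S := fun _ => (hF'.ess_lt h.ess).not_ge fun y hy =>
    hF'.ess_centric h.ess ⟨hy, Subgroup.centralizer_le h.leS (Subgroup.le_centralizer S hy)⟩
  refine ⟨extraspecial_of_cube h3 hn, h3, fun hp => ?_, fun hp => ?_⟩
  · haveI := (Subgroup.nontrivial_iff_ne_bot S).2 hS1
    exact (Monoid.exponent_eq_prime_iff Fact.out).2 fun g hg => orderOf_eq_prime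
      (Subtype.ext (h.pow_eq_one hp h2 (h1.ge g.2))) hg
  · subst hp
    obtain ⟨w, w1, w2, w3⟩ := h.exists_w
    refine (d8_or_q8 h3 hn).resolve_right fun ⟨e⟩ => w2 ?_
    have a : ∀ x : QuaternionGroup 2, x ^ 2 = 1 → ∀ y, y * x = x * y := by decide
    exact ⟨h.leS w1, fun y hy => congrArg Subtype.val (e.injective (show e (⟨y, hy⟩ * ⟨w, h.leS w1⟩) = e (_ * ⟨y, hy⟩) by
      rw [map_mul, map_mul]; exact a _ (by rw [← map_pow, ← map_one e]; exact congrArg e (Subtype.ext w3)) _))⟩

end Cfsg.Agent.S5265
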