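import Cfsg.Statements.S5267
import Cfsg.Agent.Mh.Z2

set_option autoImplicit false
open Cfsg

namespace Cfsg.Agent.S5267

open CF.Fus CF.FusC CF.Mg CF.Mh

/-- Let p be a prime and S a finite p-group of maximal class of order p^n with n ≥ 4 (nilpotency class n − 1: the term γ_{n−1}(S) of its lower central series, reached from S after n − 2 commutator steps, is nontrivial), F a saturated fusion system over S and E an F-essential subgroup. Write Γ₁ for the two-step centralizer C_S([S,S]/γ₄(S)) (the elements of S whose commutators with [S,S] lie in the fourth term γ₄(S) of the lower central series) and Z₂(S) for the second centre. Then E is a pearl — elementary abelian of order p², or extraspecial of order p³ of exponent p (p odd) or quaternion of order 8 (p = 2) — or E = Γ₁, or E = C_S(Z₂(S)). Moreover, if Γ₁ ≠ C_S(Z₂(S)) then every pearl of F is elementary abelian of order p². -/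
theorem result {Ω : Type*} [Group Ω] {S : Subgroup Ω} [Finite S] (p : ℕ) [Fact p.Prime] (hS : IsPGroup p ↥S) (n : ℕ) (hn : Nat.card S = p ^ n) (h4 : 4 ≤ n) (hmax : Subgroup.lowerCentralSeries S (n - 2) ≠ ⊥) (F : Cfsg.FusionSystem S) (hF : F.IsSaturated p) (Γ₁ : Subgroup Ω) (hΓ₁ : ∀ x : Ω, x ∈ Γ₁ ↔ x ∈ S ∧ ∀ y ∈ Subgroup.lowerCentralSeries S 1, x * y * x⁻¹ * y⁻¹ ∈ Subgroup.lowerCentralSeries S 3) : (∀ E : Subgroup Ω, F.IsEssential p E → (Nat.card ↥E = p ^ 2 ∧ Cfsg.IsElementaryAbelian p E) ∨ (Nat.card ↥E = p ^ 3 ∧ Cfsg.IsExtraspecial p ↥E ∧ (p ≠ 2 → Monoid.exponent ↥E = p) ∧ (p = 2 → Nonempty (↥E ≃* QuaternionGroup 2))) ∨ E = Γ₁ ∨ E = (S ⊓ Subgroup.centralizer (((Subgroup.upperCentralSeries ↥S 2).map S.subtype) : Set Ω))) ∧ (Γ₁ ≠ (S ⊓ Subgroup.centralizer (((Subgroup.upperCentralSeries ↥S 2).map S.subtype) : Set Ω)) → ∀ E : Subgroup Ω, F.IsEssential p E → (Nat.card ↥E = p ^ 3 ∧ Cfsg.IsExtraspecial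 p ↥E ∧ (p ≠ 2 → Monoid.exponent ↥E = p) ∧ (p = 2 → Nonempty (↥E ≃* QuaternionGroup 2))) → False) := by
  have pp : p.Prime := Fact.out
  have hF' := Sat.mk' hS hF
  obtain ⟨G, _, _, ι, f⟩ := exists_real F
  have mc' : CF.Fgs2.MaxC p n (img ι S) := (maxC_iff (f.piso.card_eq.symm.trans hn) (by omega)).2 fun c =>
    hmax ((f.piso.img_eq_bot_iff (lcs_le S _)).1 ((img_lcs f.piso _).trans c))
  have sat := f.sat' hF'
  have cm : ∀ x ∈ S, ∀ y ∈ S, ι (x * y * x⁻¹ * y⁻¹) = ι x * ι y * (ι x)⁻¹ * (ι y)⁻¹ := fun x hx y hy =>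
    f.piso.mul.map_comm hx hy
  have c : ∀ x ∈ S, ∀ y ∈ S, ι x * ι y * (ι x)⁻¹ * (ι y)⁻¹ ∈ (img ι S).lowerCentralSeries 3 ↔
      x * y * x⁻¹ * y⁻¹ ∈ S.lowerCentralSeries 3 := fun x hx y hy => by
    rw [← cm x hx y hy, ← img_lcs f.piso, f.piso.mem_img_iff (lcs_le S _)
      (mul_mem (mul_mem (mul_mem hx hy) (inv_mem hx)) (inv_mem hy))]
  have g1 : ∀ x ∈ S, x ∈ Γ₁ ↔ ∀ y ∈ (img ι S).lowerCentralSeries 1,
      ι x * y * (ι x)⁻¹ * y⁻¹ ∈ (img ι S).lowerCentralSeries 3 := fun x hx => by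
    rw [hΓ₁, and_iff_right hx]
    refine ⟨fun a y' hy' => ?_, fun a y hy => (c x hx y (lcs_le S _ hy)).1 (a _ (img_lcs f.piso 1 ▸ mem_img_of_mem hy))⟩
    obtain ⟨y, hy, rfl⟩ := (f.piso.mul.mono (lcs_le S 1)).mem_img.1 (img_lcs f.piso 1 ▸ hy')
    exact (c x hx y (lcs_le S _ hy)).2 (a y hy)
  have g2 : ∀ x ∈ S, x ∈ Cn (ucs S 2) ↔ ι x ∈ Cn (ucs (img ι S) 2) := fun x hx => by
    refine ⟨fun a y hy => ?_, fun a y hy => f.piso.inj (mul_mem (ucs_le 2 hy) hx) (mul_mem hx (ucs_le 2 hy)) ?_⟩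
    · obtain ⟨y, hy', rfl⟩ := f.piso.surj (ucs_le 2 hy)
      rw [← f.piso.mul hy' hx, ← f.piso.mul hx hy', a y ((mem_ucs_iff f.piso 2 y hy').1 hy)]
    · rw [f.piso.mul (ucs_le 2 hy) hx, f.piso.mul hx (ucs_le 2 hy)]
      exact a _ ((mem_ucs_iff f.piso 2 y (ucs_le 2 hy)).2 hy)
  have g0 : Γ₁ ≤ S := fun x hx => ((hΓ₁ x).1 hx).1
  refine ⟨fun E hE => ?_, fun ne E hE h => ne (Subgroup.ext fun x => ?_)⟩
  · have a := (hF'.ess_lt hE).le
    haveI := fin_of_le a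
    rcases core1 h4 mc' sat (f.ess hF' hE) with h | ⟨h1, h2⟩ | h | h
    · exact .inl (elem_real f hF' hE h (by omega) (Subgroup.le_centralizer_iff_isMulCommutative.2
        (IsPGroup.isMulCommutative_of_card_eq_prime_sq h))).symm
    · rw [f.piso.card_img a] at h1
      have b : ¬ IsMulCommutative E := fun c => h2 (piso_ab (f.res a) (Subgroup.le_centralizer_iff_isMulCommutative.2 c))
      haveI : Nontrivial E := Finite.one_lt_card_iff_nontrivial.1 (h1 ▸ Nat.one_lt_pow (by norm_num) pp.one_lt)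
      refine .inr (.inl ⟨h1, extraspecial_of_cube h1 b, fun p2 => (Monoid.exponent_eq_prime_iff pp).2 fun g hg =>
        orderOf_eq_prime (exp_of_cube p2 h1 b (hF'.not_cch hE) g) hg, ?_⟩)
      rintro rfl
      exact q8_of_cube h1 b (hF'.not_cch hE)
    · refine .inr (.inr (.inl (Subgroup.ext fun x => ⟨fun hx => ?_, fun hx => ?_⟩)))
      · exact (g1 x (a hx)).2 ((h _ (f.piso.maps (a hx))).1 (mem_img_of_mem hx))
      · exact (f.piso.mem_img_iff a (g0 hx)).1 ((h _ (f.piso.maps (g0 hx))).2 ((g1 x (g0 hx)).1 hx))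
    · refine .inr (.inr (.inr (Subgroup.ext fun x => ?_)))
      change _ ↔ x ∈ S ∧ x ∈ Cn (ucs S 2)
      exact ⟨fun hx => ⟨a hx, (g2 x (a hx)).2 ((h _ (f.piso.maps (a hx))).1 (mem_img_of_mem hx))⟩,
        fun hx => (f.piso.mem_img_iff a hx.1).1 ((h _ (f.piso.maps hx.1)).2 ((g2 x hx.1).1 hx.2))⟩
  · have a := (hF'.ess_lt hE).le
    have k := core2 h4 mc' sat (f.ess hF' hE) ((f.piso.card_img a).trans h.1)
    change _ ↔ x ∈ S ∧ x ∈ Cn (ucs S 2)
    exact ⟨fun hx => ⟨g0 hx, (g2 x (g0 hx)).2 ((k _ (f.piso.maps (g0 hx))).1 ((g1 x (g0 hx)).1 hx))⟩,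
      fun hx => (g1 x hx.1).2 ((k _ (f.piso.maps hx.1)).2 ((g2 x hx.1).1 hx.2))⟩

end Cfsg.Agent.S5267
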