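import Cfsg.Statements.S5269
import Cfsg.Agent.Mg.Z

set_option autoImplicit false
open Cfsg

namespace Cfsg.Agent.S5269

open CF.Fus CF.FusC CF.Mg

/-- Let p ≥ 5 be a prime, S a finite p-group of maximal class of order p^n with n ≥ 4, F a saturated fusion system over S, and E an F-essential subgroup that is normal in S. Then E has index p in S; moreover E is the two-step centralizer Γ₁ = C_S([S,S]/γ₄(S)) or E = C_S(Z₂(S)), unless S has order p^4 and E is extraspecial of order p³ and exponent p. -/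
theorem result {Ω : Type*} [Group Ω] {S : Subgroup Ω} [Finite S] (p : ℕ) [Fact p.Prime] (hS : IsPGroup p ↥S) (n : ℕ) (hn : Nat.card S = p ^ n) (h4 : 4 ≤ n) (hmax : Subgroup.lowerCentralSeries S (n - 2) ≠ ⊥) (F : Cfsg.FusionSystem S) (hF : F.IsSaturated p) (hp : 5 ≤ p) (Γ₁ : Subgroup Ω) (hΓ₁ : ∀ x : Ω, x ∈ Γ₁ ↔ x ∈ S ∧ ∀ y ∈ Subgroup.lowerCentralSeries S 1, x * y * x⁻¹ * y⁻¹ ∈ Subgroup.lowerCentralSeries S 3) (E : Subgroup Ω) (hE : F.IsEssential p E) (hEn : (E.subgroupOf S).Normal) : (E.subgroupOf S).index = p ∧ (E = Γ₁ ∨ E = (S ⊓ Subgroup.centralizer (((Subgroup.upperCentralSeries ↥S 2).map S.subtype) : Set Ω)) ∨ (n = 4 ∧ Nat.card ↥E = p ^ 3 ∧ Cfsg.IsExtraspecial p ↥E ∧ Monoid.exponent ↥E = p)) := by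
  have p2 : p ≠ 2 := by omega
  have pp : p.Prime := Fact.out
  have hF' := Sat.mk' hS hF
  obtain ⟨G, _, _, ι, f⟩ := exists_real F
  have mc := (maxC_iff hn (by omega)).2 hmax
  have mc' : CF.Fgs2.MaxC p n (img ι S) := (maxC_iff (f.piso.card_eq.symm.trans hn) (by omega)).2 fun c =>
    hmax ((f.piso.img_eq_bot_iff (lcs_le S _)).1 ((img_lcs f.piso _).trans c))
  have sat := f.sat' hF'
  have e := f.ess hF' hE
  have a := (hF'.ess_lt hE).le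
  have nE : img ι S ≤ Nm (img ι E) := img_le_iff.2 fun g hg =>
    f.piso.norm_apply a hg ((Subgroup.normal_subgroupOf_iff_le_normalizer a).1 hEn hg)
  refine ⟨(f.piso.relIndex_img a le_rfl).symm.trans (idx_p hp mc' sat e nE), ?_⟩
  have cm : ∀ x ∈ S, ∀ y ∈ S, ι (x * y * x⁻¹ * y⁻¹) = ι x * ι y * (ι x)⁻¹ * (ι y)⁻¹ := fun x hx y hy =>
    f.piso.mul.map_comm hx hy
  refine (core hp h4 mc' sat e nE).imp (fun h => Subgroup.ext fun x => ?_) (Or.imp (fun h => Subgroup.ext fun x => ?_) ?_)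
  · have c : ∀ x ∈ S, ∀ y ∈ S, ι x * ι y * (ι x)⁻¹ * (ι y)⁻¹ ∈ (img ι S).lowerCentralSeries 3 ↔
        x * y * x⁻¹ * y⁻¹ ∈ S.lowerCentralSeries 3 := fun x hx y hy => by
      rw [← cm x hx y hy, ← img_lcs f.piso, f.piso.mem_img_iff (lcs_le S _)
        (mul_mem (mul_mem (mul_mem hx hy) (inv_mem hx)) (inv_mem hy))]
    rw [hΓ₁]
    refine ⟨fun hx => ⟨a hx, fun y hy => (c x (a hx) y (lcs_le S _ hy)).1 ((h _ (f.piso.maps (a hx))).1
      (mem_img_of_mem hx) _ (img_lcs f.piso 1 ▸ mem_img_of_mem hy))⟩, fun hx => (f.piso.mem_img_iff a hx.1).1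
      ((h _ (f.piso.maps hx.1)).2 fun y' hy' => ?_)⟩
    obtain ⟨y, hy, rfl⟩ := (f.piso.mul.mono (lcs_le S 1)).mem_img.1 (img_lcs f.piso 1 ▸ hy')
    exact (c x hx.1 y (lcs_le S _ hy)).2 (hx.2 y hy)
  · change _ ↔ x ∈ S ∧ x ∈ Cn (ucs S 2)
    refine ⟨fun hx => ⟨a hx, fun y hy => f.piso.inj (mul_mem (ucs_le 2 hy) (a hx)) (mul_mem (a hx) (ucs_le 2 hy)) ?_⟩,
      fun hx => (f.piso.mem_img_iff a hx.1).1 ((h _ (f.piso.maps hx.1)).2 fun y hy => ?_)⟩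
    · rw [f.piso.mul (ucs_le 2 hy) (a hx), f.piso.mul (a hx) (ucs_le 2 hy)]
      exact (h _ (f.piso.maps (a hx))).1 (mem_img_of_mem hx) _ ((mem_ucs_iff f.piso 2 y (ucs_le 2 hy)).2 hy)
    · obtain ⟨y, hy', rfl⟩ := f.piso.surj (ucs_le 2 hy)
      rw [← f.piso.mul hy' hx.1, ← f.piso.mul hx.1 hy', hx.2 y ((mem_ucs_iff f.piso 2 y hy').1 hy)]
  · rintro ⟨rfl, h1, h2⟩
    obtain ⟨b1, b2, b3⟩ := pearl_real f hF' p2 hE h1 h2
    haveI := fin_of_le a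
    haveI : Nontrivial E := Finite.one_lt_card_iff_nontrivial.1 (b2 ▸ Nat.one_lt_pow (by norm_num) pp.one_lt)
    exact ⟨rfl, b2, b1, (Monoid.exponent_eq_prime_iff pp).2 fun g hg =>
      orderOf_eq_prime (Subtype.ext (b3 g g.2)) hg⟩

end Cfsg.Agent.S5269
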