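import Cfsg.Statements.S5270
import Cfsg.Agent.Fus.Pearl

set_option autoImplicit false
open Cfsg

namespace Cfsg.Agent.S5270
open CF.Fus Cfsg.FusionSystem

/-- Let p ≥ 5 be a prime, S a finite p-group of maximal class of order p^n with n ≥ 4, and F a saturated fusion system over S. If some map of F defined on the second centre Z₂(S) with image Z₂(S) does not carry Z(S) into itself, then the centralizer C_S(Z₂(S)) is an F-essential subgroup. -/
theorem result {Ω : Type*} [Group Ω] {S : Subgroup Ω} [Finite S] (p : ℕ) [Fact p.Prime] (hS : IsPGroup p ↥S) (n : ℕ) (hn : Nat.card S = p ^ n) (h4 : 4 ≤ n) (hmax : Subgroup.lowerCentralSeries S (n - 2) ≠ ⊥) (F : Cfsg.FusionSystem S) (hF : F.IsSaturated p) (hp : 5 ≤ p) (φ : ↥((Subgroup.upperCentralSeries ↥S 2).map S.subtype) →* Ω) (hφ : φ ∈ F.Hom ((Subgroup.upperCentralSeries ↥S 2).map S.subtype)) (hφZ : φ.range = ((Subgroup.upperCentralSeries ↥S 2).map S.subtype)) (hmove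 : ∃ (z : Ω) (hz : z ∈ ((Subgroup.upperCentralSeries ↥S 2).map S.subtype)), z ∈ ((Subgroup.center ↥S).map S.subtype) ∧ φ ⟨z, hz⟩ ∉ ((Subgroup.center ↥S).map S.subtype)) : F.IsEssential p (S ⊓ Subgroup.centralizer (((Subgroup.upperCentralSeries ↥S 2).map S.subtype) : Set Ω)) := by
  have hF' := Sat.mk' hS hF
  have h := (maxC_iff hn (by omega)).2 hmax
  change ↥(ucs S 2) →* Ω at φ
  change φ ∈ F.Hom (ucs S 2) at hφ
  change φ.range = ucs S 2 at hφZ
  change F.IsEssential p (CS S (ucs S 2))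
  obtain ⟨z, z1, z2, z3⟩ := hmove
  rw [map_center] at z2 z3
  have n1 : S ≤ Subgroup.normalizer (ucs S 2 : Set Ω) := fun _ hs =>
    norm_of_cA_mem_stab (ucs_le 2) (Subgroup.le_normalizer hs) (char_stab (ucs_le 2) (ucs_char 2) _)
  have n2 : S ≤ Subgroup.normalizer (CS S (ucs S 2) : Set Ω) := (NS_eq_of_norm n1).ge.trans NS_le_norm_CS
  obtain ⟨g, g1, g2⟩ := hF'.ext_CS (hF'.fc_of_fn (fn_of_norm F (ucs_le 2) n1))
    (⟨mor_ext hφ, (img_ext φ).trans hφZ⟩ : Iso F (ucs S 2) (ucs S 2) (ext φ))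
  have g3 := g1.mono le_sup_right
  have g4 := g1.img_CS_le le_sup_left le_sup_right CS_le_cent
  rw [img_congr g2, img_ext, hφZ] at g4
  obtain ⟨α, a1, a2⟩ := (g3.iso_self (img_le_iff.1 g4)).exists_aut
  have c : CS S S ≤ CS S (ucs S 2) := CS_anti (ucs_le 2)
  have z4 : φ ⟨z, z1⟩ ∈ ucs S 2 := hφZ.le ⟨_, rfl⟩
  obtain ⟨d1, d2⟩ := cent_ucs_two h h4 fun e => z3 (e z4)
  refine hF'.ess_iff.2 ⟨centric_of_fc (hF'.fc_of_fn (fn_of_norm F CS_le n2)) (CS_anti d1), fn_of_norm F CS_le n2,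
    lt_of_le_not_ge CS_le (not_le_of_prime d2), fun e => z3 ?_⟩
  refine Eq.subst (motive := (· ∈ CS S S)) ((a2 z (c z2)).trans ((g2 z z1).trans (ext_of_mem φ z1))) ?_
  refine stab_maps (HF_induction (C := fun β => β ∈ stab _ (CS S S)) (one_mem _) (fun _ _ _ _ => mul_mem)
    (fun β Q k h1 h2 h3 => mem_stab_of_maps c fun u hu => ?_) (e.ge a1)) z2
  obtain rfl := (eq_or_eq_of_prime d2 h1.le h2.le).resolve_left h1.ne'
  obtain ⟨γ, -, b⟩ := h2.iso_top.exists_aut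
  exact h3 u (c hu) ▸ b u hu.1 ▸ stab_maps (CS_le_stab γ) hu

end Cfsg.Agent.S5270
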