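import Cfsg.Statements.S5287
import Cfsg.Agent.FusB.Dq7
import Cfsg.Agent.S5234
-- import your own Cfsg.Agent.* helpers here

set_option autoImplicit false
open Cfsg

namespace Cfsg.Agent.S5287

theorem aut_d2 : ∃ σ : MulAut (DihedralGroup 2), σ ^ 3 = 1 ∧ σ ≠ 1 :=
  let f : DihedralGroup 2 → DihedralGroup 2 := fun x => if x = .r 1 then .sr 0 else if x = .sr 0 then .sr 1
    else if x = .sr 1 then .r 1 else x
  ⟨⟨⟨f, f ∘ f, by decide, by decide⟩, by decide⟩, MulEquiv.ext (by decide),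
    fun e => absurd (DFunLike.congr_fun e (.r 1)) (by decide)⟩

theorem aut_q8 : ∃ σ : MulAut (QuaternionGroup 2), σ ^ 3 = 1 ∧ σ ≠ 1 :=
  let f : QuaternionGroup 2 → QuaternionGroup 2 := fun x => if x = .a 1 then .xa 0 else
    if x = .a 3 then .xa 2 else if x = .xa 0 then .xa 3 else if x = .xa 2 then .xa 1 else
    if x = .xa 3 then .a 1 else if x = .xa 1 then .a 3 else x
  ⟨⟨⟨f, f ∘ f, by decide, by decide⟩, by decide⟩, MulEquiv.ext (by decide),
    fun e => absurd (DFunLike.congr_fun e (.a 1)) (by decide)⟩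

/-- Let S be a finite metacyclic p-group (an extension of a cyclic group by a cyclic group). Every saturated fusion system over S is supersoluble (S has a chain of F-strongly closed subgroups from 1 to S with cyclic steps) if and only if S is not homocyclic of rank two (isomorphic to Z/p^n × Z/p^n with n ≥ 1) and, when p = 2, S is not dihedral of order at least 4, not quasi-dihedral (semidihedral) and not generalized quaternion of order at least 8. -/
theorem result {Ω : Type*} [Group Ω] {S : Subgroup Ω} [Finite S] (p : ℕ) [Fact p.Prime] (hS : IsPGroup p ↥S) (hm : Cfsg.IsMetacyclic ↥S) : (∀ F : Cfsg.FusionSystem S, F.IsSaturated p → (∃ (m : ℕ) (c : Fin (m + 1) → Subgroup Ω), c 0 = ⊥ ∧ c (Fin.last m) = S ∧ (∀ i : Fin (m + 1), F.StronglyClosed (c i)) ∧ ∀ i : Fin m, c i.castSucc ≤ c i.succ ∧ ∃ x ∈ S, c i.succ = c i.castSucc ⊔ Subgroup.zpowers x)) ↔ ¬ ((∃ n : ℕ, 0 < n ∧ Nonempty (↥S ≃* Multiplicative (ZMod (p ^ n)) × Multiplicative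 (ZMod (p ^ n)))) ∨ (p = 2 ∧ ((∃ n : ℕ, 2 ≤ n ∧ Nonempty (↥S ≃* DihedralGroup n)) ∨ Cfsg.IsQuasiDihedral ↥S ∨ (∃ n : ℕ, 2 ≤ n ∧ Nonempty (↥S ≃* QuaternionGroup n))))) := by
  open CF.Fus CF.FusB in
  have two : ∀ {A : Type} [Group A], (∃ σ : MulAut A, σ ^ 3 = 1 ∧ σ ≠ 1) → (S ≃* A) → ¬ PAb 2 S :=
    fun ⟨σ, h3, h1⟩ e h => h1 ((MulAut.congr e).symm.injective (by
      have := (h (Subgroup.zpowers ((MulAut.congr e).symm σ)) (by
        rw [Nat.card_zpowers, MulEquiv.orderOf_eq, orderOf_eq_prime h3 h1]; decide)).2 _ (Subgroup.mem_zpowers _)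
      rw [map_one]; simpa using this))
  refine (CF.Fus.ssol_iff hS).trans ⟨fun ⟨h1, h2⟩ h => ?_, fun h => ?_⟩
  · have nn := fun (hp : p = 2) h => show False from by
      subst hp
      obtain ⟨F, a, b⟩ := CF.FusB.exists_not_normal hS h
      exact b (h1 F a.sat)
    rcases h with ⟨n, hn, ⟨e⟩⟩ | ⟨rfl, ⟨n, hn, ⟨e⟩⟩ | h | ⟨n, hn, ⟨e⟩⟩⟩
    · haveI := CF.Fus.nontrivial_zmod (p := p) hn
      exact CF.Fus.not_pab_of_split (CF.Fus.isPGroup_zmod n) (e.trans (MulEquiv.prodUnique (N := Unit)).symm) h2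
    · rcases hn.eq_or_lt with rfl | hn
      · exact two aut_d2 e h2
      · exact nn rfl (.inl ⟨n, hn, ⟨e⟩⟩)
    · exact nn rfl (.inr (.inr h))
    · rcases hn.eq_or_lt with rfl | hn
      · exact two aut_q8 e h2
      · exact nn rfl (.inr (.inl ⟨n, hn, ⟨e⟩⟩))
  by_cases hab : IsMulCommutative S
  · refine ⟨fun F hF => (CF.Fus.Sat.mk' hS hF).normal_of_abelian (CF.Fus.sc_top F)
      (Subgroup.le_centralizer_iff_isMulCommutative.2 hab), CF.Fus.pab_of_ch hS
        ((CF.Fus.ch_or_split hS).resolve_right fun ⟨n, H, _, hn, ⟨e⟩⟩ => h (.inl ⟨n, hn, ?_⟩))⟩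
    haveI := CF.Fus.nontrivial_zmod (p := p) hn
    obtain ⟨k, y, -, h1⟩ := CF.Fus.exists_mcy hm
    haveI := CF.Fus.subsingleton_of_split hS (CF.Fus.index_frattini_le hS h1) e
    haveI := uniqueOfSubsingleton (1 : H)
    exact ⟨e.trans MulEquiv.prodUnique⟩
  by_cases hp : p = 2
  swap
  · exact ⟨fun F hF => Cfsg.Agent.S5234.result p hS F hF S (CF.Fus.sc_top F) hp hm,
      CF.FusB.pab_of_meta hp hS hm hab⟩
  subst hp
  have ab : ∀ {A : Type} [Group A], (∀ x y : A, x * y = y * x) → ¬ Nonempty (S ≃* A) := fun h ⟨e⟩ =>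
    hab ⟨⟨fun x y => e.injective (by rw [map_mul, map_mul, h])⟩⟩
  refine ⟨fun F hF => (CF.Fus.Sat.mk' hS hF).normal_of_meta (CF.Fus.sc_top F) hm ?_, fun H hH => ?_⟩
  · rintro (⟨_ | _ | n, e⟩ | ⟨_ | _ | n, e⟩ | e)
    · exact e.elim fun e => (Finite.of_equiv _ e.toEquiv).not_infinite inferInstance
    · exact ab (by decide) e
    · exact h (.inr ⟨rfl, .inl ⟨_, by omega, e⟩⟩)
    · exact e.elim fun e => (Finite.of_equiv _ (e.trans
        QuaternionGroup.quaternionGroupZeroEquivDihedralGroupZero).toEquiv).not_infinite inferInstance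
    · exact ab (by decide) e
    · exact h (.inr ⟨rfl, .inr (.inr ⟨_, by omega, e⟩)⟩)
    · exact h (.inr ⟨rfl, .inr (.inl e)⟩)
  · have hA : IsPGroup 2 (MulAut S) := by_contra fun hA =>
      h (.inr ⟨rfl, .inr (.inr ⟨2, le_rfl, CF.Fus.q8_of_meta hS hm hA hab⟩)⟩)
    obtain rfl : H = ⊥ := Subgroup.eq_bot_of_card_eq _ (((hA.to_subgroup H).card_eq_or_dvd).resolve_right
      fun e => absurd (Nat.eq_one_of_dvd_coprimes hH e dvd_rfl) (by decide))
    exact ⟨inferInstance, fun h hh => by simpa using hh⟩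

end Cfsg.Agent.S5287
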