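import Cfsg.Statements.S5299
import Cfsg.Agent.Fus.Solv
import Cfsg.Agent.Transfer.Section

set_option autoImplicit false
universe u
open Cfsg

namespace Cfsg.Agent.S5299
open CF.Fus Cfsg.FusionSystem

/-- Let F be a saturated fusion system over a finite p-group S, H a finite group and Q a p-subgroup of H. If Q is not involved in S (no section of S is isomorphic to Q), then F is H-free: H is involved in no model of the normalizer system of a fully normalized centric subgroup. -/
theorem result {Ω : Type u} [Group Ω] {S : Subgroup Ω} [Finite S] (p : ℕ) [Fact p.Prime] (hS : IsPGroup p S)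
    (F : Cfsg.FusionSystem S) (hF : F.IsSaturated p) (H : Type*) [Group H] [Finite H] (Q : Subgroup H) (hQ : IsPGroup p Q)
    (hfree : ¬ Cfsg.Involves (↥Q) (↥S)) : F.IsSectionFree p H := by
  intro R _ _ N _ L _ ι hL hH
  have h1 := (model_iff' ι).1 hL
  haveI := h1.fin
  obtain ⟨K, φ, hφ⟩ := CF.Transfer.involves_iff.1 hH
  obtain ⟨B, h2, h3⟩ := exists_sylIn_ge (le_top : Q ≤ ⊤) hQ
  obtain ⟨A, hA⟩ := exists_sylIn p (⊤ : Subgroup K)
  have h4 := hA.map φ
  rw [← MonoidHom.range_eq_map, MonoidHom.range_eq_top.2 hφ] at h4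
  obtain ⟨b, -, hb⟩ := h4.exists_conj le_top hQ
  obtain ⟨c, -, hc⟩ := h1.syl.exists_conj le_top (hA.pg.map K.subtype)
  refine hfree (CF.Transfer.involves_trans (CF.Transfer.involves_trans (CF.Transfer.involves_trans
    (CF.Transfer.involves_of_injective (((MulAut.conj b).toMonoidHom.comp Q.subtype).codRestrict (A.map φ)
      fun x => hb x x.2) fun x y h => Subtype.ext (cj_inj b (congrArg Subtype.val h)))
    (CF.Transfer.involves_of_surjective _ (φ.subgroupMap_surjective A)))
    (CF.Transfer.involves_of_injective (h1.iso.piso.equiv.symm.toMonoidHom.comp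
      (((MulAut.conj c).toMonoidHom.comp (K.subtype.comp A.subtype)).codRestrict _
        fun x => hc _ ⟨x, x.2, rfl⟩)) (h1.iso.piso.equiv.symm.injective.comp fun x y h =>
          Subtype.ext (Subtype.ext (cj_inj c (congrArg Subtype.val h))))))
    (CF.Transfer.involves_of_injective _ (Subgroup.inclusion_injective NS_le)))

end Cfsg.Agent.S5299
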