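import Cfsg.Statements.S5316
import Cfsg.Agent.Mxc.C

set_option autoImplicit false
open Cfsg

namespace Cfsg.Agent.S5316

open CF.Fus CF.FusC CF.Mxc

/-- Let p ≥ 5 be a prime, S a finite p-group of maximal class of order p^n with n ≥ 5 (nilpotency class n − 1), F a saturated fusion system over S, and E an F-essential subgroup that is not a pearl (not elementary abelian of order p² and not extraspecial of order p³ and exponent p). Then E has order at least p⁴. -/
theorem result {Ω : Type*} [Group Ω] {S : Subgroup Ω} [Finite S] (p : ℕ) [Fact p.Prime] (hp : 5 ≤ p) (hS : IsPGroup p ↥S) (n : ℕ) (hn : Nat.card S = p ^ n) (h5 : 5 ≤ n)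
    (hmax : Subgroup.lowerCentralSeries S (n - 2) ≠ ⊥) (F : Cfsg.FusionSystem S) (hF : F.IsSaturated p)
    (E : Subgroup Ω) (hE : F.IsEssential p E)
    (hnp : ¬ ((Nat.card ↥E = p ^ 2 ∧ Cfsg.IsElementaryAbelian p E) ∨ (Nat.card ↥E = p ^ 3 ∧ Cfsg.IsExtraspecial p ↥E ∧ Monoid.exponent ↥E = p))) :
    p ^ 4 ≤ Nat.card ↥E := by
  have p2 : p ≠ 2 := by omega
  have pp : p.Prime := Fact.out
  have hF' := Sat.mk' hS hF
  obtain ⟨G, _, _, ι, f⟩ := exists_real F
  obtain ⟨t, rfl⟩ : ∃ t, n = t + 5 := ⟨n - 5, by omega⟩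
  have mc := (maxC_iff hn (by omega)).2 hmax
  have mc' : CF.Fgs2.MaxC p (t + 5) (img ι S) := ⟨f.piso.card_eq.symm.trans hn, by omega, fun c => mc.ne (by
    rw [← Subgroup.map_eq_bot_iff_of_injective _ (f := f.piso.equiv.toMonoidHom) f.piso.equiv.injective,
      CF.Fgs2.LC, Subgroup.map_lowerCentralSeries, Subgroup.map_top_of_surjective f.piso.equiv.toMonoidHom f.piso.equiv.surjective]
    exact c)⟩
  obtain ⟨L, K, m⟩ := exists_mx mc'
  have sat := f.sat' hF'
  have e := f.ess hF' hE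
  have a := (hF'.ess_lt hE).le
  have ce := f.piso.card_img a
  have pE := sat.pgroup (sat.ess_lt e).le
  by_contra c
  obtain ⟨k, hk⟩ := IsPGroup.iff_card.1 pE
  have k3 : k ≤ 3 := by_contra fun d => c (ce ▸ hk ▸ Nat.pow_le_pow_right pp.pos (by omega))
  have c0 := card_eq_mul' (Fr_le (A := img ι E))
  have hr : (Fr (img ι E)).relIndex (img ι E) ≤ p ^ 3 :=
    (Nat.le_mul_of_pos_left _ Nat.card_pos).trans (c0 ▸ hk ▸ Nat.pow_le_pow_right pp.pos k3)
  have k2 : 2 ≤ k := by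
    refine (Nat.pow_le_pow_iff_right pp.one_lt).1 (hk ▸ ?_)
    rcases ess_dich sat p2 e hr with j | ⟨C, D, q⟩
    · obtain ⟨s, s1, s2⟩ := exists_of_prime j.idx
      obtain ⟨V, W, fl⟩ := j.fl s1 s2
      rw [c0, fl.idx]
      exact (Nat.pow_le_pow_right pp.pos (by omega)).trans (Nat.le_mul_of_pos_left _ Nat.card_pos)
    · rw [q.card]
      exact Nat.le_mul_of_pos_left _ Nat.card_pos
  by_cases ab : img ι E ≤ Cn (img ι E)
  · obtain ⟨b1, b2⟩ := elem_real f hF' hE hk k3 ab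
    obtain rfl | rfl : k = 2 ∨ k = 3 := by omega
    · exact hnp (Or.inl ⟨b2, b1⟩)
    · refine no_cube hp m sat e (le_bot_iff.1 (El.Fr_le (p := p) ⟨fun _ u _ v => bot_of_Cn (ab v) u, fun y u => ?_⟩
        le_rfl)) hk
      obtain ⟨x, hx, rfl⟩ := (f.res a).surj u
      rw [← (f.mul.mono a).map_pow hx, Subgroup.mem_bot, (f.res a).eq_one_iff (pow_mem hx p)]
      exact b1.2 x hx
  · obtain rfl | rfl : k = 2 ∨ k = 3 := by omega
    · exact ab (Subgroup.le_centralizer_iff_isMulCommutative.2 (IsPGroup.isMulCommutative_of_card_eq_prime_sq hk))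
    · obtain ⟨b1, b2, b3⟩ := pearl_real f hF' p2 hE hk ab
      haveI := fin_of_le a
      haveI : Nontrivial E := Finite.one_lt_card_iff_nontrivial.1 (b2 ▸ Nat.one_lt_pow (by norm_num) pp.one_lt)
      exact hnp (Or.inr ⟨b2, b1, (Monoid.exponent_eq_prime_iff pp).2 fun g hg =>
        orderOf_eq_prime (Subtype.ext (b3 g g.2)) hg⟩)

end Cfsg.Agent.S5316
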