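import Cfsg.Statements.S5317
import Cfsg.Agent.FusB.Dq4
-- import your own Cfsg.Agent.* helpers here

set_option autoImplicit false
open Cfsg

namespace Cfsg.Agent.S5317

/-- Let F be a finite field of odd order q with q² ≡ 1 mod 16 (so that a Sylow 2-subgroup of PSL(2,q), dihedral of order the 2-part of (q²−1)/2, has order at least 8). Then the 2-fusion system of PSL(2,F) on a Sylow 2-subgroup is simple: saturated, over a nontrivial 2-group, with no normal subsystem other than the trivial one and itself. -/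
theorem result {F : Type*} [Field F] [Fintype F] (hodd : Fintype.card F % 2 = 1) (h16 : 16 ∣ Fintype.card F ^ 2 - 1)
    (S : Sylow 2 (Matrix.ProjectiveSpecialLinearGroup (Fin 2) F)) :
    (Cfsg.groupFusionSystem (S : Subgroup (Matrix.ProjectiveSpecialLinearGroup (Fin 2) F))).IsSimple 2 := by
  have ho : Odd (Nat.card F) := by rw [Nat.card_eq_fintype_card]; exact Nat.odd_iff.2 hodd
  have h2 := CF.Classical.two_ne_zero_of_odd_card ho
  obtain ⟨m, ⟨e⟩⟩ := CF.FusB.sylow_PSL2 h2 S
  refine CF.FusB.simple_of_DQW S (Or.inl ⟨_, ?_, ⟨e⟩⟩) (CF.FusB.pResidual_PSL _ h2)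
  rw [← Nat.card_eq_fintype_card] at h16
  obtain ⟨s, hs⟩ := h16
  have h1 : Nat.card F ^ 2 = 2 ^ (3 + 1) * s + 1 := by
    have := Nat.one_le_pow 2 _ (Nat.card_pos (α := F))
    omega
  have h3 := CF.FusB.card_PSL2' h2 h1
  have h4 : 2 ^ 3 ∣ Nat.card S := by
    rw [S.card_eq_multiplicity]
    exact pow_dvd_pow _ ((Nat.prime_two.pow_dvd_iff_le_factorization Nat.card_pos.ne').1 ⟨_, h3⟩)
  rw [Nat.card_congr e.toEquiv, DihedralGroup.nat_card] at h4
  have := Nat.le_of_dvd (by positivity) h4
  omega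

end Cfsg.Agent.S5317
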