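import Cfsg.Statements.S5331
import Cfsg.Agent.Fus.AbCh

set_option autoImplicit false
open Cfsg

namespace Cfsg.Agent.S5331
open CF.Fus Cfsg.FusionSystem

/-- Let S be a finite abelian 2-group that is a direct product of cyclic groups of pairwise distinct orders 2^{a_1} < 2^{a_2} < ⋯ < 2^{a_n} (all a_i ≥ 1). Then every saturated fusion system over S is the inner one: its maps are exactly the conjugations by elements of S. -/
theorem result {Ω : Type*} [Group Ω] {S : Subgroup Ω} [Finite S] (n : ℕ) (a : Fin n → ℕ) (ha : StrictMono a) (ha1 : ∀ i, 1 ≤ a i) (e : ↥S ≃* Multiplicative ((i : Fin n) → ZMod (2 ^ a i))) (F : Cfsg.FusionSystem S) (hF : F.IsSaturated 2) (P : Subgroup Ω) : F.Hom P = (Cfsg.innerFusionSystem S).Hom P := by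
  have e' := e.trans (MulEquiv.piMultiplicative _)
  have hS : IsPGroup 2 S := IsPGroup.of_equiv (fun x => ⟨Finset.univ.sup a, funext fun i => by
    obtain ⟨m, hm⟩ := pow_dvd_pow 2 (Finset.le_sup (f := a) (Finset.mem_univ i))
    rw [Pi.pow_apply, hm, pow_mul, show x i ^ 2 ^ a i = 1 by simpa using pow_card_eq_one' (x := x i), one_pow]
    rfl⟩) e'.symm
  have hF' := Sat.mk' hS hF
  exact inner_iff_hom.2 (hF'.inner_of_normal_top (hF'.normal_of_abelian (sc_top F) fun x hx y hy =>
    comm_of_equiv e' y hy x hx) (((ch_of_basis ha.injective e').abE hS).two.to_le le_top)) P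

end Cfsg.Agent.S5331
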