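import Cfsg.Statements.S5343
import Cfsg.Agent.Fus.GrpN

set_option autoImplicit false
universe u
open Cfsg

namespace Cfsg.Agent.S5343
open CF.Fus Cfsg.FusionSystem

/-- Let F be a simple saturated fusion system over a finite p-group S that is realized by some finite group on a Sylow p-subgroup. Then F is realized by a finite simple group on a Sylow p-subgroup. -/
theorem result {Ω : Type u} [Group Ω] {S : Subgroup Ω} [Finite S] (p : ℕ) [Fact p.Prime] (hS : IsPGroup p S) (F : Cfsg.FusionSystem S) (hsimple : F.IsSimple p) (hreal : F.IsRealizable p) : ∃ (G : Type u) (_ : Group G) (_ : Finite G) (_ : IsSimpleGroup G) (ι : ↥S →* G), F.IsRealizedBy ι ∧ ∃ T : Sylow p G, (T : Subgroup G) = ι.range := by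
    obtain ⟨G, _, _, ι, h1, T, h2⟩ := hreal
    have h3 : Real F p (ext ι) ⊤ := ((realized_iff ι (fun x => (ext_coe ι x).symm) h2.symm).1 h1).toReal (sylIn_top T)
    generalize ext ι = t at h3
    clear h1 h2 T ι
    induction hn : Nat.card G using Nat.strong_induction_on generalizing G with
    | _ n ih =>
    by_cases c : IsSimpleGroup G
    · obtain ⟨T, hT⟩ := h3.syl.exists_sylow
      exact ⟨G, _, ‹_›, c, h3.mul.hom, (realized_iff _ (fun _ => rfl) h3.mul.img_eq_range.symm).2 h3.iso, T,
        hT.trans h3.mul.img_eq_range⟩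
    have hs := h3.iso.simple h3.sat hsimple
    haveI : Nontrivial G := by
      by_contra c'
      rw [not_nontrivial_iff_subsingleton] at c'
      exact hs.2.1 (Subsingleton.elim _ _)
    obtain ⟨N, hN, c1⟩ : ∃ N : Subgroup G, N.Normal ∧ ¬ (N = ⊥ ∨ N = ⊤) := by
      by_contra c'
      exact c ⟨fun N hN => by_contra fun c'' => c' ⟨N, hN, c''⟩⟩
    have a1 := (Subgroup.normalizer_eq_top_iff.2 hN).ge
    have a2 := h3.syl.inf_norm' le_top a1
    rcases hs.2.2 _ _ (nrmG h3.syl le_top a1).isN with b | ⟨b1, b2⟩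
    · refine ih _ (hn ▸ (?_ : _ < Nat.card G)) (G ⧸ N) _ inferInstance _ (h3.quot N (((Nat.Prime.coprime_iff_not_dvd Fact.out).2 fun d =>
        a2.ne_bot d b).symm)) rfl
      rw [Subgroup.card_eq_card_quotient_mul_card_subgroup N]
      exact lt_mul_of_one_lt_right Nat.card_pos ((Subgroup.one_lt_card_iff_ne_bot N).2 fun d => c1 (.inl d))
    · refine ih _ (hn ▸ (?_ : _ < Nat.card G)) N _ inferInstance _ (h3.sub (inf_eq_left.1 b1) le_top fun {P f} hf => ?_).restrict rfl
      · obtain ⟨f', d1, d2⟩ := h3.iso.mph.push hf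
        obtain ⟨g, d3, d4⟩ := morG_elt ((hom_eq_iff.1 b2 _ _).2 d1)
        exact ⟨g, d3, fun x hx => by rw [← d2 x hx, d4 _ (mem_img_of_mem hx)]⟩
      · simpa using card_lt_of_lt (lt_top_iff_ne_top.2 fun d => c1 (.inr d) : N < ⊤)

end Cfsg.Agent.S5343
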