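import Cfsg.Statements.S5465
import Cfsg.Agent.Fisch.F24.K2
import Cfsg.Agent.S2079
-- import your own Cfsg.Agent.* helpers here

set_option autoImplicit false
open Cfsg

namespace Cfsg.Agent.S5465

open CF.Fisch
open scoped commutatorElement

open CF.Fisch F24 CF.Comp Subgroup

/-- Let G be a finite group with trivial centre generated by a conjugation-invariant set D of 3-transpositions on which it acts primitively, such that for some d in D the subgroup generated by the members of D other than d commuting with d has central largest normal 2- and 3-subgroups, and suppose G with D is of type M(24), and let L be the commutator subgroup of G. Let d₁, d₂ be distinct commuting members of D and j = d₁ d₂. Then K, the joint centralizer of d₁ and d₂ in L, is quasisimple, is the generalized Fitting subgroup of the centralizer of j in L, has index 2 in it and contains j, and the centralizer of j in L modulo the subgroup generated by j is isomorphic to the full automorphism group of the Fischer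 group Fi₂₂ (as presented). -/
theorem result {G : Type*} [Group G] [Finite G] {D : Set G} (hD : Cfsg.IsThreeTranspositionGroup D) (hprim : Cfsg.IsPrimitiveUnderConj D) (d₀ : G) (hd₀ : d₀ ∈ D) (h3 : Cfsg.pCore 3 ↥(Subgroup.closure {y : G | y ∈ D ∧ y ≠ d₀ ∧ Commute d₀ y}) ≤ Subgroup.center ↥(Subgroup.closure {y : G | y ∈ D ∧ y ≠ d₀ ∧ Commute d₀ y})) (h2 : Cfsg.pCore 2 ↥(Subgroup.closure {y : G | y ∈ D ∧ y ≠ d₀ ∧ Commute d₀ y}) ≤ Subgroup.center ↥(Subgroup.closure {y : G | y ∈ D ∧ y ≠ d₀ ∧ Commute d₀ y})) (h24 : Cfsg.IsOfTypeM24 G D) (L : Subgroup G) (hL : L = commutator G) (d₁ d₂ : G) (h₁ : d₁ ∈ D) (h₂ : d₂ ∈ D) (hne : d₁ ≠ d₂) (hc : Commute d₁ d₂) (K CL : Subgroup G) (hK : K = L ⊓ Subgroup.centralizer ({d₁, d₂} : Set G)) (hCL : CL = L ⊓ Subgroup.centralizer ({d₁ * d₂} : Set G)) [hn : ((Subgroup.zpowers (d₁ * d₂)).subgroupOf CL).Normal] : Cfsg.IsQuasisimple ↥K ∧ K = (Cfsg.generalizedFittingSubgroup ↥CL).map CL.subtype ∧ K ≤ CL ∧ (K.subgroupOf CL).index = 2 ∧ d₁ * d₂ ∈ K ∧ Nonempty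 (↥CL ⧸ (Subgroup.zpowers (d₁ * d₂)).subgroupOf CL ≃* MulAut Cfsg.Spor.Fi22) := by
  obtain ⟨E, f, M⟩ := std24 hD hprim h24
  subst hK hCL hL
  have h := Cq.two h₁ h₂ hne hc
  have q := M.qs2 h
  have h0 := inf_le_inf_left (_root_.commutator G) (cent_pair_le d₁ d₂)
  have h1 := (index_inf M.commutator.1 (cent_pair_le d₁ d₂) (mem_cent2.2 ⟨rfl, hc.symm⟩) (M.not_mem h₁)).trans
    ((M.trn.mono (by decide)).index M.u2 M.cjD h)
  have h4 := M.cc h (by simp) (T := {d₁, d₂}) (by simp) fun g hg => M.u2.conj_mem M.cjD h hg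
  obtain ⟨E', M'⟩ := F22.model
  exact ⟨q.qs, (fstar_comp h0 (le_norm_of_index h0 h1) q.qs h4).symm, h0, h1, q.ext.1 (mem_zpowers _),
    (q.aut h0 (le_norm_of_index h0 h1) h4 (by rw [card_aut M'.center, S2079.result, h1])).equiv rfl⟩

end Cfsg.Agent.S5465
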