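import Cfsg.Statements.S5472
import Cfsg.Agent.Fisch.F22.A2
import Cfsg.Agent.Fisch.F22.Z2
-- import your own Cfsg.Agent.* helpers here

set_option autoImplicit false
open Cfsg

namespace Cfsg.Agent.S5472

open CF.Fisch
open scoped commutatorElement

open CF.Fisch F22 CF.Comp Subgroup

/-- Let G be a finite group with trivial centre generated by a conjugation-invariant set D of 3-transpositions on which it acts primitively, such that for some d in D the subgroup generated by the members of D other than d commuting with d has central largest normal 2- and 3-subgroups, and suppose G with D is of type M(22). Then G has a non-inner automorphism s of order 2 whose fixed-point subgroup is isomorphic to the full automorphism group of Ω⁺(8, 2) (the commutator subgroup of the isometry group of the hyperbolic quadratic form in dimension 8 over the field with two elements), together with distinct commuting members a, b of D fixed by s such that: s, s composed with conjugation by a, and s composed with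 conjugation by a b represent the three classes (under the automorphism group) of non-inner automorphisms of order 2; the elements fixed by the automorphism s composed with conjugation by a are exactly those fixed by s and commuting with a, and they form a group isomorphic to the direct product of a group of order 2 and the symplectic group of dimension 6 over the field with two elements; and the elements fixed by the automorphism s composed with conjugation by a b form a group whose largest normal 2-subgroup is elementary abelian of order 64 with quotient isomorphic to the full isometry group of the elliptic quadratic form in dimension 6 over the field with two elements. -/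
theorem result {G : Type*} [Group G] [Finite G] {D : Set G} (hD : Cfsg.IsThreeTranspositionGroup D) (hprim : Cfsg.IsPrimitiveUnderConj D) (d₀ : G) (hd₀ : d₀ ∈ D) (h3 : Cfsg.pCore 3 ↥(Subgroup.closure {y : G | y ∈ D ∧ y ≠ d₀ ∧ Commute d₀ y}) ≤ Subgroup.center ↥(Subgroup.closure {y : G | y ∈ D ∧ y ≠ d₀ ∧ Commute d₀ y})) (h2 : Cfsg.pCore 2 ↥(Subgroup.closure {y : G | y ∈ D ∧ y ≠ d₀ ∧ Commute d₀ y}) ≤ Subgroup.center ↥(Subgroup.closure {y : G | y ∈ D ∧ y ≠ d₀ ∧ Commute d₀ y})) (h22 : Cfsg.IsOfTypeM22 G D) : ∃ (s : MulAut G) (a b : G) (Cs : Subgroup G), orderOf s = 2 ∧ s ∉ (MulAut.conj : G →* MulAut G).range ∧ (∀ g : G, g ∈ Cs ↔ s g = g) ∧ Nonempty (↥Cs ≃* MulAut (Cfsg.Omega (ZMod 2) (Cfsg.quadFormPlus 4 (ZMod 2)))) ∧ a ∈ D ∧ b ∈ D ∧ a ≠ b ∧ Commute a b ∧ s a = a ∧ s b = b ∧ (∀ t : MulAut G, orderOf t = 2 → t ∉ (MulAut.conj : G →* MulAut G).range → (IsConj t s ∨ IsConj t (s * MulAut.conj a) ∨ IsConj t (s * MulAut.conj (a * b)))) ∧ ¬ IsConj s (s * MulAut.conj a) ∧ ¬ IsConj s (s * MulAut.conj (a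 * b)) ∧ ¬ IsConj (s * MulAut.conj a) (s * MulAut.conj (a * b)) ∧ (∀ g : G, (s * MulAut.conj a) g = g ↔ g ∈ Cs ⊓ Subgroup.centralizer ({a} : Set G)) ∧ Nonempty (↥(Cs ⊓ Subgroup.centralizer ({a} : Set G)) ≃* Multiplicative (ZMod 2) × Cfsg.PSp 3 (ZMod 2)) ∧ ∃ Csab O : Subgroup G, (∀ g : G, g ∈ Csab ↔ (s * MulAut.conj (a * b)) g = g) ∧ O = (Cfsg.pCore 2 ↥Csab).map Csab.subtype ∧ Cfsg.IsElementaryAbelian 2 O ∧ Nat.card O = 64 ∧ ∃ _ : (O.subgroupOf Csab).Normal, Nonempty (↥Csab ⧸ O.subgroupOf Csab ≃* Cfsg.isometryGroup (ZMod 2) (Cfsg.quadFormMinus 2 (ZMod 2) 1 1)) := by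
  obtain ⟨E, f, M⟩ := std22 hD hprim h22
  obtain ⟨E', f', L, A⟩ := FA.aut M
  have ha : cw0 f w0 FA.L2.pa ∈ Fx D (f' 30) := A2.fix1 M L A ▸ M.mem_of_inB (by decide +kernel)
  have hb : cw0 f w0 FA.L2.pb ∈ Fx D (f' 30) := A2.fix1 M L A ▸ M.mem_of_inB (by decide +kernel)
  have e1 := ev_single f' 30
  have e2 := A2.ev2 L
  have e3 := A2.ev3 L
  have nc : ∀ {u w : List ℕ}, Nat.beq (nfix FA.N 3510 12 u) (nfix FA.N 3510 12 w) = false → ¬ IsConj (ev f' u) (ev f' w) :=
    fun h h' => by rw [A2.cls M L A h', Nat.beq_refl] at h; cases h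
  obtain ⟨R, h1, h4, h5⟩ := A2.ext M L A
  have : Fact (Nat.Prime 2) := ⟨Nat.prime_two⟩
  refine ⟨f' 30, _, _, closure (sv E I8.n_x0), A2.ord1 A, A2.out M L A, fun g => by rw [← A2.fxs1 M L A]; rfl, I8.aut M,
    ha.1, hb.1, M.ne_of_pw (by decide +kernel),
    ((M.perp_cw0 FA.L2.pa).ge (M.mem_of_inB (w := FA.L2.pb) (by decide +kernel))).2, ha.2, hb.2, fun t ht ho => ?_,
    e1 ▸ e2 ▸ nc (by decide +kernel), e1 ▸ e3 ▸ nc (by decide +kernel), e2 ▸ e3 ▸ nc (by decide +kernel), fun g => ?_,
    A2.cent M (A2.fix1 M L A ▸ ha), fxs (ev f' FA.L2.s3), R, fun g => by rw [e3]; rfl,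
    (h1.core_spec (IsPGroup.of_card (n := 6) h5) Z2.core).1.symm, h4, h5, h1.quot⟩
  · obtain ⟨r, hr, h⟩ := FA.L2.a_all A t (ht ▸ pow_orderOf_eq_one t)
    have hi : lettersLe 30 [r] = true → False := fun hl => by
      obtain ⟨c, hc⟩ := isConj_iff.1 h.symm
      exact ho (hc ▸ inn_normal.conj_mem _ ⟨_, (L.ev hl).symm⟩ c)
    simp only [FA.L2.reps, List.mem_cons, List.not_mem_nil, or_false] at hr
    rcases hr with rfl | rfl | rfl | rfl | rfl | rfl | rfl
    exacts [(hi (by decide)).elim, (hi (by decide +kernel)).elim, (hi (by decide +kernel)).elim,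
      (hi (by decide +kernel)).elim, Or.inl (e1 ▸ h), Or.inr (Or.inl (e2 ▸ h)), Or.inr (Or.inr (e3 ▸ h))]
  · rw [← A2.fxs1 M L A, mem_inf, mem_centralizer_singleton_iff, mem_fxs]
    have key : Commute g (cw0 f w0 FA.L2.pa) → (f' 30 * MulAut.conj (cw0 f w0 FA.L2.pa)) g = f' 30 g := fun h => by
      rw [MulAut.mul_apply, MulAut.conj_apply, ← h.eq, mul_inv_cancel_right]
    refine ⟨fun h => ?_, fun h => (key h.2).trans h.1⟩
    have h6 : Commute g (cw0 f w0 FA.L2.pa) := A2.comm M (by
      rw [← beq_iff.1 A2.fx2, L.fix M.toTM A.reps (by decide), e2]; exact norm_Fx M.cjD h)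
    exact ⟨(key h6).symm.trans h, h6⟩

end Cfsg.Agent.S5472
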