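import Cfsg.Statements.S5522
import Cfsg.Agent.Leech.M24c

set_option autoImplicit false
open Cfsg

set_option maxRecDepth 1000000

namespace Cfsg.Agent.S5522

open CF.Comp CF.Comp.Mat CF.Bt CF.Leech CF.Leech.M MulAction


/-- The Mathieu group M₁₁, realised as the stabiliser of one point of the dodecad of squares inside the stabiliser M₁₂ of that dodecad in M₂₄, acts on the twelve coordinate positions outside the dodecad of squares (its 3-transitive action of degree 12); in this action every element of prime order fixes a point, i.e. the action is elusive. -/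
theorem result (g : Equiv.Perm Cfsg.GolayPt) (hg : g ∈ Cfsg.Spor.M11) (hord : (orderOf g).Prime) :
    ∃ x : Cfsg.GolayPt, x ∉ Cfsg.Spor.squareDodecad ∧ g x = x := by
  by_contra! h
  have h0 : (fx g).card ≠ 0 := Finset.card_ne_zero.2 ⟨some 0, Finset.mem_filter.2 ⟨Finset.mem_univ _, hg.2⟩⟩
  have h1 : (fx g).card < 5 := by
    by_contra! h1
    obtain ⟨s, hs, e⟩ := Finset.exists_subset_card_eq h1
    have y := (s.equivFinOfCardEq e).symm
    have h2 := fun i => (Finset.mem_filter.1 (hs (y i).2)).2
    rw [M12_eq_one hg.1 (fun i => y i) (Subtype.val_injective.comp y.injective)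
      (fun i => by_contra fun n => h _ n (h2 i)) h2, orderOf_one] at hord
    exact Nat.not_prime_one hord
  haveI := Fact.mk hord
  obtain ⟨a, ha⟩ := Equiv.Perm.exists_fixed_point_of_prime (p := orderOf g) (n := 1) (σ := g.subtypePerm
    (p := (· ∉ Spor.squareDodecad)) fun x => (M12_smul_mem hg.1 x).not) (fun hd => by
      rw [Fintype.card_subtype_compl, card_pts, Fintype.card_coe, sqD_mem.2] at hd
      rcases (Nat.Prime.dvd_mul hord).1 (show orderOf g ∣ 2 ^ 2 * 3 from hd) with e | e
      · rcases cls2 (ord_mk hg.1.1 ((Nat.prime_dvd_prime_iff_eq hord Nat.prime_two).1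
          (hord.dvd_of_dvd_pow e))) with e | e <;> exact absurd e.1 (by dsimp only; omega)
      · rcases cls3 (ord_mk hg.1.1 ((Nat.prime_dvd_prime_iff_eq hord Nat.prime_three).1 e)) with e | e <;>
          exact absurd e.1 (by dsimp only; omega))
    (by rw [Equiv.Perm.subtypePerm_pow]; simp; rfl)
  exact h a a.2 (congrArg Subtype.val ha)

end Cfsg.Agent.S5522
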