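import Cfsg.Statements.S5614
import Cfsg.Agent.Leech.M24c

set_option autoImplicit false
open scoped Pointwise
open Cfsg

set_option maxRecDepth 1000000

namespace Cfsg.Agent.S5614

open CF.Comp CF.Comp.Mat CF.Bt CF.Leech CF.Leech.M MulAction

noncomputable def M : MD := ⟨[[3, 1, 3, 3, 3, 1, 1, 4, 2, 3, 1], [1, 1, 1, 3, 2, 4, 4, 1, 4, 2, 3, 2], [2, 3, 2, 2, 4, 1, 1, 1, 4, 1, 3, 1, 3, 2]], [(nat_lit 2), (nat_lit 4), (nat_lit 8), (nat_lit 16384), (nat_lit 131072), (nat_lit 8388608)], [(Net.cons (nat_lit 1) (nat_lit 16) (Net.cons (nat_lit 4) (nat_lit 2) (Net.cons (nat_lit 2) (nat_lit 1) (Net.cons (nat_lit 1) (nat_lit 4) Net.nil)))), (Net.cons (nat_lit 2) (nat_lit 2) (Net.cons (nat_lit 4) (nat_lit 2) Net.nil)), (Net.cons (nat_lit 1) (nat_lit 4) (Net.cons (nat_lit 4) (nat_lit 2) (Net.cons (nat_lit 2) (nat_lit 2) Net.nil)))], [⟨0,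 [[1], [3], [5]], 3⟩, ⟨1, [[5], [1, 3, 2]], 3⟩, ⟨2, [[3, 5], [1, 3, 2]], 2⟩, ⟨4, [[2, 4, 6, 1], [6, 3, 5, 5]], 2⟩, ⟨3, [[6, 3, 5, 5]], 1⟩]⟩

/-- In the group of the length-24 code, the joint stabiliser of two octads meeting in exactly two points is isomorphic to the symmetric group of degree 6. -/
theorem result (o o' : Finset Cfsg.GolayPt) (ho : o ∈ Cfsg.octads) (ho' : o' ∈ Cfsg.octads) (h₂ : (o ∩ o').card = 2) : Nonempty (↥(MulAction.stabilizer Cfsg.M24 o ⊓ MulAction.stabilizer Cfsg.M24 o') ≃* Equiv.Perm (Fin 6)) := by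
  obtain ⟨g, hg, e⟩ := tOO ho ho' (a := 15777) (by decide +kernel) (h₂.trans (by decide +kernel))
  obtain ⟨rfl, rfl⟩ : g • oO = o ∧ g • ofMask 15777 = o' := by
    simpa [Prod.ext_iff] using e
  obtain ⟨e⟩ := ((Cj.stab (⟨g, hg⟩ : M24) oO).inf (Cj.stab _ (ofMask 15777))).equiv
  obtain ⟨e'⟩ := Exact.equiv_perm (md_exact r0 (M := M) (k := 6) (m := 3) (s := 720) (by decide +kernel) (mem_inf (mem_st r0 (a := 8536111) (by decide +kernel)) (mem_st r0 (a := 15777) (by decide +kernel)))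
    (Exact.card_eq (Exact.stab xO rO (by decide) (c' := [⟨1, [[3, 1, 3, 3, 3, 1, 1, 4, 2, 3, 1], [1, 1, 1, 3, 2, 4, 4, 1, 4, 2, 3, 2], [2, 3, 2, 2, 4, 1, 1, 1, 4, 1, 3, 1, 3, 2]], 3⟩, ⟨0, [[1, 1, 1, 3, 2, 4, 4, 1, 4, 2, 3, 2], [1, 1, 4, 1, 1, 1, 3, 3, 3, 1, 1, 3, 3, 2]], 1⟩, ⟨3, [[1, 1, 1, 3, 2, 4, 4, 1, 4, 2, 3, 2], [3, 1, 4, 1, 3, 3, 3, 1, 1, 3, 1, 1, 4, 1, 3]], 2⟩, ⟨2, [[1, 1, 1, 3, 2, 4, 4, 1, 4, 2, 3, 2], [2, 4, 4, 2, 2, 3, 2, 4, 1, 4, 4, 1, 1, 1, 1, 4]], 2⟩, ⟨6, [[4, 1, 1, 1, 4, 2, 2, 2, 4, 2, 2, 4, 1, 1, 1, 1, 1, 4]], 2⟩]) (mem_st r0 (a := 8536111) (by decide +kernel)) (b := 550) (k := 8) (x := ofMask 15777) (ptO' (by decide +kernel)) (by decide +kernel)) (by decide +kernel)).le) (by decide +kernel)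
  exact ⟨e.symm.trans e'⟩

end Cfsg.Agent.S5614
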