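import Cfsg.Statements.S5727
import Cfsg.Agent.Perm.Count

set_option autoImplicit false
open Cfsg

namespace Cfsg.Agent.S5727

/-- If a finite group acts faithfully and transitively on a set with m·p elements, where p is a prime and 1 ≤ m ≤ p, then some element of order p fixes no point. -/
theorem result {G Ω : Type*} [Group G] [Finite G] [MulAction G Ω] [FaithfulSMul G Ω] [Fintype Ω] (htr : MulAction.IsPretransitive G Ω)
    (p m : ℕ) (hp : p.Prime) (hm : 1 ≤ m) (hmp : m ≤ p) (hΩ : Fintype.card Ω = m * p) :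
    ∃ g : G, orderOf g = p ∧ ∀ ω : Ω, g • ω ≠ ω := by
  classical
  have := Fact.mk hp
  have h2 := hp.two_le
  obtain ⟨P⟩ : Nonempty (Sylow p G) := inferInstance
  have := Fintype.ofFinite P.1
  by_cases hP : MulAction.IsPretransitive P.1 Ω
  · have : Nontrivial Ω := Fintype.one_lt_card_iff_nontrivial.1 (by nlinarith)
    obtain ⟨g, -, h⟩ := CF.Perm.exists_center_derangement (Ω := Ω) P.1 P.2
    exact ⟨g, h⟩
  have h1 : ∀ ω : Ω, (MulAction.stabilizer P.1 ω).index = p := by
    intro ω
    obtain ⟨k, hk⟩ := P.2.index (MulAction.stabilizer P.1 ω)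
    rcases k with _ | _ | k
    · rw [pow_zero, Subgroup.index_eq_one] at hk
      refine absurd (Dvd.dvd.trans ?_ (Subgroup.index_dvd_of_le (H := P.1)
        (K := MulAction.stabilizer G ω) fun g hg => hk.ge (Subgroup.mem_top (⟨g, hg⟩ : P.1))))
        P.not_dvd_index
      rw [MulAction.index_stabilizer_of_transitive, Nat.card_eq_fintype_card, hΩ]
      exact Dvd.intro_left _ rfl
    · simpa using hk
    · refine absurd ((MulAction.isPretransitive_iff_orbit_eq_univ ω).2 ?_) hP
      rw [MulAction.index_stabilizer] at hk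
      refine Set.eq_of_subset_of_ncard_le (Set.subset_univ _) ?_
      rw [Set.ncard_univ, Nat.card_eq_fintype_card, hΩ, hk, pow_succ, pow_succ]
      exact Nat.mul_le_mul_right _ (hmp.trans (Nat.le_mul_of_pos_left _ (pow_pos hp.pos k)))
  have h3 : ∀ ω : Ω, (MulAction.stabilizer P.1 ω).Normal := fun ω =>
    Subgroup.normal_of_index_eq_minFac_card (by
      obtain ⟨k, hk⟩ := P.2.exists_card_eq
      have h3 := (MulAction.stabilizer P.1 ω).index_dvd_card
      rw [h1, hk] at h3 ⊢
      rw [hp.pow_minFac]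
      rintro rfl
      exact hp.one_lt.ne' (Nat.dvd_one.1 h3))
  obtain ⟨g, hg⟩ : ∃ g : P.1, ∀ ω : Ω, g • ω ≠ ω := by
    by_contra! h
    have h4 := CF.Perm.sum_card_fixedBy (G := P.1) (Ω := Ω)
    have h5 : p * ∑ ω : Ω, Nat.card (MulAction.stabilizer P.1 ω) = m * p * Fintype.card P.1 := by
      rw [Finset.mul_sum, ← hΩ, ← Finset.card_univ, ← smul_eq_mul, ← Finset.sum_const]
      exact Finset.sum_congr rfl fun ω _ => by
        rw [← Nat.card_eq_fintype_card (α := P.1), ← (MulAction.stabilizer P.1 ω).index_mul_card, h1]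
    have h6 := Finset.card_nsmul_le_sum (Finset.univ.erase 1)
      (fun g : P.1 => Nat.card (MulAction.fixedBy Ω g)) p fun g _ => by
        obtain ⟨ω, hω⟩ := h g
        refine (h1 ω).ge.trans ?_
        rw [MulAction.index_stabilizer, Nat.card_coe_set_eq]
        refine Set.ncard_le_ncard ?_
        rintro _ ⟨k, rfl⟩
        have := (h3 ω).conj_mem' g hω k
        rwa [MulAction.mem_stabilizer_iff, mul_smul, mul_smul, inv_smul_eq_iff] at this
    rw [← Finset.add_sum_erase _ _ (Finset.mem_univ 1), MulAction.fixedBy_one_eq_univ,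
      Nat.card_univ, Nat.card_eq_fintype_card, hΩ] at h4
    rw [Finset.card_erase_of_mem (Finset.mem_univ _), Finset.card_univ, smul_eq_mul] at h6
    have h7 : 1 < Fintype.card P.1 := by
      have : Nonempty Ω := Fintype.card_pos_iff.1 (by nlinarith)
      have := Nat.le_of_dvd Nat.card_pos (MulAction.stabilizer P.1 (Classical.arbitrary Ω)).index_dvd_card
      rw [h1, Nat.card_eq_fintype_card] at this
      omega
    obtain ⟨N, hN⟩ := Nat.exists_eq_add_of_lt h7
    rw [← h4, mul_assoc, mul_left_comm, Nat.mul_right_inj hp.ne_zero, hN] at h5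
    rw [hN, Nat.add_sub_cancel] at h6
    have := Nat.mul_le_mul_right (1 + N) hmp
    nlinarith
  have : Nonempty Ω := Fintype.card_pos_iff.1 (by nlinarith)
  refine ⟨g, orderOf_eq_prime ?_ ?_, hg⟩
  · refine FaithfulSMul.eq_of_smul_eq_smul (α := Ω) fun ω => ?_
    have := h3 ω
    have := (MulAction.stabilizer P.1 ω).pow_index_mem g
    rw [h1] at this
    rw [one_smul]; exact this
  · intro h
    exact hg (Classical.arbitrary Ω) (by rw [show g = 1 from Subtype.ext h, one_smul])

end Cfsg.Agent.S5727
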