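import Cfsg.Statements.S5728
import Mathlib

set_option autoImplicit false
open Cfsg

namespace Cfsg.Agent.S5728

/-- An elusive transitive action. Let p = 2^s − 1 be a prime and let F be the field with p² elements. Inside the group of affine maps x ↦ a·x + b of F (a ≠ 0), consider the subgroup of maps with both coefficients in the prime field. Then every element of prime order of the affine group is conjugate, within the affine group, to an element of that subgroup; equivalently, in the transitive action of the affine group on the cosets of that subgroup (of degree p(p + 1)) every element of prime order fixes a point. -/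
theorem result (p s : ℕ) [Fact p.Prime] (hs : p = 2 ^ s - 1)
    (g : Equiv.Perm (GaloisField p 2)) (hg : g ∈ Cfsg.affineGroup (GaloisField p 2)) (hord : (orderOf g).Prime) :
    ∃ x ∈ Cfsg.affineGroup (GaloisField p 2), ∃ a b : ZMod p, a ≠ 0 ∧
      ∀ y : GaloisField p 2, (x * g * x⁻¹) y = algebraMap (ZMod p) (GaloisField p 2) a * y + algebraMap (ZMod p) (GaloisField p 2) b := by
  have hp : p.Prime := Fact.out
  obtain ⟨a, b, hab⟩ := hg
  have hs2 : 2 ≤ s := by
    by_contra h
    have := hp.two_le
    interval_cases s <;> simp_all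
  have hps : p + 1 = 2 ^ s := by have := Nat.one_le_two_pow (n := s); omega
  by_cases ha : (a : GaloisField p 2) = 1
  · have hb : b ≠ 0 := by
      rintro rfl
      rw [show g = 1 from Equiv.ext (by simpa [ha] using hab), orderOf_one] at hord
      exact Nat.not_prime_one hord
    refine ⟨Equiv.mulLeft₀ b⁻¹ (inv_ne_zero hb), ⟨Units.mk0 _ (inv_ne_zero hb), 0, by simp⟩, 1, 1,
      one_ne_zero, fun y => ?_⟩
    simp [Equiv.Perm.inv_def, hab, ha, mul_add, hb]
  · have h1 : (1 - a : GaloisField p 2) ≠ 0 := sub_ne_zero.2 (Ne.symm ha)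
    set c := b / (1 - a) with hc
    have h2 : ∀ y, g (y + c) = a * y + c := fun y => by rw [hab, hc]; field_simp; ring
    have h3 : ∀ (n : ℕ) y, (g ^ n) (y + c) = a ^ n * y + c := by
      intro n
      induction n with
      | zero => simp
      | succ n ih => intro y; rw [pow_succ', Equiv.Perm.mul_apply, ih, h2]; ring
    have h4 : (a : GaloisField p 2) ^ orderOf g = 1 := by
      simpa [pow_orderOf_eq_one] using (h3 (orderOf g) 1).symm
    have := Fact.mk hord
    have h5 := orderOf_eq_prime h4 ha
    have := Fintype.ofFinite (GaloisField p 2)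
    have h6 := orderOf_dvd_of_pow_eq_one (FiniteField.pow_card_sub_one_eq_one _ a.ne_zero)
    rw [← Nat.card_eq_fintype_card, GaloisField.card p 2 two_ne_zero, h5,
      show p ^ 2 - 1 = (p + 1) * (p - 1) by simpa using Nat.sq_sub_sq p 1, hord.dvd_mul] at h6
    have h7 : orderOf g ∣ p - 1 := h6.elim (fun h => by
      rw [(Nat.prime_dvd_prime_iff_eq hord Nat.prime_two).1 (hord.dvd_of_dvd_pow (hps ▸ h))]
      have : 2 ∣ p + 1 := hps ▸ dvd_pow_self 2 (by omega)
      omega) id
    have h8 : (a : GaloisField p 2) ^ p = a := by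
      have := orderOf_dvd_iff_pow_eq_one.1 (h5 ▸ h7)
      rw [← pow_sub_one_mul hp.ne_zero, this, one_mul]
    obtain ⟨k, hk⟩ := (mem_bot_iff_intCast p _).1 ((Subfield.mem_bot_iff_pow_eq_self _ p).2 h8)
    refine ⟨Equiv.addRight (-c), ⟨1, -c, by simp⟩, k, 0, fun h => a.ne_zero ?_, fun y => ?_⟩
    · rw [← hk, ← map_intCast (algebraMap (ZMod p) (GaloisField p 2)), h, map_zero]
    · simp [Equiv.Perm.inv_def, h2, hk]

end Cfsg.Agent.S5728
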