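import Cfsg.Statements.S5740
import Cfsg.Agent.BN.Ss6

set_option autoImplicit false
open Cfsg

namespace Cfsg.Agent.S5740

section
open CF.BN CF.Chev CF.Chev.StRep CF.ExA Subgroup

set_option synthInstance.maxSize 1024

theorem of_cyc {X : Type*} [Group X] {p : ℕ} (hp : p.Prime) {P : Subgroup X}
    (hX : Nat.card X = 76532479683774853939200)
    (hP : Nat.card P = p ^ 1) (h : ¬ p ^ 2 ∣ 76532479683774853939200) {a : X} (ha : orderOf a = p)
    (h1 : ¬ IsCoatom (normalizer (zpowers a : Set X))) : ¬ IsCoatom (normalizer (P : Set X)) :=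
  have := Nat.finite_of_card_ne_zero (hX.trans_ne (by decide))
  (conj_of_card hp hP (by rw [Nat.card_zpowers, ha, pow_one]) (hX ▸ h)).elim fun g e =>
    not_coatom_conj g e h1

theorem seven {X : Type*} [Group X] [IsSimpleGroup X] (E : EF cE6 (cE6.wp l7) X) {P : Subgroup X}
    (hP : Nat.card P = 7) : ¬ IsCoatom (normalizer (P : Set X)) := by
  obtain ⟨ψ, hψ, H⟩ := exists_ψ (B := Fin 6) (K := E.K) (p := 2) (m := 7) (by decide)
  obtain ⟨g, rfl⟩ := P.isCyclic_iff_exists_zpowers_eq_top.1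
    (isCyclic_of_prime_card (hp := ⟨by decide⟩) hP)
  rw [Nat.card_zpowers] at hP
  have h1 : ∀ a, IsConj g a → ¬ IsCoatom (normalizer (zpowers a : Set X)) →
      ¬ IsCoatom (normalizer (zpowers g : Set X)) := fun a h => by
    obtain ⟨c, rfl⟩ := isConj_iff.1 h.symm
    exact not_coatom_conj c (by rw [MonoidHom.map_zpowers]; rfl)
  obtain ⟨x, hx, h⟩ := E.exists_rep (m := 7) (k := 5)
    (L := [[3, 5, 6, 9, 6, 3], [5, 6, 9, 12, 9, 5]]) (by decide) rfl (by decide +kernel) hψ H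
    (g := g) (by rintro rfl; simp at hP) (hP ▸ pow_orderOf_eq_one g)
  rcases List.mem_pair.1 hx with hx | hx
  · obtain rfl : x = x7 1 0 := List.ofFn_injective (hx.trans (by decide))
    exact h1 _ (h _ ⟨1, one_mem _, by simp [EF.el]⟩) (E.nomax_A hψ)
  · obtain rfl : x = ![5, 6, 9, 12, 9, 5] := List.ofFn_injective (hx.trans (by decide))
    refine h1 _ (h _ ⟨_, E.h.nw_mem_Alg [5, 4, 3, 2, 1, 3, 4, 5, 3, 2, 1, 3, 4, 0, 2, 0], ?_⟩)
      (E.nomax_B hψ)
    rw [conj_tor _ (E.ρ.acts_nw _), Mw_wp, mp_ψ_eq ψ (y := x7 0 1) (by decide +kernel)]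
    rfl

variable {X : Type*} [Group X] [IsSimpleGroup X] (hX : Nat.card X = 76532479683774853939200)
  {P : Subgroup X}
include hX

theorem p11 (E : EF cE6 (cE6.wp [1, 2, 3, 2, 4, 3, 1, 2, 0, 3, 4, 5, 4, 3, 1, 2, 0, 3, 2, 4, 3, 5,
    4]) X) (hP : Nat.card P = 11 ^ 1) : ¬ IsCoatom (normalizer (P : Set X)) := by
  obtain ⟨ψ, hψ, -⟩ := exists_ψ (B := Fin 6) (K := E.K) (p := 2) (m := 11) (by decide)
  exact of_cyc (by decide) hX hP (by decide) (E.orderOf_el (x := ![7, 10, 13, 19, 14, 8])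
    (h := by decide +kernel) (by decide) hψ 56 (by decide +kernel)) (E.nomax_fwd
    (us := ![1, 0, 0, 2, 2, 1]) (ε := 1) (Ψ := [42]) (by decide) (by decide) hψ
    (by unfold Chk3; decide +kernel) (by decide +kernel) 2 (by decide +kernel) [1, 4, 5, 4] (r := 3)
    (k := 2) (n := 66) (by decide) ![2, 1, 0, 7, 0, 2] !![-26, 36, 0, -16, 8, 4;
    -12, 42, 0, -48, 24, 12; -64, 48, 66, -80, 40, 20; -36, 60, 0, -78, 72, 36;
    -8, 72, 0, -76, 38, 52; 8, 60, 0, -56, 28, 14] (by decide +kernel))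

theorem p13 (E : EF cE6 (cE6.wp [0, 2, 3, 1, 2, 0, 3, 4, 3, 1, 5, 4, 3, 1, 2, 0, 3, 2, 4, 3, 5,
    4]) X) (hP : Nat.card P = 13 ^ 1) : ¬ IsCoatom (normalizer (P : Set X)) := by
  obtain ⟨ψ, hψ, -⟩ := exists_ψ (B := Fin 6) (K := E.K) (p := 2) (m := 13) (by decide)
  exact of_cyc (by decide) hX hP (by decide) (E.orderOf_el (x := ![8, 11, 15, 21, 15, 8])
    (h := by decide +kernel) (by decide) hψ 56 (by decide +kernel)) (E.nomax_fwd
    (us := ![1, 0, 1, 0, 2, 2]) (ε := 1) (Ψ := []) (by decide) (by decide) hψ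
    (by unfold Chk3; decide +kernel) (by decide +kernel) 0 (by decide +kernel) [3] (r := 7)
    (k := 1) (n := 78) (by decide) ![1, 2, 6, 5, 6, 1] !![34, -36, -68, 72, -16, 8;
    24, -30, -48, 60, -48, 24; 80, -48, -82, 96, -56, 28; 60, -36, -120, 150, -120, 60;
    28, -48, -56, 96, -82, 80; 8, -36, -16, 72, -68, 34] (by decide +kernel))

theorem p17 (E : EF cE6 (cE6.wp [1, 2, 0, 3, 1, 4, 3, 1, 2, 0, 3, 2, 4, 3, 5, 4, 3, 2, 0]) X)
    (hP : Nat.card P = 17 ^ 1) : ¬ IsCoatom (normalizer (P : Set X)) := by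
  obtain ⟨ψ, hψ, -⟩ := exists_ψ (B := Fin 6) (K := E.K) (p := 2) (m := 17) (by decide)
  exact of_cyc (by decide) hX hP (by decide) (E.orderOf_el (x := ![9, 13, 17, 24, 17, 9])
    (h := by decide +kernel) (by decide) hψ 56 (by decide +kernel)) (E.nomax_fwd
    (us := ![1, 0, 0, 0, 0, 2]) (ε := 1) (Ψ := []) (by decide) (by decide) hψ
    (by unfold Chk3; decide +kernel) (by decide +kernel) 0 (by decide +kernel) [2, 4] (r := 5)
    (k := 1) (n := 102) (by decide) ![1, 3, 2, 0, 2, 1] !![-62, -12, 48, -24, 48, -28;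
    -48, -6, 24, -12, 24, -48; -136, 0, 102, 0, 0, -68; -120, 36, 60, -30, 60, -120;
    -68, 0, 0, 0, 102, -136; -28, -12, 48, -24, 48, -62] (by decide +kernel))

theorem p19 (E : EF cE6 (cE6.wp [0, 3, 1, 2, 4, 3, 1, 2, 3, 5, 4, 3, 1, 2, 3, 4]) X)
    (hP : Nat.card P = 19 ^ 1) : ¬ IsCoatom (normalizer (P : Set X)) := by
  obtain ⟨ψ, hψ, -⟩ := exists_ψ (B := Fin 6) (K := E.K) (p := 2) (m := 19) (by decide)
  exact of_cyc (by decide) hX hP (by decide) (E.orderOf_el (x := ![13, 18, 25, 35, 26, 15])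
    (h := by decide +kernel) (by decide) hψ 56 (by decide +kernel)) (E.nomax_fwd
    (us := ![1, 2, 0, 2, 1, 2]) (ε := 1) (Ψ := []) (by decide) (by decide) hψ
    (by unfold Chk3; decide +kernel) (by decide +kernel) 0 (by decide +kernel) [2] (r := 7)
    (k := 1) (n := 114) (by decide) ![5, 5, 5, 2, 3, 1] !![34, 32, -36, -16, -8, -4;
    12, 18, -120, 48, 24, 12; 80, -32, -78, 16, 8, 4; 36, -60, -132, 30, 72, 36;
    -8, -88, -72, 44, 22, 68; -28, -80, -24, 40, 20, 10] (by decide +kernel))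

end

/-- In the simple group ²E₆(2) (the twisted group of type E₆ over the field with 4 elements), for every prime p > 5 no p-local subgroup is maximal: the normaliser of a non-trivial p-subgroup is never a maximal subgroup. -/
theorem result {K : Type*} [Field K] [Fintype K] (hK : Fintype.card K = 4) (p : ℕ) (hp : p.Prime) (h5 : 5 < p)
    (P : Subgroup (Cfsg.Lie.twistedE6 K 2)) (hP : IsPGroup p P) (hP1 : P ≠ ⊥) :
    ¬ IsCoatom (Subgroup.normalizer (P : Set (Cfsg.Lie.twistedE6 K 2))) := by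
  open CF.BN CF.Chev CF.ExA in
  have h0 := (CF.BN.E6_simple Nat.prime_two.isPrimePow hK).1
  have h1 : Nat.card (Lie.twistedE6 K 2) = 76532479683774853939200 := by
    have := CF.BN.E6_card Nat.prime_two.isPrimePow hK
    norm_num at this ⊢
    omega
  obtain ⟨k, hk⟩ := (@IsPGroup.iff_card _ _ _ ⟨hp⟩ (Nat.finite_of_card_ne_zero
      ((Nat.pos_of_dvd_of_pos P.card_subgroup_dvd_card (h1 ▸ by decide)).ne'))).1 hP
  have h2 : p ^ k ∣ 76532479683774853939200 := h1 ▸ hk ▸ P.card_subgroup_dvd_card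
  have h3 : k ≠ 0 := by rintro rfl; exact hP1 (Subgroup.card_eq_one.1 hk)
  have h4 : ∀ n, ¬ p ^ (n + 1) ∣ 76532479683774853939200 → k ≤ n := fun n h =>
    Nat.le_of_not_lt fun e => h ((pow_dvd_pow p e).trans h2)
  have h6 : ∀ a b : ℕ, p ∣ a ^ b → 0 < a → p ≤ a := fun a b h e =>
      Nat.le_of_dvd e (hp.dvd_of_dvd_pow h)
  have h7 : p ≤ 19 := by
    have := (dvd_pow_self p h3).trans h2
    rw [show 76532479683774853939200 = 2 ^ 36 * 3 ^ 9 * 5 ^ 2 * 7 ^ 2 * 11 ^ 1 * 13 ^ 1 * 17 ^ 1 *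
      19 ^ 1 from rfl] at this
    simp only [hp.dvd_mul] at this
    rcases this with ((((((h | h) | h) | h) | h) | h) | h) | h <;> have := h6 _ _ h (by decide) <;> omega
  have h8 : ¬ p ^ 2 ∣ 76532479683774853939200 → Nat.card P = p ^ 1 := fun h => by
    rw [hk, show k = 1 by have := h4 1 h; omega]
  interval_cases p <;> try exact absurd hp (by decide)
  · obtain ⟨E⟩ := CF.BN.exists_EF hK CF.BN.l7
    obtain rfl | rfl : k = 1 ∨ k = 2 := by have := h4 2 (by decide); omega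
    · exact seven E hk
    · obtain ⟨ψ, hψ, -⟩ := CF.ExA.exists_ψ (B := Fin 6) (K := E.K) (p := 2) (m := 7) (by decide)
      obtain ⟨Q, h9, h10⟩ := E.nomax_49 hψ
      obtain ⟨g, e⟩ := CF.BN.conj_of_card hp hk h9 (by rw [h1]; decide)
      exact CF.BN.not_coatom_conj g e h10
  · exact p11 h1 (CF.BN.exists_EF hK _).some (h8 (by decide))
  · exact p13 h1 (CF.BN.exists_EF hK _).some (h8 (by decide))
  · exact p17 h1 (CF.BN.exists_EF hK _).some (h8 (by decide))
  · exact p19 h1 (CF.BN.exists_EF hK _).some (h8 (by decide))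

end Cfsg.Agent.S5740
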