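import Cfsg.Statements.S5763
import Cfsg.Agent.Perm.Sift

set_option autoImplicit false
open Cfsg

namespace Cfsg.Agent.S5763

open CF.Perm.SS Equiv Subgroup

def C : List CF.Perm.SS.Lvl := [
  ⟨0, [[1, 0, 2, 3, 4, 5, 6, 7], [2, 3, 0, 1, 4, 5, 6, 7], [4, 5, 6, 7, 0, 1, 2, 3]],
    [(0, [], [0, 1, 2, 3, 4, 5, 6, 7]),
     (1, [0], [1, 0, 2, 3, 4, 5, 6, 7]),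
     (2, [1], [2, 3, 0, 1, 4, 5, 6, 7]),
     (4, [2], [4, 5, 6, 7, 0, 1, 2, 3]),
     (3, [0, 1], [2, 3, 1, 0, 4, 5, 6, 7]),
     (5, [0, 2], [4, 5, 6, 7, 1, 0, 2, 3]),
     (6, [1, 2], [4, 5, 6, 7, 2, 3, 0, 1]),
     (7, [0, 1, 2], [4, 5, 6, 7, 2, 3, 1, 0])],
    [[1, 0, 1], [2, 0, 2], [2, 1, 2]]⟩,
  ⟨2, [[0, 1, 3, 2, 4, 5, 6, 7], [0, 1, 2, 3, 5, 4, 6, 7], [0, 1, 2, 3, 6, 7, 4, 5]],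
    [(2, [], [0, 1, 2, 3, 4, 5, 6, 7]),
     (3, [0], [0, 1, 3, 2, 4, 5, 6, 7])],
    [[1], [2]]⟩,
  ⟨4, [[0, 1, 2, 3, 5, 4, 6, 7], [0, 1, 2, 3, 6, 7, 4, 5]],
    [(4, [], [0, 1, 2, 3, 4, 5, 6, 7]),
     (5, [0], [0, 1, 2, 3, 5, 4, 6, 7]),
     (6, [1], [0, 1, 2, 3, 6, 7, 4, 5]),
     (7, [0, 1], [0, 1, 2, 3, 6, 7, 5, 4])],
    [[1, 0, 1]]⟩,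
  ⟨6, [[0, 1, 2, 3, 4, 5, 7, 6]],
    [(6, [], [0, 1, 2, 3, 4, 5, 6, 7]),
     (7, [0], [0, 1, 2, 3, 4, 5, 7, 6])],
    []⟩]

def R : List (List ℕ × List ℕ × List ℕ × List ℕ) := [
  ([0, 1, 2, 3, 4, 5, 6, 7], [0, 1, 2, 3, 4, 5, 6, 7], [0, 7, 5, 6, 1, 2, 3, 4], [0, 1, 2, 3, 4, 5, 7, 6]),
  ([0, 7, 5, 6, 1, 2, 3, 4], [0, 2, 3, 4, 1, 7, 5, 6], [0, 1, 6, 7, 2, 3, 4, 5], [4, 5, 6, 7, 0, 1, 2, 3]),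
  ([0, 2, 3, 4, 1, 7, 5, 6], [0, 7, 5, 6, 1, 2, 3, 4], [0, 2, 6, 7, 1, 3, 4, 5], [5, 4, 6, 7, 1, 0, 2, 3]),
  ([0, 1, 6, 7, 2, 3, 4, 5], [0, 1, 6, 7, 2, 3, 4, 5], [0, 7, 1, 2, 3, 4, 5, 6], [0, 1, 2, 3, 4, 5, 7, 6]),
  ([0, 2, 6, 7, 1, 3, 4, 5], [0, 3, 4, 5, 1, 2, 6, 7], [0, 7, 1, 3, 2, 4, 5, 6], [0, 1, 2, 3, 4, 5, 7, 6]),
  ([0, 7, 1, 2, 3, 4, 5, 6], [0, 2, 1, 7, 3, 4, 5, 6], [0, 1, 2, 3, 4, 5, 6, 7], [4, 5, 6, 7, 0, 1, 2, 3]),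
  ([0, 3, 4, 5, 1, 2, 6, 7], [0, 2, 6, 7, 1, 3, 4, 5], [0, 7, 2, 3, 1, 4, 5, 6], [0, 1, 2, 3, 4, 5, 7, 6]),
  ([0, 7, 1, 3, 2, 4, 5, 6], [0, 3, 1, 7, 2, 4, 5, 6], [0, 1, 2, 4, 3, 5, 6, 7], [4, 5, 7, 6, 0, 1, 3, 2]),
  ([0, 2, 1, 7, 3, 4, 5, 6], [0, 7, 1, 2, 3, 4, 5, 6], [0, 2, 1, 3, 4, 5, 6, 7], [5, 4, 6, 7, 1, 0, 2, 3]),
  ([0, 7, 2, 3, 1, 4, 5, 6], [0, 4, 5, 6, 1, 7, 2, 3], [0, 1, 3, 4, 2, 5, 6, 7], [0, 1, 3, 2, 4, 5, 6, 7]),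
  ([0, 3, 1, 7, 2, 4, 5, 6], [0, 7, 1, 3, 2, 4, 5, 6], [0, 2, 1, 4, 3, 5, 6, 7], [5, 4, 7, 6, 1, 0, 3, 2]),
  ([0, 1, 2, 4, 3, 5, 6, 7], [0, 1, 2, 4, 3, 5, 6, 7], [0, 7, 4, 6, 1, 2, 3, 5], [0, 1, 2, 3, 4, 5, 7, 6]),
  ([0, 2, 1, 3, 4, 5, 6, 7], [0, 3, 1, 2, 4, 5, 6, 7], [0, 7, 5, 6, 1, 3, 2, 4], [0, 1, 2, 3, 4, 5, 7, 6]),
  ([0, 4, 5, 6, 1, 7, 2, 3], [0, 7, 2, 3, 1, 4, 5, 6], [0, 2, 3, 4, 1, 5, 6, 7], [0, 1, 3, 2, 4, 5, 6, 7]),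
  ([0, 1, 3, 4, 2, 5, 6, 7], [0, 1, 3, 4, 2, 5, 6, 7], [0, 7, 3, 6, 1, 2, 4, 5], [0, 1, 2, 3, 4, 5, 7, 6]),
  ([0, 2, 1, 4, 3, 5, 6, 7], [0, 4, 1, 2, 3, 5, 6, 7], [0, 7, 4, 6, 1, 3, 2, 5], [0, 1, 2, 3, 4, 5, 7, 6]),
  ([0, 7, 4, 6, 1, 2, 3, 5], [0, 2, 3, 5, 1, 7, 4, 6], [0, 1, 5, 7, 2, 3, 4, 6], [5, 4, 6, 7, 1, 0, 2, 3]),
  ([0, 3, 1, 2, 4, 5, 6, 7], [0, 2, 1, 3, 4, 5, 6, 7], [0, 7, 5, 6, 1, 4, 2, 3], [0, 1, 2, 3, 4, 5, 7, 6]),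
  ([0, 7, 5, 6, 1, 3, 2, 4], [0, 3, 2, 4, 1, 7, 5, 6], [0, 1, 6, 7, 2, 4, 3, 5], [4, 5, 7, 6, 0, 1, 3, 2]),
  ([0, 2, 3, 4, 1, 5, 6, 7], [0, 5, 6, 7, 1, 2, 3, 4], [0, 7, 2, 6, 1, 3, 4, 5], [0, 1, 2, 3, 4, 5, 7, 6]),
  ([0, 7, 3, 6, 1, 2, 4, 5], [0, 2, 4, 5, 1, 7, 3, 6], [0, 1, 4, 7, 2, 3, 5, 6], [0, 1, 2, 3, 5, 4, 6, 7]),
  ([0, 4, 1, 2, 3, 5, 6, 7], [0, 2, 1, 4, 3, 5, 6, 7], [0, 7, 4, 6, 1, 5, 2, 3], [0, 1, 2, 3, 4, 5, 7, 6]),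
  ([0, 7, 4, 6, 1, 3, 2, 5], [0, 3, 2, 5, 1, 7, 4, 6], [0, 1, 5, 7, 2, 4, 3, 6], [5, 4, 7, 6, 1, 0, 3, 2]),
  ([0, 2, 3, 5, 1, 7, 4, 6], [0, 7, 4, 6, 1, 2, 3, 5], [0, 2, 5, 7, 1, 3, 4, 6], [4, 5, 6, 7, 0, 1, 2, 3]),
  ([0, 1, 5, 7, 2, 3, 4, 6], [0, 1, 5, 7, 2, 3, 4, 6], [0, 6, 1, 2, 3, 4, 5, 7], [0, 1, 2, 3, 6, 7, 4, 5]),
  ([0, 7, 5, 6, 1, 4, 2, 3], [0, 4, 2, 3, 1, 7, 5, 6], [0, 1, 6, 7, 2, 5, 3, 4], [0, 1, 3, 2, 4, 5, 6, 7]),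
  ([0, 3, 2, 4, 1, 7, 5, 6], [0, 7, 5, 6, 1, 3, 2, 4], [0, 2, 6, 7, 1, 4, 3, 5], [5, 4, 7, 6, 1, 0, 3, 2]),
  ([0, 1, 6, 7, 2, 4, 3, 5], [0, 1, 6, 7, 2, 4, 3, 5], [0, 7, 1, 2, 3, 5, 4, 6], [0, 1, 2, 3, 4, 5, 7, 6]),
  ([0, 5, 6, 7, 1, 2, 3, 4], [0, 2, 3, 4, 1, 5, 6, 7], [0, 7, 1, 6, 2, 3, 4, 5], [0, 1, 2, 3, 4, 5, 7, 6]),
  ([0, 7, 2, 6, 1, 3, 4, 5], [0, 3, 4, 5, 1, 7, 2, 6], [0, 1, 3, 7, 2, 4, 5, 6], [0, 1, 2, 3, 5, 4, 6, 7]),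
  ([0, 2, 4, 5, 1, 7, 3, 6], [0, 7, 3, 6, 1, 2, 4, 5], [0, 2, 4, 7, 1, 3, 5, 6], [0, 1, 2, 3, 5, 4, 6, 7]),
  ([0, 1, 4, 7, 2, 3, 5, 6], [0, 1, 4, 7, 2, 3, 5, 6], [0, 5, 1, 2, 3, 4, 6, 7], [0, 1, 2, 3, 7, 6, 5, 4]),
  ([0, 7, 4, 6, 1, 5, 2, 3], [0, 5, 2, 3, 1, 7, 4, 6], [0, 1, 5, 7, 2, 6, 3, 4], [0, 1, 3, 2, 4, 5, 6, 7]),
  ([0, 3, 2, 5, 1, 7, 4, 6], [0, 7, 4, 6, 1, 3, 2, 5], [0, 2, 5, 7, 1, 4, 3, 6], [4, 5, 7, 6, 0, 1, 3, 2]),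
  ([0, 1, 5, 7, 2, 4, 3, 6], [0, 1, 5, 7, 2, 4, 3, 6], [0, 6, 1, 2, 3, 5, 4, 7], [0, 1, 3, 2, 6, 7, 4, 5]),
  ([0, 2, 5, 7, 1, 3, 4, 6], [0, 3, 4, 6, 1, 2, 5, 7], [0, 6, 1, 3, 2, 4, 5, 7], [0, 1, 2, 3, 6, 7, 4, 5]),
  ([0, 6, 1, 2, 3, 4, 5, 7], [0, 2, 1, 6, 3, 4, 5, 7], [0, 6, 4, 5, 1, 7, 2, 3], [4, 5, 7, 6, 0, 1, 3, 2]),
  ([0, 4, 2, 3, 1, 7, 5, 6], [0, 7, 5, 6, 1, 4, 2, 3], [0, 2, 6, 7, 1, 5, 3, 4], [0, 1, 3, 2, 4, 5, 6, 7]),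
  ([0, 1, 6, 7, 2, 5, 3, 4], [0, 1, 6, 7, 2, 5, 3, 4], [0, 7, 1, 2, 3, 6, 4, 5], [0, 1, 2, 3, 4, 5, 7, 6]),
  ([0, 2, 6, 7, 1, 4, 3, 5], [0, 4, 3, 5, 1, 2, 6, 7], [0, 7, 1, 3, 2, 5, 4, 6], [0, 1, 2, 3, 4, 5, 7, 6]),
  ([0, 7, 1, 2, 3, 5, 4, 6], [0, 2, 1, 7, 3, 5, 4, 6], [0, 1, 2, 3, 4, 6, 5, 7], [5, 4, 6, 7, 1, 0, 2, 3]),
  ([0, 7, 1, 6, 2, 3, 4, 5], [0, 6, 1, 7, 2, 3, 4, 5], [0, 1, 2, 7, 3, 4, 5, 6], [0, 1, 2, 3, 5, 4, 6, 7]),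
  ([0, 3, 4, 5, 1, 7, 2, 6], [0, 7, 2, 6, 1, 3, 4, 5], [0, 2, 3, 7, 1, 4, 5, 6], [0, 1, 2, 3, 5, 4, 6, 7]),
  ([0, 1, 3, 7, 2, 4, 5, 6], [0, 1, 3, 7, 2, 4, 5, 6], [0, 4, 1, 2, 3, 5, 6, 7], [1, 0, 2, 3, 4, 5, 6, 7]),
  ([0, 2, 4, 7, 1, 3, 5, 6], [0, 3, 5, 6, 1, 2, 4, 7], [0, 5, 1, 3, 2, 4, 6, 7], [0, 1, 2, 3, 7, 6, 5, 4]),
  ([0, 5, 1, 2, 3, 4, 6, 7], [0, 2, 1, 5, 3, 4, 6, 7], [0, 7, 4, 5, 1, 6, 2, 3], [0, 1, 2, 3, 4, 5, 7, 6]),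
  ([0, 5, 2, 3, 1, 7, 4, 6], [0, 7, 4, 6, 1, 5, 2, 3], [0, 2, 5, 7, 1, 6, 3, 4], [0, 1, 3, 2, 4, 5, 6, 7]),
  ([0, 1, 5, 7, 2, 6, 3, 4], [0, 1, 5, 7, 2, 6, 3, 4], [0, 6, 1, 2, 3, 7, 4, 5], [0, 1, 3, 2, 6, 7, 4, 5]),
  ([0, 2, 5, 7, 1, 4, 3, 6], [0, 4, 3, 6, 1, 2, 5, 7], [0, 6, 1, 3, 2, 5, 4, 7], [2, 3, 0, 1, 6, 7, 4, 5]),
  ([0, 6, 1, 2, 3, 5, 4, 7], [0, 2, 1, 6, 3, 5, 4, 7], [0, 5, 4, 6, 1, 7, 2, 3], [5, 4, 7, 6, 1, 0, 3, 2]),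
  ([0, 3, 4, 6, 1, 2, 5, 7], [0, 2, 5, 7, 1, 3, 4, 6], [0, 6, 2, 3, 1, 4, 5, 7], [0, 1, 2, 3, 6, 7, 4, 5]),
  ([0, 6, 1, 3, 2, 4, 5, 7], [0, 3, 1, 6, 2, 4, 5, 7], [0, 6, 3, 5, 1, 7, 2, 4], [4, 5, 6, 7, 0, 1, 2, 3]),
  ([0, 2, 1, 6, 3, 4, 5, 7], [0, 6, 1, 2, 3, 4, 5, 7], [0, 6, 4, 5, 1, 3, 2, 7], [5, 4, 7, 6, 1, 0, 3, 2]),
  ([0, 6, 4, 5, 1, 7, 2, 3], [0, 7, 2, 3, 1, 6, 4, 5], [0, 2, 3, 4, 1, 7, 5, 6], [0, 1, 2, 3, 5, 4, 6, 7]),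
  ([0, 2, 6, 7, 1, 5, 3, 4], [0, 5, 3, 4, 1, 2, 6, 7], [0, 7, 1, 3, 2, 6, 4, 5], [0, 1, 2, 3, 4, 5, 7, 6]),
  ([0, 7, 1, 2, 3, 6, 4, 5], [0, 2, 1, 7, 3, 6, 4, 5], [0, 1, 2, 3, 4, 7, 5, 6], [0, 1, 2, 3, 5, 4, 6, 7]),
  ([0, 4, 3, 5, 1, 2, 6, 7], [0, 2, 6, 7, 1, 4, 3, 5], [0, 7, 2, 3, 1, 5, 4, 6], [0, 1, 2, 3, 4, 5, 7, 6]),
  ([0, 7, 1, 3, 2, 5, 4, 6], [0, 3, 1, 7, 2, 5, 4, 6], [0, 1, 2, 4, 3, 6, 5, 7], [5, 4, 7, 6, 1, 0, 3, 2]),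
  ([0, 2, 1, 7, 3, 5, 4, 6], [0, 7, 1, 2, 3, 5, 4, 6], [0, 2, 1, 3, 4, 6, 5, 7], [4, 5, 6, 7, 0, 1, 2, 3]),
  ([0, 1, 2, 3, 4, 6, 5, 7], [0, 1, 2, 3, 4, 6, 5, 7], [0, 6, 5, 7, 1, 2, 3, 4], [0, 1, 2, 3, 5, 4, 7, 6]),
  ([0, 6, 1, 7, 2, 3, 4, 5], [0, 7, 1, 6, 2, 3, 4, 5], [0, 2, 1, 7, 3, 4, 5, 6], [0, 1, 2, 3, 5, 4, 6, 7]),
  ([0, 1, 2, 7, 3, 4, 5, 6], [0, 1, 2, 7, 3, 4, 5, 6], [0, 3, 1, 2, 4, 5, 6, 7], [1, 0, 2, 3, 4, 5, 6, 7]),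
  ([0, 2, 3, 7, 1, 4, 5, 6], [0, 4, 5, 6, 1, 2, 3, 7], [0, 4, 1, 3, 2, 5, 6, 7], [6, 7, 5, 4, 3, 2, 0, 1]),
  ([0, 3, 5, 6, 1, 2, 4, 7], [0, 2, 4, 7, 1, 3, 5, 6], [0, 5, 2, 3, 1, 4, 6, 7], [0, 1, 2, 3, 7, 6, 5, 4]),
  ([0, 5, 1, 3, 2, 4, 6, 7], [0, 3, 1, 5, 2, 4, 6, 7], [0, 7, 3, 5, 1, 6, 2, 4], [0, 1, 2, 3, 4, 5, 7, 6]),
  ([0, 2, 1, 5, 3, 4, 6, 7], [0, 5, 1, 2, 3, 4, 6, 7], [0, 7, 4, 5, 1, 3, 2, 6], [0, 1, 2, 3, 4, 5, 7, 6]),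
  ([0, 7, 4, 5, 1, 6, 2, 3], [0, 6, 2, 3, 1, 7, 4, 5], [0, 1, 5, 6, 2, 7, 3, 4], [0, 1, 2, 3, 5, 4, 6, 7]),
  ([0, 2, 5, 7, 1, 6, 3, 4], [0, 6, 3, 4, 1, 2, 5, 7], [0, 6, 1, 3, 2, 7, 4, 5], [2, 3, 0, 1, 6, 7, 4, 5]),
  ([0, 6, 1, 2, 3, 7, 4, 5], [0, 2, 1, 6, 3, 7, 4, 5], [0, 4, 5, 6, 1, 7, 2, 3], [0, 1, 2, 3, 5, 4, 6, 7]),
  ([0, 4, 3, 6, 1, 2, 5, 7], [0, 2, 5, 7, 1, 4, 3, 6], [0, 6, 2, 3, 1, 5, 4, 7], [3, 2, 1, 0, 6, 7, 4, 5]),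
  ([0, 6, 1, 3, 2, 5, 4, 7], [0, 3, 1, 6, 2, 5, 4, 7], [0, 5, 3, 6, 1, 7, 2, 4], [5, 4, 6, 7, 1, 0, 2, 3]),
  ([0, 2, 1, 6, 3, 5, 4, 7], [0, 6, 1, 2, 3, 5, 4, 7], [0, 5, 4, 6, 1, 3, 2, 7], [4, 5, 7, 6, 0, 1, 3, 2]),
  ([0, 5, 4, 6, 1, 7, 2, 3], [0, 7, 2, 3, 1, 5, 4, 6], [0, 2, 3, 4, 1, 6, 5, 7], [0, 1, 3, 2, 4, 5, 6, 7]),
  ([0, 6, 2, 3, 1, 4, 5, 7], [0, 4, 5, 7, 1, 6, 2, 3], [0, 6, 2, 5, 1, 7, 3, 4], [0, 1, 3, 2, 4, 5, 6, 7]),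
  ([0, 3, 1, 6, 2, 4, 5, 7], [0, 6, 1, 3, 2, 4, 5, 7], [0, 6, 3, 5, 1, 4, 2, 7], [5, 4, 6, 7, 1, 0, 2, 3]),
  ([0, 6, 3, 5, 1, 7, 2, 4], [0, 7, 2, 4, 1, 6, 3, 5], [0, 2, 3, 5, 1, 7, 4, 6], [1, 0, 3, 2, 5, 4, 7, 6]),
  ([0, 6, 4, 5, 1, 3, 2, 7], [0, 3, 2, 7, 1, 6, 4, 5], [0, 3, 2, 4, 1, 7, 5, 6], [0, 1, 2, 3, 5, 4, 6, 7]),
  ([0, 7, 2, 3, 1, 6, 4, 5], [0, 6, 4, 5, 1, 7, 2, 3], [0, 1, 3, 4, 2, 7, 5, 6], [0, 1, 2, 3, 5, 4, 6, 7]),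
  ([0, 5, 3, 4, 1, 2, 6, 7], [0, 2, 6, 7, 1, 5, 3, 4], [0, 7, 2, 3, 1, 6, 4, 5], [0, 1, 2, 3, 4, 5, 7, 6]),
  ([0, 7, 1, 3, 2, 6, 4, 5], [0, 3, 1, 7, 2, 6, 4, 5], [0, 1, 2, 4, 3, 7, 5, 6], [0, 1, 2, 3, 5, 4, 6, 7]),
  ([0, 2, 1, 7, 3, 6, 4, 5], [0, 7, 1, 2, 3, 6, 4, 5], [0, 2, 1, 3, 4, 7, 5, 6], [0, 1, 2, 3, 5, 4, 6, 7]),
  ([0, 1, 2, 3, 4, 7, 5, 6], [0, 1, 2, 3, 4, 7, 5, 6], [0, 5, 6, 7, 1, 2, 3, 4], [0, 1, 2, 3, 5, 4, 7, 6]),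
  ([0, 7, 2, 3, 1, 5, 4, 6], [0, 5, 4, 6, 1, 7, 2, 3], [0, 1, 3, 4, 2, 6, 5, 7], [0, 1, 3, 2, 4, 5, 6, 7]),
  ([0, 3, 1, 7, 2, 5, 4, 6], [0, 7, 1, 3, 2, 5, 4, 6], [0, 2, 1, 4, 3, 6, 5, 7], [4, 5, 7, 6, 0, 1, 3, 2]),
  ([0, 1, 2, 4, 3, 6, 5, 7], [0, 1, 2, 4, 3, 6, 5, 7], [0, 6, 4, 7, 1, 2, 3, 5], [1, 0, 2, 3, 4, 5, 6, 7]),
  ([0, 2, 1, 3, 4, 6, 5, 7], [0, 3, 1, 2, 4, 6, 5, 7], [0, 6, 5, 7, 1, 3, 2, 4], [0, 1, 2, 3, 5, 4, 7, 6]),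
  ([0, 6, 5, 7, 1, 2, 3, 4], [0, 2, 3, 4, 1, 6, 5, 7], [0, 6, 1, 7, 2, 3, 4, 5], [4, 5, 7, 6, 0, 1, 3, 2]),
  ([0, 4, 5, 6, 1, 2, 3, 7], [0, 2, 3, 7, 1, 4, 5, 6], [0, 4, 2, 3, 1, 5, 6, 7], [7, 6, 5, 4, 3, 2, 1, 0]),
  ([0, 4, 1, 3, 2, 5, 6, 7], [0, 3, 1, 4, 2, 5, 6, 7], [0, 7, 3, 6, 1, 5, 2, 4], [0, 1, 2, 3, 4, 5, 7, 6]),
  ([0, 5, 2, 3, 1, 4, 6, 7], [0, 4, 6, 7, 1, 5, 2, 3], [0, 7, 2, 5, 1, 6, 3, 4], [0, 1, 2, 3, 4, 5, 7, 6]),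
  ([0, 3, 1, 5, 2, 4, 6, 7], [0, 5, 1, 3, 2, 4, 6, 7], [0, 7, 3, 5, 1, 4, 2, 6], [0, 1, 2, 3, 4, 5, 7, 6]),
  ([0, 7, 3, 5, 1, 6, 2, 4], [0, 6, 2, 4, 1, 7, 3, 5], [0, 1, 4, 6, 2, 7, 3, 5], [1, 0, 3, 2, 5, 4, 7, 6]),
  ([0, 7, 4, 5, 1, 3, 2, 6], [0, 3, 2, 6, 1, 7, 4, 5], [0, 1, 5, 6, 2, 4, 3, 7], [0, 1, 2, 3, 5, 4, 6, 7]),
  ([0, 6, 2, 3, 1, 7, 4, 5], [0, 7, 4, 5, 1, 6, 2, 3], [0, 2, 5, 6, 1, 7, 3, 4], [0, 1, 2, 3, 5, 4, 6, 7]),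
  ([0, 1, 5, 6, 2, 7, 3, 4], [0, 1, 5, 6, 2, 7, 3, 4], [0, 3, 4, 5, 1, 2, 6, 7], [0, 1, 3, 2, 7, 6, 5, 4]),
  ([0, 6, 3, 4, 1, 2, 5, 7], [0, 2, 5, 7, 1, 6, 3, 4], [0, 6, 2, 3, 1, 7, 4, 5], [3, 2, 1, 0, 6, 7, 4, 5]),
  ([0, 6, 1, 3, 2, 7, 4, 5], [0, 3, 1, 6, 2, 7, 4, 5], [0, 3, 5, 6, 1, 7, 2, 4], [0, 1, 2, 3, 5, 4, 6, 7]),
  ([0, 2, 1, 6, 3, 7, 4, 5], [0, 6, 1, 2, 3, 7, 4, 5], [0, 4, 5, 6, 1, 3, 2, 7], [0, 1, 2, 3, 5, 4, 6, 7]),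
  ([0, 6, 2, 3, 1, 5, 4, 7], [0, 5, 4, 7, 1, 6, 2, 3], [0, 5, 2, 6, 1, 7, 3, 4], [0, 1, 3, 2, 4, 5, 6, 7]),
  ([0, 3, 1, 6, 2, 5, 4, 7], [0, 6, 1, 3, 2, 5, 4, 7], [0, 5, 3, 6, 1, 4, 2, 7], [4, 5, 6, 7, 0, 1, 2, 3]),
  ([0, 5, 3, 6, 1, 7, 2, 4], [0, 7, 2, 4, 1, 5, 3, 6], [0, 2, 3, 5, 1, 6, 4, 7], [1, 0, 3, 2, 6, 7, 4, 5]),
  ([0, 5, 4, 6, 1, 3, 2, 7], [0, 3, 2, 7, 1, 5, 4, 6], [0, 3, 2, 4, 1, 6, 5, 7], [7, 6, 5, 4, 3, 2, 1, 0]),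
  ([0, 2, 3, 4, 1, 6, 5, 7], [0, 6, 5, 7, 1, 2, 3, 4], [0, 6, 2, 7, 1, 3, 4, 5], [5, 4, 7, 6, 1, 0, 3, 2]),
  ([0, 4, 5, 7, 1, 6, 2, 3], [0, 6, 2, 3, 1, 4, 5, 7], [0, 6, 1, 5, 2, 7, 3, 4], [0, 1, 3, 2, 4, 5, 6, 7]),
  ([0, 6, 2, 5, 1, 7, 3, 4], [0, 7, 3, 4, 1, 6, 2, 5], [0, 2, 4, 5, 1, 7, 3, 6], [1, 0, 3, 2, 5, 4, 7, 6]),
  ([0, 6, 3, 5, 1, 4, 2, 7], [0, 4, 2, 7, 1, 6, 3, 5], [0, 3, 2, 5, 1, 7, 4, 6], [1, 0, 3, 2, 6, 7, 4, 5]),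
  ([0, 7, 2, 4, 1, 6, 3, 5], [0, 6, 3, 5, 1, 7, 2, 4], [0, 1, 3, 5, 2, 7, 4, 6], [1, 0, 3, 2, 5, 4, 7, 6]),
  ([0, 3, 2, 7, 1, 6, 4, 5], [0, 6, 4, 5, 1, 3, 2, 7], [0, 3, 1, 4, 2, 7, 5, 6], [0, 1, 2, 3, 5, 4, 6, 7]),
  ([0, 1, 3, 4, 2, 7, 5, 6], [0, 1, 3, 4, 2, 7, 5, 6], [0, 3, 6, 7, 1, 2, 4, 5], [1, 0, 2, 3, 4, 5, 6, 7]),
  ([0, 3, 1, 7, 2, 6, 4, 5], [0, 7, 1, 3, 2, 6, 4, 5], [0, 2, 1, 4, 3, 7, 5, 6], [0, 1, 2, 3, 5, 4, 6, 7]),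
  ([0, 1, 2, 4, 3, 7, 5, 6], [0, 1, 2, 4, 3, 7, 5, 6], [0, 4, 6, 7, 1, 2, 3, 5], [1, 0, 2, 3, 4, 5, 6, 7]),
  ([0, 2, 1, 3, 4, 7, 5, 6], [0, 3, 1, 2, 4, 7, 5, 6], [0, 5, 6, 7, 1, 3, 2, 4], [0, 1, 2, 3, 5, 4, 7, 6]),
  ([0, 1, 3, 4, 2, 6, 5, 7], [0, 1, 3, 4, 2, 6, 5, 7], [0, 6, 3, 7, 1, 2, 4, 5], [1, 0, 2, 3, 4, 5, 6, 7]),
  ([0, 2, 1, 4, 3, 6, 5, 7], [0, 4, 1, 2, 3, 6, 5, 7], [0, 6, 4, 7, 1, 3, 2, 5], [7, 6, 5, 4, 3, 2, 1, 0]),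
  ([0, 6, 4, 7, 1, 2, 3, 5], [0, 2, 3, 5, 1, 6, 4, 7], [0, 5, 1, 7, 2, 3, 4, 6], [5, 4, 7, 6, 1, 0, 3, 2]),
  ([0, 3, 1, 2, 4, 6, 5, 7], [0, 2, 1, 3, 4, 6, 5, 7], [0, 6, 5, 7, 1, 4, 2, 3], [0, 1, 2, 3, 5, 4, 7, 6]),
  ([0, 6, 5, 7, 1, 3, 2, 4], [0, 3, 2, 4, 1, 6, 5, 7], [0, 6, 1, 7, 2, 4, 3, 5], [4, 5, 6, 7, 0, 1, 2, 3]),
  ([0, 4, 2, 3, 1, 5, 6, 7], [0, 5, 6, 7, 1, 4, 2, 3], [0, 7, 2, 6, 1, 5, 3, 4], [0, 1, 2, 3, 4, 5, 7, 6]),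
  ([0, 3, 1, 4, 2, 5, 6, 7], [0, 4, 1, 3, 2, 5, 6, 7], [0, 7, 3, 6, 1, 4, 2, 5], [0, 1, 2, 3, 4, 5, 7, 6]),
  ([0, 7, 3, 6, 1, 5, 2, 4], [0, 5, 2, 4, 1, 7, 3, 6], [0, 1, 4, 7, 2, 6, 3, 5], [1, 0, 3, 2, 6, 7, 4, 5]),
  ([0, 4, 6, 7, 1, 5, 2, 3], [0, 5, 2, 3, 1, 4, 6, 7], [0, 7, 1, 5, 2, 6, 3, 4], [0, 1, 2, 3, 4, 5, 7, 6]),
  ([0, 7, 2, 5, 1, 6, 3, 4], [0, 6, 3, 4, 1, 7, 2, 5], [0, 1, 3, 6, 2, 7, 4, 5], [1, 0, 3, 2, 5, 4, 7, 6]),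
  ([0, 7, 3, 5, 1, 4, 2, 6], [0, 4, 2, 6, 1, 7, 3, 5], [0, 1, 4, 6, 2, 5, 3, 7], [1, 0, 3, 2, 7, 6, 5, 4]),
  ([0, 6, 2, 4, 1, 7, 3, 5], [0, 7, 3, 5, 1, 6, 2, 4], [0, 2, 4, 6, 1, 7, 3, 5], [1, 0, 3, 2, 5, 4, 7, 6]),
  ([0, 1, 4, 6, 2, 7, 3, 5], [0, 1, 4, 6, 2, 7, 3, 5], [0, 3, 4, 6, 1, 2, 5, 7], [0, 1, 3, 2, 6, 7, 4, 5]),
  ([0, 3, 2, 6, 1, 7, 4, 5], [0, 7, 4, 5, 1, 3, 2, 6], [0, 2, 5, 6, 1, 4, 3, 7], [0, 1, 2, 3, 5, 4, 6, 7]),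
  ([0, 1, 5, 6, 2, 4, 3, 7], [0, 1, 5, 6, 2, 4, 3, 7], [0, 4, 3, 5, 1, 2, 6, 7], [0, 1, 3, 2, 7, 6, 5, 4]),
  ([0, 2, 5, 6, 1, 7, 3, 4], [0, 7, 3, 4, 1, 2, 5, 6], [0, 2, 4, 5, 1, 3, 6, 7], [2, 3, 0, 1, 7, 6, 5, 4]),
  ([0, 3, 1, 6, 2, 7, 4, 5], [0, 6, 1, 3, 2, 7, 4, 5], [0, 3, 5, 6, 1, 4, 2, 7], [0, 1, 2, 3, 5, 4, 6, 7]),
  ([0, 3, 5, 6, 1, 7, 2, 4], [0, 7, 2, 4, 1, 3, 5, 6], [0, 2, 3, 5, 1, 4, 6, 7], [3, 2, 1, 0, 7, 6, 5, 4]),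
  ([0, 4, 5, 6, 1, 3, 2, 7], [0, 3, 2, 7, 1, 4, 5, 6], [0, 3, 2, 4, 1, 5, 6, 7], [7, 6, 4, 5, 2, 3, 1, 0]),
  ([0, 5, 4, 7, 1, 6, 2, 3], [0, 6, 2, 3, 1, 5, 4, 7], [0, 5, 1, 6, 2, 7, 3, 4], [0, 1, 3, 2, 4, 5, 6, 7]),
  ([0, 5, 2, 6, 1, 7, 3, 4], [0, 7, 3, 4, 1, 5, 2, 6], [0, 2, 4, 5, 1, 6, 3, 7], [1, 0, 3, 2, 6, 7, 4, 5]),
  ([0, 5, 3, 6, 1, 4, 2, 7], [0, 4, 2, 7, 1, 5, 3, 6], [0, 3, 2, 5, 1, 6, 4, 7], [1, 0, 3, 2, 5, 4, 7, 6]),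
  ([0, 7, 2, 4, 1, 5, 3, 6], [0, 5, 3, 6, 1, 7, 2, 4], [0, 1, 3, 5, 2, 6, 4, 7], [1, 0, 3, 2, 6, 7, 4, 5]),
  ([0, 2, 3, 5, 1, 6, 4, 7], [0, 6, 4, 7, 1, 2, 3, 5], [0, 5, 2, 7, 1, 3, 4, 6], [4, 5, 7, 6, 0, 1, 3, 2]),
  ([0, 3, 2, 7, 1, 5, 4, 6], [0, 5, 4, 6, 1, 3, 2, 7], [0, 3, 1, 4, 2, 6, 5, 7], [6, 7, 5, 4, 3, 2, 0, 1]),
  ([0, 3, 2, 4, 1, 6, 5, 7], [0, 6, 5, 7, 1, 3, 2, 4], [0, 6, 2, 7, 1, 4, 3, 5], [5, 4, 6, 7, 1, 0, 2, 3]),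
  ([0, 6, 2, 7, 1, 3, 4, 5], [0, 3, 4, 5, 1, 6, 2, 7], [0, 3, 1, 7, 2, 4, 5, 6], [0, 1, 2, 3, 5, 4, 6, 7]),
  ([0, 6, 1, 5, 2, 7, 3, 4], [0, 5, 1, 6, 2, 7, 3, 4], [0, 3, 4, 5, 1, 7, 2, 6], [1, 0, 3, 2, 7, 6, 5, 4]),
  ([0, 7, 3, 4, 1, 6, 2, 5], [0, 6, 2, 5, 1, 7, 3, 4], [0, 1, 4, 5, 2, 7, 3, 6], [1, 0, 3, 2, 5, 4, 7, 6]),
  ([0, 4, 2, 7, 1, 6, 3, 5], [0, 6, 3, 5, 1, 4, 2, 7], [0, 3, 1, 5, 2, 7, 4, 6], [1, 0, 3, 2, 6, 7, 4, 5]),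
  ([0, 1, 3, 5, 2, 7, 4, 6], [0, 1, 3, 5, 2, 7, 4, 6], [0, 3, 5, 7, 1, 2, 4, 6], [1, 0, 2, 3, 4, 5, 6, 7]),
  ([0, 3, 1, 4, 2, 7, 5, 6], [0, 4, 1, 3, 2, 7, 5, 6], [0, 3, 6, 7, 1, 4, 2, 5], [6, 7, 4, 5, 2, 3, 0, 1]),
  ([0, 3, 6, 7, 1, 2, 4, 5], [0, 2, 4, 5, 1, 3, 6, 7], [0, 7, 1, 4, 2, 3, 5, 6], [0, 1, 2, 3, 4, 5, 7, 6]),
  ([0, 2, 1, 4, 3, 7, 5, 6], [0, 4, 1, 2, 3, 7, 5, 6], [0, 4, 6, 7, 1, 3, 2, 5], [6, 7, 5, 4, 3, 2, 0, 1]),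
  ([0, 4, 6, 7, 1, 2, 3, 5], [0, 2, 3, 5, 1, 4, 6, 7], [0, 7, 1, 5, 2, 3, 4, 6], [0, 1, 2, 3, 4, 5, 7, 6]),
  ([0, 3, 1, 2, 4, 7, 5, 6], [0, 2, 1, 3, 4, 7, 5, 6], [0, 5, 6, 7, 1, 4, 2, 3], [0, 1, 2, 3, 5, 4, 7, 6]),
  ([0, 5, 6, 7, 1, 3, 2, 4], [0, 3, 2, 4, 1, 5, 6, 7], [0, 7, 1, 6, 2, 4, 3, 5], [0, 1, 2, 3, 4, 5, 7, 6]),
  ([0, 6, 3, 7, 1, 2, 4, 5], [0, 2, 4, 5, 1, 6, 3, 7], [0, 4, 1, 7, 2, 3, 5, 6], [0, 1, 2, 3, 5, 4, 6, 7]),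
  ([0, 4, 1, 2, 3, 6, 5, 7], [0, 2, 1, 4, 3, 6, 5, 7], [0, 6, 4, 7, 1, 5, 2, 3], [6, 7, 5, 4, 3, 2, 0, 1]),
  ([0, 6, 4, 7, 1, 3, 2, 5], [0, 3, 2, 5, 1, 6, 4, 7], [0, 5, 1, 7, 2, 4, 3, 6], [5, 4, 6, 7, 1, 0, 2, 3]),
  ([0, 5, 1, 7, 2, 3, 4, 6], [0, 7, 1, 5, 2, 3, 4, 6], [0, 2, 1, 6, 3, 4, 5, 7], [0, 1, 3, 2, 4, 5, 6, 7]),
  ([0, 6, 5, 7, 1, 4, 2, 3], [0, 4, 2, 3, 1, 6, 5, 7], [0, 6, 1, 7, 2, 5, 3, 4], [0, 1, 3, 2, 4, 5, 6, 7]),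
  ([0, 6, 1, 7, 2, 4, 3, 5], [0, 7, 1, 6, 2, 4, 3, 5], [0, 2, 1, 7, 3, 5, 4, 6], [0, 1, 3, 2, 5, 4, 6, 7]),
  ([0, 5, 6, 7, 1, 4, 2, 3], [0, 4, 2, 3, 1, 5, 6, 7], [0, 7, 1, 6, 2, 5, 3, 4], [0, 1, 2, 3, 4, 5, 7, 6]),
  ([0, 7, 2, 6, 1, 5, 3, 4], [0, 5, 3, 4, 1, 7, 2, 6], [0, 1, 3, 7, 2, 6, 4, 5], [1, 0, 3, 2, 6, 7, 4, 5]),
  ([0, 7, 3, 6, 1, 4, 2, 5], [0, 4, 2, 5, 1, 7, 3, 6], [0, 1, 4, 7, 2, 5, 3, 6], [1, 0, 3, 2, 7, 6, 5, 4]),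
  ([0, 5, 2, 4, 1, 7, 3, 6], [0, 7, 3, 6, 1, 5, 2, 4], [0, 2, 4, 7, 1, 6, 3, 5], [1, 0, 3, 2, 6, 7, 4, 5]),
  ([0, 1, 4, 7, 2, 6, 3, 5], [0, 1, 4, 7, 2, 6, 3, 5], [0, 5, 1, 2, 3, 7, 4, 6], [0, 1, 3, 2, 7, 6, 5, 4]),
  ([0, 7, 1, 5, 2, 6, 3, 4], [0, 5, 1, 7, 2, 6, 3, 4], [0, 1, 2, 6, 3, 7, 4, 5], [1, 0, 3, 2, 6, 7, 4, 5]),
  ([0, 6, 3, 4, 1, 7, 2, 5], [0, 7, 2, 5, 1, 6, 3, 4], [0, 2, 3, 6, 1, 7, 4, 5], [1, 0, 3, 2, 5, 4, 7, 6]),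
  ([0, 1, 3, 6, 2, 7, 4, 5], [0, 1, 3, 6, 2, 7, 4, 5], [0, 3, 5, 6, 1, 2, 4, 7], [0, 1, 2, 3, 5, 4, 6, 7]),
  ([0, 4, 2, 6, 1, 7, 3, 5], [0, 7, 3, 5, 1, 4, 2, 6], [0, 2, 4, 6, 1, 5, 3, 7], [1, 0, 3, 2, 7, 6, 5, 4]),
  ([0, 1, 4, 6, 2, 5, 3, 7], [0, 1, 4, 6, 2, 5, 3, 7], [0, 4, 3, 6, 1, 2, 5, 7], [0, 1, 3, 2, 6, 7, 4, 5]),
  ([0, 2, 4, 6, 1, 7, 3, 5], [0, 7, 3, 5, 1, 2, 4, 6], [0, 2, 4, 6, 1, 3, 5, 7], [2, 3, 0, 1, 6, 7, 4, 5]),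
  ([0, 2, 5, 6, 1, 4, 3, 7], [0, 4, 3, 7, 1, 2, 5, 6], [0, 4, 2, 5, 1, 3, 6, 7], [2, 3, 0, 1, 7, 6, 5, 4]),
  ([0, 7, 3, 4, 1, 2, 5, 6], [0, 2, 5, 6, 1, 7, 3, 4], [0, 1, 4, 5, 2, 3, 6, 7], [3, 2, 1, 0, 7, 6, 5, 4]),
  ([0, 2, 4, 5, 1, 3, 6, 7], [0, 3, 6, 7, 1, 2, 4, 5], [0, 7, 2, 4, 1, 3, 5, 6], [0, 1, 2, 3, 4, 5, 7, 6]),
  ([0, 3, 5, 6, 1, 4, 2, 7], [0, 4, 2, 7, 1, 3, 5, 6], [0, 3, 2, 5, 1, 4, 6, 7], [3, 2, 1, 0, 7, 6, 5, 4]),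
  ([0, 7, 2, 4, 1, 3, 5, 6], [0, 3, 5, 6, 1, 7, 2, 4], [0, 1, 3, 5, 2, 4, 6, 7], [2, 3, 0, 1, 7, 6, 5, 4]),
  ([0, 2, 3, 5, 1, 4, 6, 7], [0, 4, 6, 7, 1, 2, 3, 5], [0, 7, 2, 5, 1, 3, 4, 6], [0, 1, 2, 3, 4, 5, 7, 6]),
  ([0, 3, 2, 7, 1, 4, 5, 6], [0, 4, 5, 6, 1, 3, 2, 7], [0, 3, 1, 4, 2, 5, 6, 7], [6, 7, 4, 5, 2, 3, 0, 1]),
  ([0, 3, 2, 4, 1, 5, 6, 7], [0, 5, 6, 7, 1, 3, 2, 4], [0, 7, 2, 6, 1, 4, 3, 5], [0, 1, 2, 3, 4, 5, 7, 6]),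
  ([0, 5, 1, 6, 2, 7, 3, 4], [0, 6, 1, 5, 2, 7, 3, 4], [0, 3, 4, 5, 1, 6, 2, 7], [1, 0, 3, 2, 7, 6, 5, 4]),
  ([0, 7, 3, 4, 1, 5, 2, 6], [0, 5, 2, 6, 1, 7, 3, 4], [0, 1, 4, 5, 2, 6, 3, 7], [1, 0, 3, 2, 6, 7, 4, 5]),
  ([0, 2, 4, 5, 1, 6, 3, 7], [0, 6, 3, 7, 1, 2, 4, 5], [0, 4, 2, 7, 1, 3, 5, 6], [0, 1, 2, 3, 5, 4, 6, 7]),
  ([0, 4, 2, 7, 1, 5, 3, 6], [0, 5, 3, 6, 1, 4, 2, 7], [0, 3, 1, 5, 2, 6, 4, 7], [1, 0, 3, 2, 5, 4, 7, 6]),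
  ([0, 3, 2, 5, 1, 6, 4, 7], [0, 6, 4, 7, 1, 3, 2, 5], [0, 5, 2, 7, 1, 4, 3, 6], [4, 5, 6, 7, 0, 1, 2, 3]),
  ([0, 1, 3, 5, 2, 6, 4, 7], [0, 1, 3, 5, 2, 6, 4, 7], [0, 5, 3, 7, 1, 2, 4, 6], [1, 0, 2, 3, 4, 5, 6, 7]),
  ([0, 5, 2, 7, 1, 3, 4, 6], [0, 3, 4, 6, 1, 5, 2, 7], [0, 3, 1, 6, 2, 4, 5, 7], [2, 3, 0, 1, 6, 7, 4, 5]),
  ([0, 3, 1, 4, 2, 6, 5, 7], [0, 4, 1, 3, 2, 6, 5, 7], [0, 6, 3, 7, 1, 4, 2, 5], [7, 6, 4, 5, 2, 3, 1, 0]),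
  ([0, 6, 2, 7, 1, 4, 3, 5], [0, 4, 3, 5, 1, 6, 2, 7], [0, 3, 1, 7, 2, 5, 4, 6], [1, 0, 3, 2, 6, 7, 4, 5]),
  ([0, 3, 4, 5, 1, 6, 2, 7], [0, 6, 2, 7, 1, 3, 4, 5], [0, 3, 2, 7, 1, 4, 5, 6], [0, 1, 2, 3, 5, 4, 6, 7]),
  ([0, 1, 4, 5, 2, 7, 3, 6], [0, 1, 4, 5, 2, 7, 3, 6], [0, 3, 4, 7, 1, 2, 5, 6], [0, 1, 2, 3, 5, 4, 6, 7]),
  ([0, 3, 1, 5, 2, 7, 4, 6], [0, 5, 1, 3, 2, 7, 4, 6], [0, 3, 5, 7, 1, 4, 2, 6], [6, 7, 5, 4, 3, 2, 0, 1]),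
  ([0, 3, 5, 7, 1, 2, 4, 6], [0, 2, 4, 6, 1, 3, 5, 7], [0, 6, 1, 4, 2, 3, 5, 7], [0, 1, 2, 3, 6, 7, 4, 5]),
  ([0, 4, 1, 3, 2, 7, 5, 6], [0, 3, 1, 4, 2, 7, 5, 6], [0, 3, 6, 7, 1, 5, 2, 4], [7, 6, 4, 5, 2, 3, 1, 0]),
  ([0, 3, 6, 7, 1, 4, 2, 5], [0, 4, 2, 5, 1, 3, 6, 7], [0, 7, 1, 4, 2, 5, 3, 6], [0, 1, 2, 3, 4, 5, 7, 6]),
  ([0, 7, 1, 4, 2, 3, 5, 6], [0, 4, 1, 7, 2, 3, 5, 6], [0, 1, 2, 5, 3, 4, 6, 7], [0, 1, 3, 2, 4, 5, 6, 7]),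
  ([0, 4, 1, 2, 3, 7, 5, 6], [0, 2, 1, 4, 3, 7, 5, 6], [0, 4, 6, 7, 1, 5, 2, 3], [7, 6, 5, 4, 3, 2, 1, 0]),
  ([0, 4, 6, 7, 1, 3, 2, 5], [0, 3, 2, 5, 1, 4, 6, 7], [0, 7, 1, 5, 2, 4, 3, 6], [0, 1, 2, 3, 4, 5, 7, 6]),
  ([0, 7, 1, 5, 2, 3, 4, 6], [0, 5, 1, 7, 2, 3, 4, 6], [0, 1, 2, 6, 3, 4, 5, 7], [0, 1, 3, 2, 4, 5, 6, 7]),
  ([0, 7, 1, 6, 2, 4, 3, 5], [0, 6, 1, 7, 2, 4, 3, 5], [0, 1, 2, 7, 3, 5, 4, 6], [0, 1, 3, 2, 5, 4, 6, 7]),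
  ([0, 4, 1, 7, 2, 3, 5, 6], [0, 7, 1, 4, 2, 3, 5, 6], [0, 2, 1, 5, 3, 4, 6, 7], [0, 1, 3, 2, 4, 5, 6, 7]),
  ([0, 6, 4, 7, 1, 5, 2, 3], [0, 5, 2, 3, 1, 6, 4, 7], [0, 5, 1, 7, 2, 6, 3, 4], [0, 1, 3, 2, 4, 5, 6, 7]),
  ([0, 5, 1, 7, 2, 4, 3, 6], [0, 7, 1, 5, 2, 4, 3, 6], [0, 2, 1, 6, 3, 5, 4, 7], [1, 0, 3, 2, 6, 7, 4, 5]),
  ([0, 4, 2, 3, 1, 6, 5, 7], [0, 6, 5, 7, 1, 4, 2, 3], [0, 6, 2, 7, 1, 5, 3, 4], [0, 1, 3, 2, 4, 5, 6, 7]),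
  ([0, 6, 1, 7, 2, 5, 3, 4], [0, 7, 1, 6, 2, 5, 3, 4], [0, 2, 1, 7, 3, 6, 4, 5], [0, 1, 3, 2, 5, 4, 6, 7]),
  ([0, 7, 1, 6, 2, 5, 3, 4], [0, 6, 1, 7, 2, 5, 3, 4], [0, 1, 2, 7, 3, 6, 4, 5], [0, 1, 3, 2, 5, 4, 6, 7]),
  ([0, 5, 3, 4, 1, 7, 2, 6], [0, 7, 2, 6, 1, 5, 3, 4], [0, 2, 3, 7, 1, 6, 4, 5], [1, 0, 3, 2, 6, 7, 4, 5]),
  ([0, 1, 3, 7, 2, 6, 4, 5], [0, 1, 3, 7, 2, 6, 4, 5], [0, 4, 1, 2, 3, 7, 5, 6], [0, 1, 2, 3, 5, 4, 6, 7]),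
  ([0, 4, 2, 5, 1, 7, 3, 6], [0, 7, 3, 6, 1, 4, 2, 5], [0, 2, 4, 7, 1, 5, 3, 6], [1, 0, 3, 2, 7, 6, 5, 4]),
  ([0, 1, 4, 7, 2, 5, 3, 6], [0, 1, 4, 7, 2, 5, 3, 6], [0, 5, 1, 2, 3, 6, 4, 7], [0, 1, 3, 2, 7, 6, 5, 4]),
  ([0, 2, 4, 7, 1, 6, 3, 5], [0, 6, 3, 5, 1, 2, 4, 7], [0, 5, 1, 3, 2, 7, 4, 6], [2, 3, 0, 1, 7, 6, 5, 4]),
  ([0, 5, 1, 2, 3, 7, 4, 6], [0, 2, 1, 5, 3, 7, 4, 6], [0, 4, 5, 7, 1, 6, 2, 3], [7, 6, 4, 5, 2, 3, 1, 0]),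
  ([0, 5, 1, 7, 2, 6, 3, 4], [0, 7, 1, 5, 2, 6, 3, 4], [0, 2, 1, 6, 3, 7, 4, 5], [1, 0, 3, 2, 6, 7, 4, 5]),
  ([0, 1, 2, 6, 3, 7, 4, 5], [0, 1, 2, 6, 3, 7, 4, 5], [0, 4, 5, 6, 1, 2, 3, 7], [0, 1, 2, 3, 5, 4, 6, 7]),
  ([0, 2, 3, 6, 1, 7, 4, 5], [0, 7, 4, 5, 1, 2, 3, 6], [0, 2, 5, 6, 1, 3, 4, 7], [0, 1, 2, 3, 5, 4, 6, 7]),
  ([0, 2, 4, 6, 1, 5, 3, 7], [0, 5, 3, 7, 1, 2, 4, 6], [0, 4, 2, 6, 1, 3, 5, 7], [2, 3, 0, 1, 6, 7, 4, 5]),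
  ([0, 7, 3, 5, 1, 2, 4, 6], [0, 2, 4, 6, 1, 7, 3, 5], [0, 1, 4, 6, 2, 3, 5, 7], [3, 2, 1, 0, 6, 7, 4, 5]),
  ([0, 2, 4, 6, 1, 3, 5, 7], [0, 3, 5, 7, 1, 2, 4, 6], [0, 6, 2, 4, 1, 3, 5, 7], [0, 1, 2, 3, 6, 7, 4, 5]),
  ([0, 4, 3, 7, 1, 2, 5, 6], [0, 2, 5, 6, 1, 4, 3, 7], [0, 4, 1, 5, 2, 3, 6, 7], [3, 2, 1, 0, 7, 6, 5, 4]),
  ([0, 4, 2, 5, 1, 3, 6, 7], [0, 3, 6, 7, 1, 4, 2, 5], [0, 7, 2, 4, 1, 5, 3, 6], [0, 1, 2, 3, 4, 5, 7, 6]),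
  ([0, 1, 4, 5, 2, 3, 6, 7], [0, 1, 4, 5, 2, 3, 6, 7], [0, 7, 3, 4, 1, 2, 5, 6], [0, 1, 2, 3, 4, 5, 7, 6]),
  ([0, 4, 2, 7, 1, 3, 5, 6], [0, 3, 5, 6, 1, 4, 2, 7], [0, 3, 1, 5, 2, 4, 6, 7], [2, 3, 0, 1, 7, 6, 5, 4]),
  ([0, 3, 2, 5, 1, 4, 6, 7], [0, 4, 6, 7, 1, 3, 2, 5], [0, 7, 2, 5, 1, 4, 3, 6], [0, 1, 2, 3, 4, 5, 7, 6]),
  ([0, 1, 3, 5, 2, 4, 6, 7], [0, 1, 3, 5, 2, 4, 6, 7], [0, 7, 3, 5, 1, 2, 4, 6], [0, 1, 2, 3, 4, 5, 7, 6]),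
  ([0, 7, 2, 5, 1, 3, 4, 6], [0, 3, 4, 6, 1, 7, 2, 5], [0, 1, 3, 6, 2, 4, 5, 7], [2, 3, 0, 1, 6, 7, 4, 5]),
  ([0, 7, 2, 6, 1, 4, 3, 5], [0, 4, 3, 5, 1, 7, 2, 6], [0, 1, 3, 7, 2, 5, 4, 6], [1, 0, 3, 2, 7, 6, 5, 4]),
  ([0, 1, 4, 5, 2, 6, 3, 7], [0, 1, 4, 5, 2, 6, 3, 7], [0, 4, 3, 7, 1, 2, 5, 6], [0, 1, 2, 3, 5, 4, 6, 7]),
  ([0, 3, 1, 5, 2, 6, 4, 7], [0, 5, 1, 3, 2, 6, 4, 7], [0, 5, 3, 7, 1, 4, 2, 6], [7, 6, 5, 4, 3, 2, 1, 0]),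
  ([0, 5, 2, 7, 1, 4, 3, 6], [0, 4, 3, 6, 1, 5, 2, 7], [0, 3, 1, 6, 2, 5, 4, 7], [1, 0, 3, 2, 5, 4, 7, 6]),
  ([0, 5, 3, 7, 1, 2, 4, 6], [0, 2, 4, 6, 1, 5, 3, 7], [0, 4, 1, 6, 2, 3, 5, 7], [3, 2, 1, 0, 6, 7, 4, 5]),
  ([0, 3, 4, 6, 1, 5, 2, 7], [0, 5, 2, 7, 1, 3, 4, 6], [0, 3, 2, 6, 1, 4, 5, 7], [3, 2, 1, 0, 6, 7, 4, 5]),
  ([0, 4, 1, 3, 2, 6, 5, 7], [0, 3, 1, 4, 2, 6, 5, 7], [0, 6, 3, 7, 1, 5, 2, 4], [6, 7, 4, 5, 2, 3, 0, 1]),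
  ([0, 6, 3, 7, 1, 4, 2, 5], [0, 4, 2, 5, 1, 6, 3, 7], [0, 4, 1, 7, 2, 5, 3, 6], [1, 0, 3, 2, 6, 7, 4, 5]),
  ([0, 4, 3, 5, 1, 6, 2, 7], [0, 6, 2, 7, 1, 4, 3, 5], [0, 3, 2, 7, 1, 5, 4, 6], [1, 0, 3, 2, 6, 7, 4, 5]),
  ([0, 3, 4, 7, 1, 2, 5, 6], [0, 2, 5, 6, 1, 3, 4, 7], [0, 5, 1, 4, 2, 3, 6, 7], [0, 1, 2, 3, 7, 6, 5, 4]),
  ([0, 5, 1, 3, 2, 7, 4, 6], [0, 3, 1, 5, 2, 7, 4, 6], [0, 3, 5, 7, 1, 6, 2, 4], [7, 6, 5, 4, 3, 2, 1, 0]),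
  ([0, 3, 5, 7, 1, 4, 2, 6], [0, 4, 2, 6, 1, 3, 5, 7], [0, 6, 1, 4, 2, 5, 3, 7], [3, 2, 1, 0, 6, 7, 4, 5]),
  ([0, 6, 1, 4, 2, 3, 5, 7], [0, 4, 1, 6, 2, 3, 5, 7], [0, 6, 3, 4, 1, 7, 2, 5], [0, 1, 3, 2, 4, 5, 6, 7]),
  ([0, 3, 6, 7, 1, 5, 2, 4], [0, 5, 2, 4, 1, 3, 6, 7], [0, 7, 1, 4, 2, 6, 3, 5], [0, 1, 2, 3, 4, 5, 7, 6]),
  ([0, 7, 1, 4, 2, 5, 3, 6], [0, 4, 1, 7, 2, 5, 3, 6], [0, 1, 2, 5, 3, 6, 4, 7], [1, 0, 3, 2, 7, 6, 5, 4]),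
  ([0, 1, 2, 5, 3, 4, 6, 7], [0, 1, 2, 5, 3, 4, 6, 7], [0, 7, 4, 5, 1, 2, 3, 6], [0, 1, 2, 3, 4, 5, 7, 6]),
  ([0, 7, 1, 5, 2, 4, 3, 6], [0, 5, 1, 7, 2, 4, 3, 6], [0, 1, 2, 6, 3, 5, 4, 7], [1, 0, 3, 2, 6, 7, 4, 5]),
  ([0, 1, 2, 6, 3, 4, 5, 7], [0, 1, 2, 6, 3, 4, 5, 7], [0, 6, 4, 5, 1, 2, 3, 7], [1, 0, 2, 3, 4, 5, 6, 7]),
  ([0, 1, 2, 7, 3, 5, 4, 6], [0, 1, 2, 7, 3, 5, 4, 6], [0, 3, 1, 2, 4, 6, 5, 7], [1, 0, 2, 3, 4, 5, 6, 7]),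
  ([0, 5, 2, 3, 1, 6, 4, 7], [0, 6, 4, 7, 1, 5, 2, 3], [0, 5, 2, 7, 1, 6, 3, 4], [0, 1, 3, 2, 4, 5, 6, 7]),
  ([0, 6, 2, 7, 1, 5, 3, 4], [0, 5, 3, 4, 1, 6, 2, 7], [0, 3, 1, 7, 2, 6, 4, 5], [1, 0, 3, 2, 7, 6, 5, 4]),
  ([0, 1, 2, 7, 3, 6, 4, 5], [0, 1, 2, 7, 3, 6, 4, 5], [0, 3, 1, 2, 4, 7, 5, 6], [0, 1, 2, 3, 5, 4, 6, 7]),
  ([0, 2, 3, 7, 1, 6, 4, 5], [0, 6, 4, 5, 1, 2, 3, 7], [0, 4, 1, 3, 2, 7, 5, 6], [0, 1, 2, 3, 5, 4, 6, 7]),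
  ([0, 2, 4, 7, 1, 5, 3, 6], [0, 5, 3, 6, 1, 2, 4, 7], [0, 5, 1, 3, 2, 6, 4, 7], [2, 3, 0, 1, 7, 6, 5, 4]),
  ([0, 5, 1, 2, 3, 6, 4, 7], [0, 2, 1, 5, 3, 6, 4, 7], [0, 5, 4, 7, 1, 6, 2, 3], [6, 7, 4, 5, 2, 3, 0, 1]),
  ([0, 6, 3, 5, 1, 2, 4, 7], [0, 2, 4, 7, 1, 6, 3, 5], [0, 5, 2, 3, 1, 7, 4, 6], [3, 2, 1, 0, 7, 6, 5, 4]),
  ([0, 2, 1, 5, 3, 7, 4, 6], [0, 5, 1, 2, 3, 7, 4, 6], [0, 4, 5, 7, 1, 3, 2, 6], [6, 7, 4, 5, 2, 3, 0, 1]),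
  ([0, 7, 4, 5, 1, 2, 3, 6], [0, 2, 3, 6, 1, 7, 4, 5], [0, 1, 5, 6, 2, 3, 4, 7], [0, 1, 2, 3, 5, 4, 6, 7]),
  ([0, 2, 5, 6, 1, 3, 4, 7], [0, 3, 4, 7, 1, 2, 5, 6], [0, 5, 2, 4, 1, 3, 6, 7], [0, 1, 2, 3, 7, 6, 5, 4]),
  ([0, 4, 2, 6, 1, 3, 5, 7], [0, 3, 5, 7, 1, 4, 2, 6], [0, 6, 2, 4, 1, 5, 3, 7], [2, 3, 0, 1, 6, 7, 4, 5]),
  ([0, 1, 4, 6, 2, 3, 5, 7], [0, 1, 4, 6, 2, 3, 5, 7], [0, 6, 3, 4, 1, 2, 5, 7], [0, 1, 2, 3, 6, 7, 4, 5]),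
  ([0, 6, 2, 4, 1, 3, 5, 7], [0, 3, 5, 7, 1, 6, 2, 4], [0, 6, 2, 4, 1, 7, 3, 5], [2, 3, 0, 1, 6, 7, 4, 5]),
  ([0, 4, 1, 5, 2, 3, 6, 7], [0, 5, 1, 4, 2, 3, 6, 7], [0, 7, 3, 4, 1, 5, 2, 6], [0, 1, 2, 3, 4, 5, 7, 6]),
  ([0, 7, 2, 5, 1, 4, 3, 6], [0, 4, 3, 6, 1, 7, 2, 5], [0, 1, 3, 6, 2, 5, 4, 7], [1, 0, 3, 2, 7, 6, 5, 4]),
  ([0, 3, 4, 6, 1, 7, 2, 5], [0, 7, 2, 5, 1, 3, 4, 6], [0, 2, 3, 6, 1, 4, 5, 7], [3, 2, 1, 0, 6, 7, 4, 5]),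
  ([0, 1, 3, 6, 2, 4, 5, 7], [0, 1, 3, 6, 2, 4, 5, 7], [0, 6, 3, 5, 1, 2, 4, 7], [1, 0, 2, 3, 4, 5, 6, 7]),
  ([0, 4, 3, 5, 1, 7, 2, 6], [0, 7, 2, 6, 1, 4, 3, 5], [0, 2, 3, 7, 1, 5, 4, 6], [1, 0, 3, 2, 7, 6, 5, 4]),
  ([0, 1, 3, 7, 2, 5, 4, 6], [0, 1, 3, 7, 2, 5, 4, 6], [0, 4, 1, 2, 3, 6, 5, 7], [1, 0, 2, 3, 4, 5, 6, 7]),
  ([0, 5, 1, 3, 2, 6, 4, 7], [0, 3, 1, 5, 2, 6, 4, 7], [0, 5, 3, 7, 1, 6, 2, 4], [6, 7, 5, 4, 3, 2, 0, 1]),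
  ([0, 5, 3, 7, 1, 4, 2, 6], [0, 4, 2, 6, 1, 5, 3, 7], [0, 4, 1, 6, 2, 5, 3, 7], [1, 0, 3, 2, 5, 4, 7, 6]),
  ([0, 4, 3, 6, 1, 5, 2, 7], [0, 5, 2, 7, 1, 4, 3, 6], [0, 3, 2, 6, 1, 5, 4, 7], [1, 0, 3, 2, 5, 4, 7, 6]),
  ([0, 4, 1, 6, 2, 3, 5, 7], [0, 6, 1, 4, 2, 3, 5, 7], [0, 6, 3, 4, 1, 5, 2, 7], [0, 1, 3, 2, 4, 5, 6, 7]),
  ([0, 3, 2, 6, 1, 4, 5, 7], [0, 4, 5, 7, 1, 3, 2, 6], [0, 6, 2, 5, 1, 4, 3, 7], [7, 6, 4, 5, 2, 3, 1, 0]),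
  ([0, 6, 3, 7, 1, 5, 2, 4], [0, 5, 2, 4, 1, 6, 3, 7], [0, 4, 1, 7, 2, 6, 3, 5], [1, 0, 3, 2, 7, 6, 5, 4]),
  ([0, 4, 2, 5, 1, 6, 3, 7], [0, 6, 3, 7, 1, 4, 2, 5], [0, 4, 2, 7, 1, 5, 3, 6], [1, 0, 3, 2, 6, 7, 4, 5]),
  ([0, 4, 1, 7, 2, 5, 3, 6], [0, 7, 1, 4, 2, 5, 3, 6], [0, 2, 1, 5, 3, 6, 4, 7], [1, 0, 3, 2, 7, 6, 5, 4]),
  ([0, 5, 1, 4, 2, 3, 6, 7], [0, 4, 1, 5, 2, 3, 6, 7], [0, 7, 3, 4, 1, 6, 2, 5], [0, 1, 2, 3, 4, 5, 7, 6]),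
  ([0, 3, 5, 7, 1, 6, 2, 4], [0, 6, 2, 4, 1, 3, 5, 7], [0, 6, 1, 4, 2, 7, 3, 5], [3, 2, 1, 0, 6, 7, 4, 5]),
  ([0, 6, 1, 4, 2, 5, 3, 7], [0, 4, 1, 6, 2, 5, 3, 7], [0, 4, 3, 6, 1, 7, 2, 5], [1, 0, 3, 2, 6, 7, 4, 5]),
  ([0, 5, 2, 4, 1, 3, 6, 7], [0, 3, 6, 7, 1, 5, 2, 4], [0, 7, 2, 4, 1, 6, 3, 5], [0, 1, 2, 3, 4, 5, 7, 6]),
  ([0, 7, 1, 4, 2, 6, 3, 5], [0, 4, 1, 7, 2, 6, 3, 5], [0, 1, 2, 5, 3, 7, 4, 6], [1, 0, 3, 2, 7, 6, 5, 4]),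
  ([0, 1, 2, 5, 3, 6, 4, 7], [0, 1, 2, 5, 3, 6, 4, 7], [0, 5, 4, 7, 1, 2, 3, 6], [1, 0, 2, 3, 4, 5, 6, 7]),
  ([0, 1, 2, 6, 3, 5, 4, 7], [0, 1, 2, 6, 3, 5, 4, 7], [0, 5, 4, 6, 1, 2, 3, 7], [1, 0, 2, 3, 4, 5, 6, 7]),
  ([0, 6, 4, 5, 1, 2, 3, 7], [0, 2, 3, 7, 1, 6, 4, 5], [0, 4, 2, 3, 1, 7, 5, 6], [0, 1, 2, 3, 5, 4, 6, 7]),
  ([0, 5, 2, 7, 1, 6, 3, 4], [0, 6, 3, 4, 1, 5, 2, 7], [0, 3, 1, 6, 2, 7, 4, 5], [1, 0, 3, 2, 7, 6, 5, 4]),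
  ([0, 5, 3, 4, 1, 6, 2, 7], [0, 6, 2, 7, 1, 5, 3, 4], [0, 3, 2, 7, 1, 6, 4, 5], [1, 0, 3, 2, 7, 6, 5, 4]),
  ([0, 5, 3, 6, 1, 2, 4, 7], [0, 2, 4, 7, 1, 5, 3, 6], [0, 5, 2, 3, 1, 6, 4, 7], [3, 2, 1, 0, 7, 6, 5, 4]),
  ([0, 2, 1, 5, 3, 6, 4, 7], [0, 5, 1, 2, 3, 6, 4, 7], [0, 5, 4, 7, 1, 3, 2, 6], [7, 6, 4, 5, 2, 3, 1, 0]),
  ([0, 4, 5, 7, 1, 3, 2, 6], [0, 3, 2, 6, 1, 4, 5, 7], [0, 6, 1, 5, 2, 4, 3, 7], [6, 7, 4, 5, 2, 3, 0, 1]),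
  ([0, 1, 5, 6, 2, 3, 4, 7], [0, 1, 5, 6, 2, 3, 4, 7], [0, 5, 3, 4, 1, 2, 6, 7], [0, 1, 2, 3, 7, 6, 5, 4]),
  ([0, 6, 2, 4, 1, 5, 3, 7], [0, 5, 3, 7, 1, 6, 2, 4], [0, 4, 2, 6, 1, 7, 3, 5], [1, 0, 3, 2, 7, 6, 5, 4]),
  ([0, 4, 3, 6, 1, 7, 2, 5], [0, 7, 2, 5, 1, 4, 3, 6], [0, 2, 3, 6, 1, 5, 4, 7], [1, 0, 3, 2, 7, 6, 5, 4]),
  ([0, 1, 3, 6, 2, 5, 4, 7], [0, 1, 3, 6, 2, 5, 4, 7], [0, 5, 3, 6, 1, 2, 4, 7], [1, 0, 2, 3, 4, 5, 6, 7]),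
  ([0, 2, 3, 6, 1, 4, 5, 7], [0, 4, 5, 7, 1, 2, 3, 6], [0, 6, 2, 5, 1, 3, 4, 7], [7, 6, 5, 4, 3, 2, 1, 0]),
  ([0, 2, 3, 7, 1, 5, 4, 6], [0, 5, 4, 6, 1, 2, 3, 7], [0, 4, 1, 3, 2, 6, 5, 7], [6, 7, 4, 5, 2, 3, 0, 1]),
  ([0, 5, 3, 7, 1, 6, 2, 4], [0, 6, 2, 4, 1, 5, 3, 7], [0, 4, 1, 6, 2, 7, 3, 5], [1, 0, 3, 2, 7, 6, 5, 4]),
  ([0, 4, 2, 6, 1, 5, 3, 7], [0, 5, 3, 7, 1, 4, 2, 6], [0, 4, 2, 6, 1, 5, 3, 7], [1, 0, 3, 2, 5, 4, 7, 6]),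
  ([0, 4, 1, 6, 2, 5, 3, 7], [0, 6, 1, 4, 2, 5, 3, 7], [0, 4, 3, 6, 1, 5, 2, 7], [1, 0, 3, 2, 6, 7, 4, 5]),
  ([0, 3, 2, 6, 1, 5, 4, 7], [0, 5, 4, 7, 1, 3, 2, 6], [0, 5, 2, 6, 1, 4, 3, 7], [7, 6, 5, 4, 3, 2, 1, 0]),
  ([0, 6, 3, 4, 1, 5, 2, 7], [0, 5, 2, 7, 1, 6, 3, 4], [0, 3, 2, 6, 1, 7, 4, 5], [1, 0, 3, 2, 7, 6, 5, 4]),
  ([0, 6, 2, 5, 1, 4, 3, 7], [0, 4, 3, 7, 1, 6, 2, 5], [0, 4, 2, 5, 1, 7, 3, 6], [1, 0, 3, 2, 6, 7, 4, 5]),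
  ([0, 5, 2, 4, 1, 6, 3, 7], [0, 6, 3, 7, 1, 5, 2, 4], [0, 4, 2, 7, 1, 6, 3, 5], [1, 0, 3, 2, 7, 6, 5, 4]),
  ([0, 4, 1, 7, 2, 6, 3, 5], [0, 7, 1, 4, 2, 6, 3, 5], [0, 2, 1, 5, 3, 7, 4, 6], [1, 0, 3, 2, 7, 6, 5, 4]),
  ([0, 6, 1, 4, 2, 7, 3, 5], [0, 4, 1, 6, 2, 7, 3, 5], [0, 3, 4, 6, 1, 7, 2, 5], [1, 0, 3, 2, 6, 7, 4, 5]),
  ([0, 1, 2, 5, 3, 7, 4, 6], [0, 1, 2, 5, 3, 7, 4, 6], [0, 4, 5, 7, 1, 2, 3, 6], [1, 0, 2, 3, 4, 5, 6, 7]),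
  ([0, 5, 4, 7, 1, 2, 3, 6], [0, 2, 3, 6, 1, 5, 4, 7], [0, 5, 1, 6, 2, 3, 4, 7], [6, 7, 4, 5, 2, 3, 0, 1]),
  ([0, 5, 4, 6, 1, 2, 3, 7], [0, 2, 3, 7, 1, 5, 4, 6], [0, 4, 2, 3, 1, 6, 5, 7], [7, 6, 4, 5, 2, 3, 1, 0]),
  ([0, 5, 4, 7, 1, 3, 2, 6], [0, 3, 2, 6, 1, 5, 4, 7], [0, 5, 1, 6, 2, 4, 3, 7], [6, 7, 5, 4, 3, 2, 0, 1]),
  ([0, 6, 1, 5, 2, 4, 3, 7], [0, 5, 1, 6, 2, 4, 3, 7], [0, 4, 3, 5, 1, 7, 2, 6], [1, 0, 3, 2, 7, 6, 5, 4]),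
  ([0, 2, 3, 6, 1, 5, 4, 7], [0, 5, 4, 7, 1, 2, 3, 6], [0, 5, 2, 6, 1, 3, 4, 7], [7, 6, 4, 5, 2, 3, 1, 0]),
  ([0, 4, 5, 7, 1, 2, 3, 6], [0, 2, 3, 6, 1, 4, 5, 7], [0, 6, 1, 5, 2, 3, 4, 7], [6, 7, 5, 4, 3, 2, 0, 1]),
  ([0, 6, 2, 5, 1, 3, 4, 7], [0, 3, 4, 7, 1, 6, 2, 5], [0, 5, 2, 4, 1, 7, 3, 6], [2, 3, 0, 1, 7, 6, 5, 4]),
  ([0, 4, 1, 6, 2, 7, 3, 5], [0, 6, 1, 4, 2, 7, 3, 5], [0, 3, 4, 6, 1, 5, 2, 7], [1, 0, 3, 2, 6, 7, 4, 5]),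
  ([0, 5, 2, 6, 1, 4, 3, 7], [0, 4, 3, 7, 1, 5, 2, 6], [0, 4, 2, 5, 1, 6, 3, 7], [1, 0, 3, 2, 5, 4, 7, 6]),
  ([0, 4, 3, 7, 1, 6, 2, 5], [0, 6, 2, 5, 1, 4, 3, 7], [0, 4, 1, 5, 2, 7, 3, 6], [1, 0, 3, 2, 6, 7, 4, 5]),
  ([0, 5, 1, 6, 2, 3, 4, 7], [0, 6, 1, 5, 2, 3, 4, 7], [0, 5, 3, 4, 1, 6, 2, 7], [0, 1, 3, 2, 4, 5, 6, 7]),
  ([0, 5, 1, 6, 2, 4, 3, 7], [0, 6, 1, 5, 2, 4, 3, 7], [0, 4, 3, 5, 1, 6, 2, 7], [1, 0, 3, 2, 7, 6, 5, 4]),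
  ([0, 5, 2, 6, 1, 3, 4, 7], [0, 3, 4, 7, 1, 5, 2, 6], [0, 5, 2, 4, 1, 6, 3, 7], [2, 3, 0, 1, 7, 6, 5, 4]),
  ([0, 6, 1, 5, 2, 3, 4, 7], [0, 5, 1, 6, 2, 3, 4, 7], [0, 5, 3, 4, 1, 7, 2, 6], [0, 1, 3, 2, 4, 5, 6, 7]),
  ([0, 3, 4, 7, 1, 6, 2, 5], [0, 6, 2, 5, 1, 3, 4, 7], [0, 5, 1, 4, 2, 7, 3, 6], [3, 2, 1, 0, 7, 6, 5, 4]),
  ([0, 4, 3, 7, 1, 5, 2, 6], [0, 5, 2, 6, 1, 4, 3, 7], [0, 4, 1, 5, 2, 6, 3, 7], [1, 0, 3, 2, 5, 4, 7, 6]),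
  ([0, 4, 1, 5, 2, 7, 3, 6], [0, 5, 1, 4, 2, 7, 3, 6], [0, 3, 4, 7, 1, 5, 2, 6], [0, 1, 3, 2, 4, 5, 7, 6]),
  ([0, 3, 4, 7, 1, 5, 2, 6], [0, 5, 2, 6, 1, 3, 4, 7], [0, 5, 1, 4, 2, 6, 3, 7], [3, 2, 1, 0, 7, 6, 5, 4]),
  ([0, 5, 1, 4, 2, 7, 3, 6], [0, 4, 1, 5, 2, 7, 3, 6], [0, 3, 4, 7, 1, 6, 2, 5], [0, 1, 3, 2, 4, 5, 7, 6]),
  ([0, 4, 1, 5, 2, 6, 3, 7], [0, 5, 1, 4, 2, 6, 3, 7], [0, 4, 3, 7, 1, 5, 2, 6], [0, 1, 3, 2, 4, 5, 7, 6]),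
  ([0, 5, 1, 4, 2, 6, 3, 7], [0, 4, 1, 5, 2, 6, 3, 7], [0, 4, 3, 7, 1, 6, 2, 5], [0, 1, 3, 2, 4, 5, 7, 6])]

theorem ok : chainOK 8 C = true := by decide +kernel

def rOK (x : List ℕ × List ℕ × List ℕ × List ℕ) : Bool :=
  valb 8 x.1 && valb 8 x.2.2.2 && (R.map (·.1)).contains x.2.1 && (R.map (·.1)).contains x.2.2.1 &&
  sift 8 C (mul (inv 8 x.2.1) (mul [1, 0, 2, 3, 4, 5, 6, 7] x.1)) &&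
  sift 8 C (mul (inv 8 x.2.2.1) (mul [1, 2, 3, 4, 5, 6, 7, 0] x.1)) &&
  sift 8 C x.2.2.2 && sift 8 C (mul (inv 8 x.1) (mul x.2.2.2 x.1)) && x.2.2.2 != List.range 8

theorem rok : R.all rOK = true := by decide +kernel

theorem spec {x : List ℕ × List ℕ × List ℕ × List ℕ} (h : x ∈ R) : Val 8 x.1 ∧ Val 8 x.2.2.2 ∧
    (∃ y ∈ R, sift 8 C (mul (inv 8 y.1) (mul (enc (swap (0 : Fin 8) 1)) x.1)) = true) ∧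
    (∃ y ∈ R, sift 8 C (mul (inv 8 y.1) (mul (enc (finRotate 8)) x.1)) = true) ∧
    sift 8 C x.2.2.2 = true ∧ sift 8 C (mul (inv 8 x.1) (mul x.2.2.2 x.1)) = true ∧
    x.2.2.2 ≠ List.range 8 := by
  have := List.all_eq_true.1 rok x h
  simp only [rOK, Bool.and_eq_true, List.contains_iff_mem, List.mem_map, bne_iff_ne] at this
  obtain ⟨⟨⟨⟨⟨⟨⟨⟨h1, h2⟩, y, hy, e⟩, z, hz, e'⟩, h5⟩, h6⟩, h7⟩, h8⟩, h9⟩ := this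
  exact ⟨val_of_valb h1, val_of_valb h2, ⟨y, hy, e ▸ h5⟩, ⟨z, hz, e' ▸ h6⟩, h7, h8, h9⟩

theorem rep (g : Perm (Fin 8)) : ∃ x ∈ R, ∃ r, enc r = x.1 ∧ r⁻¹ * g ∈ grp 8 (gens C) := by
  have hg : g ∈ Submonoid.closure {finRotate 8, swap 0 1} := by
    rw [← Subgroup.closure_toSubmonoid_of_finite]
    exact (Perm.closure_cycle_adjacent_swap (isCycle_finRotate (n := 6)) support_finRotate 0).ge trivial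
  induction hg using Submonoid.closure_induction_left with
  | one => exact ⟨_, List.mem_cons_self, 1, by decide, by simpa using one_mem _⟩
  | mul_left s hs g _ ih =>
    obtain ⟨x, hx, r, e, hr⟩ := ih
    obtain ⟨y, hy, h⟩ : ∃ y ∈ R, sift 8 C (mul (inv 8 y.1) (mul (enc s) x.1)) = true := by
      rcases hs with rfl | rfl
      exacts [(spec hx).2.2.2.1, (spec hx).2.2.1]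
    obtain ⟨r', e'⟩ := (spec hy).1
    rw [← e, ← e', ← enc_inv, ← enc_mul, ← enc_mul] at h
    exact ⟨y, hy, r', e', by simpa [mul_assoc] using mul_mem (mem_of_sift ok h) hr⟩

/-- In the symmetric group on 8 letters any two Sylow 2-subgroups have non-trivial intersection: for a Sylow 2-subgroup H and every element x, H ∩ xHx⁻¹ ≠ 1. -/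
theorem result (H : Sylow 2 (Equiv.Perm (Fin 8))) (x : Equiv.Perm (Fin 8)) :
    (H : Subgroup (Equiv.Perm (Fin 8))) ⊓ (H : Subgroup (Equiv.Perm (Fin 8))).map (MulAut.conj x).toMonoidHom ≠ ⊥ := by
  let P : Sylow 2 (Perm (Fin 8)) := Sylow.ofCard (grp 8 (gens C)) (by
    rw [card_grp ok, Nat.card_perm, Nat.card_eq_fintype_card, Fintype.card_fin,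
      show Nat.factorial 8 = 2 ^ 7 * 315 by rfl, Nat.factorization_mul (by simp) (by simp),
      Nat.factorization_pow]
    simp [Nat.prime_two.factorization, Nat.factorization_eq_zero_of_not_dvd]
    decide)
  obtain ⟨k, rfl⟩ := MulAction.exists_smul_eq (Perm (Fin 8)) P H
  obtain ⟨y, hy, r, e, hr⟩ := rep (k⁻¹ * x * k)
  obtain ⟨-, ⟨w, hw⟩, -, -, h1, h2, h3⟩ := spec hy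
  rw [← hw] at h1 h2 h3
  rw [← e, ← enc_inv, ← enc_mul, ← enc_mul] at h2
  refine (Subgroup.ne_bot_iff_exists_ne_one).2 ⟨⟨k * w * k⁻¹, ⟨w, mem_of_sift ok h1, rfl⟩,
    x⁻¹ * (k * w * k⁻¹) * x, ⟨_, mul_mem (mul_mem (inv_mem hr) (mem_of_sift ok h2)) hr, ?_⟩,
    by simp [mul_assoc]⟩, fun h => h3 ?_⟩
  · simp [mul_assoc]
  · rw [← enc_one, conj_eq_one_iff.1 (congrArg Subtype.val h)]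

end Cfsg.Agent.S5763
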