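import Cfsg.Statements.S5769
import Cfsg.Agent.BN.Ss1
import Cfsg.Agent.S2475
import Cfsg.Agent.S2468
import Cfsg.Agent.S2469
import Cfsg.Agent.S0245
import Cfsg.Agent.S0246
import Cfsg.Agent.Comp.MatG

set_option autoImplicit false
open Cfsg

namespace Cfsg.Agent.S5769

theorem aux {Y : Type*} [Group Y] (h : ∃ y : Y, orderOf y = 65)
    (H : Subgroup ↥(Cfsg.Lie.chevE7.group (ZMod 2))) : IsEmpty (↥H ≃* Y) := ⟨fun e => by
  obtain ⟨y, hy⟩ := h
  exact CF.BN.orderOf_ne_65 (e.symm y) (by rw [Subgroup.orderOf_coe, MulEquiv.orderOf_eq, hy])⟩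

theorem char2 {F : Type*} [Field F] [Fintype F] {k : ℕ} (h : Fintype.card F = 2 ^ k) : CharP F 2 :=
  charP_of_card_eq_prime_pow h

theorem sp {F : Type*} [Field F] [Fintype F] (h8 : Fintype.card F = 8) {n : ℕ} (hn : 2 ≤ n) :
    ∃ y : Cfsg.PSp n F, orderOf y = 65 := by
  have := char2 (k := 3) h8
  have h := Subgroup.card_eq_card_quotient_mul_card_subgroup
    (Subgroup.center (Matrix.symplecticGroup (Fin n) F))
  rw [Cfsg.Agent.S0245.result h8, Cfsg.Agent.S0246.result h8 n (by omega),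
    show Nat.gcd 2 (8 - 1) = 1 from rfl, mul_one] at h
  have h1 : 65 ∣ Nat.card (Cfsg.PSp n F) := (show _ = Nat.card (Cfsg.PSp n F) from h) ▸
    Dvd.dvd.mul_left ((by decide : 65 ∣ 8 ^ (2 * (1 + 1)) - 1).trans
      (Finset.dvd_prod_of_mem (fun i => 8 ^ (2 * (i + 1)) - 1) (Finset.mem_range.2 hn))) _
  by_contra h2
  exact ((Cfsg.Agent.S2469.result 2 n hn (fun _ => by omega) 5 13 (by decide) (by decide) (by decide)
    (by decide) (by decide) (by decide) (by decide) (Dvd.dvd.trans (by decide) h1)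
    (Dvd.dvd.trans (by decide) h1) 4 4 2 2
    (by rw [h8]; exact (orderOf_eq_prime_pow (p := 2) (n := 1) (by decide) (by decide)).symm)
    (by rw [h8]; exact (orderOf_eq_prime_pow (p := 2) (n := 1) (by decide) (by decide)).symm)
    (.inr (by decide)) (.inr (by decide)) le_rfl).1 h2).2 ⟨1, by decide, rfl⟩

theorem pw {r : ℕ} [NeZero r] (h : orderOf (-8 : ZMod r) = 4) (d : ℕ) :
    (r : ℤ) ∣ (-((8 : ℕ) : ℤ)) ^ d - 1 ↔ 4 ∣ d := by
  rw [← h, orderOf_dvd_iff_pow_eq_one, ← ZMod.intCast_zmod_eq_zero_iff_dvd]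
  simp [sub_eq_zero]

/-- The Chevalley group of type E₇ over the field with two elements (generated by its root elements in the adjoint representation) has no subgroup isomorphic to any of PSL₂(64), PSp₄(8), PSL₄(8), PSU₄(8) or PSp₆(8). Here F₈ and F₆₄ denote fields with 8 and 64 elements. -/
theorem result {F₈ F₆₄ : Type*} [Field F₈] [Fintype F₈] (h8 : Fintype.card F₈ = 8) [Field F₆₄] [Fintype F₆₄] (h64 : Fintype.card F₆₄ = 64)
    (H : Subgroup ↥(Cfsg.Lie.chevE7.group (ZMod 2))) :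
    IsEmpty (↥H ≃* Matrix.ProjectiveSpecialLinearGroup (Fin 2) F₆₄) ∧ IsEmpty (↥H ≃* Cfsg.PSp 2 F₈) ∧
    IsEmpty (↥H ≃* Matrix.ProjectiveSpecialLinearGroup (Fin 4) F₈) ∧ IsEmpty (↥H ≃* Cfsg.PSU 4 F₆₄ 8) ∧ IsEmpty (↥H ≃* Cfsg.PSp 3 F₈) := by
    have := char2 (k := 3) h8
    have := char2 (k := 6) h64
    refine ⟨aux ?_ H, aux (sp h8 le_rfl) H, aux ?_ H, aux ?_ H, aux (sp h8 (by decide)) H⟩
    · have := (Cfsg.Agent.S2475.result (F := F₆₄) 2 (by omega)).ge
        (show 65 ∈ _ from .inr (.inr (by rw [h64]; decide)))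
      exact this
    · have h := CF.Classical.card_PSL_fin (F := F₈) 4 (by decide)
      rw [h8] at h
      have h1 : Nat.card (Matrix.ProjectiveSpecialLinearGroup (Fin 4) F₈) = 34558531338240 := by
        simp [Fin.prod_univ_four] at h
        omega
      by_contra h2
      exact ((Cfsg.Agent.S2468.result (F := F₈) 2 4 (by decide) (by omega) 5 13 (by decide) (by decide)
        (by decide) (by decide) (by decide) (by decide) (by decide) (by rw [h1]; decide)
        (by rw [h1]; decide) 4 4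
        (by rw [h8]; exact (orderOf_eq_prime_pow (p := 2) (n := 1) (by decide) (by decide)).symm)
        (by rw [h8]; exact (orderOf_eq_prime_pow (p := 2) (n := 1) (by decide) (by decide)).symm)
        (by decide) le_rfl).1 h2).2 dvd_rfl
    · have hF : Nat.card F₆₄ = 8 ^ 2 := Nat.card_eq_fintype_card.trans h64
      have h := CF.Comp.card_PSU_mul (K := F₆₄) (q := 8) (d := 4) h64 (by decide)
      have h1 : Nat.card (Cfsg.PSU 4 F₆₄ 8) = 34693789777920 := by
        simp [Finset.prod_range_succ, Nat.even_iff] at h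
        omega
      have : Finite (Cfsg.PSU 4 F₆₄ 8) := Nat.finite_of_card_ne_zero (by rw [h1]; decide)
      exact ((CF.Cls.rep_PSU (K := AlgebraicClosure F₆₄) 2 hF (n := 4) (by decide)).mul_iff
        (r := 5) (s := 13) (k := 4) (l := 4) (CF.Cls.ta_ac F₆₄ 2) (CF.Cls.pq_neg 2 hF) (by decide)
        (by decide) (by decide) (by decide) (by decide) (by rw [h1]; decide)
        (pw (orderOf_eq_prime_pow (p := 2) (n := 1) (by decide) (by decide)))
        (pw (orderOf_eq_prime_pow (p := 2) (n := 1) (by decide) (by decide))) (by decide) le_rfl).2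
        (.inr dvd_rfl)

end Cfsg.Agent.S5769
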