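import Cfsg.Statements.S5847
import Cfsg.Agent.MaxSub.MaxO

set_option autoImplicit false
open Cfsg

namespace Cfsg.Agent.S5847

/-- Every maximal subgroup of Ω_10^+(q) is of one of the listed geometric types or lies in the residual class. Let F be a finite field with q elements (characteristic p), Q a non-degenerate quadratic form on F^10 of plus type (Witt index 5: some totally singular 5-space), Ω the commutator subgroup of its isometry group, and H a maximal subgroup of Ω (inside GL_10(F)). Then H is the intersection with Ω of one of: the stabiliser of a non-zero totally singular subspace of dimension ≠ 4; for q odd, the stabiliser of a non-degenerate subspace of odd dimension ≠ 5; the stabiliser of a non-degenerate 2-space of minus type; for q ≥ 4, the stabiliser of a non-degenerate 2-space of plus type; the stabiliser of a non-degenerate 4-space; for q even, the stabiliser of the span of a non-singular vector; for q = p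 prime with p ≡ 1 mod 4, the stabiliser of a decomposition into 10 pairwise orthogonal, pairwise isometric non-degenerate 1-spaces; for q ≥ 7, the stabiliser of a decomposition into 5 pairwise orthogonal, pairwise isometric non-degenerate 2-spaces; for q ≡ 1 mod 4, the stabiliser of a decomposition into 2 pairwise orthogonal, pairwise isometric non-degenerate 5-spaces; for q ≡ 3 mod 4, the stabiliser of a decomposition into two orthogonal, non-isometric non-degenerate 5-spaces; for q odd, the normaliser of a degree-2 subfield of the matrix algebra, self-adjoint for the polar form; a subfield group (|F| = |F₀|^r, r prime) whose F₀-structure carries a non-zero multiple of Q — or else H lies in the residual class of the orthogonal case (modulo scalars H is almost simple, with absolutely irreducible perfect socle preimage realisable over no proper subfield and fixing no non-degenerate unitary form). -/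
theorem result {F : Type*} [Field F] [Fintype F] (Q : (Fin 10 → F) → F) (hQ : Cfsg.Geo.IsNondegenerateQuadraticForm Q) (hplus : Cfsg.Geo.IsPlusTypeOn Q ⊤) (H : Subgroup (Matrix.GeneralLinearGroup (Fin 10) F)) (hH : Cfsg.Geo.IsMaximalIn (Cfsg.Geo.omegaGL Q) H) :
    (∃ W : Submodule F (Fin 10 → F), W ≠ ⊥ ∧ Cfsg.Geo.IsTotallySingularQuad Q W ∧ Module.finrank F W ≠ 4 ∧ H = Cfsg.Geo.subspaceStabilizer W ⊓ Cfsg.Geo.omegaGL Q) ∨
    (Odd (Fintype.card F) ∧ ∃ W : Submodule F (Fin 10 → F), W ≠ ⊥ ∧ W ≠ ⊤ ∧ Odd (Module.finrank F W) ∧ 2 * Module.finrank F W ≠ 10 ∧ Cfsg.Geo.IsNondegenerateOn (QuadraticMap.polar Q) W ∧ H = Cfsg.Geo.subspaceStabilizer W ⊓ Cfsg.Geo.omegaGL Q) ∨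
    (∃ W : Submodule F (Fin 10 → F), Module.finrank F W = 2 ∧ Cfsg.Geo.IsNondegenerateOn (QuadraticMap.polar Q) W ∧ ¬ Cfsg.Geo.IsPlusTypeOn Q W ∧ H = Cfsg.Geo.subspaceStabilizer W ⊓ Cfsg.Geo.omegaGL Q) ∨
    (4 ≤ Fintype.card F ∧ ∃ W : Submodule F (Fin 10 → F), Module.finrank F W = 2 ∧ Cfsg.Geo.IsNondegenerateOn (QuadraticMap.polar Q) W ∧ Cfsg.Geo.IsPlusTypeOn Q W ∧ H = Cfsg.Geo.subspaceStabilizer W ⊓ Cfsg.Geo.omegaGL Q) ∨
    (∃ W : Submodule F (Fin 10 → F), Module.finrank F W = 4 ∧ Cfsg.Geo.IsNondegenerateOn (QuadraticMap.polar Q) W ∧ H = Cfsg.Geo.subspaceStabilizer W ⊓ Cfsg.Geo.omegaGL Q) ∨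
    (¬ Odd (Fintype.card F) ∧ ∃ v : (Fin 10 → F), Q v ≠ 0 ∧ H = Cfsg.Geo.subspaceStabilizer (Submodule.span F {v}) ⊓ Cfsg.Geo.omegaGL Q) ∨
    ((∃ p : ℕ, p.Prime ∧ Fintype.card F = p ∧ (p % 4 = 1)) ∧ ∃ D : Fin 10 → Submodule F (Fin 10 → F), Cfsg.Geo.IsOrthogonalMDecomposition Q 1 D ∧ H = Cfsg.Geo.decompositionStabilizer D ⊓ Cfsg.Geo.omegaGL Q) ∨
    (7 ≤ Fintype.card F ∧ ∃ D : Fin 5 → Submodule F (Fin 10 → F), Cfsg.Geo.IsOrthogonalMDecomposition Q 2 D ∧ H = Cfsg.Geo.decompositionStabilizer D ⊓ Cfsg.Geo.omegaGL Q) ∨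
    (Fintype.card F % 4 = 1 ∧ ∃ D : Fin 2 → Submodule F (Fin 10 → F), Cfsg.Geo.IsOrthogonalMDecomposition Q 5 D ∧ H = Cfsg.Geo.decompositionStabilizer D ⊓ Cfsg.Geo.omegaGL Q) ∨
    (Fintype.card F % 4 = 3 ∧ ∃ D : Fin 2 → Submodule F (Fin 10 → F), Cfsg.Geo.IsNondegenerateMDecomposition (QuadraticMap.polar Q) 5 D ∧ ¬ Cfsg.Geo.AreIsometricFor Q (D 0) (D 1) ∧ H = Cfsg.Geo.decompositionStabilizer D ⊓ Cfsg.Geo.omegaGL Q) ∨
    (Odd (Fintype.card F) ∧ ∃ K : Subalgebra F (Matrix (Fin 10) (Fin 10) F), Cfsg.Geo.IsFieldSubalgebra 2 K ∧ Cfsg.Geo.IsSelfAdjointFor (QuadraticMap.polar Q) K ∧ H = Cfsg.Geo.subalgebraNormalizer K ⊓ Cfsg.Geo.omegaGL Q) ∨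
    (∃ (F₀ : Subfield F) (r : ℕ) (P : Matrix.GeneralLinearGroup (Fin 10) F) (ζ : F), r.Prime ∧ Fintype.card F = Nat.card F₀ ^ r ∧ ζ ≠ 0 ∧ Cfsg.Geo.IsQuadFormRationalStructure (fun v : Fin 10 → F => ζ * Q v) F₀ P ∧ H = Cfsg.Geo.subfieldSubgroup F₀ P ⊓ Cfsg.Geo.omegaGL Q) ∨
    Cfsg.Geo.InOrthogonalResidualClass H := by
  obtain ⟨φ, -, h⟩ := CF.MaxSub.exists_isQ_of_nd hQ
  have hc : Fintype.card (Fin 10) = 10 := by simp
  have hn : CF.MaxSub.DimO Q := ⟨by omega, .inr (.inr (.inl hc))⟩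
  simp only [h.polar]
  rcases CF.MaxSub.maximal_orth h hn (by omega) hH with ⟨M, hM, e⟩ | hr
  swap
  · exact .inr (.inr (.inr (.inr (.inr (.inr (.inr (.inr (.inr (.inr (.inr (.inr (hr))))))))))))
  cases hM with
  | c1t W h0 h1 hd => exact .inl ⟨W, h0, h1, by have := hd hplus; omega, e⟩
  | c1n W h0 h1 h2 ho he hh h3 hq =>
    have h4 := he (hc ▸ by decide)
    have h5 := mt Submodule.finrank_eq_zero.1 h0
    by_cases h6 : Odd (Module.finrank F W)
    · exact .inr (.inl ⟨hq h6, W, h0, h1, h6, fun h7 => Nat.not_even_iff_odd.2 h6 (hh (h7.trans hc.symm)).1, h2, e⟩)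
    obtain ⟨j, hj⟩ := Nat.not_odd_iff_even.1 h6
    by_cases h7 : Module.finrank F W = 2
    · by_cases h8 : Cfsg.Geo.IsPlusTypeOn Q W
      · exact .inr (.inr (.inr (.inl ⟨h3 h7 h8, W, h7, h2, h8, e⟩)))
      · exact .inr (.inr (.inl ⟨W, h7, h2, h8, e⟩))
    exact .inr (.inr (.inr (.inr (.inl ⟨W, by omega, h2, e⟩))))
  | c1l v hq hv => exact .inr (.inr (.inr (.inr (.inr (.inl ⟨hq, v, hv, e⟩)))))
  | c2n t k D hD h0 h1 ho h2 h3 h4 =>
    have := hD.decomp.decomp.two_le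
    have := hD.decomp.decomp.pos
    rw [hc] at h0
    obtain ⟨rfl, rfl⟩ | ⟨rfl, rfl⟩ | ⟨rfl, rfl⟩ : (k = 1 ∧ t = 10) ∨ (k = 2 ∧ t = 5) ∨ (k = 5 ∧ t = 2) := by
      have : k ≤ 10 := by nlinarith
      interval_cases k <;> omega
    · exact .inr (.inr (.inr (.inr (.inr (.inr (.inl ⟨⟨_, h1 rfl, rfl, ((h.pl_odd hD (ho (by decide)) (by decide) (m := 5) hc).1 hplus).resolve_left (by decide)⟩, D, hD, e⟩))))))
    · exact .inr (.inr (.inr (.inr (.inr (.inr (.inr (.inl ⟨((h2 rfl).resolve_right fun h5 => h5.1 0 (((h.pl_even hD (by decide)).1 hplus).resolve_left (by decide) 0)).2, D, hD, e⟩)))))))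
    · exact .inr (.inr (.inr (.inr (.inr (.inr (.inr (.inr (.inl ⟨((h.pl_odd hD (ho (by decide)) (by decide) (m := 5) hc).1 hplus).resolve_left (by decide), D, hD, e⟩))))))))
  | c2p k D hD hi h0 hk hq =>
    obtain rfl : k = 5 := by omega
    exact .inr (.inr (.inr (.inr (.inr (.inr (.inr (.inr (.inr (.inl ⟨(h.pl_pair hD hi hk hq).1 hplus, D, hD, hi, e⟩)))))))))
  | c2t k D hD hts h0 hk hp =>
    obtain ⟨_, _⟩ := hk
    omega
  | c3s r K hr hK hs hd h0 h2 hq =>
    rw [hc] at hd h0 h2 hq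
    have := Nat.le_of_dvd (by norm_num) hd
    obtain rfl : r = 2 := by
      interval_cases r <;> first | omega | exact absurd rfl (h2 (by decide)) | exact absurd hr (by norm_num)
    · exact .inr (.inr (.inr (.inr (.inr (.inr (.inr (.inr (.inr (.inr (.inl ⟨by_contra fun h3 => absurd (hq h3) (by decide), K, hK, hs, e⟩))))))))))
  | c3u K hK ha hs hm h0 hp =>
    exact absurd (hc ▸ hp hplus) (by decide)
  | c4o a b ε P f₁ f₂ hq h3 hl hf₁ hf₂ hT h0 h1 hp =>
    rw [hc] at h0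
    obtain rfl : a = 3 := by nlinarith
    omega
  | c4s b ε P f₁ f₂ hq hf₁ hf₂ hT h0 h1 he hp =>
    obtain ⟨_, _⟩ := he
    omega
  | c5 F₀ r P ζ hr h1 h0 hζ ho =>
    exact .inr (.inr (.inr (.inr (.inr (.inr (.inr (.inr (.inr (.inr (.inr (.inl ⟨F₀, r, P, ζ, hr, h1, h0, hζ, e⟩)))))))))))
  | c7 k t ε P f₁ hk ht h1 hf₁ hT h0 ho hq =>
    obtain ⟨rfl, rfl, h2⟩ := CF.MaxSub.pow_small hk ht h0 (by omega)
    omega

end Cfsg.Agent.S5847
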