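import Cfsg.Statements.S5928
import Cfsg.Agent.An.Main

set_option autoImplicit false
open Cfsg

namespace Cfsg.Agent.S5928

/-- Let p be a prime, q = p^b (b ≥ 1), K a field with q² elements, and G the twisted group ²E₆(q) realised over K (generated by its root elements inside the adjoint Chevalley group of type E₆ over K). If H is a maximal subgroup of G whose generalized Fitting subgroup is isomorphic to an alternating group of degree n ≥ 5, then n = 6 and p ≥ 7. -/
theorem result
    {K : Type*} [Field K] [Fintype K] (p b : ℕ) [Fact p.Prime] (hb : 1 ≤ b) (hK : Fintype.card K = (p ^ b) ^ 2)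
    (H : Subgroup ↥(Cfsg.Lie.twistedE6 K (p ^ b))) (hH : IsCoatom H)
    (n : ℕ) (hn : 5 ≤ n) (hA : Nonempty (↥(Cfsg.generalizedFittingSubgroup ↥H) ≃* ↥(alternatingGroup (Fin n)))) :
    n = 6 ∧ 7 ≤ p := by
  exact hA.elim (CF.An.main p b hb hK H hH n hn)

end Cfsg.Agent.S5928
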